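import Cfsg.Agent.OD.Pre
import Cfsg.Agent.L.Cnt
import Cfsg.Agent.H9.Invert
import Cfsg.Agent.H3.SmallGroups
/-! Groups with a self-centralising fused four-group: A4 or A5. -/
set_option autoImplicit false
open Subgroup CfH9
namespace CfL

theorem perm5_key : ∀ z : Equiv.Perm (Fin 5), z * z = 1 → z ≠ 1 → ∀ x : Equiv.Perm (Fin 5), x * x * x = 1 →
    z * x * (z * x) * (z * x) = 1 → ∃ s : Equiv.Perm (Fin 5), (s * s = 1 ∧ s * x * s * x = 1 ∧ s * z * (s * z) * (s * z) = 1) ∧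
      ∀ s' : Equiv.Perm (Fin 5), (s' * s' = 1 ∧ s' * x * s' * x = 1 ∧ s' * z * (s' * z) * (s' * z) = 1) → s' = s := by
  decide +kernel

variable {X : Type*} [Group X]

structure K4 (z x : X) : Prop where
  z2 : z * z = 1
  zne : z ≠ 1
  x3 : x * x * x = 1
  zx3 : z * x * (z * x) * (z * x) = 1
  cent : ∀ g, g * z = z * g → g = 1 ∨ g = z ∨ g = x * z * x⁻¹ ∨ g = x⁻¹ * z * x

namespace K4
variable {z x : X} (h : K4 z x)
include h

theorem xinv : x⁻¹ = x * x := inv_eq_of_mul_eq_one_right (by rw [← mul_assoc]; exact h.x3)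
theorem zinv : z⁻¹ = z := inv_eq_of_mul_eq_one_right h.z2
theorem u2 : x * z * x⁻¹ * (x * z * x⁻¹) = 1 := sq_of_isConj (isConj_iff.2 ⟨x, rfl⟩) h.z2
theorem w2 : x⁻¹ * z * x * (x⁻¹ * z * x) = 1 := sq_of_isConj (isConj_iff.2 ⟨x⁻¹, by simp⟩) h.z2
theorem xu : x * (x * z * x⁻¹) * x⁻¹ = x⁻¹ * z * x := by
  have : x⁻¹ * x⁻¹ = x := by rw [← mul_inv_rev, ← h.xinv, inv_inv]
  calc _ = x * x * z * (x⁻¹ * x⁻¹) := by group
    _ = _ := by rw [this, ← h.xinv]
theorem zuw : z * (x * z * x⁻¹) * (x⁻¹ * z * x) = 1 := by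
  have : x⁻¹ * x⁻¹ = x := by rw [← mul_inv_rev, ← h.xinv, inv_inv]
  calc _ = z * x * z * (x⁻¹ * x⁻¹) * z * x := by group
    _ = _ := by rw [this, ← h.zx3]; group
theorem zu : z * (x * z * x⁻¹) = x⁻¹ * z * x := by
  have := h.zuw
  rw [mul_eq_one_iff_eq_inv, inv_eq_of_mul_eq_one_right h.w2] at this
  exact this
theorem uz : x * z * x⁻¹ * z = x⁻¹ * z * x := by
  have h1 := h.zu
  have h2 := congrArg Inv.inv h1
  rw [mul_inv_rev, inv_eq_of_mul_eq_one_right h.u2, h.zinv, inv_eq_of_mul_eq_one_right h.w2] at h2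
  exact h2
theorem u_comm : x * z * x⁻¹ * z = z * (x * z * x⁻¹) := by rw [h.uz, h.zu]
theorem w_comm : x⁻¹ * z * x * z = z * (x⁻¹ * z * x) := by
  rw [← h.zu]
  calc _ = z * (x * z * x⁻¹ * z) := by group
    _ = _ := by rw [h.u_comm]
theorem une : x * z * x⁻¹ ≠ z := fun e => by
  have := h.zu
  rw [e, h.z2] at this
  exact ne_one_of_isConj (isConj_iff.2 ⟨x⁻¹, by simp⟩) h.zne this.symm
theorem wne : x⁻¹ * z * x ≠ z := fun e => h.une (by
  calc x * z * x⁻¹ = x * (x⁻¹ * z * x) * x⁻¹ := by rw [e]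
    _ = z := by group)
theorem uwne : x * z * x⁻¹ ≠ x⁻¹ * z * x := fun e => by
  have := h.zu
  rw [← e] at this
  exact h.zne (by simpa using this)

theorem mem_V {g : X} : g ∈ Cx(z) ↔ g = 1 ∨ g = z ∨ g = x * z * x⁻¹ ∨ g = x⁻¹ * z * x := by
  refine ⟨fun hg => h.cent g (mem_Cx.1 hg), ?_⟩
  rintro (rfl | rfl | rfl | rfl)
  · exact one_mem _
  · exact mem_Cx.2 rfl
  · exact mem_Cx.2 h.u_comm
  · exact mem_Cx.2 h.w_comm

theorem card_V : Nat.card Cx(z) = 4 := by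
  classical
  have : ((Cx(z) : Subgroup X) : Set X) = ({1, z, x * z * x⁻¹, x⁻¹ * z * x} : Finset X) := by
    ext g
    simp [h.mem_V]
  change Nat.card ((Cx(z) : Subgroup X) : Set X) = 4
  rw [this, Nat.card_coe_set_eq, Set.ncard_coe_finset]
  have a1 := h.zne
  have a2 : x * z * x⁻¹ ≠ 1 := ne_one_of_isConj (isConj_iff.2 ⟨x, rfl⟩) h.zne
  have a3 : x⁻¹ * z * x ≠ 1 := ne_one_of_isConj (isConj_iff.2 ⟨x⁻¹, by simp⟩) h.zne
  rw [Finset.card_insert_of_notMem, Finset.card_insert_of_notMem, Finset.card_pair h.uwne]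
  · simp only [Finset.mem_insert, Finset.mem_singleton, not_or]
    exact ⟨h.une.symm, h.wne.symm⟩
  · simp only [Finset.mem_insert, Finset.mem_singleton, not_or]
    exact ⟨a1.symm, a2.symm, a3.symm⟩

theorem sq_V {g : X} (hg : g ∈ Cx(z)) : g * g = 1 := by
  rcases h.mem_V.1 hg with rfl | rfl | rfl | rfl
  · simp
  · exact h.z2
  · exact h.u2
  · exact h.w2

theorem conj_V {g : X} (hg : g ∈ Cx(z)) (h1 : g ≠ 1) : ∃ k : X, (k = 1 ∨ k = x ∨ k = x⁻¹) ∧ k * z * k⁻¹ = g := by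
  rcases h.mem_V.1 hg with rfl | rfl | rfl | rfl
  · exact absurd rfl h1
  · exact ⟨1, Or.inl rfl, by simp⟩
  · exact ⟨x, Or.inr (Or.inl rfl), rfl⟩
  · exact ⟨x⁻¹, Or.inr (Or.inr rfl), by simp⟩

theorem comm_V {a b : X} (ha : a ∈ Cx(z)) (hb : b ∈ Cx(z)) : a * b = b * a := by
  have h1 := h.sq_V (mul_mem ha hb)
  have := inv_eq_of_mul_eq_one_right h1
  rw [mul_inv_rev, inv_eq_of_mul_eq_one_right (h.sq_V ha), inv_eq_of_mul_eq_one_right (h.sq_V hb)] at this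
  exact this.symm

theorem x_conj {g : X} (hg : g ∈ Cx(z)) : x * g * x⁻¹ ∈ Cx(z) := by
  rcases h.mem_V.1 hg with rfl | rfl | rfl | rfl
  · simp
  · exact h.mem_V.2 (Or.inr (Or.inr (Or.inl rfl)))
  · rw [h.xu]; exact h.mem_V.2 (Or.inr (Or.inr (Or.inr rfl)))
  · exact h.mem_V.2 (Or.inr (Or.inl (by group)))

variable [Finite X]

theorem x_Nm : x ∈ Nm(Cx(z)) := mem_normalizer_of_conj_mem fun _ hg => h.x_conj hg

theorem k_Nm {k : X} (hk : k = 1 ∨ k = x ∨ k = x⁻¹) : k ∈ Nm(Cx(z)) := by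
  rcases hk with rfl | rfl | rfl
  · exact one_mem _
  · exact h.x_Nm
  · exact inv_mem h.x_Nm

theorem Cx_V {g : X} (hg : g ∈ Cx(z)) (h1 : g ≠ 1) : Cx(g) = Cx(z) := by
  obtain ⟨k, hk, rfl⟩ := h.conj_V hg h1
  rw [← cj_Cx, cj_eq_of_mem_normalizer (h.k_Nm hk)]

theorem pV : IsPGroup 2 Cx(z) := isPGroup_iff_mem.2 fun a ha => ⟨1, by rw [pow_one, pow_two]; exact h.sq_V ha⟩

theorem sylV : SylIn 2 Cx(z) ⊤ := by
  obtain ⟨S, hS, hle⟩ := exists_sylIn_ge h.pV (le_top (a := Cx(z)))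
  have hz : z ∈ Cx(z) := mem_Cx.2 rfl
  obtain ⟨c, hc, c1, hcz⟩ := exists_mem_center_of_normal hS.pgrp hS.pgrp le_normalizer
    (fun e => h.zne (by have := hle hz; rwa [e, mem_bot] at this))
  have hcV : c ∈ Cx(z) := mem_Cx.2 (hcz z (hle hz)).symm
  have : S ≤ Cx(z) := by
    rw [← h.Cx_V hcV c1]
    exact fun s hs => mem_Cx.2 (hcz s hs)
  rwa [le_antisymm hle this]

theorem isConj_invol {i : X} (hi : i * i = 1) (h1 : i ≠ 1) : IsConj z i := by
  obtain ⟨k, _, hk⟩ := h.sylV.exists_conj_mem (mem_top i) (k := 1) (by rw [pow_one, pow_two]; exact hi)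
  obtain ⟨k', _, hk'⟩ := h.conj_V hk (ne_one_of_isConj (isConj_iff.2 ⟨k, rfl⟩) h1)
  exact (isConj_iff.2 ⟨k', hk'⟩).trans (isConj_iff.2 ⟨k, rfl⟩).symm

theorem sq_Cx {i g : X} (hi : i * i = 1) (h1 : i ≠ 1) (hg : g ∈ Cx(i)) : g * g = 1 := by
  obtain ⟨k, rfl⟩ := isConj_iff.1 (h.isConj_invol hi h1)
  rw [← cj_Cx, mem_cj] at hg
  exact sq_of_isConj (isConj_iff.2 ⟨k, by group⟩) (h.sq_V hg)

theorem card_Cx {i : X} (hi : i * i = 1) (h1 : i ≠ 1) : Nat.card Cx(i) = 4 := by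
  obtain ⟨k, rfl⟩ := isConj_iff.1 (h.isConj_invol hi h1)
  rw [← cj_Cx, card_cj, h.card_V]

theorem ncard_I : {i : X | i * i = 1 ∧ i ≠ 1}.ncard * 4 = Nat.card X := by
  rw [← ncard_class_mul z, h.card_V]
  congr 2
  ext i
  exact ⟨fun hi => h.isConj_invol hi.1 hi.2, fun hi => ⟨sq_of_isConj hi h.z2, ne_one_of_isConj hi h.zne⟩⟩

theorem ncard_odd_pairs : {p : X × X | (p.1 * p.1 = 1 ∧ p.1 ≠ 1) ∧ (p.2 * p.2 = 1 ∧ p.2 ≠ 1) ∧
    Odd (orderOf (p.1 * p.2))}.ncard = (Nat.card X / 4) * (Nat.card X / 4 - 2) := by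
  have e : {i : X | i * i = 1 ∧ i ≠ 1}.ncard = Nat.card X / 4 := by rw [← h.ncard_I]; omega
  rw [← e]
  refine ncard_pairs {i : X | i * i = 1 ∧ i ≠ 1} (fun i k => (k * k = 1 ∧ k ≠ 1) ∧ Odd (orderOf (i * k))) _ ?_
  rintro i ⟨hi, h1⟩
  have : {k | (k * k = 1 ∧ k ≠ 1) ∧ Odd (orderOf (i * k))} =
      {i : X | i * i = 1 ∧ i ≠ 1} \ (((Cx(i) : Subgroup X) : Set X) \ {1, i}) := by
    ext k
    simp only [Set.mem_ofPred_eq, Set.mem_sdiff, SetLike.mem_coe, Set.mem_insert_iff, Set.mem_singleton_iff]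
    constructor
    · rintro ⟨⟨h2, h3⟩, h4⟩
      refine ⟨⟨h2, h3⟩, fun ⟨h5, h6⟩ => ?_⟩
      have h7 : i * k * (i * k) = 1 := h.sq_Cx hi h1 (mul_mem (mem_Cx.2 rfl) h5)
      have h8 : i * k ≠ 1 := fun e => h6 (Or.inr (by
        rw [← inv_eq_of_mul_eq_one_right e, inv_eq_of_mul_eq_one_right hi]))
      rw [orderOf_eq_prime (p := 2) (by rw [pow_two]; exact h7) h8] at h4
      exact absurd h4 (by decide)
    · rintro ⟨⟨h2, h3⟩, h4⟩
      refine ⟨⟨h2, h3⟩, ?_⟩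
      by_contra h5
      obtain ⟨c, hc, c2, c1⟩ := exists_invol_of_even (Nat.not_odd_iff_even.1 h5)
      obtain ⟨a1, a2⟩ := comm_of_mem_zpowers hi h2 hc c2
      apply h4
      refine ⟨mem_Cx.2 ?_, ?_⟩
      · have h7 := h.sq_Cx c2 c1 (mul_mem (mem_Cx.2 a1) (mem_Cx.2 a2))
        have := inv_eq_of_mul_eq_one_right h7
        rwa [mul_inv_rev, inv_eq_of_mul_eq_one_right hi, inv_eq_of_mul_eq_one_right h2] at this
      · rintro (rfl | rfl)
        · exact h3 rfl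
        · rw [hi, orderOf_one] at h5
          exact h5 odd_one
  rw [this, Set.ncard_sdiff, Set.ncard_sdiff, Set.ncard_pair h1.symm, ← Nat.card_coe_set_eq]
  · congr 1
    change Nat.card Cx(i) - 2 = 2
    rw [h.card_Cx hi h1]
  · rintro k (rfl | rfl)
    · exact one_mem _
    · exact mem_Cx.2 rfl
  · rintro k ⟨h2, h3⟩
    simp only [Set.mem_insert_iff, Set.mem_singleton_iff, not_or] at h3
    exact ⟨h.sq_Cx hi h1 h2, h3.1⟩

theorem mem_B {g : X} (hg : g ∈ Nm(Cx(z))) : ∃ k : X, (k = 1 ∨ k = x ∨ k = x⁻¹) ∧ ∃ v ∈ Cx(z), g = k * v := by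
  obtain ⟨k, hk, e⟩ := h.conj_V (conj_mem_of_mem_normalizer hg (mem_Cx.2 rfl))
    (ne_one_of_isConj (isConj_iff.2 ⟨g, rfl⟩) h.zne)
  refine ⟨k, hk, k⁻¹ * g, mem_Cx'.2 ?_, by group⟩
  calc _ = k⁻¹ * (g * z * g⁻¹) * k := by group
    _ = z := by rw [← e]; group

theorem card_B : Nat.card Nm(Cx(z)) = 12 := by
  classical
  have := ncard_conj_mul Nm(Cx(z)) z
  rw [inf_eq_right.2 le_normalizer, h.card_V] at this
  rw [← this]
  have e : {b | ∃ g ∈ Nm(Cx(z)), g * z * g⁻¹ = b} = ({z, x * z * x⁻¹, x⁻¹ * z * x} : Finset X) := by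
    ext b
    simp only [Set.mem_ofPred_eq, Finset.coe_insert, Finset.coe_singleton, Set.mem_insert_iff, Set.mem_singleton_iff]
    constructor
    · rintro ⟨g, hg, rfl⟩
      rcases h.mem_V.1 (conj_mem_of_mem_normalizer hg (mem_Cx.2 rfl)) with e | e
      · exact absurd e (ne_one_of_isConj (isConj_iff.2 ⟨g, rfl⟩) h.zne)
      · exact e
    · rintro (rfl | rfl | rfl)
      · exact ⟨1, one_mem _, by simp⟩
      · exact ⟨x, h.x_Nm, rfl⟩
      · exact ⟨x⁻¹, inv_mem h.x_Nm, by simp⟩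
  rw [e, Set.ncard_coe_finset, Finset.card_insert_of_notMem, Finset.card_pair h.uwne]
  simp only [Finset.mem_insert, Finset.mem_singleton, not_or]
  exact ⟨h.une.symm, h.wne.symm⟩

omit [Finite X] in
theorem eq_one_of_comm_x {v : X} (hv : v ∈ Cx(z)) (e : x * v * x⁻¹ = v) : v = 1 := by
  rcases h.mem_V.1 hv with rfl | rfl | rfl | rfl
  · rfl
  · exact absurd e h.une
  · rw [h.xu] at e; exact absurd e.symm h.uwne
  · exact absurd (by rw [← e]; group) h.wne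

omit [Finite X] in
theorem x_not_sq : x * x ≠ 1 := fun e => by
  have := h.x3
  rw [e, one_mul] at this
  exact h.une (by rw [this]; simp)

theorem invol_B {i : X} (hi : i * i = 1) (hB : i ∈ Nm(Cx(z))) : i ∈ Cx(z) :=
  h.sylV.le_of_le_Nm' (isPGroup_zpowers (k := 1) (by rw [pow_one, pow_two]; exact hi)) le_top
    (zpowers_le.2 hB) (mem_zpowers i)

/-- the map `(v, i) ↦ v i` is injective -/
theorem inj_out {v v' i i' : X} (hv : v ∈ Cx(z)) (hv' : v' ∈ Cx(z)) (hi : i * i = 1) (hi' : i' * i' = 1)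
    (hB : i ∉ Nm(Cx(z))) (e : v * i = v' * i') : v = v' := by
  have hc : v'⁻¹ * v ∈ Cx(z) := mul_mem (inv_mem hv') hv
  have e1 : v'⁻¹ * v = i' * i := by
    calc _ = v'⁻¹ * (v * i) * i⁻¹ := by group
      _ = _ := by rw [e, inv_eq_of_mul_eq_one_right hi]; group
  by_contra hne
  have c1 : v'⁻¹ * v ≠ 1 := fun e => hne (inv_mul_eq_one.1 e).symm
  have := (comm_of_mem_zpowers hi' hi (e1 ▸ mem_zpowers _) (h.sq_V hc)).2
  apply hB
  apply le_normalizer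
  rw [← h.Cx_V hc c1]
  exact mem_Cx.2 this

theorem ncard_out : {i : X | (i * i = 1 ∧ i ≠ 1) ∧ i ∉ Nm(Cx(z))}.ncard * 4 + 12 = Nat.card X := by
  have : {i : X | (i * i = 1 ∧ i ≠ 1) ∧ i ∉ Nm(Cx(z))} =
      {i : X | i * i = 1 ∧ i ≠ 1} \ (((Cx(z) : Subgroup X) : Set X) \ {1}) := by
    ext i
    simp only [Set.mem_ofPred_eq, Set.mem_sdiff, SetLike.mem_coe, Set.mem_singleton_iff]
    constructor
    · rintro ⟨h1, h2⟩
      exact ⟨h1, fun h3 => h2 (le_normalizer h3.1)⟩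
    · rintro ⟨h1, h2⟩
      exact ⟨h1, fun h3 => h2 ⟨h.invol_B h1.1 h3, h1.2⟩⟩
  have hsub : (((Cx(z) : Subgroup X) : Set X) \ {1}) ⊆ {i : X | i * i = 1 ∧ i ≠ 1} :=
    fun k hk => ⟨h.sq_V hk.1, hk.2⟩
  have e3 : (((Cx(z) : Subgroup X) : Set X) \ {1}).ncard = 3 := by
    rw [Set.ncard_sdiff (by simp), Set.ncard_singleton, ← Nat.card_coe_set_eq]
    change Nat.card Cx(z) - 1 = 3
    rw [h.card_V]
  have h5 := Set.ncard_le_ncard hsub
  rw [this, Set.ncard_sdiff hsub, e3, ← h.ncard_I]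
  omega

theorem exists_out {g : X} (hg : g ∉ Nm(Cx(z))) : ∃ v ∈ Cx(z), ∃ i : X, i * i = 1 ∧ v * i = g := by
  set O := {i : X | (i * i = 1 ∧ i ≠ 1) ∧ i ∉ Nm(Cx(z))} with hO
  let S : Set (X × X) := {p | p.1 ∈ O ∧ p.2 ∈ Cx(z)}
  have e1 : S.ncard = O.ncard * 4 := ncard_pairs O (fun _ v => v ∈ Cx(z)) 4 (fun _ _ => by
    rw [← h.card_V, ← Nat.card_coe_set_eq]; rfl)
  have e2 : ((fun p : X × X => p.2 * p.1) '' S).ncard = S.ncard := by
    refine Set.InjOn.ncard_image ?_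
    rintro ⟨i, v⟩ ⟨h1, h2⟩ ⟨i', v'⟩ ⟨h3, h4⟩ e
    have := h.inj_out h2 h4 h1.1.1 h3.1.1 h1.2 e
    simp only at this e
    subst this
    rw [mul_left_cancel e]
  have e3 : (((Nm(Cx(z)) : Subgroup X) : Set X)ᶜ).ncard + 12 = Nat.card X := by
    rw [← h.card_B, ← Set.ncard_add_ncard_compl ((Nm(Cx(z)) : Subgroup X) : Set X), add_comm, ← Nat.card_coe_set_eq]
    rfl
  have e4 := h.ncard_out
  have e5 : (fun p : X × X => p.2 * p.1) '' S = ((Nm(Cx(z)) : Subgroup X) : Set X)ᶜ := by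
    refine Set.eq_of_subset_of_ncard_le ?_ (by rw [e2, e1]; rw [← hO] at e4; omega)
    rintro _ ⟨⟨i, v⟩, ⟨h1, h2⟩, rfl⟩ h3
    exact h1.2 ((mul_mem_cancel_left (le_normalizer h2)).1 h3)
  have : g ∈ (fun p : X × X => p.2 * p.1) '' S := by rw [e5]; exact hg
  obtain ⟨⟨i, v⟩, ⟨h1, h2⟩, rfl⟩ := this
  exact ⟨v, h2, i, h1.1.1, rfl⟩

omit [Finite X] in
theorem vx_conj {v : X} (hv : v ∈ Cx(z)) : ∃ v' ∈ Cx(z), v' * x * v'⁻¹ = v * x := by
  have a : ∀ w ∈ Cx(z), w * x * w⁻¹ = w * (x * w * x⁻¹) * x := fun w hw => by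
    rw [inv_eq_of_mul_eq_one_right (h.sq_V hw)]; group
  have hz : z ∈ Cx(z) := mem_Cx.2 rfl
  have hu := h.x_conj hz
  have hw := h.x_conj hu
  rcases h.mem_V.1 hv with rfl | e | rfl | rfl
  · exact ⟨1, one_mem _, by simp⟩
  · refine ⟨_, hu, ?_⟩
    rw [a _ hu, h.xu, ← h.uz, ← mul_assoc, h.u2, one_mul, e]
  · rw [h.xu] at hw
    refine ⟨_, hw, ?_⟩
    rw [a _ hw, show x * (x⁻¹ * z * x) * x⁻¹ = z by group, ← h.uz, mul_assoc _ z z, h.z2, mul_one]
  · exact ⟨z, hz, by rw [a _ hz, h.zu]⟩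

theorem not_B_of_inv {s : X} (hs : s * s = 1) (e : s * x * s * x = 1) : s ∉ Nm(Cx(z)) := fun hB => by
  have hV := h.invol_B hs hB
  have h1 : x * s * x⁻¹ ∈ Cx(z) := h.x_conj hV
  have h2 : s * (x * s * x⁻¹) * (x * x) = 1 := by rw [← e]; group
  rw [mul_eq_one_iff_eq_inv, ← h.xinv, inv_inv] at h2
  exact h.x_not_sq (h2 ▸ h.sq_V (mul_mem hV h1))

theorem ncard_out_eq : {i : X | (i * i = 1 ∧ i ≠ 1) ∧ i ∉ Nm(Cx(z))}.ncard =
    {s : X | s * s = 1 ∧ s * x * s * x = 1}.ncard * 4 := by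
  set J := {s : X | s * s = 1 ∧ s * x * s * x = 1} with hJ
  let S : Set (X × X) := {p | p.1 ∈ J ∧ p.2 ∈ Cx(z)}
  have e1 : S.ncard = J.ncard * 4 := ncard_pairs J (fun _ v => v ∈ Cx(z)) 4 (fun _ _ => by
    rw [← h.card_V, ← Nat.card_coe_set_eq]; rfl)
  have e2 : ((fun p : X × X => p.2 * p.1 * p.2⁻¹) '' S).ncard = S.ncard := by
    refine Set.InjOn.ncard_image ?_
    rintro ⟨s, v⟩ ⟨h1, h2⟩ ⟨s', v'⟩ ⟨h3, h4⟩ e
    simp only at h1 h2 h3 h4 e
    have c := mul_mem (inv_mem h2) h4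
    have e1 : s = v⁻¹ * v' * s' * (v⁻¹ * v')⁻¹ := by
      calc s = v⁻¹ * (v * s * v⁻¹) * v := by group
        _ = _ := by rw [e]; group
    generalize hc : v⁻¹ * v' = w at c e1
    -- s inverts x and w x w⁻¹
    have i1 : (s * x) * (s * x) = 1 := by rw [← h1.2]; group
    have i2 : (s * (w * x * w⁻¹)) * (s * (w * x * w⁻¹)) = 1 := by
      rw [e1]
      calc _ = w * (s' * x * s' * x) * w⁻¹ := by group
        _ = 1 := by rw [h3.2]; group
    have sB := h.not_B_of_inv h1.1 h1.2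
    have hw' : x⁻¹ * w * x * w⁻¹ ∈ Cx(z) :=
      mul_mem (by simpa using conj_mem_of_mem_normalizer (inv_mem h.x_Nm) c) (inv_mem c)
    have i1' : (x * s) * (x * s) = 1 := by
      calc _ = s⁻¹ * (s * x * (s * x)) * s := by group
        _ = 1 := by rw [i1]; group
    have i2' : (w * x * w⁻¹ * s) * (w * x * w⁻¹ * s) = 1 := by
      calc _ = s⁻¹ * ((s * (w * x * w⁻¹)) * (s * (w * x * w⁻¹))) * s := by group
        _ = 1 := by rw [i2]; group
    have hw2 : w * (x * w⁻¹ * x⁻¹) ∈ Cx(z) := mul_mem c (h.x_conj (inv_mem c))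
    have := h.inj_out hw2 (one_mem _) i1' i2' (fun hB => sB ((mul_mem_cancel_left h.x_Nm).1 hB)) (by group)
    have w1 : w = 1 := h.eq_one_of_comm_x c (by
      rw [mul_eq_one_iff_eq_inv] at this
      nth_rewrite 2 [this]
      group)
    rw [w1] at hc e1
    have : v = v' := inv_mul_eq_one.1 hc
    subst this
    rw [e1]; simp
  rw [← e1, ← e2]
  congr 1
  ext i
  constructor
  · rintro ⟨⟨h1, h2⟩, h3⟩
    obtain ⟨v, hv, j, hj, e⟩ := h.exists_out (g := x * i) (fun hB => h3 ((mul_mem_cancel_left h.x_Nm).1 hB))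
    obtain ⟨v', hv', e'⟩ := h.vx_conj hv
    have ej : j = v * x * i := by
      calc j = v⁻¹ * (v * j) := by group
        _ = _ := by rw [e, inv_eq_of_mul_eq_one_right (h.sq_V hv)]; group
    refine ⟨(v'⁻¹ * i * v', v'), ⟨⟨sq_of_isConj (isConj_iff.2 ⟨v'⁻¹, by simp⟩) h1, ?_⟩, hv'⟩, by simp only; group⟩
    rw [ej, ← e'] at hj
    calc _ = (v' * x)⁻¹ * (v' * x * v'⁻¹ * i * (v' * x * v'⁻¹ * i)) * (v' * x) := by simp only; group
      _ = 1 := by rw [hj]; group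
  · rintro ⟨⟨s, v⟩, ⟨h1, h2⟩, rfl⟩
    have sB := h.not_B_of_inv h1.1 h1.2
    refine ⟨⟨sq_of_isConj (isConj_iff.2 ⟨v, rfl⟩) h1.1, ne_one_of_isConj (isConj_iff.2 ⟨v, rfl⟩)
      (fun e => sB (e ▸ one_mem _))⟩, fun hB => sB ?_⟩
    have hv := le_normalizer h2
    exact (mul_mem_cancel_left hv).1 ((mul_mem_cancel_right (inv_mem hv)).1 hB)

theorem x_order : orderOf x = 3 := orderOf_eq_prime (by rw [pow_three', h.x3]) (fun e => h.x_not_sq (by simp [e]))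

theorem card_cases : Nat.card Cx(x) = 3 ∧ (Nat.card X = 12 ∨ Nat.card X = 60) := by
  have e1 := h.ncard_out
  rw [h.ncard_out_eq] at e1
  have h3 : 3 ∣ Nat.card Cx(x) := h.x_order ▸ orderOf_dvd_natCard _ (mem_Cx.2 rfl)
  have h2 : ¬ 2 ∣ Nat.card Cx(x) := fun h2 => by
    obtain ⟨i, hi, oi⟩ := exists_orderOf_eq_prime h2
    have i2 : i * i = 1 := by rw [← pow_two, ← oi, pow_orderOf_eq_one]
    exact h.x_not_sq (h.sq_Cx i2 (fun e => by simp [e] at oi) (mem_Cx.2 (mem_Cx.1 hi).symm))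
  have hd : Nat.card Cx(x) ∣ Nat.card X := card_subgroup_dvd_card _
  have key : ∀ c, 3 ∣ c → ¬ 2 ∣ c → c ∣ 12 → c = 3 := by
    intro c a b d
    have := Nat.le_of_dvd (by norm_num) d
    interval_cases c <;> simp_all
  by_cases hJ : ∃ s : X, s * s = 1 ∧ s * x * s * x = 1
  · obtain ⟨s, hs, e⟩ := hJ
    have si : s⁻¹ = s := inv_eq_of_mul_eq_one_right hs
    have e' : s * x * s⁻¹ = x⁻¹ := by rw [si]; exact eq_inv_of_mul_eq_one_left e
    have s1 : s ≠ 1 := fun e1 => h.not_B_of_inv hs e (e1 ▸ one_mem _)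
    have sN : s ∈ Nm(Cx(x)) := by
      rw [mem_normalizer_iff_cj, cj_Cx, e', ← Cz_zpowers, zpowers_inv, Cz_zpowers]
    have hb : Cx(x) ⊓ Cx(s) = ⊥ := by
      rw [eq_bot_iff]
      rintro c ⟨c1, c2⟩
      by_contra c3
      exact h.x_not_sq (h.sq_Cx (h.sq_Cx hs s1 c2) c3 (mem_Cx.2 (mem_Cx.1 c1).symm))
    have eJ : {s : X | s * s = 1 ∧ s * x * s * x = 1} = (fun c => s * c) '' (Cx(x) : Subgroup X) := by
      ext j
      constructor
      · rintro ⟨j1, j2⟩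
        refine ⟨s * j, mem_Cx'.2 ?_, by simp only; rw [← mul_assoc, hs, one_mul]⟩
        have : j * x * j⁻¹ = x⁻¹ := by
          rw [inv_eq_of_mul_eq_one_right j1]; exact eq_inv_of_mul_eq_one_left j2
        calc _ = s * (j * x * j⁻¹) * s⁻¹ := by group
          _ = (s * x * s⁻¹)⁻¹ := by rw [this]; group
          _ = x := by rw [e', inv_inv]
      · rintro ⟨c, hc, rfl⟩
        have c1 := inverts_of_fpf hs sN hb hc
        have c2 : s * c * (s * c) = 1 := by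
          calc _ = s * c * s⁻¹ * c := by rw [si]; group
            _ = 1 := by rw [c1]; group
        refine ⟨c2, ?_⟩
        have c3 := mem_Cx'.1 hc
        calc _ = s * (c * x * c⁻¹) * s⁻¹ * (s * c * (s * c)) * x := by group
          _ = 1 := by rw [c3, c2, e']; group
    rw [eJ, Set.ncard_image_of_injective _ (mul_right_injective s), ← Nat.card_coe_set_eq] at e1
    change Nat.card Cx(x) * 4 * 4 + 12 = _ at e1
    rw [← e1] at hd
    have := key _ h3 h2 ((Nat.dvd_add_right (by rw [mul_assoc]; exact Dvd.intro _ rfl)).1 hd)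
    exact ⟨this, Or.inr (by omega)⟩
  · have : {s : X | s * s = 1 ∧ s * x * s * x = 1} = ∅ := Set.eq_empty_of_forall_notMem fun s hs => hJ ⟨s, hs⟩
    rw [this, Set.ncard_empty] at e1
    exact ⟨key _ h3 h2 (by rw [← e1] at hd; exact hd), Or.inl (by omega)⟩

theorem mem_Cx_x {g : X} (hg : g * x = x * g) : g = 1 ∨ g = x ∨ g = x⁻¹ := by
  classical
  have := CfH3.zpowers_eq_centralizer x (by rw [h.x_order]; exact h.card_cases.1)
  have hg' : g ∈ zpowers x := this ▸ mem_Cx.2 hg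
  rw [mem_zpowers_iff_mem_range_orderOf, h.x_order] at hg'
  obtain ⟨k, hk, rfl⟩ := Finset.mem_image.1 hg'
  rw [Finset.mem_range] at hk
  interval_cases k
  · simp
  · simp
  · rw [h.xinv, pow_two]; simp

theorem exists_unique_s (h60 : Nat.card X = 60) : ∃ s : X,
    (s * s = 1 ∧ s * x * s * x = 1 ∧ s * z * (s * z) * (s * z) = 1) ∧
      ∀ s' : X, (s' * s' = 1 ∧ s' * x * s' * x = 1 ∧ s' * z * (s' * z) * (s' * z) = 1) → s' = s := by
  have : Fact (Nat.Prime 5) := ⟨by norm_num⟩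
  have : Fact (Nat.Prime 3) := ⟨by norm_num⟩
  obtain ⟨c, hc⟩ := exists_prime_orderOf_dvd_card' (G := X) 5 (by rw [h60]; norm_num)
  have h5 : 5 ∣ Nat.card Cx(c) := hc ▸ orderOf_dvd_natCard _ (mem_Cx.2 rfl)
  have h2 : ¬ 2 ∣ Nat.card Cx(c) := fun h2 => by
    obtain ⟨i, hi, oi⟩ := exists_orderOf_eq_prime h2
    have i2 : i * i = 1 := by rw [← pow_two, ← oi, pow_orderOf_eq_one]
    have := h.sq_Cx i2 (fun e => by simp [e] at oi) (mem_Cx.2 (mem_Cx.1 hi).symm)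
    have := orderOf_dvd_of_pow_eq_one (show c ^ 2 = 1 by rw [pow_two, this])
    rw [hc] at this
    norm_num at this
  have h3 : ¬ 3 ∣ Nat.card Cx(c) := fun h3 => by
    obtain ⟨y, hy, oy⟩ := exists_orderOf_eq_prime h3
    have hS : SylIn 3 (zpowers x) ⊤ := by
      refine sylIn_top_iff.2 ⟨isPGroup_zpowers_of_orderOf (k := 1) (by rw [h.x_order]; rfl), ?_⟩
      have := (zpowers x).card_mul_index
      rw [Nat.card_zpowers, h.x_order, h60] at this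
      omega
    obtain ⟨k, _, hk⟩ := hS.exists_conj_mem (mem_top y) (k := 1) (by rw [pow_one, ← oy, pow_orderOf_eq_one])
    have o2 : orderOf (k * y * k⁻¹) = 3 := by rw [CfH3.orderOf_conj', oy]
    have e1 : zpowers (k * y * k⁻¹) = zpowers x := by
      refine Subgroup.eq_of_le_of_card_ge (zpowers_le.2 hk) ?_
      rw [Nat.card_zpowers, Nat.card_zpowers, o2, h.x_order]
    have e2 : k * c * k⁻¹ ∈ Cx(x) := by
      rw [← Cz_zpowers, ← e1, Cz_zpowers, ← cj_Cx]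
      exact conj_mem_cj k (mem_Cx.2 (mem_Cx.1 hy).symm)
    have := orderOf_dvd_natCard _ e2
    rw [CfH3.orderOf_conj', hc, h.card_cases.1] at this
    norm_num at this
  have hd : Nat.card Cx(c) ∣ 60 := h60 ▸ card_subgroup_dvd_card _
  have c5 : Nat.card Cx(c) = 5 := by
    have := Nat.le_of_dvd (by norm_num) hd
    generalize Nat.card Cx(c) = n at *
    interval_cases n <;> simp_all
  obtain ⟨e⟩ := CfH3.equiv_alt5 h60 c hc c5
  let f : X →* Equiv.Perm (Fin 5) := (alternatingGroup (Fin 5)).subtype.comp e.toMonoidHom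
  have hf : Function.Injective f := Subtype.val_injective.comp e.injective
  obtain ⟨s, ⟨s1, s2, s3⟩, hs⟩ := perm5_key (f z) (by rw [← map_mul, h.z2, map_one])
    (fun e => h.zne (hf (by rw [e, map_one]))) (f x) (by rw [← map_mul, ← map_mul, h.x3, map_one])
    (by simp only [← map_mul]; rw [h.zx3, map_one])
  have sA : s ∈ alternatingGroup (Fin 5) := by
    have a1 : Equiv.Perm.sign (f z) = 1 := (e z).2
    have a2 := congrArg Equiv.Perm.sign s3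
    simp only [map_mul, a1, mul_one, map_one, Int.units_mul_self, one_mul] at a2
    exact a2
  have hs' : f (e.symm ⟨s, sA⟩) = s := by simp [f]
  refine ⟨e.symm ⟨s, sA⟩, ⟨hf ?_, hf ?_, hf ?_⟩, fun s' ⟨t1, t2, t3⟩ => hf ?_⟩
  · simp only [map_mul, hs', map_one, s1]
  · simp only [map_mul, hs', map_one, s2]
  · simp only [map_mul, hs', map_one, s3]
  · rw [hs']
    refine hs _ ⟨?_, ?_, ?_⟩ <;> simp only [← map_mul, t1, t2, t3, map_one]

end K4
end CfL
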