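import Cfsg.Agent.OD.Pre
import Cfsg.Agent.L.PU1

/-! Failure of factorization in the rank one pushing-up situation. -/

set_option autoImplicit false
set_option linter.unusedSectionVars false
set_option linter.unusedVariables false

open Cfsg Subgroup CfH9
open CfH8 (ms Best)
open scoped commutatorElement

namespace CfLp

scoped notation "Zc(" X ")" => X ⊓ Subgroup.centralizer (SetLike.coe X)

variable {Γ : Type*} [Group Γ] {Γ' : Type*} [Group Γ']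

theorem cj_Zc (g : Γ) (X : Subgroup Γ) : cj g Zc(X) = Zc(cj g X) := by
  rw [cj_inf, cj_centralizer]

theorem Nm_le_Nm_Zc (X : Subgroup Γ) : Nm(X) ≤ Nm(Zc(X)) := fun g hg =>
  mem_Nm_inf hg (mem_Nm_Cz hg)

theorem cz_comm {X : Subgroup Γ} {c x : Γ} (hc : c ∈ Cz(X)) (hx : x ∈ X) : c * x = x * c :=
  (hc x hx).symm

theorem comm_eq_one {X : Subgroup Γ} {c x : Γ} (hc : c ∈ Cz(X)) (hx : x ∈ X) : ⁅c, x⁆ = 1 :=
  commutatorElement_eq_one_iff_mul_comm.2 (cz_comm hc hx)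

theorem comm_eq_one' {X : Subgroup Γ} {c x : Γ} (hc : c ∈ Cz(X)) (hx : x ∈ X) : ⁅x, c⁆ = 1 :=
  commutatorElement_eq_one_iff_mul_comm.2 (cz_comm hc hx).symm

theorem mem_Cz_of_comm {X : Subgroup Γ} {c : Γ} (h : ∀ x ∈ X, ⁅c, x⁆ = 1) : c ∈ Cz(X) :=
  fun x hx => (commutatorElement_eq_one_iff_mul_comm.1 (h x hx)).symm

theorem mem_Cz_of_comm' {X : Subgroup Γ} {c : Γ} (h : ∀ x ∈ X, ⁅x, c⁆ = 1) : c ∈ Cz(X) :=
  fun x hx => commutatorElement_eq_one_iff_mul_comm.1 (h x hx)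

theorem comm_mul_left (a b z : Γ) : ⁅a * b, z⁆ = a * ⁅b, z⁆ * a⁻¹ * ⁅a, z⁆ := by
  simp only [commutatorElement_def]; group

theorem comm_mul_right (a y z : Γ) : ⁅a, y * z⁆ = ⁅a, y⁆ * (y * ⁅a, z⁆ * y⁻¹) := by
  simp only [commutatorElement_def]; group

theorem conj_comm (g a b : Γ) : g * ⁅a, b⁆ * g⁻¹ = ⁅g * a * g⁻¹, g * b * g⁻¹⁆ := by
  simp only [commutatorElement_def]; group

theorem conj_eq_comm_mul (g a : Γ) : g * a * g⁻¹ = ⁅g, a⁆ * a := by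
  simp only [commutatorElement_def]; group

theorem conj_eq_self {a c : Γ} (h : a * c = c * a) : a * c * a⁻¹ = c := by rw [h]; group

theorem comm_mul_left' {a b z : Γ} (h : a * ⁅b, z⁆ = ⁅b, z⁆ * a) :
    ⁅a * b, z⁆ = ⁅b, z⁆ * ⁅a, z⁆ := by rw [comm_mul_left, conj_eq_self h]

theorem comm_mul_right' {a y z : Γ} (h : y * ⁅a, z⁆ = ⁅a, z⁆ * y) :
    ⁅a, y * z⁆ = ⁅a, y⁆ * ⁅a, z⁆ := by rw [comm_mul_right, conj_eq_self h]

theorem comm_pow_left {a z : Γ} (h : a * ⁅a, z⁆ = ⁅a, z⁆ * a) (n : ℕ) :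
    ⁅a ^ n, z⁆ = ⁅a, z⁆ ^ n := by
  induction n with
  | zero => simp
  | succ n ih =>
    rw [pow_succ', comm_mul_left', ih, pow_succ]
    rw [ih]; exact (Commute.pow_right h n).eq

theorem comm_pow_right {a z : Γ} (h : z * ⁅a, z⁆ = ⁅a, z⁆ * z) (n : ℕ) :
    ⁅a, z ^ n⁆ = ⁅a, z⁆ ^ n := by
  induction n with
  | zero => simp
  | succ n ih =>
    rw [pow_succ, comm_mul_right', ih, pow_succ]
    exact (Commute.pow_left h n).eq

theorem comm_mem_of_le {A B N : Subgroup Γ} (h : ⁅A, B⁆ ≤ N) {a b : Γ} (ha : a ∈ A) (hb : b ∈ B) :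
    ⁅a, b⁆ ∈ N := h (commutator_mem_commutator ha hb)

theorem comm_mem_of_le' {A B N : Subgroup Γ} (h : ⁅A, B⁆ ≤ N) {a b : Γ} (ha : a ∈ A) (hb : b ∈ B) :
    ⁅b, a⁆ ∈ N := by
  rw [← commutatorElement_inv]; exact inv_mem (comm_mem_of_le h ha hb)

theorem comm_mem_symm {N : Subgroup Γ} {a b : Γ} (h : ⁅a, b⁆ ∈ N) : ⁅b, a⁆ ∈ N := by
  rw [← commutatorElement_inv]; exact inv_mem h

variable [Finite Γ]

/-- counting through the fibres of a map into cosets -/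
theorem card_le_of_fibers {S T R C : Subgroup Γ} (f : Γ → Γ) (hf : ∀ s ∈ S, f s ∈ R) (hC : C ≤ R)
    (h : ∀ a ∈ S, ∀ b ∈ S, (f a)⁻¹ * f b ∈ C → a⁻¹ * b ∈ T) :
    Nat.card S * Nat.card C ≤ Nat.card (S ⊓ T : Subgroup Γ) * Nat.card R := by
  have := CfH8.card_le_mul_of_fibers (A := S) (X := R ⧸ C.subgroupOf R) (T.subgroupOf S)
    (fun s => QuotientGroup.mk ⟨f s, hf s s.2⟩)
    (fun a b e => h a a.2 b b.2 (mem_subgroupOf.1 (QuotientGroup.eq.1 e)))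
  rw [← inf_subgroupOf_left, card_subgroupOf inf_le_left] at this
  have h2 := card_eq_card_quotient_mul_card_subgroup (C.subgroupOf R)
  rw [card_subgroupOf hC] at h2
  rw [h2, ← mul_assoc]
  exact Nat.mul_le_mul_right _ this

theorem mem_Nm_sup_zpowers {s z : Γ} {C : Subgroup Γ} (hs : s ∈ Nm(C)) (h : ⁅s, z⁆ ∈ C) :
    s ∈ Nm(zpowers z ⊔ C) := by
  apply mem_normalizer_of_cj_le
  rw [cj_sup, cj_zpowers, cj_eq_of_mem_normalizer hs]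
  refine sup_le ?_ le_sup_right
  rw [zpowers_le, conj_eq_comm_mul]
  exact mul_mem (mem_sup_right h) (mem_sup_left (mem_zpowers z))

/-- the pushing-up situation with failure of factorization -/
structure FF (p q : ℕ) (G S T M : Subgroup Γ) : Prop extends PU p q G S T M where
  nc : ¬ Zc(S) ≤ Cz(G)
  exA : ∃ A, MaxEA 0 S A ∧ ¬ A ≤ T

variable {p q : ℕ} {G S T M : Subgroup Γ} [hp : Fact p.Prime]

theorem FF.conj' (h : FF p q G S T M) {g : Γ} (hg : g ∈ G) : FF p q G (cj g S) T (cj g M) where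
  toPU := h.toPU.conj' hg
  nc := by
    rw [← cj_Zc, cj_le_iff, cj_centralizer, cj_eq_of_mem (inv_mem hg)]; exact h.nc
  exA := by
    obtain ⟨A, hA, hT⟩ := h.exA
    refine ⟨_, hA.conj g, ?_⟩
    rwa [cj_le_iff, h.cjT (inv_mem hg)]

theorem FF.conj (h : FF p q G S T M) (g : Γ) : FF p q (cj g G) (cj g S) (cj g T) (cj g M) where
  toPU := h.toPU.conj g
  nc := by
    rw [← cj_Zc, ← cj_centralizer, cj_le_cj_iff]; exact h.nc
  exA := by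
    obtain ⟨A, hA, hT⟩ := h.exA
    refine ⟨_, hA.conj g, ?_⟩
    rwa [cj_le_cj_iff]

theorem PU.nc_of_not_normal (h : PU p q G S T M) (hn : ¬ G ≤ Nm(Zc(S))) : ¬ Zc(S) ≤ Cz(G) :=
  fun hh => hn ((CfH7.le_Cz_comm hh).trans (Cz_le_Nm _))

theorem PU.nZg (h : PU p q G S T M) : G ≤ Nm(Zc(G)) := le_normalizer.trans (Nm_le_Nm_Zc G)

theorem PU.nCz (h : PU p q G S T M) {X : Subgroup Γ} (hX : G ≤ Nm(X)) : G ≤ Nm(Cz(X)) :=
  hX.trans (Nm_le_Nm_Cz X)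

theorem PU.Z_le_S (h : PU p q G S T M) : Zc(T) ≤ S := inf_le_left.trans h.TS
theorem PU.Z_le_G (h : PU p q G S T M) : Zc(T) ≤ G := inf_le_left.trans h.TG

theorem PU.CzZ_le_M (h : PU p q G S T M) (nc : ¬ Zc(S) ≤ Cz(G)) : G ⊓ Cz(Zc(T)) ≤ M := by
  by_contra hn
  have h1 := h.O_le_of_not_le (h.nCz h.nZ) hn
  exact nc (CfH7.le_Cz_comm (h.le_of_O_S (h1.trans (Cz_anti h.ZS_le_Z))
    (CfH7.le_Cz_comm inf_le_right)))

theorem PU.mem_T_of_Cz (h : PU p q G S T M) (nc : ¬ Zc(S) ≤ Cz(G)) {s : Γ} (hs : s ∈ S)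
    (hc : s ∈ Cz(Zc(T))) : s ∈ T := h.mem_T_of_normal (h.nCz h.nZ) (h.CzZ_le_M nc) hs hc

theorem PU.S_inf_CzZ (h : PU p q G S T M) (nc : ¬ Zc(S) ≤ Cz(G)) : S ⊓ Cz(Zc(T)) = T :=
  le_antisymm (fun s hs => h.mem_T_of_Cz nc hs.1 hs.2)
    (le_inf h.TS (CfH7.le_Cz_comm inf_le_right))

theorem PU.S_inf_CzT (h : PU p q G S T M) : S ⊓ Cz(T) = Zc(T) :=
  le_antisymm (le_inf ((inf_le_inf_right _ h.SG).trans h.cT) inf_le_right)
    (inf_le_inf_right _ h.TS)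

theorem PU.Z_inf_CzS (h : PU p q G S T M) : Zc(T) ⊓ Cz(S) = Zc(S) :=
  le_antisymm (inf_le_inf_right _ h.Z_le_S) (le_inf h.ZS_le_Z inf_le_right)

theorem PU.commZ (h : PU p q G S T M) : IsMulCommutative (Zc(T) : Subgroup Γ) := comm_inf_Cz T

theorem PU.zcomm (h : PU p q G S T M) {x y : Γ} (hx : x ∈ Zc(T)) (hy : y ∈ T) : x * y = y * x :=
  cz_comm hx.2 hy

theorem PU.comm_mem_Z (h : PU p q G S T M) {g z : Γ} (hg : g ∈ G) (hz : z ∈ Zc(T)) :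
    ⁅g, z⁆ ∈ Zc(T) := commutator_mem_right hz (h.nZ hg)

theorem PU.comm_mulZ (h : PU p q G S T M) {g y z : Γ} (hg : g ∈ G) (hy : y ∈ T)
    (hz : z ∈ Zc(T)) : ⁅g, y * z⁆ = ⁅g, y⁆ * ⁅g, z⁆ :=
  comm_mul_right' (h.zcomm (h.comm_mem_Z hg hz) hy).symm

theorem PU.ZS_cj_le_Z (h : PU p q G S T M) {g : Γ} (hg : g ∈ G) : Zc(cj g S) ≤ Zc(T) :=
  (h.conj' hg).ZS_le_Z

theorem PU.inf_ZS_cj (h : PU p q G S T M) {g : Γ} (hg : g ∈ G) (hM : g ∉ M) :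
    Zc(S) ⊓ Zc(cj g S) = Zc(G) := by
  refine le_antisymm (le_inf (inf_le_left.trans (inf_le_left.trans h.SG)) ?_)
    (le_inf h.Zg_le_ZS (h.conj' hg).Zg_le_ZS)
  obtain ⟨s, hs, hT⟩ := h.exists_notMem
  refine CfH7.le_Cz_comm (h.le_of_cj hg hM hs hT ?_ ?_)
  · exact CfH7.le_Cz_comm (inf_le_right.trans inf_le_right)
  · exact CfH7.le_Cz_comm (inf_le_left.trans inf_le_right) hs

theorem PU.mem_Zg_of_comm (h : PU p q G S T M) {g : Γ} (hg : g ∈ G) (hM : g ∉ M) {z s : Γ}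
    (hz : z ∈ Zc(cj g S)) (hs : s ∈ S) (hT : s ∉ T) (hc : ⁅s, z⁆ ∈ Zc(G)) : z ∈ Zc(G) := by
  have h1 : cj g S ≤ Cz(zpowers z ⊔ Zc(G)) := by
    rw [Cz_sup, Cz_zpowers]
    exact le_inf (le_Cx_iff.2 hz.2)
      (CfH7.le_Cz_comm (inf_le_right.trans (Cz_anti (h.conj' hg).SG)))
  have h2 : G ≤ Nm(zpowers z ⊔ Zc(G)) :=
    h.le_of_cj hg hM hs hT (h1.trans (Cz_le_Nm _)) (mem_Nm_sup_zpowers (h.nZg (h.SG hs)) hc)
  have h3 := (h.conj' hg).le_Cz_of_normal h2 h1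
  exact ⟨(h.conj' hg).SG hz.1, CfH7.le_Cz_comm h3 (mem_sup_left (mem_zpowers z))⟩

theorem maxEA_bound {S A B : Subgroup Γ} (hA : MaxEA 0 S A) (hB : B ≤ S)
    (hc : IsMulCommutative B) : Nat.card B ≤ Nat.card A := hA.max B hB (elemAb_zero_iff.2 hc)

theorem PU.offender (h : PU p q G S T M) {A : Subgroup Γ} (hA : MaxEA 0 S A) :
    Nat.card (A ⊓ T : Subgroup Γ) * Nat.card (Zc(T) : Subgroup Γ) ≤
      Nat.card A * Nat.card (Zc(T) ⊓ Cz(A) : Subgroup Γ) := by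
  have h0 : A ⊓ T ≤ Cz(Zc(T)) := inf_le_right.trans (CfH7.le_Cz_comm inf_le_right)
  have h1 := maxEA_bound hA (B := (A ⊓ T) ⊔ Zc(T)) (sup_le (inf_le_left.trans hA.le) h.Z_le_S)
    (comm_sup (comm_of_le inf_le_left hA.comm) h.commZ h0)
  rw [← card_sup_mul_card_inf (h0.trans (Cz_le_Nm _))]
  refine Nat.mul_le_mul h1 (card_le_of_le (le_inf inf_le_right ?_))
  exact (inf_le_left.trans inf_le_left).trans (le_Cz_of_comm hA.comm)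

theorem PU.inf_Cz_sup_T (h : PU p q G S T M) (B : Subgroup Γ) :
    Zc(T) ⊓ Cz(B ⊔ T) = Zc(T) ⊓ Cz(B) := by
  rw [Cz_sup, ← inf_assoc]
  exact inf_eq_left.2 (inf_le_left.trans inf_le_right)

theorem FF.best (h : FF p q G S T M) : Best Zc(T) S := by
  obtain ⟨A, hA, hAT⟩ := h.exA
  -- a maximizer of the measure among subgroups between `T` and `S`
  obtain ⟨X₀, hX₀, hm⟩ := Set.exists_max_image {X : Subgroup Γ | T ≤ X ∧ X ≤ S} (ms Zc(T))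
    (Set.toFinite _) ⟨T, le_rfl, h.TS⟩
  obtain ⟨X, ⟨h1, h2, h3⟩, hmax⟩ := exists_max_card
    (fun X : Subgroup Γ => T ≤ X ∧ X ≤ S ∧ ms Zc(T) X = ms Zc(T) X₀) ⟨X₀, hX₀.1, hX₀.2, rfl⟩
  have key : ∀ Y : Subgroup Γ, T ≤ Y → Y ≤ S → ms Zc(T) Y = ms Zc(T) X₀ → Y ≤ X := by
    intro Y a b c
    obtain ⟨-, e, -⟩ := CfH8.ms_lattice h3 c (hm _ ⟨le_inf h1 a, inf_le_left.trans h2⟩)
      (hm _ ⟨le_sup_of_le_left h1, sup_le h2 b⟩)
    have := eq_of_le_of_card_ge (le_sup_left (a := X) (b := Y))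
      (hmax _ ⟨le_sup_of_le_left h1, sup_le h2 b, e⟩)
    exact le_sup_right.trans this.ge
  have hX : X = S := by
    refine (h.irr X h1 h2 fun g hg => mem_normalizer_of_cj_le (key _ ?_ ?_ ?_)).resolve_left ?_
    · exact (h.cjT hg.1).ge.trans (cj_mono g h1)
    · exact (cj_mono g h2).trans (cj_eq_of_mem_normalizer hg.2).le
    · rw [CfH8.ms_cj_of_mem (h.nZ hg.1), h3]
    · rintro rfl
      refine hAT (le_sup_left.trans (key (A ⊔ X) le_sup_right (sup_le hA.le h2) ?_))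
      refine le_antisymm (hm _ ⟨le_sup_right, sup_le hA.le h2⟩) ?_
      rw [← h3, CfH8.ms_of_le_Cz (CfH7.le_Cz_comm inf_le_right), ms, h.inf_Cz_sup_T]
      have e1 := h.offender hA
      have e2 := card_sup_mul_card_inf (hA.le.trans h.SnT)
      refine Nat.le_of_mul_le_mul_left (c := Nat.card (A ⊓ X : Subgroup Γ)) ?_ Nat.card_pos
      calc _ = Nat.card X * (Nat.card (A ⊓ X : Subgroup Γ) * Nat.card (Zc(X) : Subgroup Γ)) := by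
            ring
        _ ≤ Nat.card X * (Nat.card A * Nat.card (Zc(X) ⊓ Cz(A) : Subgroup Γ)) :=
            Nat.mul_le_mul_left _ e1
        _ = (Nat.card A * Nat.card X) * Nat.card (Zc(X) ⊓ Cz(A) : Subgroup Γ) := by ring
        _ = _ := by rw [← e2]; ring
  subst hX
  intro B hB
  rw [h3]
  refine le_trans ?_ (hm (B ⊔ T) ⟨le_sup_right, sup_le hB h.TS⟩)
  rw [ms, ms, h.inf_Cz_sup_T]
  exact Nat.mul_le_mul_right _ (card_le_of_le le_sup_left)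

theorem FF.quad (h : FF p q G S T M) : ⁅Zc(T), S⁆ ≤ Zc(S) := by
  have hSZ : S ≤ Nm(Zc(T)) := h.SG.trans h.nZ
  have h1 := h.best.timmesfeld_ne (p := p) h.commZ (h.pT.to_le inf_le_left) hSZ
    (h.comm.trans (CfH7.le_Cz_comm inf_le_right))
    (by rw [CfH7.pResidualOf_eq_bot_of_isPGroup h.pS]; exact bot_le)
    (fun hh => h.ne (fun s hs => h.mem_T_of_Cz h.nc hs (hh hs)))
  have h2 : ⁅Zc(T), S⁆ ≤ Zc(T) := CfH7.comm_le_left hSZ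
  rcases h.irr (S ⊓ Cz(⁅Zc(T), S⁆))
    (le_inf h.TS (CfH7.le_Cz_comm (h2.trans inf_le_right))) inf_le_left
    (CfH7.le_normalizer_inf inf_le_right (CfH7.le_normalizer_centralizer
      (CfH7.le_normalizer_commutator (inf_le_left.trans h.nZ) inf_le_right))) with h3 | h3
  · exact absurd (h3.le.trans (CfH7.le_Cz_comm inf_le_right)) h1
  · exact le_inf (h2.trans h.Z_le_S) (CfH7.le_Cz_comm (inf_eq_left.1 h3))

theorem FF.comm_mem (h : FF p q G S T M) {s z : Γ} (hs : s ∈ S) (hz : z ∈ Zc(T)) :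
    ⁅s, z⁆ ∈ Zc(S) := comm_mem_of_le' h.quad hz hs

theorem FF.comm_mul (h : FF p q G S T M) {a b z : Γ} (ha : a ∈ S) (hb : b ∈ S) (hz : z ∈ Zc(T)) :
    ⁅a * b, z⁆ = ⁅a, z⁆ * ⁅b, z⁆ := by
  rw [comm_mul_left' (cz_comm (h.comm_mem hb hz).2 ha).symm,
    cz_comm (h.comm_mem hb hz).2 (h.comm_mem ha hz).1]

theorem FF.comm_inv_mul (h : FF p q G S T M) {a b z : Γ} (ha : a ∈ S) (hb : b ∈ S)
    (hz : z ∈ Zc(T)) : ⁅a⁻¹ * b, z⁆ = ⁅a, z⁆⁻¹ * ⁅b, z⁆ := by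
  rw [eq_inv_mul_iff_mul_eq, ← h.comm_mul ha (mul_mem (inv_mem ha) hb) hz, mul_inv_cancel_left]

theorem FF.comm_inv (h : FF p q G S T M) {a z : Γ} (ha : a ∈ S) (hz : z ∈ Zc(T)) :
    ⁅a⁻¹, z⁆ = ⁅a, z⁆⁻¹ := by
  simpa using h.comm_inv_mul ha (one_mem S) hz

theorem FF.card_lower (h : FF p q G S T M) {z : Γ} (hz : z ∈ Zc(T))
    (hz' : ∀ s ∈ S, ⁅s, z⁆ ∈ Zc(G) → s ∈ T) {R : Subgroup Γ} (h1 : Zc(G) ≤ R)
    (h2 : ∀ s ∈ S, ⁅s, z⁆ ∈ R) : q * Nat.card (Zc(G) : Subgroup Γ) ≤ Nat.card R := by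
  have := card_le_of_fibers (T := T) (fun s => ⁅s, z⁆) h2 h1 (fun a ha b hb e =>
    hz' _ (mul_mem (inv_mem ha) hb) (by rwa [h.comm_inv_mul ha hb hz]))
  rw [inf_eq_right.2 h.TS, h.card] at this
  refine Nat.le_of_mul_le_mul_left (c := Nat.card T) ?_ Nat.card_pos
  calc _ = q * Nat.card T * Nat.card (Zc(G) : Subgroup Γ) := by ring
    _ ≤ _ := this

theorem FF.cards (h : FF p q G S T M) :
    Nat.card (Zc(S) : Subgroup Γ) = q * Nat.card (Zc(G) : Subgroup Γ) ∧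
      Nat.card (Zc(T) : Subgroup Γ) = q * Nat.card (Zc(S) : Subgroup Γ) := by
  obtain ⟨g, hg, hM⟩ := h.ex
  obtain ⟨z, hz, hz'⟩ := SetLike.not_le_iff_exists.1 (h.conj' hg).nc
  have h1 := h.card_lower (h.ZS_cj_le_Z hg hz) (fun s hs hc => by
    by_contra hT
    exact hz' (h.mem_Zg_of_comm hg hM hz hs hT hc).2) h.Zg_le_ZS
    (fun s hs => h.comm_mem hs (h.ZS_cj_le_Z hg hz))
  have h2 := h.best T h.TS
  rw [CfH8.ms_of_le_Cz (CfH7.le_Cz_comm inf_le_right), ms, h.Z_inf_CzS, h.card] at h2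
  have h3 : Nat.card (Zc(T) : Subgroup Γ) ≤ q * Nat.card (Zc(S) : Subgroup Γ) := by
    refine Nat.le_of_mul_le_mul_left (c := Nat.card T) ?_ Nat.card_pos
    calc _ ≤ _ := h2
      _ = _ := by ring
  have h4 := card_mul_card_le h.ZS_le_Z (h.ZS_cj_le_Z hg)
  rw [h.inf_ZS_cj hg hM, ← cj_Zc, card_cj] at h4
  have p1 : 0 < Nat.card (Zc(S) : Subgroup Γ) := Nat.card_pos
  have p2 : 0 < Nat.card (Zc(G) : Subgroup Γ) := Nat.card_pos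
  generalize Nat.card (Zc(S) : Subgroup Γ) = a at *
  generalize Nat.card (Zc(G) : Subgroup Γ) = b at *
  generalize Nat.card (Zc(T) : Subgroup Γ) = c at *
  have h5 : a ≤ q * b := by
    refine Nat.le_of_mul_le_mul_left (c := a) ?_ p1
    calc _ ≤ c * b := h4
      _ ≤ q * a * b := Nat.mul_le_mul_right _ h3
      _ = _ := by ring
  have h6 : a = q * b := le_antisymm h5 h1
  refine ⟨h6, le_antisymm h3 ?_⟩
  refine Nat.le_of_mul_le_mul_right (c := b) ?_ p2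
  calc _ = a * (q * b) := by ring
    _ = a * a := by rw [← h6]
    _ ≤ _ := h4

theorem FF.card_ZS (h : FF p q G S T M) :
    Nat.card (Zc(S) : Subgroup Γ) = q * Nat.card (Zc(G) : Subgroup Γ) := h.cards.1

theorem FF.card_Z (h : FF p q G S T M) :
    Nat.card (Zc(T) : Subgroup Γ) = q * Nat.card (Zc(S) : Subgroup Γ) := h.cards.2

theorem FF.sup_ZS_cj (h : FF p q G S T M) {g : Γ} (hg : g ∈ G) (hM : g ∉ M) :
    Zc(S) ⊔ Zc(cj g S) = Zc(T) := by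
  refine eq_of_le_of_card_ge (sup_le h.ZS_le_Z (h.ZS_cj_le_Z hg)) ?_
  have h1 := CfL.card_mul_card_le_inf_mul_sup Zc(S) Zc(cj g S)
  rw [h.inf_ZS_cj hg hM, ← cj_Zc, card_cj] at h1
  refine Nat.le_of_mul_le_mul_left (c := Nat.card (Zc(G) : Subgroup Γ)) ?_ Nat.card_pos
  rw [← cj_Zc]
  refine le_trans (le_of_eq ?_) h1
  rw [h.card_Z]
  conv_rhs => rw [h.card_ZS]
  rw [h.card_ZS]; ring

theorem FF.exists_mul (h : FF p q G S T M) {g : Γ} (hg : g ∈ G) (hM : g ∉ M) {z : Γ}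
    (hz : z ∈ Zc(T)) : ∃ u ∈ Zc(S), ∃ v ∈ Zc(cj g S), u * v = z := by
  rw [← h.sup_ZS_cj hg hM] at hz
  exact (CfH7.mem_sup_of_le_normalizer_right
    (CfH8.le_Nm_of_le_of_comm h.commZ h.ZS_le_Z (h.ZS_cj_le_Z hg))).1 hz

/-- elements of `S \ T` act without new fixed points on `Z / Z(G)` -/
theorem FF.mem_ZS_of_comm (h : FF p q G S T M) {z s : Γ} (hz : z ∈ Zc(T)) (hs : s ∈ S)
    (hT : s ∉ T) (hc : ⁅s, z⁆ ∈ Zc(G)) : z ∈ Zc(S) := by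
  obtain ⟨g, hg, hM⟩ := h.ex
  obtain ⟨u, hu, v, hv, rfl⟩ := h.exists_mul hg hM hz
  rw [h.comm_mulZ (h.SG hs) (h.ZS_le_T hu) (h.ZS_cj_le_Z hg hv), comm_eq_one' hu.2 hs,
    one_mul] at hc
  exact mul_mem hu (h.Zg_le_ZS (h.mem_Zg_of_comm hg hM hv hs hT hc))

theorem FF.mem_T_of_comm (h : FF p q G S T M) {z s : Γ} (hz : z ∈ Zc(T)) (hz' : z ∉ Zc(S))
    (hs : s ∈ S) (hc : ⁅s, z⁆ ∈ Zc(G)) : s ∈ T := by
  by_contra hT
  exact hz' (h.mem_ZS_of_comm hz hs hT hc)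

theorem FF.mem_ZS_of_commute (h : FF p q G S T M) {z s : Γ} (hz : z ∈ Zc(T)) (hs : s ∈ S)
    (hT : s ∉ T) (hc : ⁅s, z⁆ = 1) : z ∈ Zc(S) :=
  h.mem_ZS_of_comm hz hs hT (hc ▸ one_mem _)

theorem FF.Z_inf_Cz (h : FF p q G S T M) {A : Subgroup Γ} (hA : A ≤ S) (hT : ¬ A ≤ T) :
    Zc(T) ⊓ Cz(A) = Zc(S) := by
  refine le_antisymm (fun z hz => ?_) (le_inf h.ZS_le_Z (inf_le_right.trans (Cz_anti hA)))
  obtain ⟨a, ha, haT⟩ := SetLike.not_le_iff_exists.1 hT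
  exact h.mem_ZS_of_commute hz.1 (hA ha) haT (comm_eq_one' hz.2 ha)

theorem FF.ZS_le (h : FF p q G S T M) {z : Γ} (hz : z ∈ Zc(T)) (hz' : z ∉ Zc(S)) {R : Subgroup Γ}
    (h1 : Zc(G) ≤ R) (h2 : ∀ s ∈ S, ⁅s, z⁆ ∈ R) : Zc(S) ≤ R := by
  have := h.card_lower hz (fun s hs hc => h.mem_T_of_comm hz hz' hs hc) (R := Zc(S) ⊓ R)
    (le_inf h.Zg_le_ZS h1) (fun s hs => ⟨h.comm_mem hs hz, h2 s hs⟩)
  rw [← h.card_ZS] at this
  exact inf_eq_left.1 (eq_of_le_of_card_ge inf_le_left this)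

theorem FF.surj (h : FF p q G S T M) {z : Γ} (hz : z ∈ Zc(T)) (hz' : z ∉ Zc(S)) {u : Γ}
    (hu : u ∈ Zc(S)) : ∃ s ∈ S, ∃ c ∈ Zc(G), u = ⁅s, z⁆ * c := by
  let R : Subgroup Γ :=
    { carrier := {u | ∃ s ∈ S, ∃ c ∈ Zc(G), u = ⁅s, z⁆ * c}
      one_mem' := ⟨1, one_mem _, 1, one_mem _, by simp⟩
      mul_mem' := by
        rintro _ _ ⟨s, hs, c, hc, rfl⟩ ⟨s', hs', c', hc', rfl⟩
        refine ⟨s * s', mul_mem hs hs', c * c', mul_mem hc hc', ?_⟩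
        rw [h.comm_mul hs hs' hz, mul_assoc, mul_assoc, ← mul_assoc c,
          cz_comm hc.2 (h.SG (h.comm_mem hs' hz).1), mul_assoc]
      inv_mem' := by
        rintro _ ⟨s, hs, c, hc, rfl⟩
        refine ⟨s⁻¹, inv_mem hs, c⁻¹, inv_mem hc, ?_⟩
        rw [h.comm_inv hs hz, ← cz_comm hc.2 (h.SG (h.comm_mem hs hz).1), mul_inv_rev] }
  exact h.ZS_le hz hz' (R := R) (fun c hc => ⟨1, one_mem _, c, hc, by simp⟩)
    (fun s hs => ⟨s, hs, 1, one_mem _, by simp⟩) hu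

theorem FF.pow_mem_ZS (h : FF p q G S T M) {z : Γ} (hz : z ∈ Zc(T)) : z ^ p ∈ Zc(S) := by
  refine ⟨h.Z_le_S (pow_mem hz p), mem_Cz_of_comm' fun s hs => ?_⟩
  rw [comm_pow_right (cz_comm (h.comm_mem hs hz).2 (h.Z_le_S hz)).symm,
    ← comm_pow_left (cz_comm (h.comm_mem hs hz).2 hs).symm]
  exact comm_eq_one' hz.2 (h.pow s hs)

theorem FF.pow_mem_Zg (h : FF p q G S T M) {z : Γ} (hz : z ∈ Zc(T)) : z ^ p ∈ Zc(G) := by
  obtain ⟨g, hg, hM⟩ := h.ex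
  rw [← h.inf_ZS_cj hg hM]
  exact ⟨h.pow_mem_ZS hz, (h.conj' hg).pow_mem_ZS hz⟩

theorem FF.exists_mem_cj (h : FF p q G S T M) {z : Γ} (hz : z ∈ Zc(T)) (hz' : z ∉ Zc(S)) :
    ∃ g ∈ G, g ∉ M ∧ z ∈ Zc(cj g S) := by
  obtain ⟨g, hg, hM⟩ := h.ex
  obtain ⟨u, hu, v, hv, rfl⟩ := h.exists_mul hg hM hz
  have hv' : v ∉ Zc(S) := fun hh => hz' (mul_mem hu hh)
  obtain ⟨s, hs, c, hc, rfl⟩ := h.surj (h.ZS_cj_le_Z hg hv) hv' hu
  have hsg : s * g ∈ G := mul_mem (h.SG hs) hg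
  refine ⟨s * g, hsg, fun hh => hM ((mul_mem_cancel_left (h.SM hs)).1 hh), ?_⟩
  rw [mul_assoc, cz_comm hc.2 (h.Z_le_G (h.ZS_cj_le_Z hg hv)), ← mul_assoc, ← conj_eq_comm_mul]
  refine mul_mem ?_ ((h.conj' hsg).Zg_le_ZS hc)
  rw [cj_mul, ← cj_Zc]
  exact conj_mem_cj s hv

theorem FF.M_le_Nm (h : FF p q G S T M) : M ≤ Nm(Zc(S)) := by
  intro m hm
  apply mem_normalizer_of_cj_le
  rw [cj_Zc]
  intro z hz
  by_contra hz'
  obtain ⟨g, hg, hM, hz2⟩ := h.exists_mem_cj (h.ZS_cj_le_Z (h.MG hm) hz) hz'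
  have h1 := (h.toPU.conj' (h.MG hm)).inf_ZS_cj (g := g * m⁻¹) (mul_mem hg (inv_mem (h.MG hm)))
    (by rw [cj_eq_of_mem hm, mul_mem_cancel_right (inv_mem hm)]; exact hM)
  rw [← cj_mul, inv_mul_cancel_right] at h1
  exact hz' (h.Zg_le_ZS (h1 ▸ ⟨hz, hz2⟩))

theorem FF.ZS_cj_eq (h : FF p q G S T M) {g g' : Γ} (hm : g⁻¹ * g' ∈ M) :
    Zc(cj g S) = Zc(cj g' S) := by
  rw [← cj_Zc, ← cj_Zc, ← mul_inv_cancel_left g g', cj_mul, cj_eq_of_mem_normalizer (h.M_le_Nm hm)]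

theorem FF.irred (h : FF p q G S T M) {U : Subgroup Γ} (h1 : Zc(G) ≤ U) (h2 : U ≤ Zc(T))
    (hn : G ≤ Nm(U)) : U = Zc(G) ∨ U = Zc(T) := by
  by_cases hU : U ≤ Zc(G)
  · exact Or.inl (le_antisymm hU h1)
  right
  obtain ⟨g, hg, hM⟩ := h.ex
  obtain ⟨z, hz, hz'⟩ := SetLike.not_le_iff_exists.1 hU
  have key : ∃ z ∈ U, z ∉ Zc(S) := by
    by_cases hS : z ∈ Zc(S)
    · refine ⟨g * z * g⁻¹, conj_mem_of_mem_normalizer (hn hg) hz, fun hh => hz' ?_⟩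
      have : g * z * g⁻¹ ∈ Zc(G) := by
        rw [← h.inf_ZS_cj hg hM, ← cj_Zc]; exact ⟨hh, conj_mem_cj g hS⟩
      exact (mem_normalizer_iff.1 (h.nZg hg) z).2 this
    · exact ⟨z, hz, hS⟩
  obtain ⟨y, hy, hy'⟩ := key
  have h3 := h.ZS_le (h2 hy) hy' h1 (fun s hs => commutator_mem_right hy (hn (h.SG hs)))
  refine le_antisymm h2 ?_
  rw [← h.sup_ZS_cj hg hM, ← cj_Zc]
  exact sup_le h3 ((cj_mono g h3).trans (cj_eq_of_mem_normalizer (hn hg)).le)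

theorem FF.Zg_ne (h : FF p q G S T M) : ¬ Zc(T) ≤ Zc(G) := fun hh =>
  h.nc ((h.ZS_le_Z.trans hh).trans inf_le_right)

theorem FF.Z_inf_CzO (h : FF p q G S T M) : Zc(T) ⊓ Cz(pResidualOf p G) = Zc(G) := by
  refine (h.irred (le_inf h.Zg_le_Z (inf_le_right.trans (Cz_anti h.OG))) inf_le_left
    (CfH7.le_normalizer_inf h.nZ (h.nCz h.nO))).resolve_right fun hh => h.nc ?_
  exact CfH7.le_Cz_comm (h.le_of_O_S
    (CfH7.le_Cz_comm (h.ZS_le_Z.trans (inf_eq_left.1 hh))) (CfH7.le_Cz_comm inf_le_right))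

theorem FF.comm_O_sup (h : FF p q G S T M) : ⁅Zc(T), pResidualOf p G⁆ ⊔ Zc(G) = Zc(T) := by
  have h1 : ⁅Zc(T), pResidualOf p G⁆ ≤ Zc(T) := CfH7.comm_le_left (h.OG.trans h.nZ)
  refine (h.irred le_sup_right (sup_le h1 h.Zg_le_Z) (CfH7.le_normalizer_sup
    (CfH7.le_normalizer_commutator h.nZ h.nO) h.nZg)).resolve_left fun hh => h.Zg_ne ?_
  rw [← h.Z_inf_CzO]
  refine le_inf le_rfl (CfH7.le_Cz_comm (CfH7.pResidualOf_le_Cz_of_le' (h.pT.to_le inf_le_left)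
    h.nZ (le_sup_left.trans hh.le) (h.OG.trans (CfH7.le_Cz_comm inf_le_right))))

theorem FF.elemAb_comm (h : FF p q G S T M) : IsElementaryAbelian p ⁅Zc(T), pResidualOf p G⁆ := by
  have h1 : ⁅Zc(T), pResidualOf p G⁆ ≤ Zc(T) := CfH7.comm_le_left (h.OG.trans h.nZ)
  refine CfH7.elemAb_of_le ?_ (CfH7.elemAb_omegaOne h.commZ)
  rw [commutator_comm, commutator_le]
  intro x hx z hz
  refine CfH7.mem_omegaOne (h.comm_mem_Z (h.OG hx) hz) ?_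
  rw [← comm_pow_right (h.zcomm hz (h.comm_mem_Z (h.OG hx) hz).1)]
  exact comm_eq_one' (h.pow_mem_Zg hz).2 (h.OG hx)

/-- a large abelian subgroup outside `T` -/
theorem FF.large (h : FF p q G S T M) {A : Subgroup Γ} (hA : MaxEA 0 S A) (hT : ¬ A ≤ T) :
    A ⊔ T = S ∧ Nat.card A = q * Nat.card (A ⊓ T : Subgroup Γ) ∧ A ⊓ Zc(T) = Zc(S) ∧
      MaxEA 0 S ((A ⊓ T) ⊔ Zc(T)) := by
  have h1 := h.offender hA
  rw [h.Z_inf_Cz hA.le hT, h.card_Z, ← mul_assoc] at h1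
  have h2 := Nat.le_of_mul_le_mul_right h1 Nat.card_pos
  rw [mul_comm] at h2
  have h3 := h.sup_eq_of_card hA.le h2
  have h4 := h.card_of_sup_eq h3
  have h5 : A ⊓ Zc(T) = Zc(S) := by
    rw [← h.Z_inf_Cz hA.le hT]
    refine le_antisymm (le_inf inf_le_right (inf_le_left.trans (le_Cz_of_comm hA.comm))) ?_
    exact le_inf ((inf_le_inf_right _ h.Z_le_S).trans hA.inf_Cz_zero.le) inf_le_left
  refine ⟨h3, h4, h5, ?_⟩
  have h0 : A ⊓ T ≤ Cz(Zc(T)) := inf_le_right.trans (CfH7.le_Cz_comm inf_le_right)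
  refine hA.of_card_le (sup_le (inf_le_left.trans hA.le) h.Z_le_S)
    (elemAb_zero_iff.2 (comm_sup (comm_of_le inf_le_left hA.comm) h.commZ h0)) ?_
  have h6 := card_sup_mul_card_inf (h0.trans (Cz_le_Nm _))
  rw [inf_assoc, inf_eq_right.2 (inf_le_left : Zc(T) ≤ T), h5, h.card_Z, ← mul_assoc] at h6
  rw [Nat.eq_of_mul_eq_mul_right Nat.card_pos h6, h4, mul_comm]

end CfLp
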