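import Cfsg.Agent.OD.Pre
import Cfsg.Agent.L.PU2
import Cfsg.Agent.H1.Frattini

/-! Pushing up: the centre of the Thompson subgroup and minimal centrally large subgroups. -/

set_option autoImplicit false
set_option linter.unusedSectionVars false
set_option linter.unusedVariables false

open Cfsg Subgroup CfH9
open CfH8 (ms Best)
open CfH7 (OZ)
open scoped commutatorElement

namespace CfLp

variable {Γ : Type*} [Group Γ] {Γ' : Type*} [Group Γ']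

/-- the Frattini subgroup inside the ambient group -/
abbrev Phi (Q : Subgroup Γ) : Subgroup Γ := (frattini Q).map Q.subtype

theorem map_frattini_equiv (e : Γ ≃* Γ') : (frattini Γ).map e.toMonoidHom = frattini Γ' := by
  refine le_antisymm (CfH1.map_frattini_le e.surjective) fun x hx => ?_
  exact ⟨e.symm x, CfH1.map_frattini_le (f := e.symm.toMonoidHom) e.symm.surjective ⟨x, hx, rfl⟩,
    by simp⟩

theorem map_Phi {f : Γ →* Γ'} (hf : Function.Injective f) (Q : Subgroup Γ) :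
    (Phi Q).map f = Phi (Q.map f) := by
  rw [Phi, Phi, ← map_frattini_equiv (Q.equivMapOfInjective f hf), map_map, map_map]
  rfl

theorem cj_Phi (g : Γ) (Q : Subgroup Γ) : cj g (Phi Q) = Phi (cj g Q) :=
  map_Phi (MulAut.conj g).injective Q

theorem Phi_le (Q : Subgroup Γ) : Phi Q ≤ Q := map_subtype_le _

theorem Phi_top : Phi (⊤ : Subgroup Γ) = frattini Γ := map_frattini_equiv topEquiv

theorem ZJ_zero (P : Subgroup Γ) : ZJ 0 P = Zc(TJ 0 P) := OZ_zero _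

variable [Finite Γ] {p q : ℕ} {G S T M : Subgroup Γ} [hp : Fact p.Prime]

theorem Zc_le_ZJ (P : Subgroup Γ) : Zc(P) ≤ Zc(TJ 0 P) := by
  rw [← ZJ_zero, ← OZ_zero]; exact OZ_le_ZJ P

theorem PU.Jt_eq (h : PU p q G S T M) (nc : ¬ Zc(S) ≤ Cz(G)) (hJ : TJ 0 S ≤ T) :
    S ⊓ Cz(Zc(TJ 0 S)) = T ⊓ Cz(Zc(TJ 0 T)) := by
  rw [TJ_eq_of_le hJ h.TS]
  refine le_antisymm (le_inf ?_ inf_le_right) (inf_le_inf_right _ h.TS)
  rw [← TJ_eq_of_le hJ h.TS]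
  exact (inf_le_inf_left _ (Cz_anti (Zc_le_ZJ T))).trans (h.S_inf_CzZ nc).le

theorem PU.nZJ (h : PU p q G S T M) : G ≤ Nm(Zc(TJ 0 T)) :=
  (h.nT.trans (Nm_le_Nm_TJ T)).trans (Nm_le_Nm_Zc _)

theorem PU.tri (h : PU p q G S T M) : Zc(S) ≤ Cz(G) ∨
    (G ≤ Nm(S ⊓ Cz(Zc(TJ 0 S))) ∧ S ⊓ Cz(Zc(TJ 0 S)) ≤ T) ∨ FF p q G S T M := by
  by_cases nc : Zc(S) ≤ Cz(G)
  · exact Or.inl nc
  by_cases hJ : TJ 0 S ≤ T
  · rw [h.Jt_eq nc hJ]
    exact Or.inr (Or.inl ⟨CfH7.le_normalizer_inf h.nT (h.nCz h.nZJ), inf_le_left⟩)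
  · refine Or.inr (Or.inr ⟨h, nc, ?_⟩)
    rw [TJ_le_iff] at hJ
    push Not at hJ
    exact hJ

theorem PU.ff (h : PU p q G S T M) (nc : ¬ Zc(S) ≤ Cz(G)) (hJ : S ≤ Cz(Zc(TJ 0 S))) :
    FF p q G S T M := by
  rcases h.tri with h1 | h1 | h1
  · exact absurd h1 nc
  · exact absurd ((le_inf le_rfl hJ).trans h1.2) h.ne
  · exact h1

theorem le_Nm_of_le_Cz {X Y : Subgroup Γ} (h : X ≤ Cz(Y)) : Y ≤ Nm(X) :=
  (CfH7.le_Cz_comm h).trans (Cz_le_Nm _)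

/-- an element of `S \ T` acting trivially on a normal section forces `O^p(G)` to do so -/
theorem PU.comm_O_le (h : PU p q G S T M) {X N : Subgroup Γ} (hX : G ≤ Nm(X)) (hN : G ≤ Nm(N))
    {a : Γ} (ha : a ∈ S) (hT : a ∉ T) (hc : ∀ x ∈ X, ⁅x, a⁆ ∈ N) : ⁅X, pResidualOf p G⁆ ≤ N :=
  CfH7.commutator_le_of_le_secCz (h.O_le (CfH7.le_Nm_secCz hX hN) ha hT
    (CfH7.mem_secCz.2 ⟨hN (h.SG ha), hc⟩))

theorem PU.comm_O_le' (h : PU p q G S T M) {X N A : Subgroup Γ} (hX : G ≤ Nm(X)) (hN : G ≤ Nm(N))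
    (hA : A ≤ S) (hT : ¬ A ≤ T) (hc : ⁅X, A⁆ ≤ N) : ⁅X, pResidualOf p G⁆ ≤ N := by
  obtain ⟨a, ha, haT⟩ := SetLike.not_le_iff_exists.1 hT
  exact h.comm_O_le hX hN (hA ha) haT fun x hx => comm_mem_of_le hc hx ha

theorem PU.sup_cj_sup (h : PU p q G S T M) {A : Subgroup Γ} (hA : A ⊔ T = S) {g : Γ} (hg : g ∈ G)
    (hM : g ∉ M) : (A ⊔ cj g A) ⊔ T = G := by
  have hAS : A ≤ S := le_sup_left.trans hA.le
  refine le_antisymm (sup_le (sup_le (hAS.trans h.SG) ((cj_mono g hAS).trans (h.conj' hg).SG))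
    h.TG) ?_
  obtain ⟨s, hs, hT⟩ := h.exists_notMem
  refine h.le_of_cj hg hM hs hT ?_ ?_
  · rw [← hA, cj_sup, h.cjT hg]; exact sup_le_sup_right le_sup_right _
  · exact (sup_le_sup_right le_sup_left _ : A ⊔ T ≤ _) (hA ▸ hs)

theorem FF.card_le_of_cz (h : FF p q G S T M) {A : Subgroup Γ} (hA : MaxEA 0 S A) (hT : ¬ A ≤ T)
    {Y : Subgroup Γ} (hY : IsMulCommutative Y) (h1 : Y ≤ S) (h2 : A ⊓ T ≤ Cz(Y)) :
    Nat.card Y ≤ q * Nat.card (Y ⊓ A : Subgroup Γ) := by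
  have h3 := maxEA_bound hA (B := (A ⊓ T) ⊔ Y) (sup_le (inf_le_left.trans hA.le) h1)
    (comm_sup (comm_of_le inf_le_left hA.comm) hY h2)
  have h4 := card_sup_mul_card_inf (h2.trans (Cz_le_Nm _))
  rw [(h.large hA hT).2.1] at h3
  refine Nat.le_of_mul_le_mul_left (c := Nat.card (A ⊓ T : Subgroup Γ)) ?_ Nat.card_pos
  rw [← h4]
  calc _ ≤ q * Nat.card (A ⊓ T : Subgroup Γ) * Nat.card (Y ⊓ A : Subgroup Γ) :=
        Nat.mul_le_mul h3 (card_le_of_le (le_inf inf_le_right (inf_le_left.trans inf_le_left)))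
    _ = _ := by ring

theorem FF.eq_sup_Z (h : FF p q G S T M) {A : Subgroup Γ} (hA : MaxEA 0 S A) (hT : ¬ A ≤ T)
    {g : Γ} (hg : g ∈ G) (hM : g ∉ M) {Y : Subgroup Γ} (hY : IsMulCommutative Y) (h0 : Zc(T) ≤ Y)
    (h1 : Y ≤ T) (h2 : A ⊓ T ≤ Cz(Y)) (h3 : cj g A ⊓ T ≤ Cz(Y)) :
    (Y ⊓ (A ⊓ cj g A)) ⊔ Zc(T) = Y := by
  have hT' : ¬ cj g A ≤ T := by rwa [cj_le_iff, h.cjT (inv_mem hg)]
  have c1 := h.card_le_of_cz hA hT hY (h1.trans h.TS) h2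
  have c2 := (h.conj' hg).card_le_of_cz (hA.conj g) hT' hY (h1.trans (h.conj' hg).TS) h3
  have c3 := card_mul_card_le (inf_le_left : Y ⊓ A ≤ Y) (inf_le_left : Y ⊓ cj g A ≤ Y)
  rw [← inf_inf_distrib_left] at c3
  have c4 := card_sup_mul_card_inf (A := Y ⊓ (A ⊓ cj g A)) (B := Zc(T))
    (inf_le_left.trans (h1.trans (h.TG.trans h.nZ)))
  have c5 : Y ⊓ (A ⊓ cj g A) ⊓ Zc(T) ≤ Zc(G) := by
    rw [← h.inf_ZS_cj hg hM, ← (h.large hA hT).2.2.1, ← ((h.conj' hg).large (hA.conj g) hT').2.2.1]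
    exact le_inf (inf_le_inf_right _ (inf_le_right.trans inf_le_left))
      (inf_le_inf_right _ (inf_le_right.trans inf_le_right))
  have c6 := card_le_of_le c5
  refine eq_of_le_of_card_ge (sup_le inf_le_left h0) ?_
  rw [h.card_Z, h.card_ZS] at c4
  have p1 : 0 < Nat.card Y := Nat.card_pos
  have p2 : 0 < Nat.card (Zc(G) : Subgroup Γ) := Nat.card_pos
  generalize Nat.card Y = y at *
  generalize Nat.card (Y ⊓ A : Subgroup Γ) = a at *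
  generalize Nat.card (Y ⊓ cj g A : Subgroup Γ) = b at *
  generalize Nat.card (Y ⊓ (A ⊓ cj g A) : Subgroup Γ) = d at *
  generalize Nat.card (Zc(G) : Subgroup Γ) = z at *
  generalize Nat.card (Y ⊓ (A ⊓ cj g A) ⊓ Zc(T) : Subgroup Γ) = i at *
  generalize Nat.card ((Y ⊓ (A ⊓ cj g A)) ⊔ Zc(T) : Subgroup Γ) = s at *
  have e1 : y ≤ q * q * d := by
    refine Nat.le_of_mul_le_mul_left (c := y) ?_ p1
    calc y * y ≤ (q * a) * (q * b) := Nat.mul_le_mul c1 c2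
      _ = q * q * (a * b) := by ring
      _ ≤ q * q * (y * d) := Nat.mul_le_mul_left _ c3
      _ = _ := by ring
  refine e1.trans (Nat.le_of_mul_le_mul_right (c := z) ?_ p2)
  calc _ = d * (q * (q * z)) := by ring
    _ = s * i := c4.symm
    _ ≤ _ := Nat.mul_le_mul_left _ c6

theorem PU.mem_sup_Z (h : PU p q G S T M) {D : Subgroup Γ} (hD : D ≤ G) {y : Γ}
    (hy : y ∈ D ⊔ Zc(T)) : ∃ d ∈ D, ∃ z ∈ Zc(T), d * z = y :=
  (CfH7.mem_sup_of_le_normalizer_right (hD.trans h.nZ)).1 hy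

theorem FF.ZJ_le (h : FF p q G S T M) :
    Zc(TJ 0 S) ≤ Zc(S) ⊔ (Zc(TJ 0 S) ⊓ Cz(pResidualOf p G)) := by
  obtain ⟨A, hA, hT⟩ := h.exA
  obtain ⟨g, hg, hM⟩ := h.ex
  obtain ⟨a1, a2, a3, a4⟩ := h.large hA hT
  have hT' : ¬ cj g A ≤ T := by rwa [cj_le_iff, h.cjT (inv_mem hg)]
  obtain ⟨b1, b2, b3, b4⟩ := (h.conj' hg).large (hA.conj g) hT'
  have a5 : (A ⊓ T) ⊔ Zc(T) ≤ T := sup_le inf_le_right inf_le_left
  have b5 : (cj g A ⊓ T) ⊔ Zc(T) ≤ T := sup_le inf_le_right inf_le_left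
  have hYY : Zc(TJ 0 S) ≤ Zc(TJ 0 T) := by
    rw [← ZJ_zero, ← ZJ_zero]; exact a4.ZJ_le_ZJ a5 h.TS
  have hYT : Zc(TJ 0 T) ≤ T := inf_le_left.trans (TJ_le T)
  have e := h.eq_sup_Z hA hT hg hM (comm_inf_Cz (TJ 0 T)) (Zc_le_ZJ T) hYT
    (le_sup_left.trans ((a4.mono a5 h.TS).le_TJ.trans (CfH7.le_Cz_comm inf_le_right)))
    (le_sup_left.trans ((b4.mono b5 (h.conj' hg).TS).le_TJ.trans (CfH7.le_Cz_comm inf_le_right)))
  set D := Zc(TJ 0 T) ⊓ (A ⊓ cj g A) with hD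
  have hH := h.sup_cj_sup a1 hg hM
  have hHG : A ⊔ cj g A ≤ G := le_sup_left.trans hH.le
  have hDH : D ≤ Cz(A ⊔ cj g A) := by
    rw [Cz_sup]
    exact inf_le_right.trans (inf_le_inf (le_Cz_of_comm hA.comm) (le_Cz_of_comm (hA.conj g).comm))
  have hDG : D ≤ G := inf_le_left.trans (hYT.trans h.TG)
  have hU : G ≤ Nm(Zc(TJ 0 S) ⊔ Zc(T)) := by
    rw [← hH]
    refine sup_le (CfH7.le_Nm_sup_of_comm_le (hHG.trans h.nZ) (le_sup_of_le_right ?_))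
      (CfH7.le_normalizer_sup (h.TS.trans (le_normalizer.trans
        ((Nm_le_Nm_TJ S).trans (Nm_le_Nm_Zc _)))) (h.TG.trans h.nZ))
    refine (commutator_mono (hYY.trans e.ge) le_rfl).trans ?_
    exact CfH7.commutator_sup_left_le (hDG.trans h.nZ) le_normalizer
      ((CfH7.comm_eq_bot_left.2 hDH).le.trans bot_le) (CfH7.comm_le_left (hHG.trans h.nZ))
  have hL : ⁅T, pResidualOf p G⁆ ≤ Cz(Zc(TJ 0 S) ⊔ Zc(T)) := by
    refine h.comm_O_le' h.nT (h.nCz hU) hA.le hT ?_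
    rw [Cz_sup]
    refine le_inf ?_ ((CfH7.comm_le_left (hA.le.trans h.SnT)).trans (CfH7.le_Cz_comm inf_le_right))
    refine le_trans ?_ (CfH7.le_Cz_comm inf_le_right)
    exact (commutator_mono h.TS hA.le_TJ).trans
      (CfH7.comm_le_right (le_normalizer.trans (Nm_le_Nm_TJ S)))
  intro y hy
  obtain ⟨d, hd, z, hz, rfl⟩ := h.mem_sup_Z hDG (e.ge (hYY hy))
  have hz' : z ∈ Zc(S) := by
    rw [← h.Z_inf_Cz hA.le hT]
    refine ⟨hz, ?_⟩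
    have h1 : d * z ∈ Cz(A) := Cz_anti hA.le_TJ hy.2
    exact (mul_mem_cancel_left (Cz_anti le_sup_left (hDH hd))).1 h1
  have hd' : d ∈ Zc(TJ 0 S) := (mul_mem_cancel_right (Zc_le_ZJ S hz')).1 hy
  refine mul_mem (mem_sup_right ⟨hd', ?_⟩) (mem_sup_left hz')
  refine le_Cx_iff.1 ((h.O_le_sup hH).trans (sup_le ?_ ?_))
  · exact (CfH7.pResidualOf_le _).trans (le_Cx_iff.2 (hDH hd))
  · exact hL.trans (Cz_le_Cx (mem_sup_left hd'))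

theorem PU.S_nZJ (h : PU p q G S T M) : S ≤ Nm(Zc(TJ 0 S)) :=
  le_normalizer.trans ((Nm_le_Nm_TJ S).trans (Nm_le_Nm_Zc _))

theorem PU.le_Nm_of_O_S (h : PU p q G S T M) {X : Subgroup Γ} (h1 : X ≤ Cz(pResidualOf p G))
    (h2 : S ≤ Nm(X)) : G ≤ Nm(X) := h.le_of_O_S (le_Nm_of_le_Cz h1) h2

theorem PU.le_Cz_of_O_S (h : PU p q G S T M) {X : Subgroup Γ} (h1 : X ≤ Cz(pResidualOf p G))
    (h2 : X ≤ Cz(S)) : X ≤ Cz(G) :=
  CfH7.le_Cz_comm (h.le_of_O_S (CfH7.le_Cz_comm h1) (CfH7.le_Cz_comm h2))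

theorem PU.S_nCzO (h : PU p q G S T M) : S ≤ Nm(Cz(pResidualOf p G)) := h.SG.trans (h.nCz h.nO)

theorem FF.comm_ZJ_le (h : FF p q G S T M) : ⁅Zc(TJ 0 S), S⁆ ≤ Cz(pResidualOf p G) := by
  refine (commutator_mono h.ZJ_le le_rfl).trans (CfH7.commutator_sup_left_le
    (inf_le_left.trans h.S_nCzO) (inf_le_right.trans le_normalizer)
    ((CfH7.comm_eq_bot_left.2 inf_le_right).le.trans bot_le) ?_)
  exact (commutator_mono inf_le_right le_rfl).trans (CfH7.comm_le_left h.S_nCzO)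

/-- Theorem on `[ZJ(S), S]` -/
theorem PU.thmA (h : PU p q G S T M) :
    G ≤ Nm(⁅Zc(TJ 0 S), S⁆ ⊓ Zc(S)) ∨ G ≤ Nm(S ⊓ Cz(Zc(TJ 0 S))) := by
  rcases h.tri with h1 | h1 | h1
  · exact Or.inl (le_Nm_of_le_Cz (inf_le_right.trans h1))
  · exact Or.inr h1.1
  · exact Or.inl (le_Nm_of_le_Cz (h.le_Cz_of_O_S (inf_le_left.trans h1.comm_ZJ_le)
      (inf_le_right.trans inf_le_right)))

theorem PU.thmB (h : PU p q G S T M) :
    G ≤ Nm(powerClosure p 1 Zc(S)) ∨ G ≤ Nm(S ⊓ Cz(Zc(TJ 0 S))) := by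
  rcases h.tri with h1 | h1 | h1
  · refine Or.inl (le_Nm_of_le_Cz ((closure_le _).2 ?_))
    rintro _ ⟨x, hx, rfl⟩
    exact pow_mem (h1 hx) _
  · exact Or.inr h1.1
  · refine Or.inl (le_Nm_of_le_Cz ((closure_le _).2 ?_))
    rintro _ ⟨x, hx, rfl⟩
    rw [pow_one]
    exact (h1.pow_mem_Zg (h.ZS_le_Z hx)).2

theorem PU.baumann (h : PU p q G S T M) (nc : ¬ Zc(S) ≤ Cz(G)) :
    ∃ N : Subgroup Γ, G ≤ Nm(N) ∧ S ⊓ N = S ⊓ Cz(Zc(TJ 0 S)) := by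
  rcases h.tri with h1 | h1 | h1
  · exact absurd h1 nc
  · exact ⟨_, h1.1, by rw [← inf_assoc, inf_idem]⟩
  · refine ⟨Cz(Zc(TJ 0 S) ⊓ Cz(pResidualOf p G)), h.nCz (h.le_Nm_of_O_S inf_le_right
      (CfH7.le_normalizer_inf h.S_nZJ h.S_nCzO)), ?_⟩
    refine le_antisymm (le_inf inf_le_left (le_trans ?_ (Cz_anti h1.ZJ_le)))
      (inf_le_inf_left _ (Cz_anti inf_le_left))
    rw [Cz_sup]
    exact inf_le_inf_right _ (CfH7.le_Cz_comm inf_le_right)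

theorem CD.cl_of_le {P X Y C : Subgroup Γ} (hX : CD P X) (hY : Y ≤ P) (h1 : C ≤ Y) (h2 : C ≤ Cz(Y))
    (h : ms P X ≤ Nat.card Y * Nat.card C) :
    CL P Y ∧ P ⊓ Cz(Y) = C ∧ Nat.card Y * Nat.card C = ms P X := by
  have h3 : C ≤ P ⊓ Cz(Y) := le_inf (h1.trans hY) h2
  have h4 : Nat.card Y * Nat.card C ≤ ms P Y := Nat.mul_le_mul_left _ (card_le_of_le h3)
  have h5 := hX.max Y hY
  have h6 : P ⊓ Cz(Y) = C :=
    (eq_of_le_of_card_ge h3 (Nat.le_of_mul_le_mul_left (h5.trans h) Nat.card_pos)).symm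
  exact ⟨⟨hX.of_le hY (h.trans h4), h6 ▸ h1⟩, h6, le_antisymm (h4.trans h5) h⟩

theorem FF.card_sup_Z (h : FF p q G S T M) {C : Subgroup Γ} (hC : C ≤ G)
    (h1 : C ⊓ Zc(T) = Zc(S)) :
    Nat.card ((C ⊓ T) ⊔ Zc(T) : Subgroup Γ) = q * Nat.card (C ⊓ T : Subgroup Γ) := by
  have h6 := card_sup_mul_card_inf (A := C ⊓ T) (inf_le_left.trans (hC.trans h.nZ))
  rw [inf_assoc, inf_eq_right.2 (inf_le_left : Zc(T) ≤ T), h1, h.card_Z, ← mul_assoc] at h6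
  rw [Nat.eq_of_mul_eq_mul_right Nat.card_pos h6, mul_comm]

/-- a minimal centrally large subgroup outside `T` -/
theorem FF.mcl_out (h : FF p q G S T M) {R : Subgroup Γ} (hR : MCL S R) (hT : ¬ R ≤ T) :
    ¬ S ⊓ Cz(R) ≤ T ∧ MCL S ((R ⊓ T) ⊔ Zc(T)) ∧
      S ⊓ Cz((R ⊓ T) ⊔ Zc(T)) = ((S ⊓ Cz(R)) ⊓ T) ⊔ Zc(T) := by
  have hRS := hR.cl.cd.le
  set C := S ⊓ Cz(R) with hC
  have hCR : C ≤ R := hR.cl.cz
  have hZC : Zc(S) ≤ C := inf_le_inf_left _ (Cz_anti hRS)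
  have c1 : C ⊓ Zc(T) = Zc(S) := by
    refine le_antisymm ?_ (le_inf hZC h.ZS_le_Z)
    rw [← h.Z_inf_Cz hRS hT]
    exact le_inf inf_le_right (inf_le_left.trans inf_le_right)
  have c2 := h.card_sup_Z (inf_le_left.trans h.SG) c1
  have l1 : (R ⊓ T) ⊔ Zc(T) ≤ S := sup_le (inf_le_left.trans hRS) h.Z_le_S
  have l2 : (C ⊓ T) ⊔ Zc(T) ≤ (R ⊓ T) ⊔ Zc(T) := sup_le_sup_right (inf_le_inf_right _ hCR) _
  have l3 : (C ⊓ T) ⊔ Zc(T) ≤ Cz((R ⊓ T) ⊔ Zc(T)) := by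
    refine sup_le ?_ (inf_le_right.trans (Cz_anti (sup_le inf_le_right inf_le_left)))
    rw [Cz_sup]
    exact inf_le_inf (inf_le_right.trans (Cz_anti inf_le_left)) (CfH7.le_Cz_comm inf_le_right)
  have r1 := h.card_sup_le hRS
  have hCT : ¬ C ≤ T := by
    intro hCT
    rw [inf_eq_left.2 hCT] at c2
    have m1 : ms S R ≤ Nat.card (R ⊓ T : Subgroup Γ) * Nat.card (C ⊔ Zc(T) : Subgroup Γ) := by
      rw [c2, ms, ← hC, ← mul_assoc, mul_comm _ q]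
      exact Nat.mul_le_mul_right _ r1
    rw [inf_eq_left.2 hCT] at l2 l3
    obtain ⟨k1, -, k3⟩ := hR.cl.cd.cl_of_le l1 l2 l3
      (m1.trans (Nat.mul_le_mul_right _ (card_le_of_le le_sup_left)))
    have k4 := eq_of_le_of_card_ge (le_sup_left (a := R ⊓ T) (b := Zc(T)))
      (Nat.le_of_mul_le_mul_right (k3.le.trans m1) Nat.card_pos)
    rw [← k4] at k1
    exact hT (inf_eq_left.1 (hR.min _ inf_le_left k1))
  have c3 : R ⊓ Zc(T) = Zc(S) := by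
    refine le_antisymm ?_ (le_inf (hZC.trans hCR) h.ZS_le_Z)
    rw [← h.Z_inf_Cz inf_le_left hCT]
    exact le_inf inf_le_right (inf_le_left.trans (CfH7.le_Cz_comm inf_le_right))
  have c4 := h.card_sup_Z (hRS.trans h.SG) c3
  have r2 := h.card_sup_le (A := C) inf_le_left
  rw [← c2] at r2
  obtain ⟨k1, k2, k3⟩ := hR.cl.cd.cl_of_le l1 l2 l3 (Nat.mul_le_mul (c4 ▸ r1) r2)
  refine ⟨hCT, hR.of_card_le k1 ?_, k2⟩
  exact Nat.le_of_mul_le_mul_right (k3.le.trans (Nat.mul_le_mul_left _ r2)) Nat.card_pos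

/-- the join of the minimal centrally large subgroups -/
def mclJoin (P : Subgroup Γ) : Subgroup Γ := sSup {X | MCL P X}

theorem PU.mcl_cj (h : PU p q G S T M) {R : Subgroup Γ} (hR : MCL S R) (hT : R ≤ T) {g : Γ}
    (hg : g ∈ G) : MCL S (cj g R) :=
  MCL.up hR.cl h.TS hT ((hR.down h.TS hT).cj_of_mem (h.nT hg))

theorem PU.thmC (h : PU p q G S T M) (hJ : S ≤ Cz(Zc(TJ 0 S))) {Q : Subgroup Γ} (hQ : MCL S Q) :
    G ≤ Nm(Zc(S) ⊓ ⁅Q, Q⁆) ∨ G ≤ Nm(mclJoin S) := by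
  by_cases nc : Zc(S) ≤ Cz(G)
  · exact Or.inl (le_Nm_of_le_Cz (inf_le_left.trans nc))
  have h' := h.ff nc hJ
  by_cases hall : ∀ R, MCL S R → R ≤ T
  · refine Or.inr fun g hg => mem_normalizer_of_cj_le ?_
    rw [cj_le_iff]
    exact sSup_le fun R hR => cj_le_iff.1 (le_sSup (h.mcl_cj hR (hall R hR) hg))
  push Not at hall
  obtain ⟨R, hR, hT⟩ := hall
  obtain ⟨h1, h2, -⟩ := h'.mcl_out hR hT
  refine Or.inl (le_Nm_of_le_Cz (h.le_Cz_of_O_S (inf_le_right.trans (CfH7.le_Cz_comm ?_))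
    (inf_le_left.trans inf_le_right)))
  obtain ⟨a, ha, haT⟩ := SetLike.not_le_iff_exists.1 h1
  refine h.O_le (h.nCz fun g hg => ?_) ha.1 haT ?_
  · rw [mem_normalizer_iff_cj, hQ.commutator_eq h2, cj_commutator]
    exact (h.mcl_cj h2 (sup_le inf_le_right inf_le_left) hg).commutator_eq h2
  · rw [hQ.commutator_eq hR]
    exact Cz_anti (CfH7.comm_le_left le_normalizer) ha.2

/-- minimal centrally large subgroups with largest `Ω₁(Z(Q))` -/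
def MZ (p : ℕ) (P Q : Subgroup Γ) : Prop :=
  MCL P Q ∧ ∀ R, MCL P R → Nat.card (OZ p R) ≤ Nat.card (OZ p Q)

/-- the join of their Frattini subgroups -/
def phiJoin (p : ℕ) (P : Subgroup Γ) : Subgroup Γ := sSup {X | ∃ Q, MZ p P Q ∧ Phi Q = X}

theorem FF.mz_out (h : FF p q G S T M) {Q : Subgroup Γ} (hQ : MZ p S Q) (hT : ¬ Q ≤ T) :
    ∃ Q₀, MZ p S Q₀ ∧ Q₀ ≤ T ∧ Phi Q ≤ Phi Q₀ := by
  obtain ⟨h1, h2, h3⟩ := h.mcl_out hQ.1 hT
  have hQS := hQ.1.cl.cd.le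
  set W := omegaOne p Zc(T) with hW
  have hWZ : W ≤ Zc(T) := CfH7.omegaOne_le _
  have w1 : W ⊔ Zc(S) = Zc(T) := by
    refine le_antisymm (sup_le hWZ h.ZS_le_Z) ?_
    rw [← h.comm_O_sup]
    exact sup_le_sup (CfH7.elemAb_le_omegaOne h.elemAb_comm
      (CfH7.comm_le_left (h.OG.trans h.nZ))) h.Zg_le_ZS
  have w2 := card_sup_mul_card_inf (A := W) (B := Zc(S))
    (hWZ.trans (h.Z_le_S.trans (le_normalizer.trans (Nm_le_Nm_Zc S))))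
  rw [w1, h.card_Z, mul_right_comm] at w2
  have w3 := Nat.eq_of_mul_eq_mul_right Nat.card_pos w2
  have hcz : OZ p Q ⊓ T ≤ Cz(W) := inf_le_right.trans (CfH7.le_Cz_comm (hWZ.trans inf_le_right))
  have w4 := card_sup_mul_card_inf (hcz.trans (Cz_le_Nm _))
  have w5 : OZ p Q ⊓ T ⊓ W ≤ W ⊓ Zc(S) := by
    refine le_inf inf_le_right ?_
    rw [← h.Z_inf_Cz hQS hT]
    exact le_inf (inf_le_right.trans hWZ) (inf_le_left.trans (inf_le_left.trans (CfH7.OZ_le_Cz Q)))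
  have w6 : (OZ p Q ⊓ T) ⊔ W ≤ OZ p ((Q ⊓ T) ⊔ Zc(T)) := by
    refine CfH7.le_OZ (CfH7.elemAb_sup (CfH7.elemAb_of_le inf_le_left (CfH7.elemAb_OZ Q))
      (CfH7.elemAb_omegaOne h.commZ) hcz)
      (sup_le_sup (inf_le_inf_right _ (CfH7.OZ_le Q)) hWZ) ?_
    refine le_trans ?_ (h3.ge.trans inf_le_right)
    exact sup_le_sup (inf_le_inf_right _ (le_inf ((CfH7.OZ_le Q).trans hQS) (CfH7.OZ_le_Cz Q))) hWZ
  have w7 : q * Nat.card (OZ p Q ⊓ T : Subgroup Γ) ≤ Nat.card (OZ p ((Q ⊓ T) ⊔ Zc(T))) := by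
    refine le_trans ?_ (card_le_of_le w6)
    refine Nat.le_of_mul_le_mul_right (c := Nat.card (W ⊓ Zc(S) : Subgroup Γ)) ?_ Nat.card_pos
    calc _ = Nat.card (OZ p Q ⊓ T : Subgroup Γ) * Nat.card W := by rw [← w3]; ring
      _ = _ := w4.symm
      _ ≤ _ := Nat.mul_le_mul_left _ (card_le_of_le w5)
  have hO : OZ p Q ≤ S := (CfH7.OZ_le Q).trans hQS
  have w8 := h.sup_eq_of_card hO (w7.trans (hQ.2 _ h2))
  refine ⟨_, ⟨h2, fun R hR => (hQ.2 R hR).trans ((h.card_sup_le hO).trans w7)⟩,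
    sup_le inf_le_right inf_le_left, le_trans ?_ (CfH1.frattiniOf_mono_of_isPGroup
      (h.pS.to_le h2.cl.cd.le) le_sup_left)⟩
  have dec : ∀ x ∈ Q, ∃ w ∈ OZ p Q, ∃ t ∈ Q ⊓ T, w * t = x := by
    intro x hx
    obtain ⟨w, hw, t, ht, rfl⟩ := h.mem_of_sup_eq w8 (hQS hx)
    exact ⟨w, hw, t, ⟨(mul_mem_cancel_left (CfH7.OZ_le Q hw)).1 hx, ht⟩, rfl⟩
  have hp' : IsPGroup p (Q ⊓ T : Subgroup Γ) := h.pT.to_inf_right
  refine CfH1.frattiniOf_le_of_commutator_le_of_pow_mem (p := p) ?_ ?_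
  · rw [commutator_le]
    intro x hx y hy
    obtain ⟨w, hw, t, ht, rfl⟩ := dec x hx
    obtain ⟨w', hw', t', ht', rfl⟩ := dec y hy
    have e1 := CfH7.OZ_le_Cz Q hw
    have e2 := CfH7.OZ_le_Cz Q hw'
    have e3 : ⁅t, w' * t'⁆ ∈ Q := commutator_mem_left ht.1 (le_normalizer hy)
    have e4 : ⁅t, t'⁆ ∈ Q := commutator_mem_left ht.1 (le_normalizer ht'.1)
    rw [comm_mul_left' (cz_comm e1 e3), comm_eq_one e1 hy, mul_one, comm_mul_right' (cz_comm e2 e4),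
      comm_eq_one' e2 ht.1, one_mul]
    exact CfH1.commutator_le_frattiniOf hp'.isNilpotent (commutator_mem_commutator ht ht')
  · intro x hx
    obtain ⟨w, hw, t, ht, rfl⟩ := dec x hx
    rw [Commute.mul_pow (cz_comm (CfH7.OZ_le_Cz Q hw) ht.1), (CfH7.mem_OZ.1 hw).2, one_mul]
    exact CfH1.pow_mem_frattiniOf hp' ht

theorem PU.thmD (h : PU p q G S T M) (hJ : S ≤ Cz(Zc(TJ 0 S))) :
    G ≤ Nm(Zc(S)) ∨ G ≤ Nm(phiJoin p S) := by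
  by_cases nc : Zc(S) ≤ Cz(G)
  · exact Or.inl (le_Nm_of_le_Cz nc)
  have h' := h.ff nc hJ
  refine Or.inr fun g hg => mem_normalizer_of_cj_le ?_
  rw [cj_le_iff]
  refine sSup_le ?_
  rintro _ ⟨Q, hQ, rfl⟩
  have : ∃ Q₀, MZ p S Q₀ ∧ Q₀ ≤ T ∧ Phi Q ≤ Phi Q₀ := by
    by_cases hT : Q ≤ T
    · exact ⟨Q, hQ, hT, le_rfl⟩
    · exact h'.mz_out hQ hT
  obtain ⟨Q₀, h1, h2, h3⟩ := this
  refine h3.trans (cj_le_iff.1 (le_sSup ⟨cj g Q₀, ⟨h.mcl_cj h1.1 h2 hg, fun R hR => ?_⟩,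
    (cj_Phi g Q₀).symm⟩))
  rw [← CfH7.cj_OZ, card_cj]
  exact h1.2 R hR

end CfLp
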