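import Cfsg.Agent.OD.Pre
import Cfsg.Agent.L.PU3

/-! Pushing up when the large abelian subgroups belong to the Chermak–Delgado lattice. -/

set_option autoImplicit false
set_option linter.unusedSectionVars false
set_option linter.unusedVariables false

open Cfsg Subgroup CfH9
open CfH8 (ms)
open CfH7 (secCz mem_secCz)
open scoped commutatorElement

namespace CfLp

scoped notation "Op(" p ", " G ")" => Cfsg.pResidualOf p G

variable {Γ : Type*} [Group Γ] {Γ' : Type*} [Group Γ']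

/-- `S = J(S)`, large abelian subgroups are in the Chermak–Delgado lattice, `Z(S)` elementary -/
structure CDS (p : ℕ) (S : Subgroup Γ) : Prop where
  cdA : ∀ A, MaxEA 0 S A → CD S A
  JS : TJ 0 S = S
  elem : ∀ z ∈ Zc(S), z ^ p = 1

theorem CDS.map {p : ℕ} {S : Subgroup Γ} (h : CDS p S) {f : Γ →* Γ'} (hf : Function.Injective f) :
    CDS p (S.map f) where
  cdA := fun A hA => by
    have e := eq_map_comap hA.le
    rw [← e] at hA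
    rw [← e]
    exact (cd_map_iff hf).2 (h.cdA _ ((maxEA_map_iff hf).1 hA))
  JS := by rw [← map_TJ_of_injective hf, h.JS]
  elem := by
    rw [← map_inf_Cz hf]
    rintro _ ⟨z, hz, rfl⟩
    rw [← map_pow, h.elem z hz, map_one]

theorem secCz_sup {A B U : Subgroup Γ} (hA : A ≤ Nm(U)) (hB : B ≤ Nm(U)) {x : Γ}
    (h1 : x ∈ secCz A U) (h2 : x ∈ secCz B U) : x ∈ secCz (A ⊔ B) U := by
  have : zpowers x ≤ secCz (A ⊔ B) U := CfH7.le_secCz (zpowers_le.2 h1.1)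
    (CfH7.commutator_sup_left_le hA hB (CfH7.commutator_le_of_le_secCz (zpowers_le.2 h1))
      (CfH7.commutator_le_of_le_secCz (zpowers_le.2 h2)))
  exact this (mem_zpowers x)

theorem secCz_anti {A B U : Subgroup Γ} (h : A ≤ B) : secCz B U ≤ secCz A U :=
  fun x hx => ⟨hx.1, fun r hr => hx.2 r (h hr)⟩

theorem mem_secCz_zpowers {a x : Γ} {U : Subgroup Γ} (ha : a ∈ Nm(U)) (hx : x ∈ Nm(U))
    (h : ⁅a, x⁆ ∈ U) : x ∈ secCz (zpowers a) U :=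
  CfH7.le_secCz (zpowers_le.2 hx) (CfH8.commutator_zpowers_le ha hx h) (mem_zpowers x)

variable [Finite Γ]

theorem CDS.cdS {p : ℕ} {S : Subgroup Γ} (h : CDS p S) : CD S S := by
  have e : sSup {A | MaxEA 0 S A} = S :=
    le_antisymm (sSup_le fun A hA => hA.le) (h.JS.ge.trans (TJ_le_iff.2 fun A hA => le_sSup hA))
  have := cd_sSup (P := S) (s := {A | MaxEA 0 S A}) (exists_maxEA 0 S) fun A hA => h.cdA A hA
  rwa [e] at this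

/-- the pushing-up situation over such an `S` with `Z(S)` not central -/
structure CS (p q : ℕ) (G S T M : Subgroup Γ) : Prop extends FF p q G S T M, CDS p S

variable {p q : ℕ} {G S T M : Subgroup Γ} [hp : Fact p.Prime]

theorem PU.cs (h : PU p q G S T M) (nc : ¬ Zc(S) ≤ Cz(G)) (hc : CDS p S) : CS p q G S T M where
  toFF := h.ff nc (by rw [hc.JS]; exact CfH7.le_Cz_comm inf_le_right)
  toCDS := hc

theorem CS.conj' (h : CS p q G S T M) {g : Γ} (hg : g ∈ G) : CS p q G (cj g S) T (cj g M) where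
  toFF := h.toFF.conj' hg
  toCDS := h.toCDS.map (MulAut.conj g).injective

theorem CS.exA0 (h : CS p q G S T M) : ∃ A, MaxEA 0 S A ∧ A ≤ T := by
  obtain ⟨A, hA, hT⟩ := h.exA
  exact ⟨_, (h.large hA hT).2.2.2, sup_le inf_le_right inf_le_left⟩

theorem CS.up (h : CS p q G S T M) {X : Subgroup Γ} (hX : CD T X) :
    CD S X ∧ S ⊓ Cz(X) = T ⊓ Cz(X) := by
  obtain ⟨A, hA, hT⟩ := h.exA0
  exact (h.cdA A hA).up h.TS hT (hA.inf_Cz_zero.le.trans hT) hX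

theorem CS.down (h : CS p q G S T M) {X : Subgroup Γ} (hX : CD S X) (h1 : X ≤ T)
    (h2 : Zc(T) ≤ X) : CD T X :=
  hX.down h.TS h1 ((inf_le_inf_left _ (Cz_anti h2)).trans (h.S_inf_CzZ h.nc).le)

theorem CS.cdST (h : CS p q G S T M) : CD S T := by
  refine h.cdS.of_le h.TS (le_of_eq ?_)
  rw [ms, ms, h.S_inf_CzT, h.card_Z, h.card]; ring

theorem CS.cdT (h : CS p q G S T M) : CD T T := h.down h.cdST le_rfl inf_le_left

theorem CS.cdZ (h : CS p q G S T M) : CD T Zc(T) := h.cdT.cz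

theorem CS.Z_le (h : CS p q G S T M) {X : Subgroup Γ} (hX : CD T X) : Zc(T) ≤ X := by
  rw [← hX.cz_cz]; exact inf_le_inf_left _ (Cz_anti inf_le_left)

theorem CS.sup_T (h : CS p q G S T M) {X : Subgroup Γ} (hX : CD S X) (hT : ¬ X ≤ T) :
    X ⊔ T = S := by
  have h1 := (hX.sup h.cdST).cz_cz
  rw [Cz_sup, inf_comm Cz(X), ← inf_assoc, h.S_inf_CzT, h.Z_inf_Cz hX.le hT] at h1
  rw [← h1]
  exact inf_eq_left.2 (CfH7.le_Cz_comm inf_le_right)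

theorem CS.elemZ (h : CS p q G S T M) {z : Γ} (hz : z ∈ Zc(T)) : z ^ p = 1 := by
  obtain ⟨g, hg, hM⟩ := h.ex
  obtain ⟨u, hu, v, hv, rfl⟩ := h.exists_mul hg hM hz
  rw [Commute.mul_pow (h.zcomm (h.ZS_le_Z hu) (h.ZS_cj_le_Z hg hv).1), h.elem u hu,
    (h.conj' hg).elem v hv, one_mul]

theorem CS.le_Nm_of_cd (h : CS p q G S T M) {A X : Subgroup Γ} (hA : MaxEA 0 S A) (hX : CD T X)
    (h1 : A ⊓ T ≤ X) : A ≤ Nm(X) := by
  intro a ha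
  refine mem_normalizer_of_conj_mem fun x hx => ?_
  have h2 : a * x * a⁻¹ ∈ X ⊔ A :=
    mul_mem (mul_mem (mem_sup_right ha) (mem_sup_left hx)) (mem_sup_right (inv_mem ha))
  obtain ⟨y, hy, b, hb, e⟩ := (h.up hX).1.mem_sup (h.cdA A hA) h2
  have h3 : y * b ∈ T := e ▸ conj_mem_of_mem_normalizer (h.SnT (hA.le ha)) (hX.le hx)
  rw [e]
  exact mul_mem hy (h1 ⟨hb, (mul_mem_cancel_left (hX.le hy)).1 h3⟩)

theorem CS.maxT (h : CS p q G S T M) {A : Subgroup Γ} (hA : MaxEA 0 T A) : MaxEA 0 S A := by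
  obtain ⟨B, hB, hT⟩ := h.exA0
  exact hB.of_le hT h.TS hA

theorem CS.cd_maxT (h : CS p q G S T M) {A : Subgroup Γ} (hA : MaxEA 0 T A) : CD T A :=
  h.down (h.cdA A (h.maxT hA)) hA.le
    ((inf_le_inf_left _ (Cz_anti hA.le)).trans hA.inf_Cz_zero.le)

/-- two large abelian subgroups generating `G` modulo `T` -/
structure PD (p q : ℕ) (G T : Subgroup Γ) where
  S : Subgroup Γ
  M : Subgroup Γ
  S' : Subgroup Γ
  M' : Subgroup Γ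
  A : Subgroup Γ
  B : Subgroup Γ
  A₀ : Subgroup Γ
  B₀ : Subgroup Γ
  E : Subgroup Γ
  H : Subgroup Γ
  D : Subgroup Γ
  Y : Subgroup Γ
  g : Γ
  cs : CS p q G S T M
  hS' : S' = cj g S
  hM' : M' = cj g M
  hB : B = cj g A
  hA : MaxEA 0 S A
  hT : ¬ A ≤ T
  hH : H = A ⊔ B
  gH : g ∈ H
  gG : g ∈ G
  gM : g ∉ M
  min : ∀ g' ∈ G, g' ∉ M → Nat.card H ≤ Nat.card (A ⊔ cj g' A : Subgroup Γ)
  hA₀ : A₀ = (A ⊓ T) ⊔ Zc(T)
  hB₀ : B₀ = (B ⊓ T) ⊔ Zc(T)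
  hE : E = A₀ ⊔ B₀
  hD : D = A ⊓ B
  hY : Y = A₀ ⊓ B₀

theorem CS.exists_pd (h : CS p q G S T M) {A : Subgroup Γ} (hA : MaxEA 0 S A) (hT : ¬ A ≤ T) :
    ∃ d : PD p q G T, d.S = S ∧ d.M = M ∧ d.A = A := by
  obtain ⟨g₀, hg₀, hm⟩ := Set.exists_min_image {g : Γ | g ∈ G ∧ g ∉ M}
    (fun g => Nat.card (A ⊔ cj g A : Subgroup Γ)) (Set.toFinite _) h.ex
  obtain ⟨a, ha, haT⟩ := SetLike.not_le_iff_exists.1 hT
  have h1 : g₀ * a * g₀⁻¹ ∈ A ⊔ cj g₀ A := mem_sup_right (conj_mem_cj g₀ ha)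
  have h2 := h.conj_notMem hg₀.1 hg₀.2 (hA.le ha) haT
  have h3 : g₀ * a * g₀⁻¹ ∈ G := (h.conj' hg₀.1).SG (conj_mem_cj g₀ (hA.le ha))
  set g := g₀ * a * g₀⁻¹
  have h4 : A ⊔ cj g A ≤ A ⊔ cj g₀ A :=
    sup_le le_sup_left ((cj_mono g le_sup_left).trans (cj_eq_of_mem h1).le)
  have h5 := eq_of_le_of_card_ge h4 (hm g ⟨h3, h2⟩)
  exact ⟨⟨S, M, _, _, A, _, _, _, _, _, _, _, g, h, rfl, rfl, rfl, hA, hT, rfl, h5 ▸ h1, h3, h2,
    fun g' a b => h5 ▸ hm g' ⟨a, b⟩, rfl, rfl, rfl, rfl, rfl⟩, rfl, rfl, rfl⟩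

namespace PD

variable (d : PD p q G T)

/-- exchanging the roles of `A` and `B` -/
def symm : PD p q G T where
  S := d.S'
  M := d.M'
  S' := d.S
  M' := d.M
  A := d.B
  B := d.A
  A₀ := d.B₀
  B₀ := d.A₀
  E := d.E
  H := d.H
  D := d.D
  Y := d.Y
  g := d.g⁻¹
  cs := by rw [d.hS', d.hM']; exact d.cs.conj' d.gG
  hS' := by rw [d.hS', cj_inv_cj]
  hM' := by rw [d.hM', cj_inv_cj]
  hB := by rw [d.hB, cj_inv_cj]
  hA := by rw [d.hS', d.hB]; exact d.hA.conj _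
  hT := by rw [d.hB, cj_le_iff, d.cs.cjT (inv_mem d.gG)]; exact d.hT
  hH := by rw [d.hH, sup_comm]
  gH := inv_mem d.gH
  gG := inv_mem d.gG
  gM := by rw [d.hM', mem_cj, mul_assoc, inv_mul_cancel, mul_one, inv_mem_iff]; exact d.gM
  min := fun g' h1 h2 => by
    rw [d.hM', mem_cj] at h2
    refine (d.min _ (mul_mem (mul_mem (inv_mem d.gG) h1) d.gG) h2).trans (le_of_eq ?_)
    rw [← card_cj d.g, cj_sup, ← cj_mul, d.hB, ← cj_mul]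
    congr 4; group
  hA₀ := d.hB₀
  hB₀ := d.hA₀
  hE := by rw [d.hE, sup_comm]
  hD := by rw [d.hD, inf_comm]
  hY := by rw [d.hY, inf_comm]

theorem cs' : CS p q G d.S' T d.M' := d.symm.cs
theorem AH : d.A ≤ d.H := d.hH ▸ le_sup_left
theorem BH : d.B ≤ d.H := d.symm.AH
theorem AS : d.A ≤ d.S := d.hA.le
theorem AG : d.A ≤ G := d.AS.trans d.cs.SG
theorem HG : d.H ≤ G := d.hH ▸ sup_le d.AG d.symm.AG
theorem A_sup : d.A ⊔ T = d.S := (d.cs.large d.hA d.hT).1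
theorem H_sup : d.H ⊔ T = G := by
  rw [d.hH, d.hB]; exact d.cs.sup_cj_sup d.A_sup d.gG d.gM
theorem maxA₀ : MaxEA 0 d.S d.A₀ := d.hA₀ ▸ (d.cs.large d.hA d.hT).2.2.2
theorem A₀T : d.A₀ ≤ T := d.hA₀ ▸ sup_le inf_le_right inf_le_left
theorem B₀T : d.B₀ ≤ T := d.symm.A₀T
theorem ZA₀ : Zc(T) ≤ d.A₀ := d.hA₀ ▸ le_sup_right
theorem ZB₀ : Zc(T) ≤ d.B₀ := d.symm.ZA₀
theorem AT_le : d.A ⊓ T ≤ d.A₀ := d.hA₀ ▸ le_sup_left
theorem maxTA₀ : MaxEA 0 T d.A₀ := d.maxA₀.mono d.A₀T d.cs.TS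
theorem cdA₀ : CD T d.A₀ := d.cs.cd_maxT d.maxTA₀
theorem cdB₀ : CD T d.B₀ := d.symm.cdA₀
theorem commA₀ : d.A₀ ≤ Cz(d.A₀) := le_Cz_of_comm d.maxA₀.comm
theorem commB₀ : d.B₀ ≤ Cz(d.B₀) := d.symm.commA₀
theorem cj_A₀ : cj d.g d.A₀ = d.B₀ := by
  rw [d.hA₀, d.hB₀, cj_sup, cj_inf, cj_Zc, d.cs.cjT d.gG, d.hB]
theorem A₀E : d.A₀ ≤ d.E := d.hE ▸ le_sup_left
theorem B₀E : d.B₀ ≤ d.E := d.symm.A₀E
theorem ET : d.E ≤ T := d.hE ▸ sup_le d.A₀T d.B₀T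
theorem EG : d.E ≤ G := d.ET.trans d.cs.TG
theorem YA₀ : d.Y ≤ d.A₀ := d.hY ▸ inf_le_left
theorem YB₀ : d.Y ≤ d.B₀ := d.symm.YA₀
theorem YE : d.Y ≤ d.E := d.YA₀.trans d.A₀E
theorem ZY : Zc(T) ≤ d.Y := d.hY ▸ le_inf d.ZA₀ d.ZB₀
theorem cdE : CD T d.E := d.hE ▸ d.cdA₀.sup d.cdB₀
theorem cdY : CD T d.Y := d.hY ▸ d.cdA₀.inf d.cdB₀
theorem czE : T ⊓ Cz(d.E) = d.Y := by
  rw [d.hE, d.hY, Cz_sup, inf_inf_distrib_left, d.maxTA₀.inf_Cz_zero]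
  exact congrArg _ d.symm.maxTA₀.inf_Cz_zero
theorem czY : T ⊓ Cz(d.Y) = d.E := by rw [← d.czE]; exact d.cdE.cz_cz
theorem Y_cz : d.Y ≤ Cz(d.E) := d.czE ▸ inf_le_right
theorem mem_E {e : Γ} (he : e ∈ d.E) : ∃ a ∈ d.A₀, ∃ b ∈ d.B₀, e = a * b :=
  d.cdA₀.mem_sup d.cdB₀ (d.hE ▸ he)
theorem H_Nm {X : Subgroup Γ} (hX : CD T X) (h : d.E ≤ X) : d.H ≤ Nm(X) :=
  d.hH ▸ sup_le (d.cs.le_Nm_of_cd d.hA hX (d.AT_le.trans (d.A₀E.trans h)))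
    (d.cs'.le_Nm_of_cd d.symm.hA hX (d.symm.AT_le.trans (d.B₀E.trans h)))
theorem H_nE : d.H ≤ Nm(d.E) := d.H_Nm d.cdE le_rfl
theorem H_nT : d.H ≤ Nm(T) := d.HG.trans d.cs.nT
theorem H_nZ : d.H ≤ Nm(Zc(T)) := d.HG.trans d.cs.nZ
theorem H_nY : d.H ≤ Nm(d.Y) :=
  d.czE ▸ CfH7.le_normalizer_inf d.H_nT (d.H_nE.trans (Nm_le_Nm_Cz _))
theorem DA : d.D ≤ d.A := d.hD ▸ inf_le_left
theorem DB : d.D ≤ d.B := d.symm.DA
theorem DT : d.D ≤ T := fun x hx =>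
  d.cs.inf_cj_le d.gG d.gM (d.AS (d.DA hx)) (d.hS' ▸ d.symm.AS (d.DB hx))
theorem DY : d.D ≤ d.Y :=
  d.hY ▸ le_inf ((le_inf d.DA d.DT).trans d.AT_le) ((le_inf d.DB d.DT).trans d.symm.AT_le)
theorem DG : d.D ≤ G := d.DT.trans d.cs.TG
theorem D_cz : d.D ≤ Cz(d.H) := by
  rw [d.hH, Cz_sup]
  exact le_inf (d.DA.trans (le_Cz_of_comm d.hA.comm)) (d.DB.trans (le_Cz_of_comm d.symm.hA.comm))
theorem D_sup : d.D ⊔ Zc(T) = d.Y := by
  have := d.cs.eq_sup_Z d.hA d.hT d.gG d.gM (comm_of_le d.YA₀ d.maxA₀.comm) d.ZY (d.YE.trans d.ET)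
    (d.AT_le.trans (d.commA₀.trans (Cz_anti d.YA₀)))
    (by rw [← d.hB]; exact d.symm.AT_le.trans (d.commB₀.trans (Cz_anti d.YB₀)))
  rwa [← d.hB, ← d.hD, inf_eq_right.2 d.DY] at this
theorem mem_Y {y : Γ} (hy : y ∈ d.Y) : ∃ c ∈ d.D, ∃ z ∈ Zc(T), c * z = y :=
  d.cs.mem_sup_Z d.DG (d.D_sup ▸ hy)
theorem czD : T ⊓ Cz(d.D) = d.E := by
  rw [← d.czY, ← d.D_sup, Cz_sup, inf_comm Cz(d.D), ← inf_assoc,
    inf_eq_left.2 (CfH7.le_Cz_comm inf_le_right : T ≤ Cz(Zc(T)))]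
theorem HT_le : d.H ⊓ T ≤ d.E :=
  d.czD ▸ le_inf inf_le_right (inf_le_left.trans (CfH7.le_Cz_comm d.D_cz))
theorem ZS_inf : Zc(d.S) ⊓ Zc(d.S') = Zc(G) := d.hS' ▸ d.cs.inf_ZS_cj d.gG d.gM
theorem A_inf_Z : d.A ⊓ Zc(T) = Zc(d.S) := (d.cs.large d.hA d.hT).2.2.1
theorem D_inf : d.D ⊓ Zc(T) = Zc(G) := by
  rw [d.hD, inf_inf_distrib_right, d.A_inf_Z, ← d.ZS_inf]
  exact congrArg _ d.symm.A_inf_Z
theorem ZgD : Zc(G) ≤ d.D := d.D_inf ▸ inf_le_left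
theorem comm_A₀ : ⁅d.A₀, d.A⁆ ≤ Zc(d.S) := by
  have hn : d.S ≤ Nm(Zc(d.S)) := le_normalizer.trans (Nm_le_Nm_Zc _)
  rw [d.hA₀]
  refine CfH7.commutator_sup_left_le ((inf_le_left.trans d.AS).trans hn) (d.cs.Z_le_S.trans hn)
    ((CfH7.comm_eq_bot_left.2 (inf_le_left.trans (le_Cz_of_comm d.hA.comm))).le.trans bot_le)
    ((commutator_mono le_rfl d.AS).trans d.cs.quad)
theorem comm_Y : ⁅d.Y, d.H⁆ ≤ Zc(T) := by
  rw [← d.D_sup]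
  exact CfH7.commutator_sup_left_le (d.DG.trans d.cs.nZ) le_normalizer
    ((CfH7.comm_eq_bot_left.2 d.D_cz).le.trans bot_le) (CfH7.comm_le_left d.H_nZ)

theorem OH_le : Op(p, d.H) ≤ d.H := CfH7.pResidualOf_le _
theorem OH_le_O : Op(p, d.H) ≤ Op(p, G) := CfH7.pResidualOf_mono d.HG
theorem O_le : Op(p, G) ≤ Op(p, d.H) ⊔ ⁅T, Op(p, G)⁆ := d.cs.O_le_sup d.H_sup

end PD

theorem PU.nL (h : PU p q G S T M) : G ≤ Nm(⁅T, Op(p, G)⁆) :=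
  CfH7.le_normalizer_commutator h.nT h.nO
theorem PU.LT (h : PU p q G S T M) : ⁅T, Op(p, G)⁆ ≤ T := CfH7.comm_le_left (h.OG.trans h.nT)
theorem PU.LG (h : PU p q G S T M) : ⁅T, Op(p, G)⁆ ≤ G := h.LT.trans h.TG
theorem PU.LO (h : PU p q G S T M) : ⁅T, Op(p, G)⁆ ≤ Op(p, G) :=
  CfH7.comm_le_right (h.TG.trans h.nO)
theorem PU.L_idem (h : PU p q G S T M) : ⁅⁅T, Op(p, G)⁆, Op(p, G)⁆ = ⁅T, Op(p, G)⁆ :=
  CfH7.commutator_pResidualOf_idem h.pT h.nT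

namespace PD

variable (d : PD p q G T)

theorem L_le_comm : ⁅T, Op(p, G)⁆ ≤ ⁅⁅T, Op(p, G)⁆, Op(p, d.H)⁆ := by
  have hL := d.cs.nL
  have hpL : IsPGroup p (⁅T, Op(p, G)⁆ : Subgroup Γ) := d.cs.pT.to_le d.cs.LT
  have hI := d.cs.L_idem
  have hO := d.O_le
  have h1 : Op(p, d.H) ≤ Nm(⁅T, Op(p, G)⁆) := (d.OH_le.trans d.HG).trans hL
  set L := ⁅T, Op(p, G)⁆
  have h2 : ⁅L, Op(p, d.H)⁆ ≤ L := CfH7.comm_le_left h1
  obtain ⟨k, hk⟩ := CfH8.exists_iterCommutator_eq_bot hpL hpL le_normalizer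
  refine CfH8.le_of_le_sup_commutator (h2.trans le_normalizer) (h2.trans le_normalizer)
    (CfH7.left_le_Nm_comm _ _) hk (hI.ge.trans ((commutator_mono le_rfl hO).trans ?_))
  refine CfH7.commutator_sup_right_le ?_ ?_ le_sup_left le_sup_right
  · exact CfH7.le_normalizer_sup (CfH7.right_le_Nm_comm _ _) (CfH7.le_normalizer_commutator h1 h1)
  · exact CfH7.le_normalizer_sup (CfH7.left_le_Nm_comm _ _) (CfH7.left_le_Nm_comm _ _)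

theorem OH_not : ¬ ⁅Zc(T), Op(p, d.H)⁆ ≤ Zc(G) := by
  intro h
  have h1 : Op(p, d.H) ≤ Cz(Zc(T)) := CfH7.pResidualOf_le_Cz_of_le' (d.cs.pT.to_le inf_le_left)
    d.H_nZ h ((d.OH_le.trans d.HG).trans (CfH7.le_Cz_comm inf_le_right))
  refine d.cs.Zg_ne ?_
  rw [← d.cs.Z_inf_CzO]
  exact le_inf le_rfl (CfH7.le_Cz_comm (d.O_le.trans
    (sup_le h1 (d.cs.LT.trans (CfH7.le_Cz_comm inf_le_right)))))

theorem comm_conj {c h r : Γ} (hc : c ∈ Cz(d.H)) (hh : h ∈ d.H) :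
    ⁅c, h * r * h⁻¹⁆ = h * ⁅c, r⁆ * h⁻¹ := by
  rw [conj_comm, conj_eq_self (cz_comm hc hh).symm]

theorem comm_comm {c h r : Γ} (hc : c ∈ Cz(d.H)) (hh : h ∈ d.H) (hr : ⁅c, r⁆ ∈ Zc(T))
    (hr' : ⁅h, r⁆ ∈ T) : ⁅c, ⁅h, r⁆⁆ = ⁅h, ⁅c, r⁆⁆ := by
  have := d.comm_conj (r := r) hc hh
  rw [conj_eq_comm_mul h r, comm_mul_right' (cz_comm hr.2 hr').symm, conj_eq_comm_mul h] at this
  exact mul_right_cancel this

theorem surj {R : Subgroup Γ} (hR : R ≤ T) (hn : d.H ≤ Nm(R)) {c : Γ} (hc : c ∈ Cz(d.H))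
    (h1 : ∀ r ∈ R, ⁅c, r⁆ ∈ Zc(T)) {r₀ : Γ} (hr₀ : r₀ ∈ R) (h2 : ⁅c, r₀⁆ ∉ Zc(G)) {z : Γ}
    (hz : z ∈ Zc(T)) : ∃ r ∈ R, ∃ u ∈ Zc(G), z = ⁅c, r⁆ * u := by
  have hm : ∀ r ∈ R, ∀ r' ∈ R, ⁅c, r * r'⁆ = ⁅c, r⁆ * ⁅c, r'⁆ := fun r hr r' hr' =>
    comm_mul_right' (cz_comm (h1 r' hr').2 (hR hr)).symm
  let U : Subgroup Γ :=
    { carrier := {z | ∃ r ∈ R, ∃ u ∈ Zc(G), z = ⁅c, r⁆ * u}
      one_mem' := ⟨1, one_mem _, 1, one_mem _, by simp⟩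
      mul_mem' := by
        rintro _ _ ⟨s, hs, u, hu, rfl⟩ ⟨s', hs', u', hu', rfl⟩
        refine ⟨s * s', mul_mem hs hs', u * u', mul_mem hu hu', ?_⟩
        rw [hm s hs s' hs', mul_assoc, mul_assoc, ← mul_assoc u,
          cz_comm hu.2 (d.cs.Z_le_G (h1 s' hs')), mul_assoc]
      inv_mem' := by
        rintro _ ⟨s, hs, u, hu, rfl⟩
        refine ⟨s⁻¹, inv_mem hs, u⁻¹, inv_mem hu, ?_⟩
        have : ⁅c, s⁻¹⁆ = ⁅c, s⁆⁻¹ := by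
          rw [eq_inv_iff_mul_eq_one, ← hm _ (inv_mem hs) _ hs]; simp
        rw [this, ← cz_comm hu.2 (d.cs.Z_le_G (h1 s hs)), mul_inv_rev] }
  have hUZ : U ≤ Zc(T) := by
    rintro _ ⟨s, hs, u, hu, rfl⟩
    exact mul_mem (h1 s hs) (d.cs.Zg_le_Z hu)
  have hn' : G ≤ Nm(U) := by
    rw [← d.H_sup]
    refine sup_le (fun h hh => mem_normalizer_of_conj_mem ?_)
      (le_Nm_of_le_Cz (hUZ.trans inf_le_right))
    rintro _ ⟨s, hs, u, hu, rfl⟩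
    refine ⟨_, conj_mem_of_mem_normalizer (hn hh) hs, u, hu, ?_⟩
    rw [d.comm_conj hc hh, mul_assoc (h * _), ← cz_comm hu.2 (inv_mem (d.HG hh))]
    group
  rcases d.cs.irred (U := U) (fun u hu => ⟨1, one_mem _, u, hu, by simp⟩) hUZ hn' with e | e
  · exact absurd (e ▸ ⟨r₀, hr₀, 1, one_mem _, by simp⟩) h2
  · exact e.ge hz

theorem L_step {X : Subgroup Γ} (hX : CD T X) (hE : d.E ≤ X) (hn : ⁅T, Op(p, G)⁆ ≤ Nm(X)) :
    ⁅T, Op(p, G)⁆ ≤ X := by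
  have hLT := d.cs.LT
  have hLn := d.cs.nL
  have hLc := d.L_le_comm
  set L := ⁅T, Op(p, G)⁆
  set Y₁ := T ⊓ Cz(X) with hY₁
  have y1 : Y₁ ≤ d.Y := d.czE ▸ inf_le_inf_left _ (Cz_anti hE)
  have y2 : Zc(T) ≤ Y₁ := d.cs.Z_le hX.cz
  set D₁ := d.D ⊓ Y₁ with hD₁
  have y3 : D₁ ⊔ Zc(T) = Y₁ := by
    rw [← CfH7.sup_inf_of_le_normalizer' (d.DG.trans d.cs.nZ) y2, d.D_sup, inf_eq_right.2 y1]
  have hOH : Op(p, d.H) ≤ G := d.OH_le.trans d.HG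
  have hD₁G : D₁ ≤ G := inf_le_left.trans d.DG
  have hD₁H : D₁ ≤ Cz(d.H) := inf_le_left.trans d.D_cz
  have c0 : ⁅D₁, Op(p, d.H)⁆ = ⊥ := CfH7.comm_eq_bot_left.2 (hD₁H.trans (Cz_anti d.OH_le))
  have s1 : ⁅L, D₁⁆ ≤ Zc(T) := by
    refine le_trans (commutator_mono (hLc.trans (commutator_comm _ _).le) le_rfl) ?_
    refine CfH7.three_subgroups (hOH.trans d.cs.nZ) (d.cs.LG.trans d.cs.nZ) (hD₁G.trans d.cs.nZ)
      ?_ (by rw [c0, commutator_bot_left]; exact bot_le)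
    refine le_trans (commutator_mono ?_ d.OH_le) d.comm_Y
    refine (commutator_mono le_rfl inf_le_right).trans ((CfH7.comm_le_right ?_).trans y1)
    exact CfH7.le_normalizer_inf (hLT.trans le_normalizer) (hn.trans (Nm_le_Nm_Cz _))
  have s1' : ∀ c ∈ D₁, ∀ r ∈ L, ⁅c, r⁆ ∈ Zc(T) := fun c hc r hr => comm_mem_of_le' s1 hr hc
  have three : ∀ {R D' : Subgroup Γ}, D' ≤ D₁ → ⁅R, D'⁆ ≤ Zc(G) → ⁅R, Op(p, d.H)⁆ ≤ Cz(D') := by
    intro R D' h1 h2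
    rw [← CfH7.comm_eq_bot_left, commutator_comm R, ← le_bot_iff]
    refine CfH7.three_subgroups_normal ?_ ?_
    · exact (commutator_mono h2 hOH).trans (CfH7.comm_eq_bot_left.2 inf_le_right).le
    · rw [le_bot_iff.1 ((commutator_mono h1 le_rfl).trans c0.le), commutator_bot_left]
  have s2 : ⁅L, D₁⁆ ≤ Zc(G) := by
    by_contra hcon
    obtain ⟨R, ⟨r1, r2, r3⟩, -, rmin⟩ := exists_minimal_le
      (fun R : Subgroup Γ => R ≤ L ∧ d.H ≤ Nm(R) ∧ ¬ ⁅R, D₁⁆ ≤ Zc(G)) ⟨le_rfl, d.HG.trans hLn, hcon⟩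
    have rmin' : ∀ R' ≤ R, d.H ≤ Nm(R') → R' = R ∨ ⁅R', D₁⁆ ≤ Zc(G) := fun R' a b => by
      by_cases hh : ⁅R', D₁⁆ ≤ Zc(G)
      · exact Or.inr hh
      · exact Or.inl (rmin R' ⟨a.trans r1, b, hh⟩ a)
    -- the dichotomy for a single element of `D₁`
    have dich : ∀ c ∈ D₁, ∀ r ∈ R, ⁅c, r⁆ ∈ Zc(G) →
        (∀ r' ∈ R, ⁅c, r'⁆ ∈ Zc(G)) ∨ ∀ c' ∈ D₁, ⁅c', r⁆ ∈ Zc(G) := by
      intro c hc r hr h1
      have hcn : c ∈ Nm(Zc(G)) := d.cs.nZg (hD₁G hc)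
      rcases rmin' (R ⊓ secCz (zpowers c) Zc(G)) inf_le_left (CfH7.le_normalizer_inf r2
        (CfH7.le_Nm_secCz (le_Nm_of_le_Cz (zpowers_le.2 (hD₁H hc))) (d.HG.trans d.cs.nZg)))
        with e | e
      · exact Or.inl fun r' hr' => (inf_eq_left.1 e hr').2 c (mem_zpowers c)
      · exact Or.inr fun c' hc' => comm_mem_of_le' e
          ⟨hr, mem_secCz_zpowers hcn (d.cs.nZg (d.cs.LG (r1 hr))) h1⟩ hc'
    rw [commutator_le] at r3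
    push Not at r3
    obtain ⟨r, hr, c₀, hc₀, h0⟩ := r3
    have h0' : ⁅c₀, r⁆ ∉ Zc(G) := fun hh => h0 (comm_mem_symm hh)
    have hsurj := fun z hz => d.surj (r1.trans hLT) r2 (hD₁H hc₀)
      (fun r hr => s1' c₀ hc₀ r (r1 hr)) hr h0' (z := z) hz
    have ker : ∀ r' ∈ R, ⁅c₀, r'⁆ ∈ Zc(G) → ∀ c' ∈ D₁, ⁅c', r'⁆ ∈ Zc(G) := fun r' hr' hh =>
      (dich c₀ hc₀ r' hr' hh).resolve_left fun hh' => h0' (hh' r hr)
    obtain ⟨v, hv, hv'⟩ := SetLike.not_le_iff_exists.1 d.cs.nc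
    obtain ⟨r₀, hr₀, u₀, hu₀, e₀⟩ := hsurj v (d.cs.ZS_le_Z hv)
    have k1 : ⁅c₀, r₀⁆ ∈ Zc(d.S) :=
      (mul_mem_cancel_right (d.cs.Zg_le_ZS hu₀)).1 (e₀ ▸ hv)
    have k2 : ⁅c₀, r₀⁆ ∉ Zc(G) := fun hh => hv' (e₀ ▸ mul_mem hh hu₀).2
    obtain ⟨a, ha, haT⟩ := SetLike.not_le_iff_exists.1 d.hT
    have k3 : ⁅a, r₀⁆ ∈ R := commutator_mem_right hr₀ (r2 (d.AH ha))
    have k4 : ∀ c ∈ D₁, ⁅c, r₀⁆ ∈ Zc(d.S) := by
      intro c hc
      refine d.cs.mem_ZS_of_comm (s1' c hc r₀ (r1 hr₀)) (d.AS ha) haT ?_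
      rw [← d.comm_comm (hD₁H hc) (d.AH ha) (s1' c hc r₀ (r1 hr₀)) (hLT (r1 k3))]
      refine ker _ k3 ?_ c hc
      rw [d.comm_comm (hD₁H hc₀) (d.AH ha) (s1' c₀ hc₀ r₀ (r1 hr₀)) (hLT (r1 k3)),
        comm_eq_one' k1.2 (d.AS ha)]
      exact one_mem _
    set DR := D₁ ⊓ secCz R Zc(G) with hDR
    have hD₁T : D₁ ≤ T := inf_le_left.trans d.DT
    have n1 : Nat.card D₁ ≤ q * Nat.card DR := by
      have := card_le_of_fibers (S := D₁) (T := secCz R Zc(G)) (fun c => ⁅c, r₀⁆) k4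
        d.cs.Zg_le_ZS (fun c hc c' hc' hh => by
          have hcc := mul_mem (inv_mem hc) hc'
          have e : ⁅c⁻¹ * c', r₀⁆ = ⁅c, r₀⁆⁻¹ * ⁅c', r₀⁆ := by
            rw [eq_inv_mul_iff_mul_eq, cz_comm (s1' c hc r₀ (r1 hr₀)).2 (s1' _ hcc r₀ (r1 hr₀)).1,
              ← comm_mul_left' (cz_comm (s1' _ hcc r₀ (r1 hr₀)).2 (hD₁T hc)).symm,
              mul_inv_cancel_left]
          refine ⟨d.cs.nZg (hD₁G hcc), fun r' hr' => comm_mem_symm ?_⟩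
          exact (dich _ hcc r₀ hr₀ (e ▸ hh)).resolve_right (fun hh' => k2 (hh' c₀ hc₀)) r' hr')
      rw [d.cs.card_ZS] at this
      refine Nat.le_of_mul_le_mul_right (c := Nat.card (Zc(G) : Subgroup Γ)) ?_ Nat.card_pos
      calc _ ≤ _ := this
        _ = _ := by ring
    have n2 : ⁅R, Op(p, d.H)⁆ = R := by
      refine (rmin' _ (CfH7.comm_le_left (d.OH_le.trans r2)) (CfH7.le_normalizer_commutator r2
        (CfH7.le_normalizer_pResidualOf _))).resolve_right fun hh => d.OH_not ?_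
      rw [commutator_comm, commutator_le]
      intro x hx z hz
      obtain ⟨r', hr', u, hu, rfl⟩ := hsurj z hz
      have hxr : ⁅x, r'⁆ ∈ ⁅R, Op(p, d.H)⁆ := comm_mem_of_le' le_rfl hr' hx
      rw [d.cs.comm_mulZ (hOH hx) (s1' c₀ hc₀ r' (r1 hr')).1 (d.cs.Zg_le_Z hu),
        comm_eq_one' hu.2 (hOH hx), mul_one, ← d.comm_comm (hD₁H hc₀) (d.OH_le hx)
          (s1' c₀ hc₀ r' (r1 hr')) (commutator_mem_right (hLT (r1 hr')) (d.cs.nT (hOH hx)))]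
      exact comm_mem_of_le' hh hxr hc₀
    have n3 : R ≤ Cz(DR) := n2 ▸ three inf_le_left
      (CfH7.commutator_le_of_le_secCz inf_le_right)
    have n4 : q * q * Nat.card (R ⊓ X : Subgroup Γ) ≤ Nat.card R := by
      choose! f hf using hsurj
      have := card_le_of_fibers (S := Zc(T)) (T := Zc(G)) (R := R) (C := R ⊓ X) f
        (fun z hz => (hf z hz).1) inf_le_left (fun z hz z' hz' hh => by
          obtain ⟨h1, u, hu, e⟩ := hf z hz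
          obtain ⟨h1', u', hu', e'⟩ := hf z' hz'
          have e1 : ⁅c₀, (f z)⁻¹ * f z'⁆ = 1 := comm_eq_one hc₀.2.2 hh.2
          have e2 : ⁅c₀, f z'⁆ = ⁅c₀, f z⁆ := by
            conv_lhs => rw [← mul_inv_cancel_left (f z) (f z')]
            rw [comm_mul_right, e1]; group
          have : z⁻¹ * z' = u⁻¹ * u' := by
            conv_lhs => rw [e, e', e2]
            group
          rw [this]; exact mul_mem (inv_mem hu) hu')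
      rw [inf_eq_right.2 d.cs.Zg_le_Z, d.cs.card_Z, d.cs.card_ZS] at this
      refine Nat.le_of_mul_le_mul_left (c := Nat.card (Zc(G) : Subgroup Γ)) ?_ Nat.card_pos
      calc _ = q * (q * Nat.card (Zc(G) : Subgroup Γ)) * Nat.card (R ⊓ X : Subgroup Γ) := by ring
        _ ≤ _ := this
    have n5 := card_sup_mul_card_inf (r1.trans hn)
    have n6 := card_sup_mul_card_inf (A := D₁) (hD₁G.trans d.cs.nZ)
    have n7 := card_sup_mul_card_inf (A := DR) ((inf_le_left.trans hD₁G).trans d.cs.nZ)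
    have z1 : D₁ ⊓ Zc(T) = Zc(G) := le_antisymm ((inf_le_inf_right _ inf_le_left).trans d.D_inf.le)
      (le_inf (le_inf d.ZgD (d.cs.Zg_le_Z.trans y2)) d.cs.Zg_le_Z)
    have z2 : DR ⊓ Zc(T) = Zc(G) := le_antisymm ((inf_le_inf_right _ inf_le_left).trans z1.le)
      (le_inf (le_inf (z1.ge.trans inf_le_left) (CfH7.le_secCz le_normalizer
        (CfH7.comm_le_right ((r1.trans d.cs.LG).trans d.cs.nZg)))) d.cs.Zg_le_Z)
    rw [z1, y3] at n6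
    rw [z2] at n7
    have n8 := hX.max (DR ⊔ Zc(T)) (sup_le (inf_le_left.trans hD₁T) inf_le_left)
    have n9 : R ⊔ X ≤ T ⊓ Cz(DR ⊔ Zc(T)) := by
      have hRX : R ⊔ X ≤ T := sup_le (r1.trans hLT) hX.le
      refine le_inf hRX ?_
      rw [Cz_sup]
      exact le_inf (sup_le n3 (CfH7.le_Cz_comm (inf_le_left.trans (inf_le_right.trans
        inf_le_right)))) (hRX.trans (CfH7.le_Cz_comm inf_le_right))
    have n10 := (Nat.mul_le_mul_left _ (card_le_of_le n9)).trans n8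
    rw [ms, ← hY₁] at n10
    have q1 := d.cs.one_lt_q
    have p1 : 0 < Nat.card (R ⊓ X : Subgroup Γ) := Nat.card_pos
    have p2 : 0 < Nat.card (Zc(G) : Subgroup Γ) := Nat.card_pos
    have p3 : 0 < Nat.card X := Nat.card_pos
    have p4 : 0 < Nat.card Y₁ := Nat.card_pos
    generalize Nat.card (R ⊓ X : Subgroup Γ) = i at *
    generalize Nat.card (R ⊔ X : Subgroup Γ) = s at *
    generalize Nat.card (DR ⊔ Zc(T) : Subgroup Γ) = w at *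
    generalize Nat.card (Zc(G) : Subgroup Γ) = zg at *
    generalize Nat.card (Zc(T) : Subgroup Γ) = z at *
    generalize Nat.card X = x at *
    generalize Nat.card Y₁ = y at *
    generalize Nat.card R = r at *
    generalize Nat.card D₁ = d1 at *
    generalize Nat.card DR = dr at *
    have m1 : q * q * x ≤ s := by
      refine Nat.le_of_mul_le_mul_right (c := i) ?_ p1
      calc _ = q * q * i * x := by ring
        _ ≤ r * x := Nat.mul_le_mul_right _ n4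
        _ = _ := n5.symm
    have m2 : y ≤ q * w := by
      refine Nat.le_of_mul_le_mul_right (c := zg) ?_ p2
      calc _ = d1 * z := n6
        _ ≤ q * dr * z := Nat.mul_le_mul_right _ n1
        _ = _ := by rw [mul_assoc, ← n7, mul_assoc]
    have m3 : q * (q * (x * y)) ≤ q * (x * y) := by
      calc _ = y * (q * q * x) := by ring
        _ ≤ q * w * s := Nat.mul_le_mul m2 m1
        _ = q * (w * s) := by ring
        _ ≤ _ := Nat.mul_le_mul_left _ n10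
    have m4 := Nat.le_of_mul_le_mul_left m3 (by omega)
    have m5 : 0 < x * y := Nat.mul_pos p3 p4
    nlinarith
  rw [← hX.cz_cz, ← hY₁, ← y3, Cz_sup]
  exact le_inf hLT (le_inf (hLc.trans (three le_rfl s2)) (hLT.trans (CfH7.le_Cz_comm inf_le_right)))

theorem LE : ⁅T, Op(p, G)⁆ ≤ d.E := by
  obtain ⟨X, ⟨h1, h2, h3⟩, -, hm⟩ := exists_minimal_le
    (fun X : Subgroup Γ => CD T X ∧ d.E ≤ X ∧ ⁅T, Op(p, G)⁆ ≤ X) ⟨d.cs.cdT, d.ET, d.cs.LT⟩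
  rcases h2.lt_or_eq with h4 | h4
  · obtain ⟨X₁, ⟨k1, k2⟩, k3, km⟩ := exists_maximal_ge
      (fun X₁ : Subgroup Γ => CD T X₁ ∧ X₁ < X) ⟨d.cdE, h4⟩
    have := d.L_step k1 k3 (h3.trans (k1.le_Nm_of_maximal h1 k2
      fun Z a b c => (km Z ⟨a, c⟩ b).le))
    exact absurd (hm X₁ ⟨k1, k3, this⟩ k2.le) k2.ne
  · exact h4 ▸ h3

theorem D_czO : d.D ≤ Cz(Op(p, G)) :=
  CfH7.le_Cz_comm (d.O_le.trans (sup_le (d.OH_le.trans (CfH7.le_Cz_comm d.D_cz))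
    (d.LE.trans (d.czD.ge.trans inf_le_right))))

end PD

end CfLp
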