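import Cfsg.Agent.OD.Pre
import Cfsg.Agent.L.PU4
import Cfsg.Agent.H8.Quot
import Cfsg.Agent.H8.Gaschuetz
import Cfsg.Agent.H1.Products

/-! The structure of `E = A₀ B₀`. -/

set_option autoImplicit false
set_option linter.unusedSectionVars false
set_option linter.unusedVariables false

open Cfsg Subgroup CfH9
open CfH8 (ms qb qp)
open CfH7 (secCz mem_secCz)
open scoped commutatorElement

namespace CfLp

variable {Γ : Type*} [Group Γ]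

theorem ito {A B : Subgroup Γ} (hA : IsMulCommutative A) (hB : IsMulCommutative B)
    (h : ∀ x ∈ A ⊔ B, ∃ a ∈ A, ∃ b ∈ B, x = a * b) : IsMulCommutative (⁅A ⊔ B, A ⊔ B⁆ : Subgroup Γ) := by
  have h1 := comm_subgroupOf hA (A ⊔ B)
  have h2 := comm_subgroupOf hB (A ⊔ B)
  have := CfH1.isMulCommutative_commutator_of_fac (A := A.subgroupOf (A ⊔ B))
    (B := B.subgroupOf (A ⊔ B)) (fun x => by
      obtain ⟨a, ha, b, hb, e⟩ := h x x.2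
      exact ⟨⟨a, mem_sup_left ha⟩, ha, ⟨b, mem_sup_right hb⟩, hb, Subtype.ext e⟩)
  have h3 := comm_map this (A ⊔ B).subtype
  rwa [commutator_def, map_commutator, map_subtype_top] at h3

variable [Finite Γ] {p q : ℕ} {G T : Subgroup Γ} [hp : Fact p.Prime]

namespace PD

variable (d : PD p q G T)

/-- an `H`-invariant normal subgroup of `E` containing `Z(E)` -/
structure Inv (U : Subgroup Γ) : Prop where
  nH : d.H ≤ Nm(U)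
  nE : d.E ≤ Nm(U)
  le : d.Y ≤ U

variable {d} in
theorem Inv.symm {U : Subgroup Γ} (h : d.Inv U) : d.symm.Inv U := ⟨h.nH, h.nE, h.le⟩

theorem invY : d.Inv d.Y := ⟨d.H_nY, le_Nm_of_le_Cz d.Y_cz, le_rfl⟩

variable {d} in
theorem Inv.A₀_le {U : Subgroup Γ} (h : d.Inv U) : d.A₀ ≤ secCz d.A U :=
  CfH7.le_secCz (d.A₀E.trans h.nE) ((commutator_comm _ _).le.trans
    (d.comm_A₀.trans (d.cs.ZS_le_Z.trans (d.ZY.trans h.le))))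

variable {d} in
theorem Inv.secH {U : Subgroup Γ} (h : d.Inv U) {x : Γ} (h1 : x ∈ secCz d.A U)
    (h2 : x ∈ secCz d.B U) : x ∈ secCz d.H U :=
  d.hH ▸ secCz_sup (d.AH.trans h.nH) (d.BH.trans h.nH) h1 h2

theorem lemF {U : Subgroup Γ} (h : d.Inv U) (hU : d.A₀ ⊓ (d.B₀ ⊔ U) ≤ U) {f : Γ} (hf : f ∈ d.E)
    (h1 : f ∈ secCz d.H U) : f ∈ U := by
  obtain ⟨a, ha, b, hb, rfl⟩ := d.mem_E hf
  have h2 : a ∈ secCz d.H U := h.secH (h.A₀_le ha)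
    ((mul_mem_cancel_right (h.symm.A₀_le hb)).1 (secCz_anti d.BH h1))
  have h3 : a ∈ U := by
    refine hU ⟨ha, ?_⟩
    have : d.g * a * d.g⁻¹ ∈ d.B₀ := d.cj_A₀ ▸ conj_mem_cj d.g ha
    rw [conj_eq_comm_mul] at this
    exact (mul_mem_cancel_left (mem_sup_right (h2.2 _ d.gH))).1 (mem_sup_left this)
  have h4 : b ∈ secCz d.H U := (mul_mem_cancel_left h2).1 h1
  have h5 : d.g⁻¹ * b * d.g⁻¹⁻¹ ∈ d.A₀ := d.symm.cj_A₀.le (conj_mem_cj d.g⁻¹ hb)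
  have h6 := hU ⟨h5, by
    rw [conj_eq_comm_mul]
    exact mul_mem (mem_sup_right (h4.2 _ (inv_mem d.gH))) (mem_sup_left hb)⟩
  exact mul_mem h3 ((mem_normalizer_iff.1 (h.nH (inv_mem d.gH)) b).2 h6)

theorem sylH : SylIn p (d.S ⊓ d.H) d.H := by
  refine ⟨inf_le_right, d.cs.pS.to_inf_left, fun Q hQ h1 h2 => le_inf ?_ h1⟩
  refine le_sup_left.trans (d.cs.syl.max (Q ⊔ T)
    (isPGroup_sup hQ d.cs.pT (h1.trans d.H_nT)) (sup_le (h1.trans d.HG) d.cs.TG) ?_)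
  rw [← d.A_sup]
  exact sup_le_sup_right ((le_inf d.AS d.AH).trans h2) _

theorem SH_le : d.S ⊓ d.H ≤ d.A ⊔ d.E := by
  intro s hs
  obtain ⟨a, ha, t, ht, rfl⟩ := d.cs.mem_of_sup_eq d.A_sup hs.1
  exact mul_mem (mem_sup_left ha)
    (mem_sup_right (d.HT_le ⟨(mul_mem_cancel_left (d.AH ha)).1 hs.2, ht⟩))

theorem pE : IsPGroup p d.E := d.cs.pT.to_le d.ET

theorem split (U : Subgroup Γ) : d.Inv U → U ≤ d.E → d.A₀ ⊓ (d.B₀ ⊔ U) ≤ U := by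
  induction U using subgroup_induction with | _ U ih =>
  intro h hE
  by_cases hY : U ≤ d.Y
  · rw [sup_eq_left.2 (hY.trans d.YB₀), ← d.hY]; exact h.le
  set U₁ := ⁅U, d.E⁆ ⊔ d.Y with hU₁
  have c1 : ⁅U, d.E⁆ ≤ U := CfH7.comm_le_left h.nE
  have l1 : U₁ ≤ U := sup_le c1 h.le
  have i1 : d.Inv U₁ :=
    ⟨CfH7.le_normalizer_sup (CfH7.le_normalizer_commutator h.nH d.H_nE) d.H_nY,
      CfH7.le_normalizer_sup (CfH7.right_le_Nm_comm _ _) d.invY.nE, le_sup_right⟩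
  have l2 : U₁ < U := by
    refine lt_of_le_not_ge l1 fun hh => hY ?_
    obtain ⟨k, hk⟩ := CfH8.exists_iterCommutator_eq_bot (d.pE.to_le hE) d.pE h.nE
    exact CfH8.le_of_le_sup_commutator (h.le.trans le_normalizer) (d.YE.trans le_normalizer)
      d.invY.nE hk (by rwa [sup_comm])
  have IH := ih U₁ (card_lt_of_lt l2) i1 (l1.trans hE)
  intro a ha
  have a0 : zpowers a ≤ d.A₀ := zpowers_le.2 ha.1
  have a1 : zpowers a ≤ d.B₀ ⊔ U := zpowers_le.2 ha.2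
  have aE : zpowers a ≤ d.E := a0.trans d.A₀E
  have hZ : Zc(T) ≤ U₁ := d.ZY.trans le_sup_right
  have b1 : ⁅zpowers a, d.E⁆ ≤ U₁ := by
    rw [d.hE]
    refine CfH7.commutator_sup_right_le (d.A₀E.trans i1.nE) (d.B₀E.trans i1.nE)
      ((CfH7.comm_eq_bot_left.2 (a0.trans d.commA₀)).le.trans bot_le) ?_
    refine (commutator_mono a1 le_rfl).trans (CfH7.commutator_sup_left_le (d.B₀E.trans i1.nE)
      (hE.trans i1.nE) ((CfH7.comm_eq_bot_left.2 d.commB₀).le.trans bot_le) ?_)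
    exact le_sup_of_le_left (commutator_mono le_rfl d.B₀E)
  have b2 : ⁅zpowers a, d.A⁆ ≤ U₁ :=
    (commutator_mono a0 le_rfl).trans (d.comm_A₀.trans (d.cs.ZS_le_Z.trans hZ))
  have b3 : ⁅zpowers a, d.H⁆ ≤ U := by
    rw [d.hH]
    refine CfH7.commutator_sup_right_le (d.AH.trans h.nH) (d.BH.trans h.nH) (b2.trans l1) ?_
    refine (commutator_mono a1 le_rfl).trans (CfH7.commutator_sup_left_le (d.B₀E.trans h.nE)
      le_normalizer (d.symm.comm_A₀.trans (d.cs'.ZS_le_Z.trans (hZ.trans l1)))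
      (CfH7.comm_le_left (d.BH.trans h.nH)))
  set V := zpowers a ⊔ U with hV
  have v1 : V ≤ d.E := sup_le aE hE
  have v2 : ⁅V, d.E⁆ ≤ U₁ :=
    CfH7.commutator_sup_left_le (aE.trans i1.nE) (hE.trans i1.nE) b1 le_sup_left
  have v3 : ⁅V, d.H⁆ ≤ U :=
    CfH7.commutator_sup_left_le (aE.trans h.nE) le_normalizer b3 (CfH7.comm_le_left h.nH)
  have v4 : d.H ≤ Nm(V) := CfH7.le_Nm_of_comm_le_left (v3.trans le_sup_right)
  have v5 : V ≤ Nm(U₁) := v1.trans i1.nE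
  have hP : d.S ⊓ d.H ≤ Nm(U₁) := inf_le_right.trans i1.nH
  have key := CfH8.inf_centralizer_le_commutator_sup (V := qb U₁ V) (H := qb U₁ d.H)
    (T := qb U₁ (d.S ⊓ d.H))
    (le_centralizer_iff_isMulCommutative.1 ((CfH8.qb_le_Cz_iff v5 v5).2
      ((commutator_mono le_rfl v1).trans v2))) (CfH8.qb_le_Nm v4)
    (CfH8.coprime_card_of_isPGroup (CfH8.isPGroup_qb (d.pE.to_le v1))
      (CfH8.sylIn_qb i1.nH d.sylH).not_dvd_relIndex)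
  have k1 : qb U₁ (zpowers a) ≤ qb U₁ V ⊓ Cz(qb U₁ (d.S ⊓ d.H)) := by
    refine le_inf (CfH8.qb_mono le_sup_left) ((CfH8.qb_le_Cz_iff (aE.trans i1.nE) hP).2 ?_)
    exact (commutator_mono le_rfl d.SH_le).trans
      (CfH7.commutator_sup_right_le (d.AH.trans i1.nH) i1.nE b2 b1)
  have k2 : qb U₁ V ⊓ Cz(qb U₁ d.H) ≤ ⊥ := by
    rw [← CfH8.qb_qp (qb U₁ V ⊓ _), le_bot_iff, CfH8.qb_eq_bot_iff (CfH8.qp_le _)]
    intro f hf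
    refine d.lemF i1 IH ?_ (CfH7.le_secCz (CfH8.qp_le _) ?_ hf)
    · have := CfH8.qp_mono inf_le_left hf
      rw [CfH8.qp_qb v5] at this
      exact sup_le v1 (l1.trans hE) this
    · rw [commutator_comm, ← CfH8.qb_le_Cz_iff (CfH8.qp_le _) i1.nH, CfH8.qb_qp]
      exact inf_le_right
  have k3 : qb U₁ (zpowers a) ≤ qb U₁ U := by
    refine k1.trans (key.trans (sup_le ?_ (k2.trans bot_le)))
    rw [← CfH8.qb_commutator v5 i1.nH]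
    exact CfH8.qb_mono v3
  rw [CfH8.qb_le_qb_iff (aE.trans i1.nE) (hE.trans i1.nE), sup_eq_left.2 l1] at k3
  exact k3 (mem_zpowers a)

theorem fix {U : Subgroup Γ} (h : d.Inv U) (hE : U ≤ d.E) {f : Γ} (hf : f ∈ d.E)
    (h1 : f ∈ secCz d.H U) : f ∈ U := d.lemF h (d.split U h hE) hf h1

theorem eq_of_comm {U : Subgroup Γ} (h : d.Inv U) (hE : U ≤ d.E) (h1 : ⁅d.H, d.E⁆ ≤ U) :
    U = d.E := le_antisymm hE fun f hf => d.fix h hE hf (CfH7.le_secCz h.nE h1 hf)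

theorem H_eq {a : Γ} (ha : a ∈ d.A) (hT : a ∉ T) : zpowers a ⊔ d.B = d.H := by
  refine eq_of_le_of_card_ge (sup_le (zpowers_le.2 (d.AH ha)) d.BH) ?_
  have h1 : a ∉ d.M' := d.hM' ▸ d.cs.notMem_cj d.gG d.gM (d.AS ha) hT
  refine (d.symm.min a (d.AG ha) h1).trans (card_le_of_le (sup_le le_sup_right ?_))
  exact (cj_mono a le_sup_right).trans (cj_eq_of_mem (mem_sup_left (mem_zpowers a))).le

theorem fix1 {U : Subgroup Γ} (h : d.Inv U) (hE : U ≤ d.E) {a : Γ} (ha : a ∈ d.A) (hT : a ∉ T)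
    {f : Γ} (hf : f ∈ d.E) (h1 : ⁅a, f⁆ ∈ U) : f ∈ d.A₀ ⊔ U := by
  obtain ⟨x, hx, y, hy, rfl⟩ := d.mem_E hf
  have h2 := mem_secCz_zpowers (h.nH (d.AH ha)) (h.nE hf) h1
  have h3 := (mul_mem_cancel_left (secCz_anti (zpowers_le.2 ha) (h.A₀_le hx))).1 h2
  have h4 := secCz_sup (zpowers_le.2 (h.nH (d.AH ha))) (d.BH.trans h.nH) h3 (h.symm.A₀_le hy)
  rw [d.H_eq ha hT] at h4
  exact mul_mem (mem_sup_left hx) (mem_sup_right (d.fix h hE (d.B₀E hy) h4))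

theorem fixY {a : Γ} (ha : a ∈ d.A) (hT : a ∉ T) {f : Γ} (hf : f ∈ d.E) (h1 : ⁅a, f⁆ ∈ d.Y) :
    f ∈ d.A₀ := by
  have := d.fix1 d.invY d.YE ha hT hf h1
  rwa [sup_eq_left.2 d.YA₀] at this

theorem H_le : d.H ≤ Op(p, d.H) ⊔ (d.A ⊔ d.E) :=
  (CfH7.sylIn_pResidualOf_sup d.sylH).ge.trans (sup_le_sup_left d.SH_le _)

/-- an invariant subgroup over which `O^p(H)` acts trivially is everything -/
theorem eq_of_OH {U : Subgroup Γ} (h : d.Inv U) (hE : U ≤ d.E) (h1 : ⁅d.E, Op(p, d.H)⁆ ≤ U) :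
    U = d.E := by
  have hQ : d.A ⊔ d.E ≤ Nm(d.E) := sup_le (d.AH.trans d.H_nE) le_normalizer
  have hQU : d.A ⊔ d.E ≤ Nm(U) := sup_le (d.AH.trans h.nH) h.nE
  have hpQ : IsPGroup p (d.A ⊔ d.E : Subgroup Γ) :=
    d.cs.pS.to_le (sup_le d.AS (d.ET.trans d.cs.TS))
  obtain ⟨k, hk⟩ := CfH8.exists_iterCommutator_eq_bot d.pE hpQ hQ
  refine le_antisymm hE (CfH8.le_of_le_sup_commutator (hE.trans le_normalizer)
    (hE.trans (le_sup_right.trans le_normalizer)) hQU hk ?_)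
  have l1 : U ⊔ ⁅d.E, d.A ⊔ d.E⁆ ≤ d.E := sup_le hE (CfH7.comm_le_left hQ)
  have n1 : d.A ⊔ d.E ≤ Nm(U ⊔ ⁅d.E, d.A ⊔ d.E⁆) :=
    CfH7.le_normalizer_sup hQU (CfH7.right_le_Nm_comm _ _)
  have n2 : Op(p, d.H) ≤ Nm(U ⊔ ⁅d.E, d.A ⊔ d.E⁆) :=
    CfH7.le_Nm_of_comm_le_left ((commutator_mono l1 le_rfl).trans (h1.trans le_sup_left))
  refine (d.eq_of_comm ⟨d.H_le.trans (sup_le n2 n1), le_sup_right.trans n1,
    h.le.trans le_sup_left⟩ l1 ?_).ge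
  rw [commutator_comm]
  exact (commutator_mono le_rfl d.H_le).trans
    (CfH7.commutator_sup_right_le n2 n1 (h1.trans le_sup_left) le_sup_right)

theorem L_sup : ⁅T, Op(p, G)⁆ ⊔ d.Y = d.E :=
  d.eq_of_OH ⟨CfH7.le_normalizer_sup (d.HG.trans d.cs.nL) d.H_nY,
    CfH7.le_normalizer_sup (d.EG.trans d.cs.nL) d.invY.nE, le_sup_right⟩ (sup_le d.LE d.YE)
    (le_sup_of_le_left (commutator_mono d.ET d.OH_le_O))

theorem K_le : ⁅d.E, d.A⁆ ≤ d.E := CfH7.comm_le_left (d.AH.trans d.H_nE)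

theorem K_sup : (⁅d.E, d.A⁆ ⊔ d.Y) ⊔ (⁅d.E, d.B⁆ ⊔ d.Y) = d.E := by
  have l1 : (⁅d.E, d.A⁆ ⊔ d.Y) ⊔ (⁅d.E, d.B⁆ ⊔ d.Y) ≤ d.E :=
    sup_le (sup_le d.K_le d.YE) (sup_le d.symm.K_le d.YE)
  have c1 : ⁅d.E, d.A⁆ ≤ (⁅d.E, d.A⁆ ⊔ d.Y) ⊔ (⁅d.E, d.B⁆ ⊔ d.Y) := le_sup_of_le_left le_sup_left
  have c2 : ⁅d.E, d.B⁆ ≤ (⁅d.E, d.A⁆ ⊔ d.Y) ⊔ (⁅d.E, d.B⁆ ⊔ d.Y) := le_sup_of_le_right le_sup_left
  have n1 := CfH7.le_Nm_of_comm_le_left ((commutator_mono l1 le_rfl).trans c1)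
  have n2 := CfH7.le_Nm_of_comm_le_left ((commutator_mono l1 le_rfl).trans c2)
  refine d.eq_of_comm ⟨d.hH ▸ sup_le n1 n2, CfH7.le_normalizer_sup
    (CfH7.le_normalizer_sup (CfH7.left_le_Nm_comm _ _) d.invY.nE)
    (CfH7.le_normalizer_sup (CfH7.left_le_Nm_comm _ _) d.invY.nE),
    le_sup_of_le_left le_sup_right⟩ l1 ?_
  rw [commutator_comm, d.hH]
  exact CfH7.commutator_sup_right_le n1 n2 c1 c2

theorem ito_AE : IsMulCommutative (⁅d.A ⊔ d.E, d.A ⊔ d.E⁆ : Subgroup Γ) := by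
  have e : d.A ⊔ d.E = d.A ⊔ d.B₀ := by
    refine le_antisymm (sup_le le_sup_left ?_) (sup_le_sup_left d.B₀E _)
    rw [d.hE, d.hA₀]
    exact sup_le (sup_le_sup inf_le_left d.ZB₀) le_sup_right
  rw [e]
  exact ito d.hA.comm d.symm.maxA₀.comm fun x hx =>
    (d.cs.cdA _ d.hA).mem_sup (d.cs.up d.cdB₀).1 hx

theorem K_comm : ⁅d.E, d.A⁆ ≤ Cz(⁅d.E, d.A⁆) :=
  le_Cz_of_comm (comm_of_le (commutator_mono le_sup_right le_sup_left) d.ito_AE)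

theorem EE_czK : ⁅d.E, d.E⁆ ≤ Cz(⁅d.E, d.A⁆) :=
  (commutator_mono le_sup_right le_sup_right).trans ((le_Cz_of_comm d.ito_AE).trans
    (Cz_anti (commutator_mono le_sup_right le_sup_left)))

theorem EE_le_Y : ⁅d.E, d.E⁆ ≤ d.Y := by
  have h0 : ⁅d.E, d.E⁆ ≤ d.E := CfH7.comm_le_left le_normalizer
  have h1 : ⁅d.E, d.E⁆ ≤ Cz(d.Y) := h0.trans (CfH7.le_Cz_comm d.Y_cz)
  rw [← d.czE]
  refine le_inf (h0.trans d.ET) ?_
  conv_rhs => rw [← d.K_sup, Cz_sup, Cz_sup, Cz_sup]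
  exact le_inf (le_inf d.EE_czK h1) (le_inf d.symm.EE_czK h1)

theorem f_mem {u v : Γ} (hu : u ∈ d.E) (hv : v ∈ d.E) : ⁅u, v⁆ ∈ d.Y :=
  comm_mem_of_le d.EE_le_Y hu hv

theorem f_mul_left {u u' v : Γ} (hu : u ∈ d.E) (hu' : u' ∈ d.E) (hv : v ∈ d.E) :
    ⁅u * u', v⁆ = ⁅u, v⁆ * ⁅u', v⁆ := by
  rw [comm_mul_left' (cz_comm (d.Y_cz (d.f_mem hu' hv)) hu).symm,
    cz_comm (d.Y_cz (d.f_mem hu' hv)) (d.YE (d.f_mem hu hv))]

theorem f_mul_right {u v v' : Γ} (hu : u ∈ d.E) (hv : v ∈ d.E) (hv' : v' ∈ d.E) :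
    ⁅u, v * v'⁆ = ⁅u, v⁆ * ⁅u, v'⁆ :=
  comm_mul_right' (cz_comm (d.Y_cz (d.f_mem hu hv')) hv).symm

theorem comm_mem_E {h u : Γ} (hh : h ∈ d.H) (hu : u ∈ d.E) : ⁅h, u⁆ ∈ d.E :=
  commutator_mem_right hu (d.H_nE hh)

theorem f_conj {h u v : Γ} (hh : h ∈ d.H) (hu : u ∈ d.E) (hv : v ∈ d.E) :
    ⁅h, ⁅u, v⁆⁆ = ⁅⁅h, u⁆, ⁅h, v⁆⁆ * ⁅⁅h, u⁆, v⁆ * ⁅u, ⁅h, v⁆⁆ := by
  have h1 := d.comm_mem_E hh hu
  have h2 := d.comm_mem_E hh hv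
  have := conj_comm h u v
  rw [conj_eq_comm_mul, conj_eq_comm_mul h u, conj_eq_comm_mul h v,
    d.f_mul_left h1 hu (mul_mem h2 hv), d.f_mul_right h1 h2 hv, d.f_mul_right hu h2 hv,
    ← mul_assoc] at this
  exact mul_right_cancel this

theorem f_der {a u v : Γ} (ha : a ∈ d.A) (hu : u ∈ d.E) (hv : v ∈ d.E) :
    ⁅a, ⁅u, v⁆⁆ = ⁅⁅a, u⁆, v⁆ * ⁅u, ⁅a, v⁆⁆ := by
  rw [d.f_conj (d.AH ha) hu hv, comm_eq_one (d.K_comm (comm_mem_of_le' le_rfl hu ha))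
    (comm_mem_of_le' le_rfl hv ha), one_mul]

theorem comm_A_Y {a y : Γ} (ha : a ∈ d.A) (hy : y ∈ d.Y) : ⁅a, y⁆ ∈ Zc(d.S) :=
  comm_mem_of_le' d.comm_A₀ (d.YA₀ hy) ha

theorem comm_A_A₀ {a y : Γ} (ha : a ∈ d.A) (hy : y ∈ d.A₀) : ⁅a, y⁆ ∈ Zc(d.S) :=
  comm_mem_of_le' d.comm_A₀ hy ha

theorem ZS_cz {z : Γ} (hz : z ∈ Zc(d.S)) : z ∈ Cz(d.E) := Cz_anti (d.ET.trans d.cs.TS) hz.2

theorem czA₀ {x : Γ} (hx : x ∈ T) (h : x ∈ Cz(d.A₀)) : x ∈ d.A₀ :=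
  d.maxTA₀.inf_Cz_zero.le ⟨hx, h⟩

theorem comm_A₀_K : ⁅d.A₀, ⁅d.E, d.A⁆⁆ ≤ Zc(d.S) := by
  have hn : d.S ≤ Nm(Zc(d.S)) := le_normalizer.trans (Nm_le_Nm_Zc _)
  refine CfH7.commutator_le_of_le_secCz ?_
  rw [commutator_comm, commutator_le]
  intro a ha e he
  refine ⟨hn (d.cs.TS (d.ET (d.comm_mem_E (d.AH ha) he))), fun x hx => ?_⟩
  have := d.f_der ha (d.A₀E hx) he
  rw [comm_eq_one (d.ZS_cz (d.comm_A_A₀ ha hx)) he, one_mul] at this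
  rw [← this]
  exact d.comm_A_Y ha (d.f_mem (d.A₀E hx) he)

theorem comm_K_A {a k : Γ} (ha : a ∈ d.A) (hk : k ∈ ⁅d.E, d.A⁆) : ⁅a, k⁆ ∈ d.A₀ := by
  have h1 := d.comm_mem_E (d.AH ha) (d.K_le hk)
  refine d.czA₀ (d.ET h1) (mem_Cz_of_comm' fun x hx => ?_)
  have := d.f_der ha (d.A₀E hx) (d.K_le hk)
  rw [comm_eq_one (d.ZS_cz (d.comm_A_A₀ ha hx)) (d.K_le hk), one_mul,
    comm_eq_one' (comm_mem_of_le d.comm_A₀_K hx hk).2 (d.AS ha)] at this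
  exact this.symm

theorem mem_D_sup {y a : Γ} (hy : y ∈ d.Y) (ha : a ∈ d.A) (hT : a ∉ T) (h : ⁅a, y⁆ ∈ d.D) :
    y ∈ d.D ⊔ Zc(d.S) := by
  obtain ⟨c, hc, z, hz, rfl⟩ := d.mem_Y hy
  rw [d.cs.comm_mulZ (d.AG ha) (d.DT hc) hz, comm_eq_one' (d.D_cz hc) (d.AH ha), one_mul] at h
  have : ⁅a, z⁆ ∈ Zc(G) := d.D_inf ▸ ⟨h, d.cs.comm_mem_Z (d.AG ha) hz⟩
  exact mul_mem (mem_sup_left hc) (mem_sup_right (d.cs.mem_ZS_of_comm hz (d.AS ha) hT this))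

theorem mem_D {y : Γ} (h1 : y ∈ d.D ⊔ Zc(d.S)) (h2 : y ∈ d.D ⊔ Zc(d.S')) : y ∈ d.D := by
  have n : ∀ X ≤ Zc(T), d.D ≤ Nm(X) := fun X hX =>
    d.DT.trans (le_Nm_of_le_Cz (hX.trans inf_le_right))
  obtain ⟨c, hc, z, hz, rfl⟩ := (CfH7.mem_sup_of_le_normalizer_right (n _ d.cs.ZS_le_Z)).1 h1
  obtain ⟨c', hc', z', hz', e⟩ := (CfH7.mem_sup_of_le_normalizer_right (n _ d.cs'.ZS_le_Z)).1 h2
  have e1 : z' * z⁻¹ = c'⁻¹ * c := by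
    rw [mul_inv_eq_iff_eq_mul, mul_assoc, ← e, inv_mul_cancel_left]
  have h3 : z' * z⁻¹ ∈ Zc(G) := d.D_inf.le (mi (e1 ▸ mul_mem (inv_mem hc') hc)
    (mul_mem (d.cs'.ZS_le_Z hz') (inv_mem (d.cs.ZS_le_Z hz))))
  have h4 : z ∈ Zc(d.S') := inv_mem_iff.1 ((mul_mem_cancel_left hz').1 (d.cs'.Zg_le_ZS h3))
  exact mul_mem hc (d.ZgD (d.ZS_inf ▸ ⟨hz, h4⟩))

theorem E_nD : d.E ≤ Nm(d.D) := le_Nm_of_le_Cz (d.DY.trans d.Y_cz)
theorem H_nD : d.H ≤ Nm(d.D) := le_Nm_of_le_Cz d.D_cz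

/-- the radical of the commutator form modulo `D` -/
def Rad : Subgroup Γ := d.E ⊓ secCz d.E d.D

theorem invRad : d.Inv d.Rad :=
  ⟨CfH7.le_normalizer_inf d.H_nE (CfH7.le_Nm_secCz d.H_nE d.H_nD),
    CfH7.le_normalizer_inf le_normalizer (CfH7.le_Nm_secCz le_normalizer d.E_nD),
    le_inf d.YE (CfH7.le_secCz (d.YE.trans d.E_nD)
      ((CfH7.comm_eq_bot_right.2 d.Y_cz).le.trans bot_le))⟩

theorem Rad_le : d.Rad ≤ d.E := inf_le_left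

theorem comm_Rad : ⁅d.E, d.Rad⁆ ≤ d.D := CfH7.commutator_le_of_le_secCz inf_le_right

theorem comm_sup_Rad {X : Subgroup Γ} (hX : X ≤ d.E) (hc : X ≤ Cz(X)) :
    ⁅X ⊔ d.Rad, X ⊔ d.Rad⁆ ≤ d.D := by
  have n1 := hX.trans d.E_nD
  have n2 := d.Rad_le.trans d.E_nD
  refine CfH7.commutator_sup_left_le n1 n2 (CfH7.commutator_sup_right_le n1 n2
    ((CfH7.comm_eq_bot_left.2 hc).le.trans bot_le) ((commutator_mono hX le_rfl).trans d.comm_Rad)) ?_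
  rw [commutator_comm]
  exact (commutator_mono (sup_le hX d.Rad_le) le_rfl).trans d.comm_Rad

theorem comm_X_A {a u : Γ} (ha : a ∈ d.A) (hu : u ∈ d.A₀ ⊔ d.Rad) : ⁅a, u⁆ ∈ d.Rad := by
  refine (sup_le d.invRad.A₀_le ?_ : _ ≤ secCz d.A d.Rad) hu |>.2 a ha
  exact CfH7.le_secCz le_normalizer (CfH7.comm_le_right (d.AH.trans d.invRad.nH))

theorem form1 {u : Γ} (h1 : u ∈ d.A₀ ⊔ d.Rad) (h2 : u ∈ ⁅d.E, d.A⁆ ⊔ d.Rad) {v : Γ}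
    (hv : v ∈ d.E) : ⁅u, v⁆ ∈ d.D ⊔ Zc(d.S) := by
  obtain ⟨a, ha, hT⟩ := SetLike.not_le_iff_exists.1 d.hT
  have hu : u ∈ d.E := sup_le d.A₀E d.Rad_le h1
  refine d.mem_D_sup (d.f_mem hu hv) ha hT ?_
  rw [d.f_der ha hu hv]
  exact mul_mem (comm_mem_of_le' d.comm_Rad hv (d.comm_X_A ha h1))
    (comm_mem_of_le (d.comm_sup_Rad d.K_le d.K_comm) h2
      (mem_sup_left (comm_mem_of_le' le_rfl hv ha)))

theorem E_n {X : Subgroup Γ} (h1 : d.Y ≤ X) (h2 : X ≤ d.E) : d.E ≤ Nm(X) :=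
  CfH7.le_Nm_of_comm_le_left ((commutator_mono h2 le_rfl).trans (d.EE_le_Y.trans h1))

theorem form2 {w : Γ} (h1 : w ∈ (d.A₀ ⊔ d.Rad) ⊔ (⁅d.E, d.A⁆ ⊔ d.Rad)) (h2 : w ∈ d.B₀ ⊔ d.Rad)
    (h3 : w ∈ ⁅d.E, d.B⁆ ⊔ d.Rad) : w ∈ d.Rad := by
  obtain ⟨a, ha, hT⟩ := SetLike.not_le_iff_exists.1 d.hT
  have hw : w ∈ d.E := sup_le d.B₀E d.Rad_le h2
  have lX : d.A₀ ⊔ d.Rad ≤ d.E := sup_le d.A₀E d.Rad_le
  have nX : d.E ≤ Nm(d.A₀ ⊔ d.Rad) := d.E_n (le_sup_of_le_left d.YA₀) lX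
  have k1 : ⁅a, w⁆ ∈ d.A₀ ⊔ d.Rad := by
    have r1 : d.A₀ ⊔ d.Rad ≤ secCz d.A (d.A₀ ⊔ d.Rad) := fun u hu =>
      ⟨le_normalizer hu, fun a ha => mem_sup_right (d.comm_X_A ha hu)⟩
    refine (sup_le r1 (sup_le ?_ (le_sup_right.trans r1)) : _ ≤ secCz d.A (d.A₀ ⊔ d.Rad)) h1 |>.2 a ha
    exact fun k hk => ⟨nX (d.K_le hk), fun a ha => mem_sup_left (d.comm_K_A ha hk)⟩
  refine ⟨hw, ?_⟩
  have k2 : w ∈ secCz d.A₀ d.D := by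
    refine ⟨d.E_nD hw, fun v hv => comm_mem_symm (d.mem_D ?_ (d.symm.form1 h2 h3 (d.A₀E hv)))⟩
    refine d.mem_D_sup (d.f_mem hw (d.A₀E hv)) ha hT ?_
    rw [d.f_der ha hw (d.A₀E hv), comm_eq_one' (d.ZS_cz (d.comm_A_A₀ ha hv)) hw, mul_one]
    exact comm_mem_of_le (d.comm_sup_Rad d.A₀E d.commA₀) k1 (mem_sup_left hv)
  have k3 : w ∈ secCz d.B₀ d.D := ⟨d.E_nD hw, fun v hv =>
    comm_mem_of_le (d.comm_sup_Rad d.B₀E d.commB₀) (mem_sup_left hv) h2⟩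
  have := secCz_sup (d.A₀E.trans d.E_nD) (d.B₀E.trans d.E_nD) k2 k3
  rwa [← d.hE] at this

theorem Rad_eq : d.Rad = d.E := by
  have hR := d.invRad
  have hRE := d.Rad_le
  set R := d.Rad with hRdef
  set X := d.A₀ ⊔ R
  set X' := d.B₀ ⊔ R
  set K := ⁅d.E, d.A⁆ ⊔ R
  set K' := ⁅d.E, d.B⁆ ⊔ R
  have lX : X ≤ d.E := sup_le d.A₀E hRE
  have lX' : X' ≤ d.E := sup_le d.B₀E hRE
  have lK : K ≤ d.E := sup_le d.K_le hRE
  have lK' : K' ≤ d.E := sup_le d.symm.K_le hRE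
  have n : ∀ {U V : Subgroup Γ}, U ≤ d.E → R ≤ V → V ≤ d.E → U ≤ Nm(V) :=
    fun a b c => a.trans (d.E_n (hR.le.trans b) c)
  have gR : cj d.g R = R := cj_eq_of_mem_normalizer (hR.nH d.gH)
  have gX : cj d.g X = X' := by rw [cj_sup, gR, d.cj_A₀]
  have gK : cj d.g K = K' := by
    rw [cj_sup, gR, cj_commutator, cj_eq_of_mem_normalizer (d.H_nE d.gH), ← d.hB]
  have e1 : X ⊔ X' = d.E := le_antisymm (sup_le lX lX') (d.hE.le.trans (sup_le_sup le_sup_left le_sup_left))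
  have e2 : X ⊓ X' = R := by
    refine le_antisymm ?_ (le_inf le_sup_right le_sup_right)
    rw [CfH7.sup_inf_of_le_normalizer' (d.A₀E.trans hR.nE) le_sup_right]
    exact sup_le (d.split R hR hRE) le_rfl
  have e3 : K ⊔ K' = d.E := le_antisymm (sup_le lK lK')
    (d.K_sup.ge.trans (sup_le_sup (sup_le_sup_left hR.le _) (sup_le_sup_left hR.le _)))
  have c1 := card_sup_mul_card_inf (B := X') (n lX le_sup_right lX')
  have c2 := card_sup_mul_card_inf (B := K') (n lK le_sup_right lK')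
  have c3 := card_sup_mul_card_inf (B := K) (n lX le_sup_right lK)
  have c4 := card_sup_mul_card_inf (A := X ⊔ K) (B := X' ⊓ K')
    (n (sup_le lX lK) (le_inf le_sup_right le_sup_right) (inf_le_left.trans lX'))
  have c5 : Nat.card (X' ⊓ K' : Subgroup Γ) = Nat.card (X ⊓ K : Subgroup Γ) := by
    rw [← gX, ← gK, ← cj_inf, card_cj]
  have c6 : Nat.card R ≤ Nat.card (K ⊓ K' : Subgroup Γ) :=
    card_le_of_le (le_inf le_sup_right le_sup_right)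
  have c7 : Nat.card ((X ⊔ K) ⊓ (X' ⊓ K') : Subgroup Γ) ≤ Nat.card R :=
    card_le_of_le fun w hw => d.form2 hw.1 hw.2.1 hw.2.2
  rw [e1, e2, ← gX, card_cj] at c1
  rw [e3, ← gK, card_cj, gK] at c2
  rw [c5, c3] at c4
  have e4 : (X ⊔ K) ⊔ (X' ⊓ K') = d.E := by
    refine eq_of_le_of_card_ge (sup_le (sup_le lX lK) (inf_le_left.trans lX')) ?_
    have p1 : 0 < Nat.card R := Nat.card_pos
    have p2 : 0 < Nat.card X := Nat.card_pos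
    have c8 : Nat.card X ≤ Nat.card K := by
      rw [← Nat.mul_self_le_mul_self_iff, ← c1, ← c2]
      exact Nat.mul_le_mul_left _ c6
    refine Nat.le_of_mul_le_mul_right (c := Nat.card R) ?_ p1
    calc _ = _ := c1
      _ ≤ _ := Nat.mul_le_mul_left _ c8
      _ = _ := c4.symm
      _ ≤ _ := Nat.mul_le_mul_left _ c7
  have i1 : X ⊓ K ≤ R := by
    intro u hu
    have nD := d.E_nD
    refine ⟨lX hu.1, ?_⟩
    rw [← e4]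
    refine secCz_sup ((sup_le lX lK).trans nD) ((inf_le_left.trans lX').trans nD)
      (secCz_sup (lX.trans nD) (lK.trans nD) ?_ ?_) ?_
    · exact ⟨nD (lX hu.1), fun v hv => comm_mem_of_le (d.comm_sup_Rad d.A₀E d.commA₀) hv hu.1⟩
    · exact ⟨nD (lX hu.1), fun v hv => comm_mem_of_le (d.comm_sup_Rad d.K_le d.K_comm) hv hu.2⟩
    · exact ⟨nD (lX hu.1), fun v hv => d.mem_D (comm_mem_symm (d.form1 hu.1 hu.2 (lX' hv.1)))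
        (d.symm.form1 hv.1 hv.2 (lX hu.1))⟩
  have i2 : ⁅d.E, d.A⁆ ≤ R := by
    obtain ⟨a, ha, hT⟩ := SetLike.not_le_iff_exists.1 d.hT
    intro k hk
    refine i1 ⟨d.fix1 hR hRE ha hT (d.K_le hk) (i1 ⟨mem_sup_left (d.comm_K_A ha hk), ?_⟩),
      mem_sup_left hk⟩
    exact mem_sup_left (comm_mem_of_le' le_rfl (d.K_le hk) ha)
  have i3 : K = R := sup_eq_right.2 i2
  rw [← gK, i3, gR, sup_idem] at e3
  exact e3

theorem EE_le_D : ⁅d.E, d.E⁆ ≤ d.D := by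
  have := d.comm_Rad
  rwa [d.Rad_eq] at this

theorem comm_A_E {a e : Γ} (ha : a ∈ d.A) (he : e ∈ d.E) : ⁅a, e⁆ ∈ d.A₀ := by
  refine d.czA₀ (d.ET (d.comm_mem_E (d.AH ha) he)) (mem_Cz_of_comm' fun x hx => ?_)
  have := d.f_der ha (d.A₀E hx) he
  rw [comm_eq_one (d.ZS_cz (d.comm_A_A₀ ha hx)) he, one_mul,
    comm_eq_one' (d.D_cz (comm_mem_of_le d.EE_le_D (d.A₀E hx) he)) (d.AH ha)] at this
  exact this.symm

end PD

end CfLp
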