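import Cfsg.Agent.OD.Pre
import Cfsg.Agent.L.PU2

/-! An abelian section `V N / N` as a module for a subgroup `H` normalizing `V` and `N`. -/

set_option autoImplicit false
set_option linter.unusedSectionVars false
set_option linter.unusedVariables false

open Cfsg Subgroup CfH9
open scoped commutatorElement

namespace CfLp

/-- an abelian section with operators -/
structure Sct (Γ : Type*) [Group Γ] where
  V : Subgroup Γ
  N : Subgroup Γ
  H : Subgroup Γ
  hV : V ≤ Nm(N)
  hc : ⁅V, V⁆ ≤ N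
  HV : H ≤ Nm(V)
  HN : H ≤ Nm(N)

namespace Sct

variable {Γ : Type*} [Group Γ] (s : Sct Γ)

instance normal : (s.N.subgroupOf s.V).Normal :=
  ⟨fun n hn g => mem_subgroupOf.2 (conj_mem_of_mem_normalizer (s.hV g.2) (mem_subgroupOf.1 hn))⟩

/-- the underlying multiplicative group -/
def X : Type _ := s.V ⧸ s.N.subgroupOf s.V

instance : CommGroup s.X :=
  { (inferInstance : Group (s.V ⧸ s.N.subgroupOf s.V)) with
    mul_comm := fun a b => by
      induction a using QuotientGroup.induction_on with | H a =>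
      induction b using QuotientGroup.induction_on with | H b =>
      refine QuotientGroup.eq.2 (mem_subgroupOf.2 ?_)
      have := comm_mem_of_le s.hc (inv_mem b.2) (inv_mem a.2)
      simpa [commutatorElement_def, mul_assoc] using this }

/-- the module -/
def Mod : Type _ := Additive s.X

instance : AddCommGroup s.Mod := inferInstanceAs (AddCommGroup (Additive s.X))

instance [Finite Γ] : Finite s.Mod := inferInstanceAs (Finite (s.V ⧸ s.N.subgroupOf s.V))

/-- the projection -/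
def pr : s.V →* s.X := QuotientGroup.mk' _

open Classical in
/-- the class of an element -/
noncomputable def cl (v : Γ) : s.Mod := if h : v ∈ s.V then Additive.ofMul (s.pr ⟨v, h⟩) else 0

theorem cl_of_mem {v : Γ} (h : v ∈ s.V) : s.cl v = Additive.ofMul (s.pr ⟨v, h⟩) := dif_pos h

theorem cl_mul {v w : Γ} (hv : v ∈ s.V) (hw : w ∈ s.V) : s.cl (v * w) = s.cl v + s.cl w := by
  rw [s.cl_of_mem hv, s.cl_of_mem hw, s.cl_of_mem (mul_mem hv hw)]
  exact congrArg Additive.ofMul (s.pr.map_mul ⟨v, hv⟩ ⟨w, hw⟩)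

theorem cl_eq_zero {v : Γ} (hv : v ∈ s.V) : s.cl v = 0 ↔ v ∈ s.N := by
  rw [s.cl_of_mem hv]
  exact (QuotientGroup.eq_one_iff (N := s.N.subgroupOf s.V) ⟨v, hv⟩).trans mem_subgroupOf

theorem cl_one : s.cl 1 = 0 := (s.cl_eq_zero (one_mem _)).2 (one_mem _)

theorem cl_inv {v : Γ} (hv : v ∈ s.V) : s.cl v⁻¹ = - s.cl v := by
  rw [eq_neg_iff_add_eq_zero, ← s.cl_mul (inv_mem hv) hv, inv_mul_cancel, s.cl_one]

theorem cl_pow {v : Γ} (hv : v ∈ s.V) (n : ℕ) : s.cl (v ^ n) = n • s.cl v := by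
  induction n with
  | zero => simp [s.cl_one]
  | succ n ih => rw [pow_succ, s.cl_mul (pow_mem hv n) hv, ih, succ_nsmul]

theorem cl_eq_iff {v w : Γ} (hv : v ∈ s.V) (hw : w ∈ s.V) : s.cl v = s.cl w ↔ v⁻¹ * w ∈ s.N := by
  rw [← s.cl_eq_zero (mul_mem (inv_mem hv) hw), s.cl_mul (inv_mem hv) hw, s.cl_inv hv,
    neg_add_eq_zero]

theorem surj (m : s.Mod) : ∃ v ∈ s.V, s.cl v = m := by
  obtain ⟨v, hv⟩ := QuotientGroup.mk_surjective (s := s.N.subgroupOf s.V) (Additive.toMul m)
  exact ⟨v, v.2, by rw [s.cl_of_mem v.2]; exact hv⟩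

theorem card [Finite Γ] : Nat.card s.Mod * Nat.card (s.V ⊓ s.N : Subgroup Γ) = Nat.card s.V := by
  rw [card_eq_card_quotient_mul_card_subgroup (s.N.subgroupOf s.V),
    ← card_subgroupOf (inf_le_left : s.V ⊓ s.N ≤ s.V), inf_subgroupOf_left]
  rfl

/-- conjugation on `V` -/
def cV {g : Γ} (hg : g ∈ s.H) : s.V →* s.V where
  toFun v := ⟨g * v * g⁻¹, conj_mem_of_mem_normalizer (s.HV hg) v.2⟩
  map_one' := by ext; simp
  map_mul' v w := by ext; simp

/-- conjugation on the section -/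
def cX {g : Γ} (hg : g ∈ s.H) : s.X →* s.X :=
  QuotientGroup.map _ _ (s.cV hg) fun n hn =>
    mem_subgroupOf.2 (conj_mem_of_mem_normalizer (s.HN hg) (mem_subgroupOf.1 hn))

open Classical in
/-- the action -/
noncomputable def act (g : Γ) : AddMonoid.End s.Mod :=
  if h : g ∈ s.H then MonoidHom.toAdditive (s.cX h) else 1

theorem conj_mem {g v : Γ} (hg : g ∈ s.H) (hv : v ∈ s.V) : g * v * g⁻¹ ∈ s.V :=
  conj_mem_of_mem_normalizer (s.HV hg) hv

theorem comm_mem {g v : Γ} (hg : g ∈ s.H) (hv : v ∈ s.V) : ⁅g, v⁆ ∈ s.V :=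
  commutator_mem_right hv (s.HV hg)

theorem act_cl {g v : Γ} (hg : g ∈ s.H) (hv : v ∈ s.V) :
    s.act g (s.cl v) = s.cl (g * v * g⁻¹) := by
  have : s.act g = MonoidHom.toAdditive (s.cX hg) := dif_pos hg
  rw [this, s.cl_of_mem hv, s.cl_of_mem (s.conj_mem hg hv)]
  rfl

theorem end_ext {f f' : AddMonoid.End s.Mod} (h : ∀ v ∈ s.V, f (s.cl v) = f' (s.cl v)) :
    f = f' := by
  ext m
  obtain ⟨v, hv, rfl⟩ := s.surj m
  exact h v hv

theorem act_mul {g h : Γ} (hg : g ∈ s.H) (hh : h ∈ s.H) : s.act (g * h) = s.act g * s.act h :=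
  s.end_ext fun v hv => by
    rw [AddMonoid.End.coe_mul, Function.comp_apply, s.act_cl hh hv, s.act_cl hg (s.conj_mem hh hv),
      s.act_cl (mul_mem hg hh) hv]
    congr 1; group

theorem act_one : s.act 1 = 1 := s.end_ext fun v hv => by rw [s.act_cl (one_mem _) hv]; simp

theorem act_pow {g : Γ} (hg : g ∈ s.H) (n : ℕ) : s.act (g ^ n) = s.act g ^ n := by
  induction n with
  | zero => simp [s.act_one]
  | succ n ih => rw [pow_succ, s.act_mul (pow_mem hg n) hg, ih, pow_succ]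

/-- the commutator map -/
noncomputable def δ (g : Γ) : AddMonoid.End s.Mod := s.act g - 1

theorem act_eq (g : Γ) : s.act g = 1 + s.δ g := by rw [δ]; abel

theorem δ_cl {g v : Γ} (hg : g ∈ s.H) (hv : v ∈ s.V) : s.δ g (s.cl v) = s.cl ⁅g, v⁆ := by
  have : s.δ g (s.cl v) = s.act g (s.cl v) - s.cl v := rfl
  rw [this, s.act_cl hg hv, conj_eq_comm_mul, s.cl_mul (s.comm_mem hg hv) hv, add_sub_cancel_right]

theorem act_eq_one {g : Γ} (hg : g ∈ s.H) : s.act g = 1 ↔ ∀ v ∈ s.V, ⁅g, v⁆ ∈ s.N := by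
  rw [← sub_eq_zero]
  constructor
  · intro h v hv
    rw [← s.cl_eq_zero (s.comm_mem hg hv), ← s.δ_cl hg hv, δ, h]; rfl
  · intro h
    refine s.end_ext fun v hv => ?_
    exact (s.δ_cl hg hv).trans ((s.cl_eq_zero (s.comm_mem hg hv)).2 (h v hv))

theorem act_eq_iff {g h : Γ} (hg : g ∈ s.H) (hh : h ∈ s.H) :
    s.act g = s.act h ↔ ∀ v ∈ s.V, ⁅g⁻¹ * h, v⁆ ∈ s.N := by
  rw [← s.act_eq_one (mul_mem (inv_mem hg) hh), s.act_mul (inv_mem hg) hh]
  constructor
  · intro e; rw [← e, ← s.act_mul (inv_mem hg) hg, inv_mul_cancel, s.act_one]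
  · intro e
    rw [← mul_one (s.act g), ← e, ← mul_assoc, ← s.act_mul hg (inv_mem hg), mul_inv_cancel,
      s.act_one, one_mul]

theorem natCast_eq_zero {n : ℕ} (h : ∀ v ∈ s.V, v ^ n ∈ s.N) : (n : AddMonoid.End s.Mod) = 0 :=
  s.end_ext fun v hv => by
    rw [AddMonoid.End.natCast_apply, ← s.cl_pow hv, (s.cl_eq_zero (pow_mem hv n)).2 (h v hv)]; rfl

theorem cancel {a b : Γ} (ha : a ∈ s.H) (hb : b ∈ s.H)
    (gen : ∀ v ∈ s.V, ∃ u ∈ s.V, ∃ u' ∈ s.V, v⁻¹ * (⁅a, u⁆ * ⁅b, u'⁆) ∈ s.N)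
    (r : AddMonoid.End s.Mod) (h1 : r * s.δ a = 0) (h2 : r * s.δ b = 0) : r = 0 :=
  s.end_ext fun v hv => by
    obtain ⟨u, hu, u', hu', e⟩ := gen v hv
    rw [(s.cl_eq_iff hv (mul_mem (s.comm_mem ha hu) (s.comm_mem hb hu'))).2 e,
      s.cl_mul (s.comm_mem ha hu) (s.comm_mem hb hu'), map_add, ← s.δ_cl ha hu, ← s.δ_cl hb hu']
    have e1 : r (s.δ a (s.cl u)) = 0 := DFunLike.congr_fun h1 (s.cl u)
    have e2 : r (s.δ b (s.cl u')) = 0 := DFunLike.congr_fun h2 (s.cl u')
    rw [e1, e2, add_zero]; rfl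

theorem mul_apply' (f f' : AddMonoid.End s.Mod) (m : s.Mod) : (f * f') m = f (f' m) := rfl

theorem δ2_eq_zero {a b : Γ} (ha : a ∈ s.H) (hb : b ∈ s.H) :
    s.δ a * s.δ b = 0 ↔ ∀ v ∈ s.V, ⁅a, ⁅b, v⁆⁆ ∈ s.N := by
  constructor
  · intro h v hv
    rw [← s.cl_eq_zero (s.comm_mem ha (s.comm_mem hb hv)), ← s.δ_cl ha (s.comm_mem hb hv),
      ← s.δ_cl hb hv, ← mul_apply', h]; rfl
  · intro h
    refine s.end_ext fun v hv => ?_
    rw [mul_apply', s.δ_cl hb hv, s.δ_cl ha (s.comm_mem hb hv)]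
    exact (s.cl_eq_zero (s.comm_mem ha (s.comm_mem hb hv))).2 (h v hv)

theorem δ3_eq_zero {a b c : Γ} (ha : a ∈ s.H) (hb : b ∈ s.H) (hc : c ∈ s.H) :
    s.δ a * s.δ b * s.δ c = 0 ↔ ∀ v ∈ s.V, ⁅a, ⁅b, ⁅c, v⁆⁆⁆ ∈ s.N := by
  have m := fun v hv => s.comm_mem ha (s.comm_mem hb (s.comm_mem hc (v := v) hv))
  have e : ∀ v ∈ s.V, (s.δ a * s.δ b * s.δ c) (s.cl v) = s.cl ⁅a, ⁅b, ⁅c, v⁆⁆⁆ := fun v hv => by
    rw [mul_apply', mul_apply', s.δ_cl hc hv, s.δ_cl hb (s.comm_mem hc hv),
      s.δ_cl ha (s.comm_mem hb (s.comm_mem hc hv))]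
  constructor
  · intro h v hv
    rw [← s.cl_eq_zero (m v hv), ← e v hv, h]; rfl
  · intro h
    exact s.end_ext fun v hv => (e v hv).trans ((s.cl_eq_zero (m v hv)).2 (h v hv))

end Sct

section ring

variable {R : Type*} [Ring R] {x y : R}

theorem ring_braid (hx : x * x = 0) (hy : y * y = 0) (h1 : x * y * x = -x) (h2 : y * x * y = -y)
    (c : ∀ r : R, r * x = 0 → r * y = 0 → r = 0) :
    (1 + x) * (1 + y) * (1 + x) = (1 + y) * (1 + x) * (1 + y) ∧
      ((1 + x) * (1 + y) * (1 + x)) ^ 2 = -1 := by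
  have e : (1 + x) * (1 + y) * (1 + x) = 1 + x + y + x * y + y * x := by
    have : (1 + x) * (1 + y) * (1 + x) = 1 + 2 * x + y + x * y + y * x + x * x + x * y * x := by
      noncomm_ring
    rw [this, hx, h1]; noncomm_ring
  have e' : (1 + y) * (1 + x) * (1 + y) = 1 + x + y + x * y + y * x := by
    have : (1 + y) * (1 + x) * (1 + y) = 1 + 2 * y + x + x * y + y * x + y * y + y * x * y := by
      noncomm_ring
    rw [this, hy, h2]; noncomm_ring
  have v : x * y + y * x + 1 = 0 := by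
    refine c _ ?_ ?_
    · have : (x * y + y * x + 1) * x = x * y * x + y * (x * x) + x := by noncomm_ring
      rw [this, hx, h1]; noncomm_ring
    · have : (x * y + y * x + 1) * y = y * x * y + x * (y * y) + y := by noncomm_ring
      rw [this, hy, h2]; noncomm_ring
  refine ⟨e.trans e'.symm, ?_⟩
  have e2 : (1 + x) * (1 + y) * (1 + x) = x + y := by
    rw [e, ← sub_eq_zero, ← v]; noncomm_ring
  have : (x + y) ^ 2 = x * x + y * y + (x * y + y * x + 1) - 1 := by noncomm_ring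
  rw [e2, this, hx, hy, v]; noncomm_ring

theorem ring_cubic (hx : x * x * x = 0) (hy : y * y * y = 0)
    (hb : (1 + x) * (1 + y) * (1 + x) = (1 + y) * (1 + x) * (1 + y))
    (h4 : ((1 + x) * (1 + y) * (1 + x)) ^ 4 = 1)
    (h1 : x * y * (x * x) = -(x * x)) (h2 : y * x * (y * y) = -(y * y))
    (c : ∀ r : R, r * x = 0 → r * y = 0 → r = 0) : 6 * (x * x) = 0 := by
  have b : x + x * x + x * y * x = y + y * y + y * x * y := by
    rw [← sub_eq_zero] at hb ⊢
    rw [← hb]; noncomm_ring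
  have w : x + x * x + x * y * x = 0 := by
    refine c _ ?_ ?_
    · have : (x + x * x + x * y * x) * x = x * x + x * x * x + x * y * (x * x) := by noncomm_ring
      rw [this, hx, h1]; abel
    · have : (y + y * y + y * x * y) * y = y * y + y * y * y + y * x * (y * y) := by noncomm_ring
      rw [b, this, hy, h2]; abel
  have w' : y + y * y + y * x * y = 0 := b ▸ w
  have k1 : x * y * x = -x - x * x := by rw [← sub_eq_zero, ← w]; noncomm_ring
  have k2 : y * x * y = -y - y * y := by rw [← sub_eq_zero, ← w']; noncomm_ring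
  set n := (1 + x) * (1 + y) * (1 + x) with hn
  have e : n = 1 + x + y + x * y + y * x := by
    rw [hn, ← sub_eq_zero, ← w]; noncomm_ring
  have nx : n * x = y * n := by
    have : n * (1 + x) = (1 + y) * n := by
      conv_lhs => rw [hb]
      rw [hn]; noncomm_ring
    rw [← sub_eq_zero] at this ⊢
    rw [← this]; noncomm_ring
  have ny : n * y = x * n := by
    have : n * (1 + y) = (1 + x) * n := by
      conv_rhs => rw [hb]
      rw [hn]; noncomm_ring
    rw [← sub_eq_zero] at this ⊢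
    rw [← this]; noncomm_ring
  have nx' : n * x = y * x + y * (x * x) := by
    have : n * x = x + x * x + x * y * x + y * x + y * (x * x) := by rw [e]; noncomm_ring
    rw [this, w, zero_add]
  have ny' : n * y = x * y + x * (y * y) := by
    have : n * y = y + y * y + y * x * y + x * y + x * (y * y) := by rw [e]; noncomm_ring
    rw [this, w', zero_add]
  -- `n² x = n y n = x n n`, computed from `n x`
  have q1 : n * n * x = -x - 3 * (x * x) := by
    have : n * n * x = n * y * x + n * y * (x * x) := by rw [mul_assoc, nx']; noncomm_ring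
    rw [this, ny']
    have a1 : x * (y * y) * x = -(x * x) := by
      have : x * n * x = x * y * n := by rw [mul_assoc, nx, mul_assoc]
      have t1 : x * n * x = n * y * x := by rw [ny]
      have t2 : x * (n * x) = x * y * x + x * y * (x * x) := by rw [nx']; noncomm_ring
      have t3 : n * y * x = x * y * x + x * (y * y) * x := by rw [ny']; noncomm_ring
      rw [mul_assoc, t2, t3, h1] at t1
      exact (add_left_cancel t1).symm
    have a2 : x * (y * y) * (x * x) = 0 := by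
      rw [← mul_assoc, a1, neg_mul, hx, neg_zero]
    have : (x * y + x * (y * y)) * x + (x * y + x * (y * y)) * (x * x) =
        x * y * x + x * (y * y) * x + x * y * (x * x) + x * (y * y) * (x * x) := by noncomm_ring
    rw [this, k1, a1, h1, a2]; noncomm_ring
  have q2 : n ^ 4 * x = x + 6 * (x * x) := by
    have : n ^ 4 * x = n * n * (n * n * x) := by noncomm_ring
    rw [this, q1]
    have : n * n * (-x - 3 * (x * x)) = -(n * n * x) - 3 * (n * n * x * x) := by noncomm_ring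
    rw [this, q1]
    have : -(-x - 3 * (x * x)) - 3 * ((-x - 3 * (x * x)) * x) = x + 6 * (x * x) + 9 * (x * x * x) := by
      noncomm_ring
    rw [this, hx]; noncomm_ring
  rw [h4, one_mul] at q2
  exact left_eq_add.1 q2

theorem ring_two (h : (1 + x) ^ 2 = 1) (h2 : 2 * x = 0) : x * x = 0 := by
  have : (1 + x) ^ 2 = 1 + 2 * x + x * x := by noncomm_ring
  rw [this, h2, add_zero] at h
  exact add_eq_left.1 h

theorem ring_three (h : (1 + x) ^ 3 = 1) (h3 : (3 : R) = 0) : x * x * x = 0 := by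
  have : (1 + x) ^ 3 = 1 + 3 * (x + x * x) + x * x * x := by noncomm_ring
  rw [this, h3, zero_mul, add_zero] at h
  exact add_eq_left.1 h

theorem ring_neg (h : (1 + y) * (1 + x) = (1 + x) * (1 + y)) (h1 : (1 + y) * x = -x)
    (h2 : x * x * y = 0) : 2 * (x * x) = 0 := by
  have e : y * x = x * y := by
    rw [← sub_eq_zero] at h ⊢
    rw [← h]; noncomm_ring
  have e2 : x * y = -(2 * x) := by
    rw [← e, ← sub_eq_zero, ← sub_eq_zero.2 h1]; noncomm_ring
  rw [mul_assoc, e2] at h2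
  rw [← neg_eq_zero, ← h2]; noncomm_ring

end ring

end CfLp
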