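import Cfsg.Agent.OD.Pre
import Cfsg.Agent.L.PU5
import Cfsg.Agent.L.Sct

/-! Pushing up: the subgroups `L = [T, O^p(G)]`, `W = C_T(O^p(G))` and braid elements. -/

set_option autoImplicit false
set_option linter.unusedSectionVars false
set_option linter.unusedVariables false

open Cfsg Subgroup CfH9
open CfH7 (secCz mem_secCz)
open scoped commutatorElement

namespace CfLp

variable {Γ : Type*} [Group Γ]

/-- `C_T(O^p(G))` -/
abbrev Wc (p : ℕ) (G T : Subgroup Γ) : Subgroup Γ := T ⊓ Cz(Op(p, G))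

/-- `[T, O^p(G)]` -/
abbrev Lc (p : ℕ) (G T : Subgroup Γ) : Subgroup Γ := ⁅T, Op(p, G)⁆

variable [Finite Γ] {p q : ℕ} {G S T M : Subgroup Γ} [hp : Fact p.Prime]

theorem PU.nW (h : PU p q G S T M) : G ≤ Nm(Wc p G T) :=
  CfH7.le_normalizer_inf h.nT (h.nCz h.nO)

theorem PU.nLW (h : PU p q G S T M) : G ≤ Nm(Lc p G T ⊔ Wc p G T) :=
  CfH7.le_normalizer_sup h.nL h.nW

theorem PU.nZW (h : PU p q G S T M) : G ≤ Nm(Zc(T) ⊔ Wc p G T) :=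
  CfH7.le_normalizer_sup h.nZ h.nW

theorem PU.Zg_le_W (h : PU p q G S T M) : Zc(G) ≤ Wc p G T :=
  le_inf (h.Zg_le_Z.trans inf_le_left) (inf_le_right.trans (Cz_anti h.OG))

theorem PU.WG (h : PU p q G S T M) : Wc p G T ≤ G := inf_le_left.trans h.TG

theorem PU.commW (h : PU p q G S T M) {g w : Γ} (hg : g ∈ G) (hw : w ∈ Wc p G T) :
    ⁅g, w⁆ ∈ Wc p G T := commutator_mem_right hw (h.nW hg)

theorem PU.commW' (h : PU p q G S T M) {g w : Γ} (hg : g ∈ G) (hw : w ∈ Wc p G T) :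
    ⁅w, g⁆ ∈ Wc p G T := commutator_mem_left hw (h.nW hg)

theorem FF.mem_Zg (h : FF p q G S T M) {z : Γ} (hz : z ∈ Zc(T)) (hw : z ∈ Wc p G T) :
    z ∈ Zc(G) := h.Z_inf_CzO.le ⟨hz, hw.2⟩

theorem FF.Z_le_LW (h : FF p q G S T M) : Zc(T) ≤ Lc p G T ⊔ Wc p G T := by
  rw [← h.comm_O_sup]
  exact sup_le_sup (commutator_mono inf_le_left le_rfl) h.Zg_le_W

theorem PU.mem_sup_W (h : PU p q G S T M) {X : Subgroup Γ} (hX : X ≤ G) {y : Γ}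
    (hy : y ∈ X ⊔ Wc p G T) : ∃ x ∈ X, ∃ w ∈ Wc p G T, x * w = y :=
  (mem_sup_of_le_Nm (hX.trans h.nW)).1 hy

/-- an element of `T` centralized by `O^p(G)` modulo `W` lies in `W` -/
theorem PU.mem_W (h : PU p q G S T M) {x : Γ} (hx : x ∈ T)
    (hc : ∀ o ∈ Op(p, G), ⁅x, o⁆ ∈ Wc p G T) : x ∈ Wc p G T := by
  have n1 : G ≤ Nm(T ⊓ secCz Op(p, G) (Wc p G T)) :=
    CfH7.le_normalizer_inf h.nT (CfH7.le_Nm_secCz h.nO h.nW)
  have h1 : Op(p, G) ≤ Cz(T ⊓ secCz Op(p, G) (Wc p G T)) := by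
    refine CfH7.pResidualOf_le_Cz_of_le' (M := Wc p G T) (h.pT.to_le inf_le_left) n1 ?_
      (CfH7.le_Cz_comm inf_le_right)
    rw [commutator_comm]
    exact (commutator_mono le_rfl inf_le_right).trans (CfH7.commutator_secCz_le _ _)
  exact ⟨hx, CfH7.le_Cz_comm h1 ⟨hx, h.nW (h.TG hx), fun r hr => comm_mem_symm (hc r hr)⟩⟩

theorem PU.TT_le (h : PU p q G S T M) (hL : ⁅Lc p G T, T⁆ ≤ Wc p G T) : ⁅T, T⁆ ≤ Wc p G T := by
  have h1 : ⁅⁅T, T⁆, Op(p, G)⁆ ≤ Wc p G T :=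
    CfH7.three_subgroups (h.TG.trans h.nW) (h.TG.trans h.nW) (h.OG.trans h.nW) hL
      (by rwa [commutator_comm Op(p, G)])
  intro x hx
  exact h.mem_W (commutator_le_self _ hx) fun o ho => comm_mem_of_le h1 hx ho

/-- the section `T / W` -/
def PU.sT (h : PU p q G S T M) (hL : ⁅Lc p G T, T⁆ ≤ Wc p G T) : Sct Γ where
  V := T
  N := Wc p G T
  H := G
  hV := h.TG.trans h.nW
  hc := h.TT_le hL
  HV := h.nT
  HN := h.nW

theorem PU.pow_mem_W (h : PU p q G S T M) (hL : ⁅Lc p G T, T⁆ ≤ Wc p G T)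
    (hl : ∀ l ∈ Lc p G T, l ^ p ∈ Wc p G T) {t : Γ} (ht : t ∈ T) : t ^ p ∈ Wc p G T := by
  refine h.mem_W (pow_mem ht p) fun o ho => comm_mem_symm ?_
  let s := h.sT hL
  have h1 : ⁅o, t⁆ ∈ T := commutator_mem_right ht (h.nT (h.OG ho))
  have h2 : s.cl ⁅o, t ^ p⁆ = s.cl (⁅o, t⁆ ^ p) := by
    rw [← s.δ_cl (h.OG ho) (pow_mem ht p), s.cl_pow ht, map_nsmul, s.δ_cl (h.OG ho) ht,
      s.cl_pow h1]
  have h3 : s.cl (⁅o, t⁆ ^ p) = 0 := (s.cl_eq_zero (pow_mem h1 p)).2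
    (hl _ (comm_mem_symm (commutator_mem_commutator ht ho)))
  exact (s.cl_eq_zero (commutator_mem_right (pow_mem ht p) (h.nT (h.OG ho)))).1 (h2.trans h3)

namespace PD

variable (d : PD p q G T)

theorem DW : d.D ≤ Wc p G T := le_inf d.DT d.D_czO

theorem mem_D_of_W {y : Γ} (hy : y ∈ d.Y) (hw : y ∈ Wc p G T) : y ∈ d.D := by
  obtain ⟨c, hc, z, hz, rfl⟩ := d.mem_Y hy
  exact mul_mem hc (d.ZgD (d.cs.mem_Zg hz ((mul_mem_cancel_left (d.DW hc)).1 hw)))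

theorem Y_le : d.Y ≤ Zc(T) ⊔ Wc p G T := by
  rw [← d.D_sup]
  exact sup_le (d.DW.trans le_sup_right) le_sup_left

theorem E_le : d.E ≤ Lc p G T ⊔ Wc p G T := by
  rw [← d.L_sup]
  exact sup_le le_sup_left (d.Y_le.trans (sup_le d.cs.Z_le_LW le_sup_right))

theorem E_sup : d.E ⊔ Wc p G T = Lc p G T ⊔ Wc p G T :=
  le_antisymm (sup_le d.E_le le_sup_right) (sup_le_sup_right d.LE _)

theorem mem_LW {x : Γ} (hx : x ∈ Lc p G T ⊔ Wc p G T) : ∃ e ∈ d.E, ∃ w ∈ Wc p G T, e * w = x :=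
  d.cs.mem_sup_W d.EG (d.E_sup.ge hx)

theorem EE_le_W : ⁅d.E, d.E⁆ ≤ Wc p G T := d.EE_le_D.trans d.DW

theorem comm_A_T {a t : Γ} (ha : a ∈ d.A) (ht : t ∈ T) : ⁅a, t⁆ ∈ Lc p G T ⊔ Wc p G T := by
  have htG := d.cs.TG ht
  have hY' : CD T (cj t d.Y) := d.cdY.cj_of_mem (le_normalizer ht)
  have e1 := d.cdY.cz_inf hY'
  have e2 : T ⊓ Cz(cj t d.Y) = cj t d.E := by
    rw [← cj_centralizer, ← d.czY, cj_inf, cj_eq_of_mem ht]
  rw [d.czY, e2] at e1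
  have h1 : ⁅a, t⁆ ∈ T := commutator_mem_right ht (d.cs.nT (d.AG ha))
  have h2 : ⁅a, t⁆ ∈ T ⊓ Cz(d.Y ⊓ cj t d.Y) := by
    refine ⟨h1, mem_Cz_of_comm fun y hy => ?_⟩
    obtain ⟨c, hc, z, hz, rfl⟩ := d.mem_Y hy.1
    have hc' : t⁻¹ * c * t ∈ d.D := by
      refine d.mem_D_of_W ?_ (conj_mem_of_mem_normalizer' (d.cs.nW htG) (d.DW hc))
      have h3 := mem_cj.1 hy.2
      have h4 : t⁻¹ * (c * z) * t = t⁻¹ * c * t * z := by
        rw [mul_assoc t⁻¹ c t, mul_assoc, mul_assoc, mul_assoc, d.cs.zcomm hz ht, mul_assoc]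
      rwa [h4, mul_mem_cancel_right (d.ZY hz)] at h3
    have k1 : Commute a c := (cz_comm (d.D_cz hc) (d.AH ha)).symm
    have k2 : Commute a (t⁻¹ * c * t) := (cz_comm (d.D_cz hc') (d.AH ha)).symm
    have k3 : Commute (t * a⁻¹ * t⁻¹) c := by
      have := (k2.inv_left).map (MulAut.conj t).toMonoidHom
      simpa [mul_assoc] using this
    have k4 : Commute ⁅a, t⁆ c := by
      have : ⁅a, t⁆ = a * (t * a⁻¹ * t⁻¹) := by rw [commutatorElement_def]; group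
      rw [this]
      exact k1.mul_left k3
    exact commutatorElement_eq_one_iff_commute.2
      (k4.mul_right (d.cs.zcomm hz h1).symm)
  rw [e1] at h2
  refine sup_le d.E_le ?_ h2
  rw [← cj_eq_of_mem_normalizer (d.cs.nLW htG)]
  exact cj_mono t d.E_le

theorem comm_T_A : ⁅T, d.A⁆ ≤ Lc p G T ⊔ Wc p G T :=
  commutator_le.2 fun t ht a ha => comm_mem_symm (d.comm_A_T ha ht)

theorem comm_T_H : ⁅T, d.H⁆ ≤ Lc p G T ⊔ Wc p G T := by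
  rw [d.hH]
  exact CfH7.commutator_sup_right_le (d.AG.trans d.cs.nLW) (d.symm.AG.trans d.cs.nLW)
    d.comm_T_A d.symm.comm_T_A

end PD

theorem CS.JT (h : CS p q G S T M) : TJ 0 T = T := by
  have c1 : CD T (TJ 0 T) := by
    have e : sSup {A | MaxEA 0 T A} = TJ 0 T :=
      le_antisymm (sSup_le fun A hA => hA.le_TJ) (TJ_le_iff.2 fun A hA => le_sSup hA)
    rw [← e]
    exact cd_sSup (exists_maxEA 0 T) fun A hA => h.cd_maxT hA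
  have k1 : ∀ A, MaxEA 0 T A → T ⊓ Cz(TJ 0 T) ≤ A := fun A hA =>
    (inf_le_inf_left T (Cz_anti hA.le_TJ)).trans hA.inf_Cz_zero.le
  have k2 : ∀ d : PD p q G T, T ⊓ Cz(TJ 0 T) ≤ d.Y := fun d => by
    rw [d.hY]; exact le_inf (k1 _ d.maxTA₀) (k1 _ d.symm.maxTA₀)
  have k3 : ∀ x ∈ T ⊓ Cz(TJ 0 T), x ∈ Wc p G T → x ∈ Zc(T) := fun x hx hw => by
    refine h.ZS_le_Z ⟨h.TS hx.1, ?_⟩
    have : TJ 0 S ≤ Cx(x) := TJ_le_iff.2 fun A hA => le_Cx_iff.2 (le_Cz_of_comm hA.comm (by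
      by_cases hT : A ≤ T
      · exact k1 A (hA.mono hT h.TS) hx
      · obtain ⟨d, -, -, rfl⟩ := h.exists_pd hA hT
        exact d.DA (d.mem_D_of_W (k2 d hx) hw)))
    rw [h.JS] at this
    exact le_Cx_iff.1 this
  have k4 : T ⊓ Cz(TJ 0 T) ≤ Zc(T) := fun x hx => by
    obtain ⟨A, hA, hT⟩ := h.exA
    obtain ⟨d, -, -, -⟩ := h.exists_pd hA hT
    obtain ⟨c, hc, z, hz, rfl⟩ := d.mem_Y (k2 d hx)
    have hz' : z ∈ T ⊓ Cz(TJ 0 T) := ⟨hz.1, Cz_anti (TJ_le T) hz.2⟩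
    exact mul_mem (k3 c ((mul_mem_cancel_right hz').1 hx) (d.DW hc)) hz
  refine le_antisymm (TJ_le T) ?_
  rw [← c1.cz_cz]
  exact le_inf le_rfl ((CfH7.le_Cz_comm inf_le_right).trans (Cz_anti k4))

theorem CS.exists_large (h : CS p q G S T M) {X : Subgroup Γ} (hX : ¬ T ≤ X) :
    ∃ A, MaxEA 0 T A ∧ ¬ A ≤ X := by
  by_contra hh
  push Not at hh
  exact hX (h.JT.ge.trans (TJ_le_iff.2 hh))

/-- the section `Z(T) / Z(G)` -/
def PU.sZ (h : PU p q G S T M) : Sct Γ where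
  V := Zc(T)
  N := Zc(G)
  H := G
  hV := h.Z_le_G.trans h.nZg
  hc := by rw [CfH7.comm_eq_bot_left.2 (le_Cz_of_comm h.commZ)]; exact bot_le
  HV := h.nZ
  HN := h.nZg

/-- a pair of elements acting on `Z(T) / Z(G)` like the standard generators of `SL₂` -/
structure Br (G S S' T : Subgroup Γ) (a b : Γ) : Prop where
  ha : a ∈ S
  hb : b ∈ S'
  haT : a ∉ T
  hbT : b ∉ T
  h1 : ∀ u ∈ Zc(S), ⁅a, ⁅b, u⁆⁆ * u ∈ Zc(G)
  h2 : ∀ v ∈ Zc(S'), ⁅b, ⁅a, v⁆⁆ * v ∈ Zc(G)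

theorem FF.exists_br (h : FF p q G S T M) {g : Γ} (hg : g ∈ G) (hM : g ∉ M) {a : Γ} (ha : a ∈ S)
    (haT : a ∉ T) {B : Subgroup Γ} (hB : B ⊔ T = cj g S) :
    ∃ b ∈ B, Br G S (cj g S) T a b := by
  have h' := h.conj' hg
  have haG := h.SG ha
  obtain ⟨s, hs, hm⟩ := h'.bruhat g⁻¹ (inv_mem hg)
    (by rw [mem_cj, inv_mul_cancel_right, inv_mem_iff]; exact hM) a haG (h.notMem_cj hg hM ha haT)
  obtain ⟨b, hb, t, ht, rfl⟩ := h'.mem_of_sup_eq hB hs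
  have hbS : b ∈ cj g S := hB.le (mem_sup_left hb)
  have hbG := h'.SG hbS
  have m1 : b * a * g ∈ M := by
    rw [mem_cj] at hm
    have e : g⁻¹ * (g⁻¹⁻¹ * (b * t) * a) * g = b * a * g * ((a * g)⁻¹ * t * (a * g)) := by group
    rwa [e, mul_mem_cancel_right (h.TM (conj_mem_of_mem_normalizer'
      (h.nT (mul_mem haG hg)) ht))] at hm
  have hbT : b ∉ T := fun hh => hM (by
    rwa [mul_mem_cancel_left (mul_mem (h.TM hh) (h.SM ha))] at m1)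
  have k2 : ∀ v ∈ Zc(cj g S), ⁅b, ⁅a, v⁆⁆ * v ∈ Zc(G) := fun v hv => by
    have hvZ := h.ZS_cj_le_Z hg hv
    rw [← h.inf_ZS_cj hg hM]
    refine ⟨?_, mul_mem (h'.comm_mem hbS (h.comm_mem_Z haG hvZ)) hv⟩
    have h1 : (b * a) * v * (b * a)⁻¹ ∈ Zc(S) := by
      rw [← cj_Zc, mem_cj] at hv
      have := conj_mem_of_mem_normalizer (h.M_le_Nm m1) hv
      convert this using 1
      group
    have h2 : (b * a) * v * (b * a)⁻¹ = ⁅a, v⁆ * (⁅b, ⁅a, v⁆⁆ * v) := by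
      have e1 : (b * a) * v * (b * a)⁻¹ = (b * ⁅a, v⁆ * b⁻¹) * (b * v * b⁻¹) := by
        rw [commutatorElement_def]; group
      rw [e1, conj_eq_comm_mul b ⁅a, v⁆, conj_eq_self (cz_comm hv.2 hbS).symm,
        h.zcomm (h.comm_mem_Z hbG (h.comm_mem_Z haG hvZ)) (h.comm_mem_Z haG hvZ).1, mul_assoc]
    rwa [h2, mul_mem_cancel_left (h.comm_mem ha hvZ)] at h1
  refine ⟨b, hb, ha, hbS, haT, hbT, fun u hu => ?_, k2⟩
  have huZ := h.ZS_le_Z hu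
  have hv := h'.comm_mem hbS huZ
  have hw := h.comm_mem ha (h'.ZS_le_Z hv)
  rw [← h.inf_ZS_cj hg hM]
  refine ⟨mul_mem hw hu, h'.mem_ZS_of_comm (h.ZS_le_Z (mul_mem hw hu)) hbS hbT ?_⟩
  rw [h.comm_mulZ hbG (h.ZS_le_T hw) huZ]
  exact k2 _ hv

end CfLp
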