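import Cfsg.Agent.OD.Pre
import Cfsg.Agent.L.PU6
import Cfsg.Agent.H1.Frattini

/-! Pushing up: the case `[T, O^p(G)] ≤ Z(T)`. -/

set_option autoImplicit false
set_option linter.unusedSectionVars false
set_option linter.unusedVariables false

open Cfsg Subgroup CfH9
open CfH7 (secCz mem_secCz)
open scoped commutatorElement

namespace CfLp

variable {Γ : Type*} [Group Γ]

theorem mul_pow_two {x y : Γ} (hx : Commute x ⁅y, x⁆) (hy : Commute y ⁅y, x⁆) (n : ℕ) :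
    (x * y) ^ n = x ^ n * y ^ n * ⁅y, x⁆ ^ n.choose 2 := by
  induction n with
  | zero => simp
  | succ n ih =>
    have e : y ^ n * x = ⁅y, x⁆ ^ n * x * y ^ n := by
      rw [← comm_pow_left hy.eq n, commutatorElement_def]; group
    have e2 : (n + 1).choose 2 = n + n.choose 2 := by simp [Nat.choose_succ_succ']
    rw [pow_succ, ih, mul_assoc, ← ((hx.mul_left hy).pow_right _).eq, e2, pow_add, pow_succ,
      pow_succ]
    calc x ^ n * y ^ n * (x * y * ⁅y, x⁆ ^ n.choose 2)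
        = x ^ n * (y ^ n * x) * y * ⁅y, x⁆ ^ n.choose 2 := by group
      _ = x ^ n * (⁅y, x⁆ ^ n * (x * (y ^ n * y))) * ⁅y, x⁆ ^ n.choose 2 := by rw [e]; group
      _ = _ := by
        rw [← ((hx.mul_left ((hy.pow_left n).mul_left hy)).pow_right n).eq]; group

theorem mul_pow_mod {p : ℕ} [hp : Fact p.Prime] (h2 : p ≠ 2) {N : Subgroup Γ} {x y : Γ}
    (hx : x ∈ Nm(N)) (hy : y ∈ Nm(N)) (h1 : ⁅x, ⁅y, x⁆⁆ ∈ N) (h1' : ⁅y, ⁅y, x⁆⁆ ∈ N)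
    (h3 : ⁅y, x⁆ ^ p ∈ N) : (x ^ p * y ^ p)⁻¹ * (x * y) ^ p ∈ N := by
  let X : Nm(N) := ⟨x, hx⟩
  let Y : Nm(N) := ⟨y, hy⟩
  let π := CfH8.nmQuot N
  have k1 : π ⁅X, ⁅Y, X⁆⁆ = 1 := CfH8.nmQuot_eq_one_iff.2 h1
  have k2 : π ⁅Y, ⁅Y, X⁆⁆ = 1 := CfH8.nmQuot_eq_one_iff.2 h1'
  have k3 : π (⁅Y, X⁆ ^ p) = 1 := CfH8.nmQuot_eq_one_iff.2 h3
  simp only [map_commutatorElement, map_pow, commutatorElement_eq_one_iff_commute] at k1 k2 k3
  obtain ⟨m, hm⟩ := hp.out.dvd_choose_self two_ne_zero (lt_of_le_of_ne hp.out.two_le h2.symm)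
  refine (CfH8.nmQuot_eq_one_iff (g := (X ^ p * Y ^ p)⁻¹ * (X * Y) ^ p)).1 ?_
  change π _ = 1
  rw [map_mul, map_inv, map_mul, map_pow, map_pow, map_pow, map_mul, mul_pow_two k1 k2, hm,
    pow_mul, k3, one_pow, mul_one, inv_mul_cancel]

theorem mem_of_sq {p : ℕ} [hp : Fact p.Prime] (h2 : p ≠ 2) {N : Subgroup Γ} {x : Γ}
    (h1 : x ^ 2 ∈ N) (h3 : x ^ p ∈ N) : x ∈ N := by
  obtain ⟨k, hk⟩ := hp.out.odd_of_ne_two h2
  rwa [hk, pow_succ, pow_mul, mul_mem_cancel_left (pow_mem h1 k)] at h3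

theorem end_neg_apply {A : Type*} [AddCommGroup A] (f : AddMonoid.End A) (m : A) :
    (-f) m = - f m := rfl

theorem cop_zero {R : Type*} [Ring R] {m n : ℕ} (h : m.Coprime n) {x : R} (h1 : (m : R) * x = 0)
    (h2 : (n : R) * x = 0) : x = 0 := by
  rw [← nsmul_eq_mul, ← addOrderOf_dvd_iff_nsmul_eq_zero] at h1 h2
  exact AddMonoid.addOrderOf_eq_one_iff.1 (Nat.eq_one_of_dvd_coprimes h h1 h2)

/-- the centralizer of `Z(T) / Z(G)` -/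
abbrev Cg (G T : Subgroup Γ) : Subgroup Γ := G ⊓ secCz Zc(T) Zc(G)

variable [Finite Γ] {p q : ℕ} {G S T M : Subgroup Γ} [hp : Fact p.Prime]

theorem PU.mem_Cg (h : PU p q G S T M) {g : Γ} (hg : g ∈ G) : g ∈ Cg G T ↔ h.sZ.act g = 1 := by
  rw [h.sZ.act_eq_one hg]
  exact ⟨fun hh v hv => comm_mem_symm (hh.2.2 v hv),
    fun hh => ⟨hg, h.nZg hg, fun v hv => comm_mem_symm (hh v hv)⟩⟩

theorem PU.nCg (h : PU p q G S T M) : G ≤ Nm(Cg G T) :=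
  CfH7.le_normalizer_inf le_normalizer (CfH7.le_Nm_secCz h.nZ h.nZg)

theorem PU.T_le_Cg (h : PU p q G S T M) : T ≤ Cg G T := fun t ht =>
  ⟨h.TG ht, h.nZg (h.TG ht), fun r hr => by rw [comm_eq_one hr.2 ht]; exact one_mem _⟩

theorem FF.Cg_le_M (h : FF p q G S T M) : G ⊓ Cg G T ≤ M := by
  by_contra hh
  have h1 := (h.O_le_of_not_le h.nCg hh).trans inf_le_right
  refine h.Zg_ne ?_
  rw [← h.comm_O_sup]
  exact sup_le (CfH7.commutator_le_of_le_secCz h1) le_rfl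

theorem FF.mem_T_of_Cg (h : FF p q G S T M) {s : Γ} (hs : s ∈ S) (hc : s ∈ Cg G T) : s ∈ T :=
  h.mem_T_of_normal h.nCg h.Cg_le_M hs hc

theorem FF.OCg_le (h : FF p q G S T M) : Op(p, Cg G T) ≤ Cz(Zc(T)) :=
  CfH7.pResidualOf_le_Cz_of_le' (M := Zc(G)) (h.pT.to_le inf_le_left) (inf_le_left.trans h.nZ)
    (CfH7.commutator_le_of_le_secCz ((CfH7.pResidualOf_le _).trans inf_le_right))
    (((CfH7.pResidualOf_le _).trans inf_le_left).trans (CfH7.le_Cz_comm inf_le_right))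

theorem PU.OCg_le_O (h : PU p q G S T M) : Op(p, Cg G T) ≤ Op(p, G) :=
  CfH7.pResidualOf_mono inf_le_left

theorem FF.Cg_le_T (h : FF p q G S T M) (hc : Op(p, Cg G T) ≤ Cz(T)) : Cg G T ≤ T := by
  intro k hk
  obtain ⟨j, hj⟩ := CfH7.exists_coprime_orderOf_pow (p := p) k
  have h1 : k ^ p ^ j ∈ T :=
    h.cT ⟨pow_mem hk.1 _, hc (CfH7.mem_pResidualOf (pow_mem hk _) hj)⟩
  obtain ⟨i, hi⟩ := isPGroup_iff_mem.1 h.pT _ h1
  exact h.mem_T_of_pow h.nCg h.Cg_le_M hk.1 hk (k := j + i) (by rw [pow_add, pow_mul, hi])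

section br

variable {g a b : Γ}

theorem FF.br_ring (h : FF p q G S T M) (hg : g ∈ G) (hM : g ∉ M) (r : Br G S (cj g S) T a b) :
    h.sZ.act (a * b * a) = h.sZ.act (b * a * b) ∧ h.sZ.act ((a * b * a) ^ 2) = -1 := by
  have h' := h.conj' hg
  have ha := h.SG r.ha
  have hb := h'.SG r.hb
  let s := h.sZ
  have k : ∀ {a b u : Γ}, a ∈ G → b ∈ G → u ∈ Zc(T) → ⁅a, ⁅b, u⁆⁆ * u ∈ Zc(G) →
      (s.δ a * s.δ b) (s.cl u) = - s.cl u := fun {a b u} ha hb hu hh => by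
    rw [s.mul_apply', s.δ_cl hb hu, s.δ_cl ha (s.comm_mem hb hu), ← add_eq_zero_iff_eq_neg,
      ← s.cl_mul (s.comm_mem ha (s.comm_mem hb hu)) hu]
    exact (s.cl_eq_zero (mul_mem (s.comm_mem ha (s.comm_mem hb hu)) hu)).2 hh
  have hx : s.δ a * s.δ a = 0 := (s.δ2_eq_zero ha ha).2 fun v hv => by
    rw [comm_eq_one' (h.comm_mem r.ha hv).2 r.ha]; exact one_mem _
  have hy : s.δ b * s.δ b = 0 := (s.δ2_eq_zero hb hb).2 fun v hv => by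
    rw [comm_eq_one' (h'.comm_mem r.hb hv).2 r.hb]; exact one_mem _
  have h1 : s.δ a * s.δ b * s.δ a = - s.δ a := s.end_ext fun v hv => by
    rw [s.mul_apply', end_neg_apply, s.δ_cl ha hv]
    exact k ha hb (s.comm_mem ha hv) (r.h1 _ (h.comm_mem r.ha hv))
  have h2 : s.δ b * s.δ a * s.δ b = - s.δ b := s.end_ext fun v hv => by
    rw [s.mul_apply', end_neg_apply, s.δ_cl hb hv]
    exact k hb ha (s.comm_mem hb hv) (r.h2 _ (h'.comm_mem r.hb hv))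
  have c : ∀ f : AddMonoid.End s.Mod, f * s.δ a = 0 → f * s.δ b = 0 → f = 0 := fun f f1 f2 =>
    s.end_ext fun z hz => by
      obtain ⟨u, hu, v, hv, rfl⟩ := h.exists_mul hg hM hz
      have e1 := congrArg f (k ha hb (h.ZS_le_Z hu) (r.h1 u hu))
      have e2 := congrArg f (k hb ha (h'.ZS_le_Z hv) (r.h2 v hv))
      rw [← s.mul_apply', ← mul_assoc, f1, zero_mul, map_neg, eq_comm, neg_eq_iff_eq_neg] at e1
      rw [← s.mul_apply', ← mul_assoc, f2, zero_mul, map_neg, eq_comm, neg_eq_iff_eq_neg] at e2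
      rw [s.cl_mul (h.ZS_le_Z hu) (h'.ZS_le_Z hv), map_add, e1, e2]
      simp
  obtain ⟨e1, e2⟩ := ring_braid hx hy h1 h2 c
  simp only [← s.act_eq] at e1 e2
  refine ⟨?_, ?_⟩
  · rw [s.act_mul (mul_mem ha hb) ha, s.act_mul (mul_mem hb ha) hb, s.act_mul ha hb,
      s.act_mul hb ha, e1]
  · rw [s.act_pow (mul_mem (mul_mem ha hb) ha), s.act_mul (mul_mem ha hb) ha, s.act_mul ha hb, e2]

end br

theorem PU.inv_of_act (h : PU p q G S T M) {c : Γ} (hc : c ∈ G) (e : h.sZ.act c = -1) {z : Γ}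
    (hz : z ∈ Zc(T)) : c * z * c⁻¹ * z ∈ Zc(G) := by
  have h1 := h.sZ.act_cl hc hz
  rw [e, end_neg_apply, AddMonoid.End.one_apply, neg_eq_iff_add_eq_zero, add_comm,
    ← h.sZ.cl_mul (h.sZ.conj_mem hc hz) hz] at h1
  exact (h.sZ.cl_eq_zero (mul_mem (h.sZ.conj_mem hc hz) hz)).1 h1

theorem PU.comm_mem_Cg (h : PU p q G S T M) {c : Γ} (hc : c ∈ G) (e : h.sZ.act c = -1) {g : Γ}
    (hg : g ∈ G) : ⁅c, g⁆ ∈ Cg G T := by
  have hi : h.sZ.act c⁻¹ = -1 := by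
    have := h.sZ.act_mul hc (inv_mem hc)
    rw [mul_inv_cancel, h.sZ.act_one, e, neg_one_mul] at this
    exact neg_eq_iff_eq_neg.1 this.symm
  rw [h.mem_Cg (commutator_mem_left hc (le_normalizer hg)), commutatorElement_def,
    h.sZ.act_mul (mul_mem (mul_mem hc hg) (inv_mem hc)) (inv_mem hg),
    h.sZ.act_mul (mul_mem hc hg) (inv_mem hc), h.sZ.act_mul hc hg, e, hi, neg_one_mul,
    mul_neg_one, neg_neg, ← h.sZ.act_mul hg (inv_mem hg), mul_inv_cancel, h.sZ.act_one]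

namespace PD

variable (d : PD p q G T)

theorem exists_br {a : Γ} (ha : a ∈ d.A) (haT : a ∉ T) : ∃ b ∈ d.B, Br G d.S d.S' T a b := by
  rw [d.hS']
  exact d.cs.exists_br d.gG d.gM (d.AS ha) haT (d.symm.A_sup.trans d.hS')

theorem br_ring {a b : Γ} (r : Br G d.S d.S' T a b) :
    d.cs.sZ.act (a * b * a) = d.cs.sZ.act (b * a * b) ∧ d.cs.sZ.act ((a * b * a) ^ 2) = -1 := by
  rw [d.hS'] at r
  exact d.cs.br_ring d.gG d.gM r

theorem exists_inv : ∃ c ∈ d.H, d.cs.sZ.act c = -1 := by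
  obtain ⟨a, ha, haT⟩ := SetLike.not_le_iff_exists.1 d.hT
  obtain ⟨b, hb, r⟩ := d.exists_br ha haT
  exact ⟨_, pow_mem (mul_mem (mul_mem (d.AH ha) (d.BH hb)) (d.AH ha)) 2, (d.br_ring r).2⟩

end PD

theorem CS.exists_inv (h : CS p q G S T M) : ∃ c ∈ G, h.sZ.act c = -1 := by
  obtain ⟨A, hA, hT⟩ := h.exA
  obtain ⟨d, rfl, rfl, rfl⟩ := h.exists_pd hA hT
  obtain ⟨c, hc, e⟩ := d.exists_inv
  exact ⟨c, d.HG hc, e⟩

theorem PU.nZSW (h : PU p q G S T M) : S ≤ Nm(Zc(S) ⊔ Wc p G T) :=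
  CfH7.le_normalizer_sup (le_normalizer.trans (Nm_le_Nm_Zc S)) (h.SG.trans h.nW)

theorem PU.comm_ZSW (h : PU p q G S T M) {s x : Γ} (hs : s ∈ S) (hx : x ∈ Zc(S) ⊔ Wc p G T) :
    ⁅s, x⁆ ∈ Wc p G T := by
  obtain ⟨u, hu, w, hw, rfl⟩ := h.mem_sup_W (inf_le_left.trans h.SG) hx
  rw [comm_mul_right, comm_eq_one' hu.2 hs, one_mul]
  exact conj_mem_of_mem_normalizer (h.nW (h.SG hu.1)) (h.commW (h.SG hs) hw)

theorem CS.pow_ZW (h : CS p q G S T M) {x : Γ} (hx : x ∈ Zc(T) ⊔ Wc p G T) : x ^ p ∈ Wc p G T := by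
  obtain ⟨u, hu, w, hw, rfl⟩ := h.mem_sup_W h.Z_le_G hx
  rw [Commute.mul_pow (h.zcomm hu hw.1), h.elemZ hu, one_mul]
  exact pow_mem hw p

theorem FF.mem_ZSW (h : FF p q G S T M) {x a : Γ} (hx : x ∈ Zc(T) ⊔ Wc p G T) (ha : a ∈ S)
    (haT : a ∉ T) (hc : ⁅a, x⁆ ∈ Wc p G T) : x ∈ Zc(S) ⊔ Wc p G T := by
  obtain ⟨z, hz, w, hw, rfl⟩ := h.mem_sup_W h.Z_le_G hx
  rw [h.zcomm hz hw.1, h.comm_mulZ (h.SG ha) hw.1 hz,
    mul_mem_cancel_left (h.commW (h.SG ha) hw)] at hc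
  exact mul_mem_sup (h.mem_ZS_of_comm hz ha haT (h.mem_Zg (h.comm_mem_Z (h.SG ha) hz) hc)) hw

section caseI

variable (hI : Lc p G T ≤ Zc(T))
include hI

theorem FF.I_Cg (h : FF p q G S T M) : Cg G T ≤ T :=
  h.Cg_le_T (CfH7.pResidualOf_le_Cz_of_le' (M := Zc(T)) h.pT (inf_le_left.trans h.nT)
    ((commutator_mono le_rfl h.OCg_le_O).trans hI) h.OCg_le)

theorem PU.I_LT (h : PU p q G S T M) : ⁅Lc p G T, T⁆ ≤ Wc p G T := by
  rw [CfH7.comm_eq_bot_left.2 (hI.trans inf_le_right)]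
  exact bot_le

theorem CS.I_powT (h : CS p q G S T M) {t : Γ} (ht : t ∈ T) : t ^ p ∈ Wc p G T :=
  h.pow_mem_W (h.I_LT hI) (fun l hl => by rw [h.elemZ (hI hl)]; exact one_mem _) ht

namespace PD

variable (d : PD p q G T)

theorem I_EY : d.E ≤ d.Y := by
  rw [← d.L_sup]
  exact sup_le (hI.trans d.ZY) le_rfl

include d in
theorem I_TG : ⁅T, G⁆ ≤ Zc(T) ⊔ Wc p G T :=
  (commutator_mono le_rfl d.H_sup.ge).trans (CfH7.commutator_sup_right_le (d.HG.trans d.cs.nZW)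
    (d.cs.TG.trans d.cs.nZW) (d.comm_T_H.trans (sup_le_sup_right hI _))
    ((d.cs.TT_le (d.cs.I_LT hI)).trans le_sup_right))

theorem I_quad {a t : Γ} (ha : a ∈ d.S) (ht : t ∈ T) : ⁅a, ⁅a, t⁆⁆ ∈ Wc p G T := by
  have h := d.cs
  have haG := h.SG ha
  let s := h.sT (h.I_LT hI)
  have hT1 : ∀ t ∈ T, s.act t = 1 := fun t ht =>
    (s.act_eq_one (h.TG ht)).2 fun v hv => comm_mem_of_le s.hc ht hv
  have hpz : ((p : ℕ) : AddMonoid.End s.Mod) = 0 := s.natCast_eq_zero fun v hv => h.I_powT hI hv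
  refine (s.δ2_eq_zero haG haG).1 ?_ t ht
  by_cases h2 : p = 2
  · subst h2
    refine ring_two ?_ ?_
    · rw [← s.act_eq, ← s.act_pow haG, hT1 _ (h.pow a ha)]
    · rw [← Nat.cast_ofNat, hpz, zero_mul]
  obtain ⟨c, hc, e⟩ := d.exists_inv
  have hcG := d.HG hc
  have k1 : s.act c * s.act a = s.act a * s.act c := by
    rw [← s.act_mul hcG haG, ← s.act_mul haG hcG]
    have : c * a = ⁅c, a⁆ * (a * c) := by rw [commutatorElement_def]; group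
    rw [this, s.act_mul (commutator_mem_left hcG (le_normalizer haG)) (mul_mem haG hcG),
      hT1 _ (h.I_Cg hI (h.comm_mem_Cg hcG e haG)), one_mul]
  have k2 : s.act c * s.δ a = - s.δ a := s.end_ext fun v hv => by
    obtain ⟨z, hz, w, hw, e1⟩ := h.mem_sup_W h.Z_le_G (comm_mem_of_le' (d.I_TG hI) hv haG)
    have e2 : s.cl ⁅a, v⁆ = s.cl z := by
      rw [← e1, s.cl_mul hz.1 hw.1, (s.cl_eq_zero hw.1).2 hw, add_zero]
    rw [s.mul_apply', end_neg_apply, s.δ_cl haG hv, e2, s.act_cl hcG hz.1,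
      ← add_eq_zero_iff_eq_neg, ← s.cl_mul (s.conj_mem hcG hz.1) hz.1]
    exact (s.cl_eq_zero (mul_mem (s.conj_mem hcG hz.1) hz.1)).2 (h.Zg_le_W (h.inv_of_act hcG e hz))
  have k3 : s.δ a * s.δ a * s.δ c = 0 := (s.δ3_eq_zero haG haG hcG).2 fun v hv => by
    obtain ⟨z, hz, w, hw, e1⟩ := h.mem_sup_W h.Z_le_G (comm_mem_of_le' (d.I_TG hI) hv hcG)
    refine h.comm_ZSW ha ?_
    rw [← e1, h.zcomm hz hw.1, h.comm_mulZ haG hw.1 hz]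
    exact mul_mem (mem_sup_right (h.commW haG hw)) (mem_sup_left (h.comm_mem ha hz))
  rw [s.act_eq c, s.act_eq a] at k1
  rw [s.act_eq c] at k2
  have k4 := ring_neg k1 k2 k3
  exact cop_zero ((Nat.coprime_primes Nat.prime_two hp.out).2 (Ne.symm h2)) k4
    (by rw [hpz, zero_mul])

theorem I_TS : ⁅T, d.S⁆ ≤ Zc(d.S) ⊔ Wc p G T := by
  refine commutator_le.2 fun t ht a ha => comm_mem_symm ?_
  by_cases haT : a ∈ T
  · exact mem_sup_right (comm_mem_of_le (d.cs.TT_le (d.cs.I_LT hI)) haT ht)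
  · exact d.cs.mem_ZSW (comm_mem_of_le' (d.I_TG hI) ht (d.cs.SG ha)) ha haT (d.I_quad hI ha ht)

theorem I_SS : ⁅d.S, d.S⁆ ≤ Zc(d.S) ⊔ Wc p G T := by
  have h1 : ⁅d.A, d.S⁆ ≤ Zc(d.S) ⊔ Wc p G T := by
    nth_rw 1 [← d.A_sup]
    refine CfH7.commutator_sup_right_le (d.AS.trans d.cs.nZSW) (d.cs.TS.trans d.cs.nZSW) ?_ ?_
    · rw [CfH7.comm_eq_bot_left.2 (le_Cz_of_comm d.hA.comm)]; exact bot_le
    · rw [commutator_comm]; exact (commutator_mono le_rfl d.AS).trans (d.I_TS hI)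
  nth_rw 1 [← d.A_sup]
  exact CfH7.commutator_sup_left_le (d.AS.trans d.cs.nZSW) (d.cs.TS.trans d.cs.nZSW) h1 (d.I_TS hI)

theorem I_AT {a : Γ} (ha : a ∈ d.A) (hT : a ∈ T) : ∃ c ∈ d.D, ∃ u ∈ Zc(d.S), c * u = a := by
  obtain ⟨c, hc, z, hz, rfl⟩ := d.mem_Y (d.I_EY hI (d.A₀E (d.AT_le ⟨ha, hT⟩)))
  exact ⟨c, hc, z, d.A_inf_Z.le ⟨(mul_mem_cancel_left (d.DA hc)).1 ha, hz⟩, rfl⟩

theorem I_pow {x : Γ} (hx : x ∈ d.S) : x ^ p ∈ Zc(d.S) ⊔ Wc p G T := by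
  obtain ⟨a, ha, t, ht, rfl⟩ := d.cs.mem_of_sup_eq d.A_sup hx
  let s : Sct Γ := ⟨d.S, Zc(d.S) ⊔ Wc p G T, ⊥, d.cs.nZSW, d.I_SS hI, bot_le, bot_le⟩
  have haS := d.AS ha
  have htS := d.cs.TS ht
  obtain ⟨c, hc, u, hu, e⟩ := d.I_AT hI (pow_mem ha p) (d.cs.pow a haS)
  rw [← s.cl_eq_zero (pow_mem hx p), s.cl_pow hx, s.cl_mul haS htS, smul_add, ← s.cl_pow haS,
    ← s.cl_pow htS, (s.cl_eq_zero (pow_mem htS p)).2 (mem_sup_right (d.cs.I_powT hI ht)), add_zero,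
    s.cl_eq_zero (pow_mem haS p), ← e]
  exact mul_mem (mem_sup_right (d.DW hc)) (mem_sup_left hu)

theorem I_mul_pow (h2 : p ≠ 2) {x y : Γ} (hx : x ∈ d.S) (hy : y ∈ d.S) :
    (x ^ p * y ^ p)⁻¹ * (x * y) ^ p ∈ Wc p G T := by
  have k := comm_mem_of_le (d.I_SS hI) hy hx
  exact mul_pow_mod h2 (d.cs.nW (d.cs.SG hx)) (d.cs.nW (d.cs.SG hy)) (d.cs.comm_ZSW hx k)
    (d.cs.comm_ZSW hy k) (d.cs.pow_ZW (sup_le_sup_right d.cs.ZS_le_Z _ k))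

theorem I_powA (h2 : p ≠ 2) {a : Γ} (ha : a ∈ d.A) : a ^ p ∈ Wc p G T := by
  have h := d.cs
  have haS := d.AS ha
  obtain ⟨c, hc, e⟩ := d.exists_inv
  have hcG := d.HG hc
  have k1 : ⁅c, a⁆ ∈ T := h.I_Cg hI (h.comm_mem_Cg hcG e (h.SG haS))
  obtain ⟨b, hb, u, hu, e1⟩ := d.I_AT hI (pow_mem ha p) (h.pow a haS)
  have k2 := d.I_mul_pow hI h2 (h.TS k1) haS
  rw [← conj_eq_comm_mul, conj_pow, ← e1, mul_inv_rev, mul_assoc] at k2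
  have k3 : (b * u)⁻¹ * (c * (b * u) * c⁻¹) ∈ Wc p G T := by
    have n := h.nW (inv_mem (h.SG (mul_mem (d.AS (d.DA hb)) hu.1)))
    have := mul_mem (conj_mem_of_mem_normalizer n (h.I_powT hI k1)) k2
    convert this using 1
    group
  have k4 : (b * u)⁻¹ * (c * (b * u) * c⁻¹) = (u ^ 2)⁻¹ * (c * u * c⁻¹ * u) := by
    have c1 : c * b * c⁻¹ = b := conj_eq_self (cz_comm (d.D_cz hb) hc).symm
    have c2 := h.zcomm (h.sZ.conj_mem hcG (h.ZS_le_Z hu)) (h.ZS_le_T hu)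
    calc _ = u⁻¹ * (b⁻¹ * (c * b * c⁻¹)) * (c * u * c⁻¹) := by group
      _ = _ := by rw [c1, c2]; group
  rw [k4, mul_mem_cancel_right (h.Zg_le_W (h.inv_of_act hcG e (h.ZS_le_Z hu))), inv_mem_iff] at k3
  rw [← e1]
  exact mul_mem (d.DW hb) (mem_of_sq h2 k3 (by rw [h.elem u hu]; exact one_mem _))

theorem I_pow_odd (h2 : p ≠ 2) {x : Γ} (hx : x ∈ d.S) : x ^ p ∈ Wc p G T := by
  obtain ⟨a, ha, t, ht, rfl⟩ := d.cs.mem_of_sup_eq d.A_sup hx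
  exact (mul_mem_cancel_left (inv_mem (mul_mem (d.I_powA hI h2 ha) (d.cs.I_powT hI ht)))).1
    (d.I_mul_pow hI h2 (d.AS ha) (d.cs.TS ht))

end PD

theorem CS.I_main (h : CS p q G S T M) : ⁅T, G⁆ ≤ Zc(T) ⊔ Wc p G T ∧
    ⁅S, S⁆ ≤ Zc(S) ⊔ Wc p G T ∧ (∀ x ∈ S, x ^ p ∈ Zc(S) ⊔ Wc p G T) ∧
      (p ≠ 2 → ∀ x ∈ S, x ^ p ∈ Wc p G T) := by
  obtain ⟨A, hA, hT⟩ := h.exA
  obtain ⟨d, rfl, rfl, rfl⟩ := h.exists_pd hA hT
  exact ⟨d.I_TG hI, d.I_SS hI, fun x hx => d.I_pow hI hx, fun h2 x hx => d.I_pow_odd hI h2 hx⟩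

end caseI

end CfLp
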