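import Cfsg.Agent.OD.Pre
import Cfsg.Agent.L.PU3
import Cfsg.Agent.L.PU0

/-! Bridges between ambient and intrinsic versions of the characteristic subgroups. -/

set_option autoImplicit false
set_option linter.unusedSectionVars false
set_option linter.unusedVariables false

open Cfsg Subgroup CfH9
open CfH7 (OZ)
open scoped commutatorElement

namespace CfLp

variable {Γ : Type*} [Group Γ] {Γ' : Type*} [Group Γ'] {p : ℕ}

theorem map_Zc {f : Γ →* Γ'} (hf : Function.Injective f) (X : Subgroup Γ) :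
    (Zc(X)).map f = Zc(X.map f) := map_inf_Cz hf X X

theorem map_mclJoin {f : Γ →* Γ'} (hf : Function.Injective f) (P : Subgroup Γ) :
    (mclJoin P).map f = mclJoin (P.map f) := by
  apply le_antisymm
  · rw [map_le_iff_le_comap]
    exact sSup_le fun X hX => map_le_iff_le_comap.1 (le_sSup ((mcl_map_iff hf).2 hX))
  · refine sSup_le fun X hX => ?_
    have e := eq_map_comap (MCL.cl hX).cd.le
    rw [← e]
    exact map_mono (le_sSup ((mcl_map_iff hf).1 (e.symm ▸ hX)))

theorem mz_map_iff {f : Γ →* Γ'} (hf : Function.Injective f) {P X : Subgroup Γ} :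
    MZ p (P.map f) (X.map f) ↔ MZ p P X := by
  constructor
  · intro h
    refine ⟨(mcl_map_iff hf).1 h.1, fun R hR => ?_⟩
    have := h.2 _ ((mcl_map_iff hf).2 hR)
    rwa [← map_OZ_of_injective hf, ← map_OZ_of_injective hf, card_map_of_injective hf,
      card_map_of_injective hf] at this
  · intro h
    refine ⟨(mcl_map_iff hf).2 h.1, fun R hR => ?_⟩
    have e := eq_map_comap hR.cl.cd.le
    rw [← e, ← map_OZ_of_injective hf, ← map_OZ_of_injective hf, card_map_of_injective hf,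
      card_map_of_injective hf]
    exact h.2 _ ((mcl_map_iff hf).1 (e.symm ▸ hR))

theorem map_phiJoin {f : Γ →* Γ'} (hf : Function.Injective f) (P : Subgroup Γ) :
    (phiJoin p P).map f = phiJoin p (P.map f) := by
  apply le_antisymm
  · rw [map_le_iff_le_comap]
    refine sSup_le ?_
    rintro _ ⟨Q, hQ, rfl⟩
    exact map_le_iff_le_comap.1 (le_sSup ⟨_, (mz_map_iff hf).2 hQ, (map_Phi hf Q).symm⟩)
  · refine sSup_le ?_
    rintro _ ⟨Q, hQ, rfl⟩
    have e := eq_map_comap hQ.1.cl.cd.le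
    rw [← e, ← map_Phi hf]
    exact map_mono (le_sSup ⟨_, (mz_map_iff hf).1 (e.symm ▸ hQ), rfl⟩)

theorem char_of_map {X : Subgroup Γ} (h : ∀ e : Γ ≃* Γ, X.map e.toMonoidHom = X) :
    X.Characteristic := characteristic_iff_map_eq.2 h

theorem map_top_equiv (e : Γ ≃* Γ') : (⊤ : Subgroup Γ).map e.toMonoidHom = ⊤ :=
  map_top_of_surjective _ e.surjective

theorem centerThompson_eq (P : Subgroup Γ) : centerThompsonAOf P = Zc(TJ 0 P) := by
  rw [centerThompsonAOf_eq, ZJ_zero]

theorem TJ_top' : TJ 0 (⊤ : Subgroup Γ) = thompsonSubgroupA Γ := by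
  rw [TJ_top, thompsonSubgroupA_eq]

variable [Finite Γ]

theorem mclJoin_top : mclJoin (⊤ : Subgroup Γ) = minimalCentrallyLargeJoin Γ := by
  unfold mclJoin minimalCentrallyLargeJoin
  simp only [mcl_top_iff]

theorem mz_top_iff {Q : Subgroup Γ} : MZ p ⊤ Q ↔ IsMinimalCentrallyLarge Q ∧
    Nat.card (omegaOneCenter p Q) = maxOmegaCenterOfMinimalCL p Γ := by
  have hb : BddAbove {k : ℕ | ∃ Q : Subgroup Γ, IsMinimalCentrallyLarge Q ∧
      Nat.card (omegaOneCenter p Q) = k} :=
    (Set.Finite.subset (Set.finite_range fun Q : Subgroup Γ => Nat.card (omegaOneCenter p Q))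
      (by rintro _ ⟨Q, -, e⟩; exact ⟨Q, e⟩)).bddAbove
  constructor
  · intro h
    refine ⟨mcl_top_iff.1 h.1, le_antisymm (le_csSup hb ⟨Q, mcl_top_iff.1 h.1, rfl⟩) ?_⟩
    refine csSup_le ⟨_, Q, mcl_top_iff.1 h.1, rfl⟩ ?_
    rintro _ ⟨R, hR, rfl⟩
    exact h.2 R (mcl_top_iff.2 hR)
  · intro h
    refine ⟨mcl_top_iff.2 h.1, fun R hR => le_trans ?_ h.2.ge⟩
    exact le_csSup hb ⟨R, mcl_top_iff.1 hR, rfl⟩

theorem phiJoin_top : phiJoin p (⊤ : Subgroup Γ) = frattiniOfMinimalCLJoin p Γ := by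
  apply le_antisymm
  · refine sSup_le ?_
    rintro _ ⟨Q, hQ, rfl⟩
    exact le_iSup_of_le (f := fun Q : {Q : Subgroup Γ // IsMinimalCentrallyLarge Q ∧
      Nat.card (omegaOneCenter p Q) = maxOmegaCenterOfMinimalCL p Γ} => Phi (Q : Subgroup Γ))
      ⟨Q, mz_top_iff.1 hQ⟩ le_rfl
  · exact iSup_le fun Q => le_sSup ⟨Q, mz_top_iff.2 Q.2, rfl⟩

theorem exists_mz (p : ℕ) (P : Subgroup Γ) : ∃ Q, MZ p P Q := by
  obtain ⟨Q, hQ, hm⟩ := Set.exists_max_image {Q : Subgroup Γ | MCL P Q}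
    (fun Q => Nat.card (OZ p Q)) (Set.toFinite _) (exists_mcl P)
  exact ⟨Q, hQ, hm⟩

theorem elemAb_of_phiJoin [Fact p.Prime] {P : Subgroup Γ} (hP : IsPGroup p P)
    (h : phiJoin p P = ⊥) : ∃ Q, MCL P Q ∧ IsElementaryAbelian p Q := by
  obtain ⟨Q, hQ⟩ := exists_mz p P
  have h1 : Phi Q = ⊥ := le_bot_iff.1 (h ▸ le_sSup ⟨Q, hQ, rfl⟩)
  have hp := hP.to_le hQ.1.cl.cd.le
  refine ⟨Q, hQ.1, CfL.isMulCommutative_iff_commutator_eq_bot.2 (le_bot_iff.1 ?_), fun a ha => ?_⟩
  · exact h1 ▸ CfH1.commutator_le_frattiniOf hp.isNilpotent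
  · have := CfH1.pow_mem_frattiniOf hp ha
    rwa [show (frattini Q).map Q.subtype = ⊥ from h1, mem_bot] at this

instance mclJoin_char : (minimalCentrallyLargeJoin Γ).Characteristic :=
  char_of_map fun e => by rw [← mclJoin_top, map_mclJoin e.injective, map_top_equiv]

instance phiJoin_char : (frattiniOfMinimalCLJoin p Γ).Characteristic :=
  char_of_map fun e => by rw [← phiJoin_top, map_phiJoin e.injective, map_top_equiv]

theorem mcl_commutator_char {Q : Subgroup Γ} (hQ : IsMinimalCentrallyLarge Q) :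
    (⁅Q, Q⁆).Characteristic := char_of_map fun e => by
  rw [map_commutator]
  have := (mcl_map_iff (f := e.toMonoidHom) e.injective).2 (mcl_top_iff.2 hQ)
  rw [map_top_equiv] at this
  exact this.commutator_eq (mcl_top_iff.2 hQ)

theorem map_subtype_mclJoin (P : Subgroup Γ) :
    (minimalCentrallyLargeJoin P).map P.subtype = mclJoin P := by
  rw [← mclJoin_top, map_mclJoin P.subtype_injective, map_subtype_top]

theorem map_subtype_phiJoin (P : Subgroup Γ) :
    (frattiniOfMinimalCLJoin p P).map P.subtype = phiJoin p P := by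
  rw [← phiJoin_top, map_phiJoin P.subtype_injective, map_subtype_top]

end CfLp
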