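import Cfsg.Agent.OD.Pre
import Cfsg.Agent.L.PU7
import Cfsg.Agent.L.PUB
import Cfsg.Agent.H1.Hall
import Cfsg.Agent.H8.Quot
import Cfsg.Agent.H8.Gaschuetz
import Cfsg.Agent.OD.Leadxb34c155349

/-! Pushing up: the cubic case. -/

set_option autoImplicit false
set_option linter.unusedSectionVars false
set_option linter.unusedVariables false

open Cfsg Subgroup CfH9
open CfH7 (secCz mem_secCz)
open scoped commutatorElement

namespace CfLp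

variable {Γ : Type*} [Group Γ] {Γ' : Type*} [Group Γ']

theorem ker_le_range {A : Type*} [AddCommGroup A] [Finite A] {x y : AddMonoid.End A}
    (hx : x * x = 0) (hy : y * y = 0) (h : ∀ m, x m = 0 → y m = 0 → m = 0) {m : A} (hm : x m = 0) :
    ∃ n, x n = m := by
  have hx' : ∀ m, x (x m) = 0 := fun m => DFunLike.congr_fun hx m
  have hy' : ∀ m, y (y m) = 0 := fun m => DFunLike.congr_fun hy m
  let f : {m // x m = 0} → {m // x m = 0} := fun m => ⟨x (y m), hx' _⟩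
  have hf : Function.Injective f := fun a b e => by
    have e1 : x (y (a.1 - b.1)) = 0 := by
      rw [map_sub, map_sub, sub_eq_zero]; exact congrArg Subtype.val e
    exact Subtype.ext (sub_eq_zero.1 (h _ (by rw [map_sub, a.2, b.2, sub_zero]) (h _ e1 (hy' _))))
  obtain ⟨n, e⟩ := Finite.injective_iff_surjective.1 hf ⟨m, hm⟩
  exact ⟨_, congrArg Subtype.val e⟩

theorem comm_of_le_Cz {A : Subgroup Γ} (h : A ≤ Cz(A)) : IsMulCommutative A :=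
  comm_iff.2 fun a ha b hb => cz_comm (h ha) hb

/-- the hypotheses of the cubic case -/
structure II (p : ℕ) (G S T A : Subgroup Γ) : Prop where
  hA : MaxEA 0 S A
  hT : ¬ A ≤ T
  LT : ⁅Lc p G T, T⁆ ≤ Wc p G T
  cub : ∀ a ∈ A, a ∉ T → ∀ l ∈ Lc p G T, ⁅a, ⁅a, l⁆⁆ ∈ Wc p G T → l ∈ (A ⊓ T) ⊔ Zc(T)
  el : ∀ x ∈ A ⊓ T, x ^ p ∈ Wc p G T
  ne : ¬ Lc p G T ≤ (A ⊓ T) ⊔ Zc(T)

theorem map_Lc {f : Γ →* Γ'} (hf : Function.Injective f) (p : ℕ) (G T : Subgroup Γ) :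
    (Lc p G T).map f = Lc p (G.map f) (T.map f) := by
  rw [Lc, map_commutator, CfH7.map_pResidualOf_of_injective G hf]

theorem map_Wc {f : Γ →* Γ'} (hf : Function.Injective f) (p : ℕ) (G T : Subgroup Γ) :
    (Wc p G T).map f = Wc p (G.map f) (T.map f) := by
  rw [Wc, map_inf_Cz hf, CfH7.map_pResidualOf_of_injective G hf]

theorem II_map_iff {f : Γ →* Γ'} (hf : Function.Injective f) {p : ℕ} {G S T A : Subgroup Γ} :
    II p (G.map f) (S.map f) (T.map f) (A.map f) ↔ II p G S T A := by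
  have e : (A.map f ⊓ T.map f) ⊔ Zc(T.map f) = ((A ⊓ T) ⊔ Zc(T)).map f := by
    rw [Subgroup.map_sup, map_Zc hf, Subgroup.map_inf _ _ _ hf]
  have m : ∀ {X : Subgroup Γ} {x : Γ}, f x ∈ X.map f ↔ x ∈ X := mem_map_iff_mem hf
  constructor
  · intro h
    refine ⟨(maxEA_map_iff hf).1 h.hA, fun hh => h.hT (map_mono hh), ?_, fun a ha hT l hl hc => ?_,
      fun x hx => ?_, fun hh => h.ne ?_⟩
    · have := h.LT
      rwa [← map_Lc hf, ← map_Wc hf, ← map_commutator, map_le_map_iff_of_injective hf] at this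
    · have := h.cub (f a) (m.2 ha) (fun hh => hT (m.1 hh)) (f l) (map_Lc hf p G T ▸ m.2 hl)
        (by rw [← map_Wc hf, ← map_commutatorElement, ← map_commutatorElement]; exact m.2 hc)
      rwa [e, m] at this
    · have := h.el (f x) ⟨m.2 hx.1, m.2 hx.2⟩
      rwa [← map_Wc hf, ← map_pow, m] at this
    · rw [e, ← map_Lc hf]; exact map_mono hh
  · intro h
    refine ⟨(maxEA_map_iff hf).2 h.hA, fun hh => h.hT ((map_le_map_iff_of_injective hf).1 hh), ?_,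
      ?_, ?_, fun hh => h.ne ?_⟩
    · rw [← map_Lc hf, ← map_Wc hf, ← map_commutator]; exact map_mono h.LT
    · rw [← map_Lc hf, ← map_Wc hf, e]
      rintro _ ⟨a, ha, rfl⟩ hT _ ⟨l, hl, rfl⟩ hc
      rw [← map_commutatorElement, ← map_commutatorElement, m] at hc
      exact m.2 (h.cub a ha (fun hh => hT (m.2 hh)) l hl hc)
    · rw [← map_Wc hf, ← Subgroup.map_inf _ _ _ hf]
      rintro _ ⟨x, hx, rfl⟩
      rw [← map_pow]; exact m.2 (h.el x hx)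
    · rwa [e, ← map_Lc hf, map_le_map_iff_of_injective hf] at hh

variable [Finite Γ] {p q : ℕ} {G S T M : Subgroup Γ} [hp : Fact p.Prime]

theorem II.conj' {A : Subgroup Γ} (h2 : II p G S T A) (h : PU p q G S T M) {g : Γ} (hg : g ∈ G) :
    II p G (cj g S) T (cj g A) := by
  have : II p (cj g G) (cj g S) (cj g T) (cj g A) :=
    (II_map_iff (f := (MulAut.conj g).toMonoidHom) (MulAut.conj g).injective).2 h2
  rwa [cj_eq_of_mem hg, h.cjT hg] at this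

theorem PU.LWT (h : PU p q G S T M) : Lc p G T ⊔ Wc p G T ≤ T := sup_le h.LT inf_le_left

theorem PU.sT_act (h : PU p q G S T M) (hL : ⁅Lc p G T, T⁆ ≤ Wc p G T) {t : Γ} (ht : t ∈ T) :
    (h.sT hL).act t = 1 :=
  ((h.sT hL).act_eq_one (h.TG ht)).2 fun v hv => comm_mem_of_le (h.sT hL).hc ht hv

theorem PU.sT_δ (h : PU p q G S T M) (hL : ⁅Lc p G T, T⁆ ≤ Wc p G T) {a t : Γ} (ha : a ∈ G)
    (ht : t ∈ T) : (h.sT hL).δ (a * t) = (h.sT hL).δ a := by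
  rw [Sct.δ, Sct.δ, (h.sT hL).act_mul ha (h.TG ht), h.sT_act hL ht, mul_one]

namespace PD

variable (d : PD p q G T)

theorem AW_T : d.A₀ ⊔ Wc p G T ≤ T := sup_le d.A₀T inf_le_left

theorem ZW_AW : Zc(T) ⊔ Wc p G T ≤ d.A₀ ⊔ Wc p G T := sup_le_sup_right d.ZA₀ _

theorem AW_LW : d.A₀ ⊔ Wc p G T ≤ Lc p G T ⊔ Wc p G T := sup_le (d.A₀E.trans d.E_le) le_sup_right

variable (h2 : II p G d.S T d.A)
include h2

theorem II_symm : II p G d.symm.S T d.symm.A := by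
  change II p G d.S' T d.B
  rw [d.hS', d.hB]
  exact h2.conj' d.cs.toPU d.gG

theorem II_TT : ⁅T, T⁆ ≤ Wc p G T := d.cs.TT_le h2.LT

theorem II_powA₀ {y : Γ} (hy : y ∈ d.A₀) : y ^ p ∈ Wc p G T := by
  rw [d.hA₀] at hy
  obtain ⟨x, hx, z, hz, rfl⟩ := d.cs.mem_sup_Z (inf_le_left.trans d.AG) hy
  rw [Commute.mul_pow (d.cs.zcomm hz hx.2).symm, d.cs.elemZ hz, mul_one]
  exact h2.el x hx

theorem II_powT {t : Γ} (ht : t ∈ T) : t ^ p ∈ Wc p G T := by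
  refine d.cs.pow_mem_W h2.LT (fun l hl => ?_) ht
  obtain ⟨a, ha, b, hb, rfl⟩ := d.mem_E (d.LE hl)
  let s := d.cs.sT h2.LT
  have haT := d.A₀T ha
  have hbT := d.B₀T hb
  refine (s.cl_eq_zero (pow_mem (mul_mem haT hbT) p)).1 ?_
  rw [s.cl_pow (mul_mem haT hbT), s.cl_mul haT hbT,
    smul_add, ← s.cl_pow haT, ← s.cl_pow hbT, (s.cl_eq_zero (pow_mem haT p)).2 (d.II_powA₀ h2 ha),
    (s.cl_eq_zero (pow_mem hbT p)).2 (d.symm.II_powA₀ (d.II_symm h2) hb), add_zero]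

theorem II_AW_S : ⁅d.A₀ ⊔ Wc p G T, d.S⁆ ≤ Zc(d.S) ⊔ Wc p G T := by
  refine CfH7.commutator_sup_left_le ((d.A₀T.trans d.cs.TS).trans d.cs.nZSW)
    ((inf_le_left.trans d.cs.TS).trans d.cs.nZSW) ?_
    ((CfH7.comm_le_left (d.cs.SG.trans d.cs.nW)).trans le_sup_right)
  refine (commutator_mono le_rfl d.A_sup.ge).trans (CfH7.commutator_sup_right_le
    (d.AS.trans d.cs.nZSW) (d.cs.TS.trans d.cs.nZSW) (d.comm_A₀.trans le_sup_left) ?_)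
  exact ((commutator_mono d.A₀T le_rfl).trans (d.II_TT h2)).trans le_sup_right

theorem II_nAW : d.S ≤ Nm(d.A₀ ⊔ Wc p G T) :=
  CfH7.le_Nm_of_comm_le_left ((d.II_AW_S h2).trans
    (sup_le_sup_right (d.cs.ZS_le_Z.trans d.ZA₀) _))

theorem II_LW_S : ⁅Lc p G T ⊔ Wc p G T, d.S⁆ ≤ d.A₀ ⊔ Wc p G T := by
  rw [← d.E_sup]
  refine CfH7.commutator_sup_left_le ((d.ET.trans d.cs.TS).trans (d.II_nAW h2))
    ((inf_le_left.trans d.cs.TS).trans (d.II_nAW h2)) ?_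
    ((CfH7.comm_le_left (d.cs.SG.trans d.cs.nW)).trans le_sup_right)
  refine (commutator_mono le_rfl d.A_sup.ge).trans (CfH7.commutator_sup_right_le
    (d.AS.trans (d.II_nAW h2)) (d.cs.TS.trans (d.II_nAW h2)) ?_ ?_)
  · exact commutator_le.2 fun e he a ha => mem_sup_left (comm_mem_symm (d.comm_A_E ha he))
  · exact ((commutator_mono d.ET le_rfl).trans (d.II_TT h2)).trans le_sup_right

theorem II_quad {a y : Γ} (ha : a ∈ d.S) (hy : y ∈ d.A₀ ⊔ Wc p G T) : ⁅a, ⁅a, y⁆⁆ ∈ Wc p G T :=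
  d.cs.comm_ZSW ha (comm_mem_of_le' (d.II_AW_S h2) hy ha)

omit h2 in
theorem sT_δ2 (hL : ⁅Lc p G T, T⁆ ≤ Wc p G T) {a t : Γ} (ha : a ∈ G) (ht : t ∈ T) :
    ⁅a, ⁅a, t⁆⁆ ∈ Wc p G T ↔ (d.cs.sT hL).δ a ((d.cs.sT hL).δ a ((d.cs.sT hL).cl t)) = 0 := by
  let s := d.cs.sT hL
  rw [s.δ_cl ha ht, s.δ_cl ha (s.comm_mem ha ht), s.cl_eq_zero (s.comm_mem ha (s.comm_mem ha ht))]
  rfl

theorem II_cubE {a e : Γ} (ha : a ∈ d.A) (haT : a ∉ T) (he : e ∈ d.E)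
    (hc : ⁅a, ⁅a, e⁆⁆ ∈ Wc p G T) : e ∈ d.A₀ := by
  rw [← d.L_sup] at he
  obtain ⟨l, hl, y, hy, rfl⟩ := (mem_sup_of_le_Nm' ((d.YE.trans d.EG).trans d.cs.nL)).1 he
  have haG := d.AG ha
  have hlT := d.cs.LT hl
  have hyT := d.ET (d.YE hy)
  refine mul_mem ?_ (d.YA₀ hy)
  rw [d.hA₀]
  refine h2.cub a ha haT l hl ?_
  have k := (d.sT_δ2 h2.LT haG hyT).1 (d.II_quad h2 (d.AS ha) (mem_sup_left (d.YA₀ hy)))
  rwa [d.sT_δ2 h2.LT haG (mul_mem hlT hyT), (d.cs.sT h2.LT).cl_mul hlT hyT, map_add, map_add, k,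
    add_zero, ← d.sT_δ2 h2.LT haG hlT] at hc

theorem II_cub {a v : Γ} (ha : a ∈ d.S) (haT : a ∉ T) (hv : v ∈ Lc p G T ⊔ Wc p G T)
    (hc : ⁅a, ⁅a, v⁆⁆ ∈ Wc p G T) : v ∈ d.A₀ ⊔ Wc p G T := by
  obtain ⟨e, he, w, hw, rfl⟩ := d.mem_LW hv
  obtain ⟨b, hb, t, ht, rfl⟩ := d.cs.mem_of_sup_eq d.A_sup ha
  refine mul_mem_sup (d.II_cubE h2 hb (fun hh => haT (mul_mem hh ht)) he ?_) hw
  have hbG := d.AG hb
  rwa [d.sT_δ2 h2.LT (d.cs.SG ha) (mul_mem (d.ET he) hw.1), d.cs.sT_δ h2.LT hbG ht,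
    (d.cs.sT h2.LT).cl_mul (d.ET he) hw.1, ((d.cs.sT h2.LT).cl_eq_zero hw.1).2 hw, add_zero,
    ← d.sT_δ2 h2.LT hbG (d.ET he)] at hc

theorem II_mem_A₀ {e : Γ} (he : e ∈ d.E) (h1 : e ∈ d.A₀ ⊔ Wc p G T) : e ∈ d.A₀ := by
  obtain ⟨a, ha, haT⟩ := SetLike.not_le_iff_exists.1 d.hT
  exact d.II_cubE h2 ha haT he (d.II_quad h2 (d.AS ha) h1)

theorem II_mem_ZW {v : Γ} (h1 : v ∈ d.A₀ ⊔ Wc p G T) (h3 : v ∈ d.B₀ ⊔ Wc p G T) :
    v ∈ Zc(T) ⊔ Wc p G T := by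
  obtain ⟨e, he, w, hw, rfl⟩ := d.cs.mem_sup_W (d.A₀E.trans d.EG) h1
  rw [mul_mem_cancel_right (mem_sup_right hw)] at h3 ⊢
  refine d.Y_le ?_
  rw [d.hY]
  exact ⟨he, d.symm.II_mem_A₀ (d.II_symm h2) (d.A₀E he) h3⟩

theorem II_fix {a v : Γ} (ha : a ∈ d.S) (haT : a ∉ T) (hv : v ∈ Lc p G T ⊔ Wc p G T)
    (hc : ⁅a, v⁆ ∈ Zc(T) ⊔ Wc p G T) : v ∈ d.A₀ ⊔ Wc p G T := by
  obtain ⟨e, he, w, hw, rfl⟩ := d.mem_LW hv
  obtain ⟨b, hb, t, ht, rfl⟩ := d.cs.mem_of_sup_eq d.A_sup ha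
  refine mul_mem_sup (d.fixY hb (fun hh => haT (mul_mem hh ht)) he ?_) hw
  let s := d.cs.sT h2.LT
  have hbG := d.AG hb
  have k : s.cl ⁅b * t, e * w⁆ = s.cl ⁅b, e⁆ := by
    rw [← s.δ_cl (d.cs.SG ha) (mul_mem (d.ET he) hw.1), d.cs.sT_δ h2.LT hbG ht,
      s.cl_mul (d.ET he) hw.1, (s.cl_eq_zero hw.1).2 hw, add_zero, s.δ_cl hbG (d.ET he)]
  rw [s.cl_eq_iff (s.comm_mem (d.cs.SG ha) (mul_mem (d.ET he) hw.1)) (s.comm_mem hbG (d.ET he))]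
    at k
  have k2 := (mul_mem_cancel_left (inv_mem hc)).1 (mem_sup_right k)
  rw [d.hY]
  exact ⟨d.comm_A_E hb he, d.symm.II_mem_A₀ (d.II_symm h2) (d.A₀E (d.comm_A_E hb he))
    (d.symm.ZW_AW k2)⟩

theorem II_exists : ∃ a ∈ d.A, a ∉ T ∧ ∃ l ∈ Lc p G T, ⁅a, ⁅a, l⁆⁆ ∉ Wc p G T := by
  obtain ⟨a, ha, haT⟩ := SetLike.not_le_iff_exists.1 d.hT
  obtain ⟨l, hl, hl'⟩ := SetLike.not_le_iff_exists.1 h2.ne
  exact ⟨a, ha, haT, l, hl, fun hh => hl' (h2.cub a ha haT l hl hh)⟩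

theorem II_natCast : ((p : ℕ) : AddMonoid.End (d.cs.sT h2.LT).Mod) = 0 :=
  (d.cs.sT h2.LT).natCast_eq_zero fun v hv => d.II_powT h2 hv

theorem II_ne_two : p ≠ 2 := by
  rintro rfl
  obtain ⟨a, ha, haT, l, hl, hh⟩ := d.II_exists h2
  let s := d.cs.sT h2.LT
  refine hh ((s.δ2_eq_zero (d.AG ha) (d.AG ha)).1 (ring_two ?_ ?_) l (d.cs.LT hl))
  · rw [← s.act_eq, ← s.act_pow (d.AG ha), d.cs.sT_act h2.LT (d.cs.pow a (d.AS ha))]
  · rw [← Nat.cast_ofNat, d.II_natCast h2, zero_mul]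

theorem II_CgV : ⁅Lc p G T ⊔ Wc p G T, Cg G T⁆ ≤ Wc p G T := by
  have h := d.cs
  have hCG : Cg G T ≤ G := inf_le_left
  have s1 : SylIn p T (Cg G T) := by
    have := h.syl.inf_normal' h.nCg hCG
    rwa [show d.S ⊓ Cg G T = T from le_antisymm (fun x hx => h.mem_T_of_Cg hx.1 hx.2)
      (le_inf h.TS h.T_le_Cg)] at this
  obtain ⟨n, hn⟩ := IsPGroup.iff_card.1 h.pT
  have c1 : (T.relIndex (Cg G T)).Coprime p :=
    ((Nat.Prime.coprime_iff_not_dvd hp.out).2 s1.not_dvd_relIndex).symm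
  obtain ⟨K, -, hK, hc⟩ := CfH1.exists_complement_of_coprime h.T_le_Cg (hCG.trans h.nT)
    (by rw [hn]; exact Nat.Coprime.pow_left n c1.symm)
  have hKC : K ≤ Cg G T := hK ▸ le_sup_right
  have nV : Lc p G T ⊔ Wc p G T ≤ Nm(Wc p G T) := (h.LWT.trans h.TG).trans h.nW
  have nK : K ≤ Nm(Wc p G T) := (hKC.trans hCG).trans h.nW
  have nT : T ≤ Nm(Wc p G T) := h.TG.trans h.nW
  have hVT := (commutator_mono h.LWT le_rfl).trans (d.II_TT h2)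
  have f1 := CfH8.commutator_inf_centralizer_eq_bot (V := CfH8.qb (Wc p G T) (Lc p G T ⊔ Wc p G T))
    (A := CfH8.qb (Wc p G T) K)
    (comm_of_le_Cz ((CfH8.qb_le_Cz_iff nV nV).2 ((commutator_mono le_rfl h.LWT).trans hVT)))
    (CfH8.qb_le_Nm ((hKC.trans hCG).trans h.nLW)) (by
      obtain ⟨m, hm⟩ := IsPGroup.iff_card.1 (CfH8.isPGroup_qb (Q := Wc p G T) (h.pT.to_le h.LWT))
      rw [hm]
      exact Nat.Coprime.pow_right m (Nat.Coprime.coprime_dvd_left (CfH8.card_qb_dvd nK)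
        (hc ▸ c1)))
  set U := ⁅Lc p G T ⊔ Wc p G T, Cg G T⁆ ⊔ Wc p G T with hU
  have nU : G ≤ Nm(U) := CfH7.le_normalizer_sup (CfH7.le_normalizer_commutator h.nLW h.nCg) h.nW
  have UV : U ≤ Lc p G T ⊔ Wc p G T :=
    sup_le (CfH7.comm_le_left (hCG.trans h.nLW)) le_sup_right
  have k1 : ∀ x ∈ U, x ∈ Zc(T) ⊔ Wc p G T → x ∈ Wc p G T := fun x hx hz0 => by
    obtain ⟨z, hz, w, hw, rfl⟩ := h.mem_sup_W h.Z_le_G hz0
    rw [mul_mem_cancel_right (mem_sup_right hw)] at hx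
    refine mul_mem ?_ hw
    have hzn := nT hz.1
    refine (CfH8.nmQuot_eq_one_iff (g := ⟨z, hzn⟩)).1 (mem_bot.1 (f1.le ⟨?_, ?_⟩))
    · have := CfH8.nmQuot_mem_qb (g := ⟨z, hzn⟩) hx
      rw [CfH8.qb_sup_self ((le_sup_left.trans UV).trans nV),
        CfH8.qb_commutator nV (hCG.trans h.nW)] at this
      refine CfH7.commutator_le_of_le_sup_Cz (C := CfH8.qb (Wc p G T) T) ?_
        (CfH8.qb_le_Nm ((hKC.trans hCG).trans h.nLW)) ?_ this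
      · exact (CfH8.qb_le_Cz_iff nT nV).2 (by rwa [commutator_comm])
      · rw [← CfH8.qb_sup nT nK, hK]
    · refine (CfH8.qb_le_Cz_iff (B := Zc(T)) (inf_le_left.trans nT) nK).2 ?_
        (CfH8.nmQuot_mem_qb (g := ⟨z, hzn⟩) hz)
      exact (CfH7.commutator_le_of_le_secCz (hKC.trans inf_le_right)).trans h.Zg_le_W
  have k2 : ∀ d : PD p q G T, II p G d.S T d.A → ∀ u ∈ U, u ∈ d.A₀ ⊔ Wc p G T := fun d h2 u hu => by
    obtain ⟨a, ha, haT⟩ := SetLike.not_le_iff_exists.1 d.hT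
    have haG := d.AG ha
    refine d.II_cub h2 (d.AS ha) haT (UV hu) (k1 _ (commutator_mem_right
      (commutator_mem_right hu (nU haG)) (nU haG)) ?_)
    exact sup_le_sup_right d.cs.ZS_le_Z _ (comm_mem_of_le' (d.II_AW_S h2)
      (comm_mem_of_le' (d.II_LW_S h2) (UV hu) (d.AS ha)) (d.AS ha))
  exact fun u hu => k1 u (mem_sup_left hu) (d.II_mem_ZW h2 (k2 d h2 u (mem_sup_left hu))
    (k2 d.symm (d.II_symm h2) u (mem_sup_left hu)))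

theorem II_Cg : Cg G T ≤ T := by
  have h := d.cs
  have k : Op(p, Cg G T) ≤ Cz(Lc p G T ⊔ Wc p G T) :=
    CfH7.pResidualOf_le_Cz_of_le' (M := Wc p G T) (h.pT.to_le h.LWT) (inf_le_left.trans h.nLW)
      ((commutator_mono le_rfl (CfH7.pResidualOf_le _)).trans (d.II_CgV h2))
      (h.OCg_le_O.trans (CfH7.le_Cz_comm inf_le_right))
  exact h.Cg_le_T (CfH7.pResidualOf_le_Cz_of_le' h.pT (inf_le_left.trans h.nT)
    ((commutator_mono le_rfl h.OCg_le_O).trans le_sup_left) k)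

/-- the section `L W / W` -/
def sV : Sct Γ where
  V := Lc p G T ⊔ Wc p G T
  N := Wc p G T
  H := G
  hV := (d.cs.LWT.trans d.cs.TG).trans d.cs.nW
  hc := (commutator_mono d.cs.LWT d.cs.LWT).trans (d.II_TT h2)
  HV := d.cs.nLW
  HN := d.cs.nW

/-- the section `L W / Z W` -/
def sU : Sct Γ where
  V := Lc p G T ⊔ Wc p G T
  N := Zc(T) ⊔ Wc p G T
  H := G
  hV := (d.cs.LWT.trans d.cs.TG).trans d.cs.nZW
  hc := ((commutator_mono d.cs.LWT d.cs.LWT).trans (d.II_TT h2)).trans le_sup_right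
  HV := d.cs.nLW
  HN := d.cs.nZW

theorem II_surj {a b v : Γ} (ha : a ∈ d.S) (haT : a ∉ T) (hb : b ∈ d.S') (hbT : b ∉ T)
    (hv : v ∈ d.A₀ ⊔ Wc p G T) :
    ∃ u ∈ Lc p G T ⊔ Wc p G T, ⁅a, u⁆⁻¹ * v ∈ Zc(T) ⊔ Wc p G T := by
  let s := d.sU h2
  have k : ∀ (d : PD p q G T) (h2 : II p G d.S T d.A) {a : Γ}, a ∈ d.S →
      s.δ a * s.δ a = 0 := fun d h2 a ha =>
    (s.δ2_eq_zero (d.cs.SG ha) (d.cs.SG ha)).2 fun v hv => sup_le_sup_right d.cs.ZS_le_Z _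
      (comm_mem_of_le' (d.II_AW_S h2) (comm_mem_of_le' (d.II_LW_S h2) hv ha) ha)
  have haG := d.cs.SG ha
  have hbG := d.symm.cs.SG hb
  have hvV := d.AW_LW hv
  obtain ⟨n, e⟩ := ker_le_range (k d h2 ha) (k d.symm (d.II_symm h2) hb) (m := s.cl v)
    (fun m m1 m2 => by
      obtain ⟨u, hu, rfl⟩ := s.surj m
      rw [s.δ_cl haG hu, s.cl_eq_zero (s.comm_mem haG hu)] at m1
      rw [s.δ_cl hbG hu, s.cl_eq_zero (s.comm_mem hbG hu)] at m2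
      exact (s.cl_eq_zero hu).2 (d.II_mem_ZW h2 (d.II_fix h2 ha haT hu m1)
        (d.symm.II_fix (d.II_symm h2) hb hbT hu m2)))
    (by
      rw [s.δ_cl haG hvV, s.cl_eq_zero (s.comm_mem haG hvV)]
      exact sup_le_sup_right d.cs.ZS_le_Z _ (comm_mem_of_le' (d.II_AW_S h2) hv ha))
  obtain ⟨u, hu, rfl⟩ := s.surj n
  rw [s.δ_cl haG hu, s.cl_eq_iff (s.comm_mem haG hu) hvV] at e
  exact ⟨u, hu, e⟩

theorem II_three : p = 3 := by
  have h := d.cs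
  have h' := d.symm.cs
  obtain ⟨a, ha, haT, l, hl, hh⟩ := d.II_exists h2
  obtain ⟨b, hb, r⟩ := d.exists_br ha haT
  obtain ⟨e1, e2⟩ := d.br_ring r
  have haG := d.AG ha
  have hbG := d.symm.AG hb
  let s := d.sV h2
  have ZV : Zc(T) ≤ s.V := h.Z_le_LW
  have hC : ∀ k ∈ Cg G T, s.act k = 1 := fun k hk =>
    (s.act_eq_one hk.1).2 fun v hv => comm_mem_of_le' (d.II_CgV h2) hv hk
  have k0 : ∀ {a b u : Γ}, a ∈ G → b ∈ G → u ∈ Zc(T) → ⁅a, ⁅b, u⁆⁆ * u ∈ Zc(G) →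
      (s.δ a * s.δ b) (s.cl u) = - s.cl u := fun {a b u} ha hb hu hh => by
    have hu' := ZV hu
    rw [s.mul_apply', s.δ_cl hb hu', s.δ_cl ha (s.comm_mem hb hu'), ← add_eq_zero_iff_eq_neg,
      ← s.cl_mul (s.comm_mem ha (s.comm_mem hb hu')) hu']
    exact (s.cl_eq_zero (mul_mem (s.comm_mem ha (s.comm_mem hb hu')) hu')).2 (h.Zg_le_W hh)
  have k1 : ∀ (d : PD p q G T) (h2 : II p G d.S T d.A) {a : Γ}, a ∈ d.S →
      s.δ a * s.δ a * s.δ a = 0 := fun d h2 a ha =>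
    (s.δ3_eq_zero (d.cs.SG ha) (d.cs.SG ha) (d.cs.SG ha)).2 fun v hv =>
      d.II_quad h2 ha (comm_mem_of_le' (d.II_LW_S h2) hv ha)
  have k2 : ∀ (d : PD p q G T) (h2 : II p G d.S T d.A) {a b : Γ}, a ∈ d.S → b ∈ G →
      (∀ u ∈ Zc(d.S), ⁅a, ⁅b, u⁆⁆ * u ∈ Zc(G)) →
      s.δ a * s.δ b * (s.δ a * s.δ a) = -(s.δ a * s.δ a) := fun d h2 a b ha hb hh =>
    s.end_ext fun v hv => by
      have haG := d.cs.SG ha
      obtain ⟨u, hu, w, hw, e⟩ := d.cs.mem_sup_W (inf_le_left.trans d.cs.SG)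
        (comm_mem_of_le' (d.II_AW_S h2) (comm_mem_of_le' (d.II_LW_S h2) hv ha) ha)
      have e' : (s.δ a * s.δ a) (s.cl v) = s.cl u := by
        rw [s.mul_apply', s.δ_cl haG hv, s.δ_cl haG (s.comm_mem haG hv), ← e,
          s.cl_mul (ZV (d.cs.ZS_le_Z hu)) (mem_sup_right hw),
          (s.cl_eq_zero (mem_sup_right hw)).2 hw, add_zero]
      rw [s.mul_apply', end_neg_apply, e']
      exact k0 haG hb (d.cs.ZS_le_Z hu) (hh u hu)
  have c : ∀ f : AddMonoid.End s.Mod, f * s.δ a = 0 → f * s.δ b = 0 → f = 0 := fun f f1 f2 => by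
    have c1 : ∀ z ∈ Zc(T) ⊔ Wc p G T, f (s.cl z) = 0 := fun z hz0 => by
      obtain ⟨z, hz, w, hw, rfl⟩ := h.mem_sup_W h.Z_le_G hz0
      obtain ⟨u, hu, v, hv, e⟩ := h.exists_mul d.gG d.gM hz
      rw [← d.hS'] at hv
      have e1 := congrArg f (k0 haG hbG (h.ZS_le_Z hu) (r.h1 u hu))
      have e2 := congrArg f (k0 hbG haG (h'.ZS_le_Z hv) (r.h2 v hv))
      rw [← s.mul_apply', ← mul_assoc, f1, zero_mul, map_neg, eq_comm, neg_eq_iff_eq_neg] at e1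
      rw [← s.mul_apply', ← mul_assoc, f2, zero_mul, map_neg, eq_comm, neg_eq_iff_eq_neg] at e2
      rw [s.cl_mul (ZV hz) (mem_sup_right hw), (s.cl_eq_zero (mem_sup_right hw)).2 hw, add_zero,
        ← e, s.cl_mul (ZV (h.ZS_le_Z hu)) (ZV (h'.ZS_le_Z hv)), map_add, e1, e2]
      simp
    have c2 : ∀ {a v : Γ}, a ∈ G → f * s.δ a = 0 → v ∈ s.V →
        (∃ u ∈ s.V, ⁅a, u⁆⁻¹ * v ∈ Zc(T) ⊔ Wc p G T) → f (s.cl v) = 0 :=
      fun {a v} ha f1 hv ⟨u, hu, e⟩ => by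
        have := c1 _ e
        rwa [s.cl_mul (inv_mem (s.comm_mem ha hu)) hv, s.cl_inv (s.comm_mem ha hu), map_add,
          map_neg, ← s.δ_cl ha hu, ← s.mul_apply', f1, AddMonoid.End.zero_apply, neg_zero,
          zero_add] at this
    refine s.end_ext fun v hv => ?_
    obtain ⟨e, he, w, hw, rfl⟩ := d.mem_LW hv
    obtain ⟨x, hx, y, hy, rfl⟩ := d.mem_E he
    have hxV := d.AW_LW (mem_sup_left hx)
    have hyV := d.symm.AW_LW (mem_sup_left hy)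
    rw [s.cl_mul (mul_mem hxV hyV) (mem_sup_right hw), (s.cl_eq_zero (mem_sup_right hw)).2 hw,
      add_zero, s.cl_mul hxV hyV, map_add,
      c2 haG f1 hxV (d.II_surj h2 r.ha haT r.hb r.hbT (mem_sup_left hx)),
      c2 hbG f2 hyV (d.symm.II_surj (d.II_symm h2) r.hb r.hbT r.ha haT (mem_sup_left hy))]
    simp
  have g1 := mul_mem (mul_mem haG hbG) haG
  have g2 := mul_mem (mul_mem hbG haG) hbG
  have a1 : s.act (a * b * a) = (1 + s.δ a) * (1 + s.δ b) * (1 + s.δ a) := by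
    rw [s.act_mul (mul_mem haG hbG) haG, s.act_mul haG hbG, ← s.act_eq, ← s.act_eq]
  have a2 : s.act (b * a * b) = (1 + s.δ b) * (1 + s.δ a) * (1 + s.δ b) := by
    rw [s.act_mul (mul_mem hbG haG) hbG, s.act_mul hbG haG, ← s.act_eq, ← s.act_eq]
  have k6 := ring_cubic (k1 d h2 r.ha) (k1 d.symm (d.II_symm h2) r.hb) (by
      rw [← a1, ← a2, ← mul_inv_cancel_left (a * b * a) (b * a * b),
        s.act_mul g1 (mul_mem (inv_mem g1) g2), hC ((a * b * a)⁻¹ * _) ?_, mul_one]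
      rw [h.mem_Cg (mul_mem (inv_mem g1) g2), h.sZ.act_mul (inv_mem g1) g2, ← e1,
        ← h.sZ.act_mul (inv_mem g1) g1, inv_mul_cancel, h.sZ.act_one])
    (by
      rw [← a1, ← s.act_pow g1]
      refine hC _ ((h.mem_Cg (pow_mem g1 4)).2 ?_)
      rw [show 4 = 2 * 2 from rfl, pow_mul, h.sZ.act_pow (pow_mem g1 2), e2, neg_one_sq])
    (k2 d h2 r.ha hbG r.h1) (k2 d.symm (d.II_symm h2) r.hb haG r.h2) c
  by_contra h3
  refine hh ((s.δ2_eq_zero haG haG).1 (cop_zero (m := 6) (n := p) ?_ k6 ?_) l (mem_sup_left hl))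
  · exact Nat.Coprime.mul_left (m := 2) (n := 3)
      ((Nat.coprime_primes Nat.prime_two hp.out).2 (d.II_ne_two h2).symm)
      ((Nat.coprime_primes Nat.prime_three hp.out).2 (Ne.symm h3))
  · rw [s.natCast_eq_zero fun v hv => d.II_powT h2 (h.LWT hv), zero_mul]

theorem II_TG : ⁅T, G⁆ ≤ Lc p G T ⊔ Wc p G T :=
  (commutator_mono le_rfl d.H_sup.ge).trans (CfH7.commutator_sup_right_le (d.HG.trans d.cs.nLW)
    (d.cs.TG.trans d.cs.nLW) d.comm_T_H ((d.II_TT h2).trans le_sup_right))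

theorem II_TS : ⁅T, d.S⁆ ≤ d.A₀ ⊔ Wc p G T := by
  refine commutator_le.2 fun t ht a ha => comm_mem_symm ?_
  by_cases haT : a ∈ T
  · exact mem_sup_right (comm_mem_of_le (d.II_TT h2) haT ht)
  have haG := d.cs.SG ha
  let s := d.cs.sT h2.LT
  have h3 := d.II_three h2
  subst h3
  refine d.II_cub h2 ha haT (comm_mem_of_le' (d.II_TG h2) ht haG)
    ((s.δ3_eq_zero haG haG haG).1 (ring_three ?_ (d.II_natCast h2)) t ht)
  rw [← s.act_eq, ← s.act_pow haG, d.cs.sT_act h2.LT (d.cs.pow a ha)]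

theorem II_SS : ⁅d.S, d.S⁆ ≤ d.A₀ ⊔ Wc p G T := by
  have n := d.II_nAW h2
  have h1 : ⁅d.A, d.S⁆ ≤ d.A₀ ⊔ Wc p G T := by
    nth_rw 1 [← d.A_sup]
    refine CfH7.commutator_sup_right_le (d.AS.trans n) (d.cs.TS.trans n) ?_ ?_
    · rw [CfH7.comm_eq_bot_left.2 (le_Cz_of_comm d.hA.comm)]; exact bot_le
    · rw [commutator_comm]; exact (commutator_mono le_rfl d.AS).trans (d.II_TS h2)
  nth_rw 1 [← d.A_sup]
  exact CfH7.commutator_sup_left_le (d.AS.trans n) (d.cs.TS.trans n) h1 (d.II_TS h2)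

theorem II_pow {x : Γ} (hx : x ∈ d.S) : x ^ p ∈ d.A₀ ⊔ Wc p G T := by
  obtain ⟨a, ha, t, ht, rfl⟩ := d.cs.mem_of_sup_eq d.A_sup hx
  let s : Sct Γ := ⟨d.S, d.A₀ ⊔ Wc p G T, ⊥, d.II_nAW h2, d.II_SS h2, bot_le, bot_le⟩
  have haS := d.AS ha
  have htS := d.cs.TS ht
  refine (s.cl_eq_zero (pow_mem hx p)).1 ?_
  rw [s.cl_pow hx, s.cl_mul haS htS, smul_add, ← s.cl_pow haS,
    ← s.cl_pow htS, (s.cl_eq_zero (pow_mem htS p)).2 (mem_sup_right (d.II_powT h2 ht)), add_zero,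
    s.cl_eq_zero (pow_mem haS p)]
  exact mem_sup_left (d.AT_le ⟨pow_mem ha p, d.cs.pow a haS⟩)

theorem II_exp : ∃ x ∈ d.S, x ^ 3 ≠ 1 := by
  by_contra hh
  push Not at hh
  obtain ⟨a, ha, haT, l, hl, hc⟩ := d.II_exists h2
  have h3 := d.II_three h2
  subst h3
  have haG := d.AG ha
  have hlT := d.cs.LT hl
  let s := d.cs.sT h2.LT
  have k1 := hh _ (mul_mem (d.cs.TS hlT) (d.AS ha))
  have k2 : (l * a) ^ 3 = l * (a * l * a⁻¹) * (a * (a * l * a⁻¹) * a⁻¹) * a ^ 3 := by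
    simp only [pow_succ]; group
  rw [k2, hh a (d.AS ha), mul_one] at k1
  have m1 := s.conj_mem haG hlT
  have m2 := s.conj_mem haG m1
  have k3 := congrArg s.cl k1
  rw [s.cl_mul (mul_mem hlT m1) m2, s.cl_mul hlT m1, ← s.act_cl haG m1, ← s.act_cl haG hlT,
    s.cl_one] at k3
  have k4 : 1 + s.act a + s.act a * s.act a = 3 * (1 + s.δ a) + s.δ a * s.δ a := by
    rw [s.act_eq]; noncomm_ring
  rw [← Nat.cast_ofNat, d.II_natCast h2, zero_mul, zero_add] at k4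
  exact hc ((d.sT_δ2 h2.LT haG hlT).2 ((DFunLike.congr_fun k4 (s.cl l)).symm.trans k3))

omit h2 in
theorem cj_AW : cj d.g (d.A₀ ⊔ Wc p G T) = d.B₀ ⊔ Wc p G T := by
  rw [cj_sup, d.cj_A₀, cj_eq_of_mem_normalizer (d.cs.nW d.gG)]

theorem II_sup : (d.A₀ ⊔ Wc p G T) ⊔ (d.B₀ ⊔ Wc p G T) = Lc p G T ⊔ Wc p G T := by
  refine le_antisymm (sup_le d.AW_LW d.symm.AW_LW) ?_
  rw [← d.E_sup, d.hE]
  exact sup_le (sup_le_sup le_sup_left le_sup_left) (le_sup_right.trans le_sup_right)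

theorem II_inf : (d.A₀ ⊔ Wc p G T) ⊓ (d.B₀ ⊔ Wc p G T) = Zc(T) ⊔ Wc p G T :=
  le_antisymm (fun x hx => d.II_mem_ZW h2 hx.1 hx.2) (le_inf d.ZW_AW d.symm.ZW_AW)

theorem II_lower {v : Γ} (hv : v ∈ Lc p G T ⊔ Wc p G T) (hv' : v ∉ d.A₀ ⊔ Wc p G T)
    {R : Subgroup Γ} (h1 : Zc(T) ⊔ Wc p G T ≤ R) (h3 : ∀ s ∈ d.S, ⁅s, v⁆ ∈ R) :
    q * Nat.card (Zc(T) ⊔ Wc p G T : Subgroup Γ) ≤ Nat.card R := by
  let s := d.sU h2
  have k := card_le_of_fibers (S := d.S) (T := T) (fun a => ⁅a, v⁆) h3 h1 fun a ha b hb hc => by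
    have haG := d.cs.SG ha
    have hbG := d.cs.SG hb
    by_contra hT
    refine hv' (d.II_fix h2 (mul_mem (inv_mem ha) hb) hT hv ?_)
    have e := (s.cl_eq_iff (s.comm_mem haG hv) (s.comm_mem hbG hv)).2 hc
    rw [← s.δ_cl haG hv, ← s.δ_cl hbG hv] at e
    have e2 : s.act a (s.cl v) = s.act b (s.cl v) := sub_left_inj.1 e
    have hab := mul_mem (inv_mem haG) hbG
    refine (s.cl_eq_zero (s.comm_mem hab hv)).1 ?_
    rw [← s.δ_cl hab hv]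
    refine sub_eq_zero.2 (show s.act (a⁻¹ * b) (s.cl v) = (1 : AddMonoid.End s.Mod) (s.cl v) from ?_)
    rw [s.act_mul (inv_mem haG) hbG, s.mul_apply', ← e2, ← s.mul_apply',
      ← s.act_mul (inv_mem haG) haG, inv_mul_cancel, s.act_one]
  rw [inf_eq_right.2 d.cs.TS, d.cs.card, mul_comm q, mul_assoc] at k
  exact Nat.le_of_mul_le_mul_left k Nat.card_pos

theorem II_cards : Nat.card (d.A₀ ⊔ Wc p G T : Subgroup Γ) =
      q * Nat.card (Zc(T) ⊔ Wc p G T : Subgroup Γ) ∧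
    Nat.card (Lc p G T ⊔ Wc p G T : Subgroup Γ) = q * Nat.card (d.A₀ ⊔ Wc p G T : Subgroup Γ) := by
  have h := d.cs
  obtain ⟨a, ha, haT, l, hl, hc⟩ := d.II_exists h2
  have haG := d.AG ha
  have haS := d.AS ha
  let s := h.sT h2.LT
  have c1 := card_sup_mul_card_inf (A := Zc(d.S)) ((inf_le_left.trans h.SG).trans h.nW)
  rw [show Zc(d.S) ⊓ Wc p G T = Zc(G) from le_antisymm (fun x hx => h.mem_Zg (h.ZS_le_Z hx.1) hx.2)
    (le_inf h.Zg_le_ZS h.Zg_le_W), h.card_ZS, mul_right_comm] at c1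
  have c1' := Nat.eq_of_mul_eq_mul_right Nat.card_pos c1
  have c2 := card_le_of_fibers (S := Lc p G T ⊔ Wc p G T) (T := d.A₀ ⊔ Wc p G T)
    (R := Zc(d.S) ⊔ Wc p G T) (C := Wc p G T) (fun v => ⁅a, ⁅a, v⁆⁆)
    (fun v hv => comm_mem_of_le' (d.II_AW_S h2) (comm_mem_of_le' (d.II_LW_S h2) hv haS) haS)
    le_sup_right fun v hv w hw hc => by
      have hvT := h.LWT hv
      have hwT := h.LWT hw
      refine d.II_cub h2 haS haT (mul_mem (inv_mem hv) hw) ?_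
      have e := (s.cl_eq_iff (s.comm_mem haG (s.comm_mem haG hvT))
        (s.comm_mem haG (s.comm_mem haG hwT))).2 hc
      rw [← s.δ_cl haG (s.comm_mem haG hvT), ← s.δ_cl haG (s.comm_mem haG hwT), ← s.δ_cl haG hvT,
        ← s.δ_cl haG hwT] at e
      rw [d.sT_δ2 h2.LT haG (mul_mem (inv_mem hvT) hwT), s.cl_mul (inv_mem hvT) hwT, s.cl_inv hvT,
        map_add, map_add, map_neg, map_neg, e, neg_add_cancel]
  rw [inf_eq_right.2 d.AW_LW, c1', ← mul_assoc] at c2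
  have c2' := Nat.le_of_mul_le_mul_right c2 Nat.card_pos
  have c3 := card_sup_mul_card_inf (A := d.A₀ ⊔ Wc p G T) (B := d.B₀ ⊔ Wc p G T)
    (CfH7.le_Nm_of_comm_le_right (((commutator_mono d.AW_T d.symm.AW_T).trans
      (d.II_TT h2)).trans le_sup_right))
  rw [d.II_sup h2, d.II_inf h2, ← d.cj_AW, card_cj] at c3
  have c4 := d.II_lower h2 (mem_sup_left hl) (fun hh => hc (d.II_quad h2 haS hh)) d.ZW_AW
    fun x hx => comm_mem_of_le' (d.II_LW_S h2) (mem_sup_left hl) hx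
  have p1 : 0 < Nat.card (d.A₀ ⊔ Wc p G T : Subgroup Γ) := Nat.card_pos
  have p2 : 0 < Nat.card (Zc(T) ⊔ Wc p G T : Subgroup Γ) := Nat.card_pos
  generalize Nat.card (d.A₀ ⊔ Wc p G T : Subgroup Γ) = x at *
  generalize Nat.card (Zc(T) ⊔ Wc p G T : Subgroup Γ) = y at *
  generalize Nat.card (Lc p G T ⊔ Wc p G T : Subgroup Γ) = z at *
  have c5 : x = q * y := le_antisymm (Nat.le_of_mul_le_mul_left (by
    calc x * x = z * y := c3.symm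
      _ ≤ x * q * y := Nat.mul_le_mul_right _ c2'
      _ = _ := mul_assoc _ _ _) p1) c4
  refine ⟨c5, Nat.eq_of_mul_eq_mul_right p2 ?_⟩
  rw [c3, mul_right_comm, ← c5]

theorem II_le {v : Γ} (hv : v ∈ Lc p G T ⊔ Wc p G T) (hv' : v ∉ d.A₀ ⊔ Wc p G T)
    {R : Subgroup Γ} (h1 : Zc(T) ⊔ Wc p G T ≤ R) (h3 : ∀ s ∈ d.S, ⁅s, v⁆ ∈ R) :
    d.A₀ ⊔ Wc p G T ≤ R := by
  have k := d.II_lower h2 hv hv' (R := (d.A₀ ⊔ Wc p G T) ⊓ R) (le_inf d.ZW_AW h1)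
    fun s hs => ⟨comm_mem_of_le' (d.II_LW_S h2) hv hs, h3 s hs⟩
  rw [← (d.II_cards h2).1] at k
  exact inf_eq_left.1 (eq_of_le_of_card_ge inf_le_left k)

theorem II_irred {U : Subgroup Γ} (h1 : Zc(T) ⊔ Wc p G T ≤ U) (h3 : U ≤ Lc p G T ⊔ Wc p G T)
    (hn : G ≤ Nm(U)) : U = Zc(T) ⊔ Wc p G T ∨ U = Lc p G T ⊔ Wc p G T := by
  have k : ∀ (d : PD p q G T) (h2 : II p G d.S T d.A), ¬ U ≤ d.A₀ ⊔ Wc p G T →
      U = Lc p G T ⊔ Wc p G T := fun d h2 hh => by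
    obtain ⟨v, hv, hv'⟩ := SetLike.not_le_iff_exists.1 hh
    have k1 := d.II_le h2 (h3 hv) hv' h1 fun s hs => commutator_mem_right hv (hn (d.cs.SG hs))
    refine le_antisymm h3 ?_
    rw [← d.II_sup h2, ← d.cj_AW]
    exact sup_le k1 ((cj_mono _ k1).trans (cj_eq_of_mem_normalizer (hn d.gG)).le)
  by_cases a1 : U ≤ d.A₀ ⊔ Wc p G T
  · by_cases a2 : U ≤ d.B₀ ⊔ Wc p G T
    · exact Or.inl (le_antisymm ((le_inf a1 a2).trans (d.II_inf h2).le) h1)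
    · exact Or.inr (k d.symm (d.II_symm h2) a2)
  · exact Or.inr (k d h2 a1)

end PD

end CfLp
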