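import Cfsg.Agent.OD.Pre
import Cfsg.Agent.L.PU8

/-! Pushing up: two groups over the same Sylow subgroup. -/

set_option autoImplicit false
set_option linter.unusedSectionVars false
set_option linter.unusedVariables false

open Cfsg Subgroup CfH9
open CfH7 (secCz mem_secCz)
open scoped commutatorElement

namespace CfLp

variable {Γ : Type*} [Group Γ] [Finite Γ] {p q₀ q₁ : ℕ} {G₀ G₁ S T₀ T₁ M₀ M₁ : Subgroup Γ}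
  [hp : Fact p.Prime]

theorem pairA (h₀ : PU p q₀ G₀ S T₀ M₀) (h₁ : FF p q₁ G₁ S T₁ M₁) (hn : ¬ Zc(T₁) ≤ T₀) :
    Lc p G₀ T₀ ≤ Zc(T₀) := by
  obtain ⟨z, hz, hz'⟩ := SetLike.not_le_iff_exists.1 hn
  exact h₀.comm_O_le h₀.nT h₀.nZ (h₁.Z_le_S hz) hz' fun x hx =>
    h₀.ZS_le_Z (h₁.comm_mem (h₀.TS hx) hz)

theorem pair_eq (h₀ : CS p q₀ G₀ S T₀ M₀) (h₁ : CS p q₁ G₁ S T₁ M₁) (h : T₀ ≤ T₁) : T₀ = T₁ := by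
  by_contra hh
  have := h₀.sup_T h₁.cdST fun h' => hh (le_antisymm h h')
  exact h₁.ne (this.ge.trans (sup_le le_rfl h))

theorem FF.exists_Z {q : ℕ} {G T M : Subgroup Γ} (h : FF p q G S T M) :
    ∃ z ∈ Zc(T), z ∉ Zc(S) := by
  refine SetLike.not_le_iff_exists.1 fun hh => h.ne fun s hs => ?_
  exact h.mem_T_of_Cz h.nc hs (CfH7.le_Cz_comm (hh.trans inf_le_right) hs)

theorem pairB1 (h₀ : CS p q₀ G₀ S T₀ M₀) (h₁ : CS p q₁ G₁ S T₁ M₁) (a0 : Zc(T₀) ≤ T₁)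
    (a1 : Zc(T₁) ≤ T₀) (hn : ¬ G₁ ≤ Nm(Zc(T₀) ⊔ Zc(T₁))) (t01 : ¬ T₀ ≤ T₁) :
    (∀ z ∈ Zc(T₀), ∀ s ∈ S, ⁅s, z⁆ ∈ Zc(G₁)) ∧
    (∀ z ∈ Zc(T₀), (∀ g ∈ G₁, ⁅g, z⁆ ∈ Zc(T₁)) → z ∈ Zc(S)) ∧
    ∃ C, MaxEA 0 T₁ C ∧ C ≤ T₀ ∧ Zc(T₀) ≤ C := by
  obtain ⟨A, hA, hAT⟩ := h₀.exists_large t01
  obtain ⟨d, -, -, rfl⟩ := h₁.exists_pd (h₀.maxT hA) hAT
  have k1 : Zc(T₀) ≤ d.A₀ := (le_inf ((inf_le_inf_left T₀ (Cz_anti hA.le)).trans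
    hA.inf_Cz_zero.le) a0).trans d.AT_le
  have k2 : ¬ d.E ≤ T₀ := fun hh => hn (h₁.le_of_O_S ?_ (CfH7.le_normalizer_sup
    (h₀.SG.trans h₀.nZ) (h₁.SG.trans h₁.nZ)))
  · have k3 := h₀.sup_T (h₁.up d.cdE).1 k2
    refine ⟨fun z hz s hs => ?_, fun z hz hc => ?_, d.A₀, d.maxTA₀, ?_, k1⟩
    · refine h₁.mem_Zg (h₁.ZS_le_Z (h₀.comm_mem hs hz)) ?_
      obtain ⟨e, he, t, ht, rfl⟩ := h₀.mem_of_sup_eq k3 hs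
      rw [h₀.comm_mul (h₁.TS (d.ET he)) (h₀.TS ht) hz, comm_eq_one' hz.2 ht, mul_one]
      exact comm_mem_of_le d.EE_le_W he (d.A₀E (k1 hz))
    · have hzE := d.A₀E (k1 hz)
      rw [← h₀.Z_inf_Cz (d.ET.trans h₁.TS) k2]
      exact ⟨hz, d.Y_cz (d.fix d.invY d.YE hzE ⟨d.invY.nE hzE, fun r hr => d.ZY (hc r (d.HG hr))⟩)⟩
    · rw [d.hA₀]; exact sup_le (inf_le_left.trans hA.le) a1
  · refine CfH7.le_Nm_sup_of_comm_le (h₁.OG.trans h₁.nZ) (le_trans ?_ le_sup_right)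
    have k4 : Zc(T₀) ≤ d.D ⊔ Zc(T₁) := by
      rw [d.D_sup, ← d.czE]; exact le_inf a0 (inf_le_right.trans (Cz_anti hh))
    refine (commutator_mono k4 le_rfl).trans (CfH7.commutator_sup_left_le (d.DG.trans h₁.nZ)
      (h₁.Z_le_G.trans h₁.nZ) ?_ (CfH7.comm_le_left (h₁.OG.trans h₁.nZ)))
    rw [CfH7.comm_eq_bot_left.2 d.D_czO]; exact bot_le

theorem pairB (h₀ : CS p q₀ G₀ S T₀ M₀) (h₁ : CS p q₁ G₁ S T₁ M₁) (a0 : Zc(T₀) ≤ T₁)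
    (a1 : Zc(T₁) ≤ T₀) (hn : ¬ G₁ ≤ Nm(Zc(T₀) ⊔ Zc(T₁))) :
    Lc p G₀ T₀ ≤ Zc(T₀) ∨ ∃ A, II p G₀ S T₀ A := by
  have t01 : ¬ T₀ ≤ T₁ := fun hh => hn (by rw [pair_eq h₀ h₁ hh, sup_idem]; exact h₁.nZ)
  obtain ⟨R, F, C, hC, hCT, hZC⟩ := pairB1 h₀ h₁ a0 a1 hn t01
  obtain ⟨g, hg, hM⟩ := h₁.ex
  have cT : ∀ {k y : Γ}, k ∈ G₁ → y ∈ T₁ → k⁻¹ * y * k ∈ S := fun hk hy =>
    h₁.TS (conj_mem_of_mem_normalizer' (h₁.nT hk) hy)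
  have uT : ∀ {k z : Γ}, k ∈ G₁ → z ∈ Zc(T₀) → k * z * k⁻¹ ∈ T₁ := fun hk hz =>
    conj_mem_of_mem_normalizer (h₁.nT hk) (a0 hz)
  have τ : ∀ {k y z : Γ}, k ∈ G₁ → y ∈ T₁ → z ∈ Zc(T₀) →
      ⁅y, k * z * k⁻¹⁆ = ⁅k⁻¹ * y * k, z⁆ := fun {k y z} hk hy hz => by
    rw [← conj_eq_self (cz_comm (R z hz _ (cT hk hy)).2 hk).symm, conj_comm]
    congr 1; group
  have key : ∀ {s z : Γ}, s ∈ S → z ∈ Zc(T₀) → z ∉ Zc(S) → ⁅s, z⁆ ∈ Wc p G₀ T₀ → ⁅s, z⁆ = 1 :=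
    fun hs hz hz' hc => comm_eq_one' hz.2 (h₀.mem_T_of_comm hz hz' hs
      (h₀.mem_Zg (h₀.ZS_le_Z (h₀.comm_mem hs hz)) hc))
  have step3 : ∀ {s z : Γ}, s ∈ S → z ∈ Zc(T₀) → z ∉ Zc(S) → ⁅s, g * z * g⁻¹⁆ ∈ Zc(T₁) →
      s ∈ T₁ := fun {s z} hs hz hz' hc => by
    by_contra hT
    have hu := h₁.nZ (h₁.TG (uT hg hz))
    have k := h₁.le_of_cj hg hM hs hT (X := secCz (zpowers (g * z * g⁻¹)) Zc(T₁)) (by
        rintro _ ⟨x, hx, rfl⟩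
        refine mem_secCz_zpowers hu (h₁.nZ ((h₁.conj' hg).SG ⟨x, hx, rfl⟩)) ?_
        change ⁅g * z * g⁻¹, g * x * g⁻¹⁆ ∈ _
        rw [← conj_comm]
        exact conj_mem_of_mem_normalizer (h₁.nZ hg) (comm_mem_symm (h₁.Zg_le_Z (R z hz x hx))))
      (mem_secCz_zpowers hu (h₁.nZ (h₁.SG hs)) (comm_mem_symm hc))
    refine hz' (F z hz fun x hx => comm_mem_symm ?_)
    have := (k (mul_mem (mul_mem hg hx) (inv_mem hg))).2 _ (mem_zpowers _)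
    rw [← conj_comm] at this
    exact (mem_normalizer_iff.1 (h₁.nZ hg) _).2 this
  have X' : ∀ {s z : Γ}, s ∈ S → z ∈ Zc(T₀) → z ∉ Zc(S) →
      (∀ y ∈ T₁, ⁅y, ⁅s, g * z * g⁻¹⁆⁆ ∈ Wc p G₀ T₀) → s ∈ T₁ := fun {s z} hs hz hz' hc => by
    have hsg := mul_mem (h₁.SG hs) hg
    refine step3 hs hz hz' ⟨commutator_mem_right (uT hg hz) (h₁.SnT hs),
      mem_Cz_of_comm' fun y hy => ?_⟩
    have e1 : ⁅s, g * z * g⁻¹⁆ = (s * g) * z * (s * g)⁻¹ * (g * z⁻¹ * g⁻¹) := by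
      rw [commutatorElement_def]; group
    have e2 : ⁅g⁻¹ * y * g, z⁻¹⁆ = ⁅(g⁻¹ * y * g)⁻¹, z⁆ := by
      rw [h₀.comm_inv (cT hg hy) hz, eq_inv_iff_mul_eq_one,
        ← h₀.comm_mulZ (h₀.SG (cT hg hy)) (inv_mem hz.1) hz]
      simp
    have e3 : ⁅y, ⁅s, g * z * g⁻¹⁆⁆ = ⁅(s * g)⁻¹ * y * (s * g) * (g⁻¹ * y * g)⁻¹, z⁆ := by
      rw [e1, comm_mul_right, τ hsg hy hz, τ hg hy (inv_mem hz),
        conj_eq_self (cz_comm (R _ (inv_mem hz) _ (cT hg hy)).2 (h₁.TG (uT hsg hz))).symm, e2,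
        h₀.comm_mul (cT hsg hy) (inv_mem (cT hg hy)) hz]
    have := hc y hy
    rw [e3] at this ⊢
    exact key (mul_mem (cT hsg hy) (inv_mem (cT hg hy))) hz hz' this
  have X : ∀ {s z : Γ}, s ∈ S → z ∈ Zc(T₀) → z ∉ Zc(S) → ⁅s, g * z * g⁻¹⁆ ∈ Wc p G₀ T₀ →
      s ∈ T₁ ∧ ⁅s, g * z * g⁻¹⁆ = 1 := fun {s z} hs hz hz' hc => by
    have k := X' hs hz hz' fun y hy => h₀.commW (h₀.SG (h₁.TS hy)) hc
    rw [τ hg k hz] at hc ⊢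
    exact ⟨k, key (cT hg k) hz hz' hc⟩
  have u0 : ∀ {z : Γ}, z ∈ Zc(T₀) → z ∉ Zc(S) → g * z * g⁻¹ ∉ T₀ := fun {z} hz hz' hu => by
    obtain ⟨A, hA, hT⟩ := h₀.exA
    obtain ⟨d, -, -, -⟩ := h₀.exists_pd hA hT
    have k1 : g * z * g⁻¹ ∈ d.E := d.czD.le ⟨hu, mem_Cz_of_comm' fun c hc =>
      (X (h₀.TS (d.DT hc)) hz hz' (h₀.commW' (h₀.TG hu) (d.DW hc))).2⟩
    have k2 : g * z * g⁻¹ ∈ d.Y := d.czE.le ⟨hu, mem_Cz_of_comm' fun e he =>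
      (X (h₀.TS (d.ET he)) hz hz' (comm_mem_of_le d.EE_le_W he k1)).2⟩
    obtain ⟨c, hc, y, hy, e⟩ := d.mem_Y k2
    refine t01 fun t ht => (X (h₀.TS ht) hz hz' ?_).1
    rw [← e, h₀.comm_mulZ (h₀.TG ht) (d.DT hc) hy, comm_eq_one' hy.2 ht, mul_one]
    exact h₀.commW (h₀.TG ht) (d.DW hc)
  obtain ⟨z₀, hz₀, hz₀'⟩ := h₀.exists_Z
  have τ1 : ∀ {y z : Γ}, y ∈ T₁ → z ∈ Zc(T₀) → ⁅y, g * z * g⁻¹⁆ ∈ Zc(T₀) := fun hy hz => by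
    rw [τ hg hy hz]; exact h₀.comm_mem_Z (h₀.SG (cT hg hy)) hz
  by_cases hL : Lc p G₀ T₀ ≤ T₁
  · left
    rw [Lc, ← h₀.L_idem]
    exact h₀.comm_O_le h₀.nL h₀.nZ (h₁.TS (uT hg hz₀)) (u0 hz₀ hz₀') fun x hx => τ1 (hL hx) hz₀
  right
  have hA₁ : MaxEA 0 T₁ (cj g C) := by have := hC.conj g; rwa [h₁.cjT hg] at this
  have uA : ∀ {z : Γ}, z ∈ Zc(T₀) → g * z * g⁻¹ ∈ cj g C := fun hz => conj_mem_cj g (hZC hz)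
  have hAT : ¬ cj g C ≤ T₀ := fun hh => u0 hz₀ hz₀' (hh (uA hz₀))
  obtain ⟨d, eS, -, eA⟩ := h₀.exists_pd (h₁.maxT hA₁) hAT
  rw [← eA] at hA₁ uA hAT
  have A₀T : d.A₀ ≤ T₁ := by rw [d.hA₀]; exact sup_le (inf_le_left.trans hA₁.le) a0
  have ET : d.E ⊓ T₁ = d.A₀ := le_antisymm (fun f hf => d.fixY (uA hz₀) (u0 hz₀ hz₀') hf.1
    (d.ZY (comm_mem_symm (τ1 hf.2 hz₀)))) (le_inf d.A₀E A₀T)
  have cE := h₀.up d.cdE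
  have eA₀ : d.A₀ = d.Y ⊔ Zc(T₁) := by
    have := cE.1.cz_inf h₁.cdST
    rwa [ET, cE.2, d.czE, h₁.S_inf_CzT, ← eS, d.maxA₀.inf_Cz_zero] at this
  have Z₁A₀ : Zc(T₁) ≤ d.A₀ := eA₀ ▸ le_sup_right
  have dec : ∀ x ∈ d.A₀, ∃ c ∈ d.D, ∃ y ∈ Zc(T₀), ∃ y' ∈ Zc(T₁), c * y * y' = x := fun x hx => by
    rw [eA₀] at hx
    obtain ⟨y0, hy0, y', hy', rfl⟩ := h₁.mem_sup_Z ((d.YA₀.trans A₀T).trans h₁.TG) hx
    obtain ⟨c, hc, y, hy, rfl⟩ := d.mem_Y hy0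
    exact ⟨c, hc, y, hy, y', hy', rfl⟩
  have LT : ⁅Lc p G₀ T₀, T₀⁆ ≤ Wc p G₀ T₀ := by
    have k3 := h₁.sup_T cE.1 fun hh => hL (d.LE.trans hh)
    have k4 : ⁅d.A₀, T₀⁆ ≤ Wc p G₀ T₀ := commutator_le.2 fun x hx t ht => comm_mem_symm (by
      obtain ⟨c, hc, y, hy, y', hy', rfl⟩ := dec x hx
      obtain ⟨e, he, t', ht', e1⟩ := h₁.mem_of_sup_eq k3 (h₀.TS ht)
      have k5 : ⁅t, y'⁆ ∈ Wc p G₀ T₀ := by
        rw [← e1, h₁.comm_mul (h₀.TS (d.ET he)) (h₁.TS ht') hy', comm_eq_one' hy'.2 ht', mul_one]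
        exact comm_mem_of_le d.EE_le_W he (d.A₀E (Z₁A₀ hy'))
      rw [comm_mul_right, h₀.comm_mulZ (h₀.TG ht) (d.DT hc) hy, comm_eq_one' hy.2 ht, mul_one]
      exact mul_mem (h₀.commW (h₀.TG ht) (d.DW hc)) (conj_mem_of_mem_normalizer
        (h₀.nW (h₀.TG (mul_mem (d.DT hc) hy.1))) k5))
    have k6 : ⁅d.B₀, T₀⁆ ≤ Wc p G₀ T₀ := by
      have := cj_mono d.g k4
      rwa [cj_commutator, d.cj_A₀, h₀.cjT d.gG, cj_eq_of_mem_normalizer (h₀.nW d.gG)] at this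
    refine (commutator_mono d.LE le_rfl).trans ?_
    rw [d.hE]
    exact CfH7.commutator_sup_left_le ((d.A₀T.trans h₀.TG).trans h₀.nW)
      ((d.B₀T.trans h₀.TG).trans h₀.nW) k4 k6
  refine ⟨d.A, eS ▸ d.hA, hAT, LT, fun a ha haT l hl hc => ?_, fun x hx => ?_, fun hh => hL ?_⟩
  · have c1 : CD S (cj g Zc(T₀) ⊔ Zc(T₁)) := by
      have := (h₁.down ((h₀.up h₀.cdZ).1.sup (h₁.up h₁.cdZ).1) (sup_le a0 inf_le_left)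
        le_sup_right).cj_of_mem (h₁.nT hg)
      rw [cj_sup, cj_eq_of_mem_normalizer (h₁.nZ hg)] at this
      exact (h₁.up this).1
    have c2 := h₀.sup_T c1 fun hh => u0 hz₀ hz₀' (hh (mem_sup_left (conj_mem_cj g hz₀)))
    rw [sup_assoc, sup_eq_right.2 a1] at c2
    obtain ⟨_, ⟨z, hz, rfl⟩, t, ht, rfl⟩ := h₀.mem_of_sup_eq c2 (h₁.TS (hA₁.le ha))
    change g * z * g⁻¹ * t ∉ T₀ at haT
    change ⁅g * z * g⁻¹ * t, ⁅g * z * g⁻¹ * t, l⁆⁆ ∈ _ at hc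
    have hu0 : g * z * g⁻¹ ∉ T₀ := fun hh => haT (mul_mem hh ht)
    have hz' : z ∉ Zc(S) := fun hh =>
      hu0 (a1 (conj_mem_of_mem_normalizer (h₁.nZ hg) (h₁.ZS_le_Z hh)))
    have huS := h₁.TS (uT hg hz)
    have huG := h₀.SG huS
    have hlT := h₀.LT hl
    rw [d.sT_δ2 LT (mul_mem huG (h₀.TG ht)) hlT, d.cs.sT_δ LT huG ht, ← d.sT_δ2 LT huG hlT] at hc
    have hw := d.comm_A_E (uA hz) (d.LE hl)
    have k1 := (X (h₀.TS (d.A₀T hw)) hz hz' (comm_mem_symm hc)).2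
    obtain ⟨c, hc, y, hy, y', hy', e⟩ := dec _ hw
    rw [← e, commutatorElement_eq_one_iff_commute] at k1
    have k2 : Commute c (g * z * g⁻¹) := cz_comm (d.D_cz hc) (d.AH (uA hz))
    have k3 : Commute y' (g * z * g⁻¹) := cz_comm hy'.2 (uT hg hz)
    have k4 : Commute y (g * z * g⁻¹) := by
      have := (k2.inv_left.mul_left k1).mul_left k3.inv_left
      simpa [mul_assoc] using this
    have k5 := h₁.ZS_le_Z (h₀.mem_ZS_of_commute hy huS hu0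
      (commutatorElement_eq_one_iff_commute.2 k4.symm))
    rw [← d.hA₀, ← ET]
    refine ⟨d.LE hl, X' (h₀.TS hlT) hz hz' fun x hx => ?_⟩
    have hxG := h₀.SG (h₁.TS hx)
    have k6 : ⁅x, ⁅g * z * g⁻¹, l⁆⁆ ∈ Wc p G₀ T₀ := by
      rw [← e, mul_assoc, h₁.comm_mulZ (h₁.TG hx) (A₀T (d.YA₀ (d.DY hc))) (mul_mem k5 hy'),
        comm_eq_one' (mul_mem k5 hy').2 hx, mul_one]
      exact h₀.commW hxG (d.DW hc)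
    rw [← commutatorElement_inv (g * z * g⁻¹), commutatorElement_inv_right]
    exact conj_mem_of_mem_normalizer' (h₀.nW (h₀.TG (d.A₀T hw))) (comm_mem_symm k6)
  · obtain ⟨c, hc, y, hy, y', hy', rfl⟩ := dec x (d.AT_le hx)
    rw [Commute.mul_pow (h₁.zcomm hy' (mul_mem (A₀T (d.YA₀ (d.DY hc))) (a0 hy))).symm,
      h₁.elemZ hy', mul_one, Commute.mul_pow (h₀.zcomm hy (d.DT hc)).symm, h₀.elemZ hy, mul_one]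
    exact pow_mem (d.DW hc) p
  · rw [← d.hA₀] at hh
    exact hh.trans A₀T

end CfLp
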