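import Cfsg.Agent.OD.Pre
import Cfsg.Agent.L.PU9

/-! Pushing up: families of groups over the same `p`-group. -/

set_option autoImplicit false
set_option linter.unusedSectionVars false
set_option linter.unusedVariables false

open Cfsg Subgroup CfH9
open scoped commutatorElement

namespace CfLp

universe u

section amalgam

variable {S G : Type*} [Group S] [Group G]

theorem exists_free_equiv (τ : S →* G) (hτ : Function.Injective τ) :
    ∃ e : S × Quotient (QuotientGroup.rightRel τ.range) ≃ G,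
      ∀ s s' x, e (s * s', x) = τ s * e (s', x) := by
  let f : S × Quotient (QuotientGroup.rightRel τ.range) → G := fun y => τ y.1 * y.2.out
  have hf : Function.Bijective f := by
    constructor
    · rintro ⟨s, x⟩ ⟨s', x'⟩ e
      have e1 : x = x' := by
        rw [← x.out_eq, ← x'.out_eq, Quotient.eq, QuotientGroup.rightRel_apply]
        refine ⟨s'⁻¹ * s, ?_⟩
        rw [map_mul, map_inv, eq_mul_inv_iff_mul_eq, mul_assoc, inv_mul_eq_iff_eq_mul]
        exact e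
      subst e1
      rw [show s = s' from hτ (mul_right_cancel e)]
    · intro g
      obtain ⟨s, hs⟩ := QuotientGroup.rightRel_apply.1
        (Quotient.exact (Quotient.out_eq (Quotient.mk (QuotientGroup.rightRel τ.range) g)))
      exact ⟨(s, Quotient.mk _ g), by simp only [f, hs, inv_mul_cancel_right]⟩
  exact ⟨Equiv.ofBijective f hf, fun s s' x => by simp [f, mul_assoc]⟩

theorem exists_rep (τ : S →* G) (hτ : Function.Injective τ) {Q : Type*}
    (e : S × Q ≃ G) (he : ∀ s s' x, e (s * s', x) = τ s * e (s', x)) (X : Type*) [Nonempty X] :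
    ∃ f : G →* Equiv.Perm ((S × Q) × X), Function.Injective f ∧
      ∀ s y x, f (τ s) (y, x) = ((s * y.1, y.2), x) := by
  refine ⟨{ toFun := fun g => Equiv.prodCongr ((e.trans (Equiv.mulLeft g)).trans e.symm) (Equiv.refl X)
            map_one' := by ext <;> simp
            map_mul' := fun a b => by ext <;> simp [mul_assoc] }, fun a b h => ?_, fun s y x => ?_⟩
  · have := congrArg (fun f : Equiv.Perm ((S × Q) × X) => e (f (e.symm 1, Classical.arbitrary X)).1) h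
    simpa using this
  · simp [← he]

end amalgam

theorem exists_amalgam {S G₀ G₁ : Type u} [Group S] [Group G₀] [Group G₁] [Finite G₀] [Finite G₁]
    (τ₀ : S →* G₀) (τ₁ : S →* G₁) (h₀ : Function.Injective τ₀) (h₁ : Function.Injective τ₁) :
    ∃ (Γ : Type u) (_ : Group Γ) (_ : Finite Γ) (f₀ : G₀ →* Γ) (f₁ : G₁ →* Γ),
      Function.Injective f₀ ∧ Function.Injective f₁ ∧ f₀.comp τ₀ = f₁.comp τ₁ := by
  obtain ⟨e₀, he₀⟩ := exists_free_equiv τ₀ h₀
  obtain ⟨e₁, he₁⟩ := exists_free_equiv τ₁ h₁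
  let Q₀ := Quotient (QuotientGroup.rightRel τ₀.range)
  let Q₁ := Quotient (QuotientGroup.rightRel τ₁.range)
  have : Finite S := Finite.of_injective _ h₀
  have : Nonempty Q₀ := ⟨Quotient.mk _ 1⟩
  have : Nonempty Q₁ := ⟨Quotient.mk _ 1⟩
  obtain ⟨f₀, i₀, k₀⟩ := exists_rep τ₀ h₀ e₀ he₀ Q₁
  obtain ⟨f₁, i₁, k₁⟩ := exists_rep τ₁ h₁ e₁ he₁ Q₀
  let sw : (S × Q₁) × Q₀ ≃ (S × Q₀) × Q₁ :=
    ⟨fun y => ((y.1.1, y.2), y.1.2), fun y => ((y.1.1, y.2), y.1.2), fun _ => rfl, fun _ => rfl⟩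
  refine ⟨Equiv.Perm ((S × Q₀) × Q₁), inferInstance, inferInstance, f₀,
    sw.permCongrHom.toMonoidHom.comp f₁, i₀, sw.permCongrHom.injective.comp i₁, ?_⟩
  ext1 s
  ext1 ⟨y, x⟩
  simp [k₀, sw, Equiv.permCongr_apply, k₁]

variable {Γ : Type*} [Group Γ] {Γ' : Type*} [Group Γ']

/-- the two possible structures -/
def Good (p : ℕ) (G S T : Subgroup Γ) : Prop := Lc p G T ≤ Zc(T) ∨ ∃ A, II p G S T A

theorem Good.of_map {f : Γ →* Γ'} (hf : Function.Injective f) {p : ℕ} {G S T : Subgroup Γ}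
    (h : Good p (G.map f) (S.map f) (T.map f)) : Good p G S T := by
  rcases h with h | ⟨A, h⟩
  · left
    rwa [← map_Lc hf, ← map_Zc hf, map_le_map_iff_of_injective hf] at h
  · right
    rw [← eq_map_comap h.hA.le] at h
    exact ⟨_, (II_map_iff hf).1 h⟩

/-- the subgroup `S₀` -/
def S0 (p : ℕ) (S : Subgroup Γ) : Subgroup Γ :=
  if p = 2 then ⁅Phi S, S⁆ ⊔ Phi (Phi S) else if p = 3 then ⁅⁅Phi S, S⁆, S⁆ ⊔ Phi (Phi S)
    else ⁅Phi S, S⁆ ⊔ powerClosure p 1 S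

theorem map_powerClosure (f : Γ →* Γ') (p n : ℕ) (S : Subgroup Γ) :
    (powerClosure p n S).map f = powerClosure p n (S.map f) := by
  rw [powerClosure, powerClosure, MonoidHom.map_closure]
  congr 1
  ext y
  constructor
  · rintro ⟨_, ⟨x, hx, rfl⟩, rfl⟩
    exact ⟨f x, ⟨x, hx, rfl⟩, map_pow _ _ _⟩
  · rintro ⟨_, ⟨x, hx, rfl⟩, rfl⟩
    exact ⟨_, ⟨x, hx, rfl⟩, map_pow _ _ _⟩

theorem powerClosure_le_iff {p n : ℕ} {S N : Subgroup Γ} :
    powerClosure p n S ≤ N ↔ ∀ x ∈ S, x ^ p ^ n ∈ N := by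
  rw [powerClosure, closure_le]
  exact ⟨fun h x hx => h ⟨x, hx, rfl⟩, by rintro h _ ⟨x, hx, rfl⟩; exact h x hx⟩

theorem map_S0 {f : Γ →* Γ'} (hf : Function.Injective f) (p : ℕ) (S : Subgroup Γ) :
    (S0 p S).map f = S0 p (S.map f) := by
  unfold S0
  split_ifs <;> simp only [Subgroup.map_sup, map_commutator, map_Phi hf, map_powerClosure]

section

variable [Finite Γ] {p q : ℕ} {G S T M : Subgroup Γ} [hp : Fact p.Prime]

theorem Phi_le_of {P N : Subgroup Γ} (h1 : ⁅P, P⁆ ≤ N) (h2 : ∀ x ∈ P, x ^ p ∈ N) : Phi P ≤ N :=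
  CfH1.frattiniOf_le_of_commutator_le_of_pow_mem (p := p) h1 h2

theorem CS.S0_le (h : CS p q G S T M) (hg : Good p G S T) : S0 p S ≤ Wc p G T := by
  have k0 : ⁅Zc(S) ⊔ Wc p G T, S⁆ ≤ Wc p G T :=
    commutator_le.2 fun x hx s hs => comm_mem_symm (h.comm_ZSW hs hx)
  rcases hg with hI | ⟨A, h2⟩
  · obtain ⟨-, h1, h2, h3⟩ := h.I_main hI
    have k1 := Phi_le_of h1 h2
    have k2 : ⁅Phi S, S⁆ ≤ Wc p G T := (commutator_mono k1 le_rfl).trans k0
    have k3 : Phi (Phi S) ≤ Wc p G T := Phi_le_of ((commutator_mono le_rfl (Phi_le S)).trans k2)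
      fun x hx => h.pow_ZW (sup_le_sup_right h.ZS_le_Z _ (k1 hx))
    unfold S0
    split_ifs with a b
    · exact sup_le k2 k3
    · exact sup_le ((commutator_mono k2 le_rfl).trans (CfH7.comm_le_left (h.SG.trans h.nW))) k3
    · exact sup_le k2 (powerClosure_le_iff.2 fun x hx => by rw [pow_one]; exact h3 a x hx)
  · obtain ⟨d, rfl, rfl, rfl⟩ := h.exists_pd h2.hA h2.hT
    have k1 := Phi_le_of (d.II_SS h2) fun x hx => d.II_pow h2 hx
    rw [S0, if_neg (d.II_ne_two h2), if_pos (d.II_three h2)]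
    refine sup_le ((commutator_mono ((commutator_mono k1 le_rfl).trans (d.II_AW_S h2))
      le_rfl).trans k0) (Phi_le_of ?_ fun x hx => d.II_powT h2 (d.AW_T (k1 hx)))
    exact (commutator_mono (k1.trans d.AW_T) (k1.trans d.AW_T)).trans (d.II_TT h2)

theorem pair {q₀ q₁ : ℕ} {G₀ G₁ T₀ T₁ M₀ M₁ : Subgroup Γ} (h₀ : CS p q₀ G₀ S T₀ M₀)
    (h₁ : CS p q₁ G₁ S T₁ M₁) :
    (Zc(T₀) ≤ T₁ ∧ G₁ ≤ Nm(Zc(T₀) ⊔ Zc(T₁))) ∨ Good p G₀ S T₀ ∨ Good p G₁ S T₁ := by
  by_cases a0 : Zc(T₀) ≤ T₁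
  · by_cases a1 : Zc(T₁) ≤ T₀
    · by_cases hn : G₁ ≤ Nm(Zc(T₀) ⊔ Zc(T₁))
      · exact Or.inl ⟨a0, hn⟩
      · exact Or.inr (Or.inl (pairB h₀ h₁ a0 a1 hn))
    · exact Or.inr (Or.inl (Or.inl (pairA h₀.toPU h₁.toFF a1)))
  · exact Or.inr (Or.inr (Or.inl (pairA h₁.toPU h₀.toFF a0)))

end

/-- a pushing-up situation over the abstract group `S` -/
structure Emb (p : ℕ) (S : Type u) [Group S] where
  Γ : Type u
  [grp : Group Γ]
  [fin : Finite Γ]
  τ : S →* Γ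
  inj : Function.Injective τ
  q : ℕ
  G : Subgroup Γ
  T : Subgroup Γ
  M : Subgroup Γ
  h : PU p q G ((⊤ : Subgroup S).map τ) T M

attribute [instance] Emb.grp Emb.fin

namespace Emb

variable {p : ℕ} {S : Type u} [Group S] [hp : Fact p.Prime] (e : Emb p S)

/-- twisting by an automorphism -/
def twist (α : S ≃* S) : Emb p S where
  Γ := e.Γ
  τ := e.τ.comp α.toMonoidHom
  inj := e.inj.comp α.injective
  q := e.q
  G := e.G
  T := e.T
  M := e.M
  h := by rw [← map_map, map_top_equiv]; exact e.h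

/-- `Z(T)` inside `S` -/
def Z : Subgroup S := (Zc(e.T)).comap e.τ

theorem map_Z : e.Z.map e.τ = Zc(e.T) := eq_map_comap e.h.Z_le_S

theorem map_T : (e.T.comap e.τ).map e.τ = e.T := eq_map_comap e.h.TS

theorem twist_Z (α : S ≃* S) : (e.twist α).Z = e.Z.comap α.toMonoidHom := rfl

/-- `Z(S)` is not central -/
def NC : Prop := ¬ Zc((⊤ : Subgroup S).map e.τ) ≤ Cz(e.G)

/-- one of the two structures -/
def IsGood : Prop := Good p e.G ((⊤ : Subgroup S).map e.τ) e.T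

theorem cs (hc : CDS p (⊤ : Subgroup S)) (nc : e.NC) :
    CS p e.q e.G ((⊤ : Subgroup S).map e.τ) e.T e.M := e.h.cs nc (hc.map e.inj)

theorem pair (hc : CDS p (⊤ : Subgroup S)) (e₀ e₁ : Emb p S) (n₀ : e₀.NC) (n₁ : e₁.NC) :
    (e₀.Z ≤ e₁.T.comap e₁.τ ∧ e₁.G ≤ Nm((e₀.Z ⊔ e₁.Z).map e₁.τ)) ∨ e₀.IsGood ∨ e₁.IsGood := by
  obtain ⟨Γ, _, _, f₀, f₁, i₀, i₁, e⟩ := exists_amalgam e₀.τ e₁.τ e₀.inj e₁.inj
  have k : ∀ X : Subgroup S, (X.map e₀.τ).map f₀ = (X.map e₁.τ).map f₁ := fun X => by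
    rw [map_map, map_map, e]
  have nc : ∀ {Γ₀ : Type u} [Group Γ₀] {f : Γ₀ →* Γ} (hf : Function.Injective f)
      {X G : Subgroup Γ₀}, X ≤ G → ¬ Zc(X) ≤ Cz(G) → ¬ Zc(X.map f) ≤ Cz(G.map f) :=
    fun {Γ₀} _ f hf X G hX h hh => h (by
      have : (Zc(X)).map f ≤ (G ⊓ Cz(G)).map f := by
        rw [map_Zc hf, map_Zc hf]; exact le_inf (inf_le_left.trans (map_mono hX)) hh
      exact ((map_le_map_iff_of_injective hf).1 this).trans inf_le_right)
  have h₀ := (e₀.h.map i₀).cs (nc i₀ e₀.h.SG n₀) ((hc.map e₀.inj).map i₀)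
  have h₁ := (e₁.h.map i₁).cs (nc i₁ e₁.h.SG n₁) ((hc.map e₁.inj).map i₁)
  rw [k] at h₀
  rcases CfLp.pair h₀ h₁ with ⟨a, b⟩ | a | a
  · left
    rw [← map_Zc i₀, ← e₀.map_Z, k] at a b
    rw [← map_Zc i₁, ← e₁.map_Z, ← Subgroup.map_sup, ← Subgroup.map_sup] at b
    refine ⟨map_le_iff_le_comap.1 ((map_le_map_iff_of_injective i₁).1 a), ?_⟩
    have := le_Nm_comap b
    rwa [comap_map_eq_self_of_injective i₁] at this
  · rw [← k] at a
    exact Or.inr (Or.inl (a.of_map i₀))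
  · exact Or.inr (Or.inr (a.of_map i₁))

theorem family [Finite S] (hc : CDS p (⊤ : Subgroup S)) {ι : Type*} [Nonempty ι] (E : ι → Emb p S)
    (nc : ∀ i, (E i).NC) (tw : ∀ i, ∀ α : S ≃* S, ∃ j, (E j).Z = (E i).Z.comap α.toMonoidHom)
    (hg : ∀ i, ¬ (E i).IsGood) :
    ∃ S₂ : Subgroup S, S₂.Characteristic ∧ CL ⊤ S₂ ∧ ∀ i, (E i).G ≤ Nm(S₂.map (E i).τ) := by
  set V := ⨆ i, (E i).Z with hV
  have k : ∀ i j, (E i).Z ≤ (E j).T.comap (E j).τ ∧
      (E j).G ≤ Nm(((E i).Z ⊔ (E j).Z).map (E j).τ) := fun i j =>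
    (pair hc _ _ (nc i) (nc j)).resolve_right fun h => h.elim (hg i) (hg j)
  have cV : V.Characteristic := by
    rw [characteristic_iff_le_comap]
    intro α
    refine iSup_le fun i => ?_
    obtain ⟨j, hj⟩ := tw i α.symm
    intro x hx
    refine le_iSup (fun i => (E i).Z) j ?_
    rw [hj]
    simpa using hx
  have cdZ : ∀ i, CD ⊤ (E i).Z := fun i => by
    have := (((E i).cs hc (nc i)).up ((E i).cs hc (nc i)).cdZ).1
    rwa [← (E i).map_Z, cd_map_iff (E i).inj] at this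
  have cdV : CD ⊤ V := cd_sSup (Set.range_nonempty _) (by rintro _ ⟨i, rfl⟩; exact cdZ i)
  have VT : ∀ j, V.map (E j).τ ≤ (E j).T := fun j =>
    map_le_iff_le_comap.2 (iSup_le fun i => (k i j).1)
  have ZV : ∀ j, Zc((E j).T) ≤ V.map (E j).τ := fun j => by
    rw [← (E j).map_Z]; exact map_mono (le_iSup (fun i => (E i).Z) j)
  have VV : V ≤ Cz(V) := by
    refine iSup_le fun j => CfH7.le_Cz_comm fun x hx y hy => (E j).inj ?_
    rw [map_mul, map_mul]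
    exact cz_comm (show (E j).τ y ∈ Zc((E j).T) from hy).2 (VT j ⟨x, hx, rfl⟩)
  refine ⟨⊤ ⊓ Cz(V), by rw [top_inf_eq]; infer_instance, ⟨cdV.cz, ?_⟩, fun j => ?_⟩
  · rw [cdV.cz_cz]; exact le_inf le_top VV
  · have h := (E j).cs hc (nc j)
    have n1 : (E j).G ≤ Nm(V.map (E j).τ) := by
      have : V = ⨆ i, ((E i).Z ⊔ (E j).Z) := by
        rw [← iSup_sup]; exact (sup_eq_left.2 (le_iSup (fun i => (E i).Z) j)).symm
      rw [this, Subgroup.map_iSup]
      intro g hg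
      rw [mem_normalizer_iff_cj, cj_iSup]
      exact iSup_congr fun i => cj_eq_of_mem_normalizer ((k i j).2 hg)
    have e1 : ((⊤ : Subgroup S).map (E j).τ) ⊓ Cz(V.map (E j).τ) = (E j).T ⊓ Cz(V.map (E j).τ) :=
      le_antisymm (le_inf ((inf_le_inf_left _ (Cz_anti (ZV j))).trans (h.S_inf_CzZ h.nc).le)
        inf_le_right) (inf_le_inf_right _ h.TS)
    rw [map_inf_Cz (E j).inj, e1]
    exact CfH7.le_normalizer_inf h.nT (h.nCz n1)

end Emb

end CfLp
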