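import Cfsg.Agent.OD.Pre
import Cfsg.Agent.L.PU10

/-! Pushing up: pairs of characteristic subgroups. -/

set_option autoImplicit false
set_option linter.unusedSectionVars false
set_option linter.unusedVariables false

open Cfsg Subgroup CfH9
open scoped commutatorElement Pointwise

namespace CfLp

universe u

variable {S : Type u} [Group S] {p : ℕ}

/-- `C_S(Z(J(S)))` -/
abbrev Jt (S : Type u) [Group S] : Subgroup S := Cz(Zc(thompsonSubgroupA S))

theorem char_subgroupOf {X Y : Subgroup S} (hX : X.Characteristic) (hY : Y = ⊤) :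
    (X.subgroupOf Y).Characteristic := by
  subst hY
  rw [characteristic_iff_le_comap]
  intro φ x hx
  exact characteristic_iff_le_comap.1 hX ((topEquiv.symm.trans φ).trans topEquiv) hx

theorem Zc_top : Zc((⊤ : Subgroup S)) = center S := by rw [top_inf_eq, Cz_top]

instance TJ_char : (thompsonSubgroupA S).Characteristic :=
  char_of_map fun e => by rw [← TJ_top', map_TJ_of_injective e.injective, map_top_equiv]

instance S0_char : (S0 p (⊤ : Subgroup S)).Characteristic :=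
  char_of_map fun e => by rw [map_S0 e.injective, map_top_equiv]

instance pc_char {n : ℕ} {X : Subgroup S} [hX : X.Characteristic] :
    (powerClosure p n X).Characteristic :=
  char_of_map fun e => by rw [map_powerClosure, characteristic_iff_map_eq.1 hX]

variable [Finite S] [hp : Fact p.Prime]

theorem maxCP_eq {Q X : Subgroup S} (hQ : CL ⊤ Q) (h : Q ≤ X) :
    maxCentralProduct X = Nat.card Q * Nat.card (center Q) := by
  have h1 : CL X Q := hQ.down le_top h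
  rw [← map_subtype_top X, ← map_subgroupOf_eq_of_le h, cl_map_iff X.subtype_injective,
    cl_top_iff] at h1
  rw [← h1, card_subgroupOf h, Nat.card_congr (centerCongr (subgroupOfEquivOfLe h)).toEquiv]

/-- the conclusion of the pushing-up theorems -/
structure Out (p : ℕ) (S₁ S₂ : Subgroup S) : Prop where
  n1 : S₁ ≠ ⊥
  n2 : S₂ ≠ ⊥
  c1 : S₁.Characteristic
  c2 : S₂.Characteristic
  l1 : S₁ ≤ center S
  l2 : S₂ ≤ Jt S
  c3 : (S₂.subgroupOf (Jt S)).Characteristic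
  nm : ∀ e : Emb p S, e.G ≤ Nm(S₁.map e.τ) ∨ e.G ≤ Nm(S₂.map e.τ)

theorem inf_center_ne_bot (hS : IsPGroup p S) {X : Subgroup S} [X.Normal] (h : X ≠ ⊥) :
    X ⊓ center S ≠ ⊥ := by
  rw [← Cz_top]
  exact inf_Cz_ne_bot (hS.to_subgroup ⊤) (hS.to_subgroup X) (normal_iff_top_le_Nm.1 ‹_›) h

theorem center_ne_bot' (hS : IsPGroup p S) [Nontrivial S] : center S ≠ ⊥ := by
  have := inf_center_ne_bot hS (X := ⊤) top_ne_bot
  rwa [top_inf_eq] at this

namespace Emb

variable (e : Emb p S)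

theorem map_center : (center S).map e.τ = Zc((⊤ : Subgroup S).map e.τ) := by
  rw [← Zc_top, map_Zc e.inj]

theorem map_ZJ : (Zc(thompsonSubgroupA S)).map e.τ = Zc(TJ 0 ((⊤ : Subgroup S).map e.τ)) := by
  rw [map_Zc e.inj, ← TJ_top', map_TJ_of_injective e.inj]

theorem map_Jt : (Jt S).map e.τ =
    (⊤ : Subgroup S).map e.τ ⊓ Cz(Zc(TJ 0 ((⊤ : Subgroup S).map e.τ))) := by
  rw [← top_inf_eq (Jt S), map_inf_Cz e.inj, map_ZJ]

theorem hJ (h : Jt S = ⊤) : (⊤ : Subgroup S).map e.τ ≤ Cz(Zc(TJ 0 ((⊤ : Subgroup S).map e.τ))) := by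
  have := e.map_Jt
  rw [h] at this
  exact this.le.trans inf_le_right

include e in
theorem not_comm : ¬ IsMulCommutative S := fun h => e.h.ne (le_trans (le_inf e.h.SG
  ((le_Cz_of_comm (comm_map (A := ⊤) inferInstance e.τ)).trans (Cz_anti e.h.TS))) e.h.cT)

end Emb

theorem Jt_eq_top (h : ⁅Zc(thompsonSubgroupA S), (⊤ : Subgroup S)⁆ = ⊥) : Jt S = ⊤ :=
  top_le_iff.1 (CfH7.comm_eq_bot_right.1 h)

theorem outA (hS : IsPGroup p S) (h : ⁅Zc(thompsonSubgroupA S), (⊤ : Subgroup S)⁆ ≠ ⊥) :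
    Out p (⁅Zc(thompsonSubgroupA S), (⊤ : Subgroup S)⁆ ⊓ center S) (Jt S) := by
  have k := inf_center_ne_bot hS h
  refine ⟨k, ne_bot_of_le (inf_le_right.trans ?_) k, inferInstance, inferInstance, inf_le_right,
    le_rfl, by rw [subgroupOf_self]; infer_instance, fun e => ?_⟩
  · rw [← Cz_top]; exact Cz_anti le_top
  · rw [e.map_Jt, Subgroup.map_inf _ _ _ e.inj, map_commutator, e.map_center, e.map_ZJ]
    exact e.h.thmA

theorem Out.mk' (hJ : Jt S = ⊤) {S₁ S₂ : Subgroup S} (n1 : S₁ ≠ ⊥) (n2 : S₂ ≠ ⊥)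
    (c1 : S₁.Characteristic) (c2 : S₂.Characteristic) (l1 : S₁ ≤ center S)
    (nm : ∀ e : Emb p S, e.G ≤ Nm(S₁.map e.τ) ∨ e.G ≤ Nm(S₂.map e.τ)) : Out p S₁ S₂ :=
  ⟨n1, n2, c1, c2, l1, hJ ▸ le_top, char_subgroupOf c2 hJ, nm⟩

theorem CL.ne_bot [Nontrivial S] {Q : Subgroup S} (h : CL ⊤ Q) : Q ≠ ⊥ := by
  rintro rfl
  have := h.cz
  simp at this

theorem cds_of (hJ : Jt S = ⊤) (hZ : ∀ z ∈ center S, z ^ p = 1) {Q : Subgroup S} (hQ : MCL ⊤ Q)
    (hab : IsMulCommutative Q) : CDS p (⊤ : Subgroup S) := by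
  have k : ∀ A : Subgroup S, MaxEA 0 ⊤ A → CD ⊤ A := fun A hA => ((hQ.iff_maxEA hab).2 hA).cl.cd
  refine ⟨k, ?_, fun z hz => hZ z (Zc_top.le hz)⟩
  have c1 : CD ⊤ (TJ 0 (⊤ : Subgroup S)) := by
    have e : sSup {A | MaxEA 0 (⊤ : Subgroup S) A} = TJ 0 ⊤ :=
      le_antisymm (sSup_le fun A hA => hA.le_TJ) (TJ_le_iff.2 fun A hA => le_sSup hA)
    rw [← e]
    exact cd_sSup (exists_maxEA 0 ⊤) k
  rw [← c1.cz_cz, inf_Cz_TJ_zero, ZJ_zero, TJ_top', top_inf_eq]
  exact hJ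

/-- either a pair exists, or `S` has the Chermak–Delgado structure -/
theorem out_or_cds (hS : IsPGroup p S) [Nontrivial S] :
    (∃ S₁ S₂ : Subgroup S, Out p S₁ S₂ ∧ maxCentralProduct S₂ = maxCentralProduct (Jt S)) ∨
      (Jt S = ⊤ ∧ ¬ IsMulCommutative S ∧ CDS p (⊤ : Subgroup S) ∧
        ∀ X : Subgroup S, MCL ⊤ X ↔ MaxEA 0 ⊤ X) := by
  by_cases a : ⁅Zc(thompsonSubgroupA S), (⊤ : Subgroup S)⁆ = ⊥
  swap
  · exact Or.inl ⟨_, _, outA hS a, rfl⟩
  have hJ := Jt_eq_top a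
  by_cases b : IsMulCommutative S
  · exact Or.inl ⟨_, _, Out.mk' hJ (center_ne_bot' hS) top_ne_bot inferInstance inferInstance le_rfl
      fun e => absurd b e.not_comm, by rw [hJ]⟩
  by_cases c : powerClosure p 1 (center S) = ⊥
  swap
  · refine Or.inl ⟨_, _, Out.mk' hJ c top_ne_bot inferInstance inferInstance
      (powerClosure_le_iff.2 fun x hx => pow_mem hx _) fun e => ?_, by rw [hJ]⟩
    have := e.h.thmB
    rwa [← e.map_Jt, hJ, ← e.map_center, ← map_powerClosure] at this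
  obtain ⟨Q, hQ⟩ := exists_mcl (⊤ : Subgroup S)
  by_cases d : IsMulCommutative Q
  · refine Or.inr ⟨hJ, b, cds_of hJ (fun z hz => ?_) hQ d, fun X => hQ.iff_maxEA d⟩
    have := powerClosure_le_iff.1 c.le z hz
    rwa [pow_one, mem_bot] at this
  have c1 := mcl_commutator_char (mcl_top_iff.1 hQ)
  have l1 : Q ≤ minimalCentrallyLargeJoin S := le_sSup (mcl_top_iff.1 hQ)
  refine Or.inl ⟨_, _, Out.mk' hJ (inf_center_ne_bot hS (X := ⁅Q, Q⁆) fun hh =>
    d (CfL.isMulCommutative_iff_commutator_eq_bot.2 hh)) (ne_bot_of_le l1 hQ.cl.ne_bot)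
    inferInstance inferInstance inf_le_right fun e => ?_, ?_⟩
  · rw [Subgroup.map_inf _ _ _ e.inj, inf_comm, e.map_center, map_commutator, ← mclJoin_top,
      map_mclJoin e.inj]
    exact e.h.thmC (e.hJ hJ) ((mcl_map_iff e.inj).2 hQ)
  · rw [maxCP_eq hQ.cl l1, maxCP_eq hQ.cl (hJ ▸ le_top)]

theorem out_of_S0 (hS : IsPGroup p S) (hJ : Jt S = ⊤) (hc : CDS p (⊤ : Subgroup S))
    (h0 : S0 p (⊤ : Subgroup S) ≠ ⊥) :
    ∃ S₁ S₂ : Subgroup S, Out p S₁ S₂ ∧ maxCentralProduct S₂ = maxCentralProduct (Jt S) := by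
  have : Nontrivial S := by
    by_contra hh
    rw [not_nontrivial_iff_subsingleton] at hh
    exact h0 (eq_bot_of_subsingleton _)
  set S₁ := S0 p (⊤ : Subgroup S) ⊓ center S with hS₁
  have n1 : S₁ ≠ ⊥ := inf_center_ne_bot hS h0
  have c1 : S₁.Characteristic := inferInstance
  by_cases hne : Nonempty {e : Emb p S // ¬ e.G ≤ Nm(S₁.map e.τ)}
  swap
  · refine ⟨_, _, Out.mk' hJ n1 top_ne_bot c1 inferInstance inf_le_right fun e => Or.inl ?_,
      by rw [hJ]⟩
    by_contra hh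
    exact hne ⟨⟨e, hh⟩⟩
  have k0 : ∀ e : Emb p S, S₁.map e.τ ≤ Zc((⊤ : Subgroup S).map e.τ) := fun e => by
    rw [← e.map_center]; exact map_mono inf_le_right
  have nc : ∀ e : {e : Emb p S // ¬ e.G ≤ Nm(S₁.map e.τ)}, e.1.NC := fun e hh =>
    e.2 (le_Nm_of_le_Cz ((k0 e).trans hh))
  obtain ⟨S₂, c2, cl, nm⟩ := Emb.family hc (ι := {e : Emb p S // ¬ e.G ≤ Nm(S₁.map e.τ)})
    Subtype.val nc (fun e α => ⟨⟨e.1.twist α, fun hh => e.2 (by
      change e.1.G ≤ Nm(S₁.map (e.1.τ.comp α.toMonoidHom)) at hh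
      rwa [← map_map, characteristic_iff_map_eq.1 c1] at hh)⟩, rfl⟩) fun e hg => e.2 (by
      have h := e.1.cs hc (nc e)
      refine le_Nm_of_le_Cz (h.le_Cz_of_O_S ?_ ((k0 e).trans inf_le_right))
      refine le_trans ?_ ((h.S0_le hg).trans inf_le_right)
      rw [← map_S0 e.1.inj]
      exact map_mono inf_le_left)
  refine ⟨_, _, Out.mk' hJ n1 cl.ne_bot c1 c2 inf_le_right fun e => ?_, ?_⟩
  · by_cases hh : e.G ≤ Nm(S₁.map e.τ)
    · exact Or.inl hh
    · exact Or.inr (nm ⟨e, hh⟩)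
  · rw [maxCP_eq cl le_rfl, maxCP_eq cl (hJ ▸ le_top)]

theorem exc_of_S0 (hS : IsPGroup p S) [Nontrivial S] (hc : CDS p (⊤ : Subgroup S))
    (h0 : S0 p (⊤ : Subgroup S) = ⊥) :
    thompsonSubgroupA S = ⊤ ∧ IsElementaryAbelian p (center S) ∧
      IsElementaryAbelian p (frattini S) ∧ (p = 2 → frattini S ≤ center S) ∧
      (p = 3 → frattini S ≤ Subgroup.upperCentralSeries S 2) ∧
      (3 < p → frattini S ≤ center S ∧ Monoid.exponent S = p) ∧
      ∀ A ∈ maxAbelianSubgroups S, ∀ B ∈ maxAbelianSubgroups S, ∀ Q : Subgroup S,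
        Nat.card A ^ 2 = Nat.card S * Nat.card (center S) ∧
        Nat.card Q * Nat.card (center Q) ≤ Nat.card S * Nat.card (center S) ∧
        ((A ⊔ B : Subgroup S) : Set S) = (A : Set S) * (B : Set S) ∧
        A ⊔ B = Cz(A ⊓ B) := by
  have k1 : ∀ X : Subgroup S, ⁅X, (⊤ : Subgroup S)⁆ = ⊥ → X ≤ center S := fun X h => by
    rw [← Cz_top]; exact CfH7.comm_eq_bot_left.1 h
  have k2 : Phi (frattini S) = ⊥ → IsElementaryAbelian p (frattini S) := fun h => by
    have hp := hS.to_subgroup (frattini S)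
    refine ⟨CfL.isMulCommutative_iff_commutator_eq_bot.2 (le_bot_iff.1 ?_), fun a ha => ?_⟩
    · exact h ▸ CfH1.commutator_le_frattiniOf hp.isNilpotent
    · have := CfH1.pow_mem_frattiniOf hp ha
      rwa [show (frattini (frattini S)).map (frattini S).subtype = ⊥ from h, mem_bot] at this
  have k3 : p ≠ 2 → p ≠ 3 → frattini S ≤ center S ∧ ∀ x : S, x ^ p = 1 := fun a b => by
    rw [S0, if_neg a, if_neg b, sup_eq_bot_iff, Phi_top] at h0
    refine ⟨k1 _ h0.1, fun x => ?_⟩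
    have := powerClosure_le_iff.1 h0.2.le x (mem_top x)
    rwa [pow_one, mem_bot] at this
  refine ⟨TJ_top'.symm.trans hc.JS, ⟨inferInstance, fun z hz => hc.elem z (Zc_top.ge hz)⟩,
    ?_, fun a => ?_, fun a => ?_, fun a => ?_, fun A hA B hB Q => ?_⟩
  · by_cases a : p = 2
    · rw [S0, if_pos a, sup_eq_bot_iff, Phi_top] at h0
      exact k2 h0.2
    by_cases b : p = 3
    · rw [S0, if_neg a, if_pos b, sup_eq_bot_iff, Phi_top] at h0
      exact k2 h0.2
    · exact ⟨comm_of_le (k3 a b).1 inferInstance, fun x _ => (k3 a b).2 x⟩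
  · rw [S0, if_pos a, sup_eq_bot_iff, Phi_top] at h0
    exact k1 _ h0.1
  · rw [S0, if_neg (by omega), if_pos a, sup_eq_bot_iff, Phi_top] at h0
    intro x hx
    rw [Subgroup.mem_upperCentralSeries_succ_iff]
    intro y
    rw [Subgroup.upperCentralSeries_one]
    exact k1 _ h0.1 (commutator_mem_commutator hx (mem_top y))
  · obtain ⟨h1, h2⟩ := k3 (by omega) (by omega)
    refine ⟨h1, ?_⟩
    exact (hp.out.eq_one_or_self_of_dvd _ (Monoid.exponent_dvd_of_forall_pow_eq_one h2)).resolve_left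
      fun hh => not_subsingleton S (Monoid.exp_eq_one_iff.1 hh)
  · have hA' := maxEA_zero_top_iff.2 hA
    have hB' := maxEA_zero_top_iff.2 hB
    have cA := hc.cdA A hA'
    have cB := hc.cdA B hB'
    have e1 : CfH8.ms (⊤ : Subgroup S) ⊤ = Nat.card S * Nat.card (center S) := by
      rw [CfH8.ms, Zc_top, card_top]
    refine ⟨?_, ?_, CfL.cd_coe_sup (cd_top_iff.1 cA) (cd_top_iff.1 cB), ?_⟩
    · rw [← e1, ← cA.ms_eq hc.cdS, CfH8.ms, hA'.inf_Cz_zero, sq]
    · rw [← e1, ← card_map_subtype (center Q), map_center_eq]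
      exact (CfL.clm_le_cdm Q).trans ((ms_top Q).symm.le.trans (hc.cdS.max Q le_top))
    · have := cA.cz_inf cB
      rwa [hA'.inf_Cz_zero, hB'.inf_Cz_zero, top_inf_eq, eq_comm] at this

theorem out_of_phi (hS : IsPGroup p S) [Nontrivial S] (hJ : Jt S = ⊤)
    (h : frattiniOfMinimalCLJoin p S ≠ ⊥) : ∃ S₁ S₂ : Subgroup S, Out p S₁ S₂ := by
  refine ⟨_, _, Out.mk' hJ (center_ne_bot' hS) h inferInstance inferInstance le_rfl fun e => ?_⟩
  rw [e.map_center, ← phiJoin_top, map_phiJoin e.inj]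
  exact e.h.thmD (e.hJ hJ)

theorem Out.normal {S₁ S₂ : Subgroup S} (h : Out p S₁ S₂) {G : Type u} [Group G] [Finite G]
    {P : Subgroup G} (e : S ≃* P) (hP : IsPushingUpSituation p P) :
    (S₁.map (P.subtype.comp e.toMonoidHom)).Normal ∨
      (S₂.map (P.subtype.comp e.toMonoidHom)).Normal := by
  obtain ⟨q, M, k⟩ := exists_pu' hP
  rw [normal_iff_top_le_Nm, normal_iff_top_le_Nm]
  exact h.nm ⟨G, P.subtype.comp e.toMonoidHom, P.subtype_injective.comp e.injective, q, ⊤, _, M,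
    by rwa [← map_map, map_top_equiv, map_subtype_top]⟩

end CfLp
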