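import Cfsg.Agent.OD.Pre
import Cfsg.Agent.L.PU11
import Cfsg.Agent.OD.Leadx6c5f108c9e

/-! Pushing up: no characteristic subgroup of `S` is normal. -/

set_option autoImplicit false
set_option linter.unusedSectionVars false
set_option linter.unusedVariables false

open Cfsg Subgroup CfH9
open scoped commutatorElement

namespace CfLp

variable {Γ : Type*} [Group Γ]

theorem iterCommutator_succ' (X G : Subgroup Γ) (k : ℕ) :
    iterCommutator X G (k + 1) = iterCommutator ⁅X, G⁆ G k := by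
  induction k with
  | zero => rfl
  | succ k ih => rw [iterCommutator, ih]; rfl

/-- no nontrivial characteristic subgroup of `S` is normalized by `G` -/
def NoChar (G S : Subgroup Γ) : Prop :=
  ∀ X : Subgroup S, X ≠ ⊥ → X.Characteristic → ¬ G ≤ Nm(X.map S.subtype)

variable [Finite Γ] {p q : ℕ} {G S T M : Subgroup Γ} [hp : Fact p.Prime]

theorem comm_lt {X N : Subgroup Γ} (hX : IsPGroup p X) (h1 : G ≤ Nm(X)) (h2 : G ≤ Nm(N))
    (h0 : X ≤ Nm(N)) (h3 : ⁅X, Op(p, G)⁆ ≤ N) (h4 : ¬ X ≤ N) : ¬ X ≤ ⁅X, G⁆ ⊔ N := by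
  have k := CfH7.commutator_lt_of_pResidualOf_le (CfH8.isPGroup_qb (Q := N) hX)
    (CfH8.qb_le_Nm h1) (by
      rw [← CfH8.qb_pResidualOf h2]
      exact (CfH8.qb_le_Cz_iff ((CfH7.pResidualOf_le G).trans h2) h0).2
        (by rwa [commutator_comm]))
    (fun hh => h4 ((CfH8.qb_eq_bot_iff h0).1 hh))
  rw [← CfH8.qb_commutator h0 h2] at k
  exact fun hh => k.not_ge ((CfH8.qb_le_qb_iff h0 ((CfH7.comm_le_left h1).trans h0)).2 hh)

theorem exists_iter {N : Subgroup Γ} (h2 : G ≤ Nm(N)) (X : Subgroup Γ) : IsPGroup p X → X ≤ G →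
    G ≤ Nm(X) → ⁅X, Op(p, G)⁆ ≤ N → ∃ k, iterCommutator X G k ≤ N := by
  induction X using subgroup_induction with
  | h X ih =>
    intro hX h0 h1 h3
    by_cases h4 : X ≤ N
    · exact ⟨0, h4⟩
    have l := CfH7.comm_le_left h1
    obtain ⟨k, hk⟩ := ih ⁅X, G⁆ (card_lt_of_lt (lt_of_le_of_ne l fun hh =>
      comm_lt hX h1 h2 (h0.trans h2) h3 h4 (hh.ge.trans le_sup_left))) (hX.to_le l) (l.trans h0)
      (CfH7.le_normalizer_commutator h1 le_normalizer) ((commutator_mono l le_rfl).trans h3)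
    exact ⟨k + 1, by rwa [iterCommutator_succ']⟩

theorem PU.good (h : PU p q G S T M) (hd : NoChar G S) : CS p q G S T M ∧ Good p G S T := by
  have : Nontrivial S := (nontrivial_iff_ne_bot S).2 fun hh => h.ne (hh ▸ bot_le)
  let e : Emb p S := ⟨Γ, S.subtype, S.subtype_injective, q, G, T, M, by rwa [map_subtype_top]⟩
  rcases out_or_cds (S := S) h.pS with ⟨S₁, S₂, o, -⟩ | ⟨-, -, hc, -⟩
  · exact ((o.nm e).elim (hd _ o.n1 o.c1) (hd _ o.n2 o.c2)).elim
  have nc : ¬ Zc(S) ≤ Cz(G) := h.nc_of_not_normal fun hh =>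
    hd (center S) (center_ne_bot' h.pS) inferInstance (by rwa [map_center_eq])
  have k : ∀ α : S ≃* S, (⊤ : Subgroup S).map (e.twist α).τ = S := fun α => by
    change (⊤ : Subgroup S).map (S.subtype.comp α.toMonoidHom) = S
    rw [← map_map, map_top_equiv, map_subtype_top]
  refine ⟨h.cs nc (by have := hc.map S.subtype_injective; rwa [map_subtype_top] at this), ?_⟩
  by_contra hg
  obtain ⟨S₂, c, cl, n⟩ := Emb.family hc (fun α : S ≃* S => e.twist α)
    (fun α => by rw [Emb.NC, k]; exact nc) (fun β α => ⟨α.trans β, rfl⟩)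
    (fun α => by rw [Emb.IsGood, k]; exact hg)
  exact hd S₂ cl.ne_bot c (n (MulEquiv.refl _))

theorem PU.char_eq_bot (h : PU p q G S T M) (hd : NoChar G S) (X : Subgroup S) [X.Characteristic]
    (hX : X.map S.subtype ≤ Wc p G T) : X = ⊥ := by
  by_contra hh
  refine hd (X ⊓ center S) (inf_center_ne_bot h.pS hh) inferInstance
    (le_Nm_of_le_Cz (h.le_Cz_of_O_S ((map_mono inf_le_left).trans (hX.trans inf_le_right)) ?_))
  exact (map_mono inf_le_right).trans ((map_center_eq S).le.trans inf_le_right)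

theorem PU.pow_eq_one (h : PU p q G S T M) (hd : NoChar G S) {n : ℕ}
    (hX : ∀ x ∈ S, x ^ p ^ n ∈ Wc p G T) (x : S) : x ^ p ^ n = 1 := by
  have := h.char_eq_bot hd (powerClosure p n ⊤) (by
    rw [map_powerClosure, map_subtype_top]; exact powerClosure_le_iff.2 hX)
  exact mem_bot.1 (powerClosure_le_iff.1 this.le x (mem_top x))

theorem PU.comm_ne (h : PU p q G S T M) : ⁅S, S⁆ ≠ ⊥ := fun hh =>
  h.ne ((le_inf h.SG ((CfH7.comm_eq_bot_left.1 hh).trans (Cz_anti h.TS))).trans h.cT)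

theorem CS.I_class (h : CS p q G S T M) (hd : NoChar G S) (hI : Lc p G T ≤ Zc(T)) :
    ⁅⁅S, S⁆, S⁆ = ⊥ := by
  have := h.char_eq_bot hd ⁅⁅⊤, ⊤⁆, ⊤⁆ (by
    rw [map_commutator, map_commutator, map_subtype_top]
    exact commutator_le.2 fun x hx s hs => comm_mem_symm (h.comm_ZSW hs ((h.I_main hI).2.1 hx)))
  rw [← map_subtype_top S, ← map_commutator, ← map_commutator, this, Subgroup.map_bot]

theorem CS.I_exp (h : CS p q G S T M) (hd : NoChar G S) (hI : Lc p G T ≤ Zc(T)) :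
    (p = 2 → Monoid.exponent S = 4) ∧ (p ≠ 2 → Monoid.exponent S = p) := by
  obtain ⟨-, -, h1, h2⟩ := h.I_main hI
  constructor
  · rintro rfl
    have k : Monoid.exponent S ∣ 2 ^ 2 := Monoid.exponent_dvd_of_forall_pow_eq_one
      (h.pow_eq_one hd fun x hx => by
        rw [pow_two, pow_mul]; exact h.pow_ZW (sup_le_sup_right h.ZS_le_Z _ (h1 x hx)))
    obtain ⟨i, hi, e⟩ := (Nat.dvd_prime_pow Nat.prime_two).1 k
    by_contra hh
    have k2 : Monoid.exponent S ∣ 2 := by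
      rw [e]; interval_cases i <;> simp_all
    refine h.comm_ne (CfL.isMulCommutative_iff_commutator_eq_bot.1 ⟨⟨fun a b => ?_⟩⟩)
    exact (Commute.of_orderOf_dvd_two (fun x => (Monoid.order_dvd_exponent x).trans k2) a b).eq
  · intro h3
    have k := Monoid.exponent_dvd_of_forall_pow_eq_one (h.pow_eq_one hd (n := 1)
      fun x hx => by rw [pow_one]; exact h2 h3 x hx)
    rw [pow_one] at k
    refine (hp.out.eq_one_or_self_of_dvd _ k).resolve_left fun hh => h.comm_ne ?_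
    have := Monoid.exp_eq_one_iff.1 hh
    rw [eq_bot_of_subsingleton S, commutator_bot_left]

theorem PD.II_class (d : PD p q G T) (h2 : II p G d.S T d.A) (hd : NoChar G d.S) :
    ⁅⁅⁅d.S, d.S⁆, d.S⁆, d.S⁆ = ⊥ ∧ ⁅⁅d.S, d.S⁆, d.S⁆ ≠ ⊥ ∧ Monoid.exponent d.S = 9 := by
  refine ⟨?_, fun hh => ?_, ?_⟩
  · have := d.cs.char_eq_bot hd ⁅⁅⁅⊤, ⊤⁆, ⊤⁆, ⊤⁆ (by
      rw [map_commutator, map_commutator, map_commutator, map_subtype_top]
      exact commutator_le.2 fun x hx s hs => comm_mem_symm (d.cs.comm_ZSW hs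
        (((commutator_mono (d.II_SS h2) le_rfl).trans (d.II_AW_S h2)) hx)))
    rw [← map_subtype_top d.S, ← map_commutator, ← map_commutator, ← map_commutator, this,
      Subgroup.map_bot]
  · obtain ⟨a, ha, haT, l, hl, hc⟩ := d.II_exists h2
    refine hc (comm_mem_symm ((hh.le.trans bot_le) (commutator_mem_commutator
      (commutator_mem_commutator (d.AS ha) (d.cs.TS (d.cs.LT hl))) (d.AS ha))))
  · obtain ⟨x, hx, hx'⟩ := d.II_exp h2
    have h3 := d.II_three h2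
    subst h3
    have k : Monoid.exponent d.S ∣ 3 ^ 2 := Monoid.exponent_dvd_of_forall_pow_eq_one
      (d.cs.pow_eq_one hd fun x hx => by
        rw [pow_two, pow_mul]; exact d.II_powT h2 (d.AW_T (d.II_pow h2 hx)))
    obtain ⟨i, hi, e⟩ := (Nat.dvd_prime_pow Nat.prime_three).1 k
    by_contra hh
    have k2 : Monoid.exponent d.S ∣ 3 := by
      rw [e]; interval_cases i <;> simp_all
    exact hx' (congrArg Subtype.val (Monoid.exponent_dvd_iff_forall_pow_eq_one.1 k2 ⟨x, hx⟩))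

theorem FF.chiefZ (h : FF p q ⊤ S T M) : IsChiefFactor Zc(T) Zc((⊤ : Subgroup Γ)) ∧
    ¬ ⁅Zc(T), (⊤ : Subgroup Γ)⁆ ≤ Zc((⊤ : Subgroup Γ)) := by
  refine ⟨⟨lt_of_le_not_ge h.Zg_le_Z h.Zg_ne, normal_iff_top_le_Nm.2 h.nZ,
    normal_iff_top_le_Nm.2 h.nZg, fun N hN a b => h.irred a b (normal_iff_top_le_Nm.1 hN)⟩,
    fun hh => h.Zg_ne ?_⟩
  rw [← h.comm_O_sup]
  exact sup_le ((commutator_mono le_rfl le_top).trans hh) le_rfl

theorem PD.II_not (d : PD p q G T) (h2 : II p G d.S T d.A) :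
    ¬ ⁅Lc p G T ⊔ Wc p G T, Op(p, G)⁆ ≤ Zc(T) ⊔ Wc p G T := fun hh => by
  obtain ⟨a, ha, haT, l, hl, hc⟩ := d.II_exists h2
  refine hc (d.II_quad h2 (d.AS ha) (d.ZW_AW (hh ?_)))
  rw [Lc, ← d.cs.L_idem] at hl
  exact commutator_mono le_sup_left le_rfl hl

theorem PD.chiefL {T : Subgroup Γ} (d : PD p q ⊤ T) (h2 : II p ⊤ d.S T d.A) :
    IsChiefFactor (Lc p ⊤ T ⊔ Wc p ⊤ T) (Zc(T) ⊔ Wc p ⊤ T) ∧
    ¬ ⁅Lc p ⊤ T ⊔ Wc p ⊤ T, (⊤ : Subgroup Γ)⁆ ≤ Zc(T) ⊔ Wc p ⊤ T := by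
  have k := d.II_not h2
  refine ⟨⟨lt_of_le_not_ge (d.ZW_AW.trans d.AW_LW) fun hh => k
    ((CfH7.comm_le_left (le_top.trans d.cs.nLW)).trans hh), normal_iff_top_le_Nm.2 d.cs.nLW,
    normal_iff_top_le_Nm.2 d.cs.nZW, fun N hN a b => d.II_irred h2 a b (normal_iff_top_le_Nm.1 hN)⟩,
    fun hh => k ((commutator_mono le_rfl le_top).trans hh)⟩

theorem PU.ZW_O (h : PU p q G S T M) : ⁅Zc(T) ⊔ Wc p G T, Op(p, G)⁆ ≤ Zc(T) := by
  refine CfH7.commutator_sup_left_le (h.Z_le_G.trans h.nZ) (h.WG.trans h.nZ)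
    (CfH7.comm_le_left (h.OG.trans h.nZ)) ?_
  rw [CfH7.comm_eq_bot_left.2 inf_le_right]; exact bot_le

end CfLp
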