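import Cfsg.Agent.OD.Pre
import Cfsg.Agent.L.PU12
import Cfsg.Agent.H8.QdO

/-! Pushing up: natural modules on sections, chief factors and `Qd`. -/

set_option autoImplicit false
set_option linter.unusedSectionVars false
set_option linter.unusedVariables false

open Cfsg Subgroup CfH9 Matrix
open scoped commutatorElement MatrixGroups

namespace CfLp

variable {Γ : Type*} [Group Γ] {F : Type*} [Field F]

/-- coordinates for a section that is a natural `SL₂(F)`-module -/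
structure SecD (F : Type*) [Field F] (G U U₀ : Subgroup Γ) where
  ρ : G →* SL(2, F)
  c : Γ → (Fin 2 → F)
  n : G ≤ Nm(U)
  c_mul : ∀ u ∈ U, ∀ v ∈ U, c (u * v) = c u + c v
  c_surj : ∀ x, ∃ u ∈ U, c u = x
  c_zero : ∀ u ∈ U, c u = 0 ↔ u ∈ U₀
  surj : Function.Surjective ρ
  act : ∀ g : G, ∀ u ∈ U, c (g * u * (g : Γ)⁻¹) = (ρ g).1 *ᵥ c u

theorem exists_secD {G U U₀ : Subgroup Γ} (h : ActsAsSL2OnSection F ⊤ G U U₀) :
    Nonempty (SecD F G U U₀) := by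
  classical
  obtain ⟨n, -, ρ, ψ, h1, h2, h3, h4⟩ := h
  refine ⟨⟨ρ, fun u => if h : u ∈ U then (ψ ⟨u, h⟩).toAdd else 0, n, fun u hu v hv => ?_,
    fun x => ?_, fun u hu => ?_, MonoidHom.range_eq_top.1 h1, fun g u hu => ?_⟩⟩
  · simp only [dif_pos hu, dif_pos hv, dif_pos (mul_mem hu hv)]
    rw [← toAdd_mul, ← map_mul]; rfl
  · obtain ⟨u, e⟩ := h2 (Multiplicative.ofAdd x)
    exact ⟨u, u.2, by simp [e]⟩
  · simp only [dif_pos hu, toAdd_eq_zero]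
    exact h3 ⟨u, hu⟩
  · obtain ⟨w, e1, e2⟩ := h4 g ⟨u, hu⟩
    simp only [dif_pos hu, dif_pos (conj_mem_of_mem_normalizer (n g.2) hu)]
    rw [← e2]
    congr 2
    exact Subtype.ext e1.symm

namespace SecD

variable {G U U₀ : Subgroup Γ} (D : SecD F G U U₀)

theorem c_one : D.c 1 = 0 := (D.c_zero 1 (one_mem _)).2 (one_mem _)

theorem c_inv {u : Γ} (hu : u ∈ U) : D.c u⁻¹ = - D.c u := by
  rw [eq_neg_iff_add_eq_zero, ← D.c_mul _ (inv_mem hu) _ hu, inv_mul_cancel, D.c_one]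

theorem c_eq_iff {u v : Γ} (hu : u ∈ U) (hv : v ∈ U) : D.c u = D.c v ↔ u⁻¹ * v ∈ U₀ := by
  rw [← D.c_zero _ (mul_mem (inv_mem hu) hv), D.c_mul _ (inv_mem hu) _ hv, D.c_inv hu,
    neg_add_eq_zero]

theorem ρ_eq_one (g : G) : D.ρ g = 1 ↔ ∀ u ∈ U, ⁅(g : Γ), u⁆ ∈ U₀ := by
  have k : ∀ u ∈ U, (⁅(g : Γ), u⁆ ∈ U₀ ↔ (D.ρ g).1 *ᵥ D.c u = D.c u) := fun u hu => by
    have m := commutator_mem_right hu (D.n g.2)
    rw [← D.act g u hu, conj_eq_comm_mul, D.c_mul _ m _ hu, add_eq_right, D.c_zero _ m]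
  constructor
  · intro h u hu
    rw [k u hu, h]; simp
  · intro h
    refine CfH9.eq_one_of_slAct fun x => ?_
    obtain ⟨u, hu, e⟩ := D.c_surj x.toAdd
    rw [slAct_apply, ← e, (k u hu).1 (h u hu), e]; rfl

end SecD

theorem natural_of_secD {N₁ N₀ U W : Subgroup Γ} [W.Normal] [hU : U.Normal] [N₀.Normal]
    (D : SecD F ⊤ N₁ N₀) (h1 : N₁ ≤ (U ⊓ N₁) ⊔ N₀) (h2 : U ⊓ N₀ ≤ W) (h3 : W ⊓ N₁ ≤ N₀)
    (h4 : U ≤ (U ⊓ N₁) ⊔ W) (h5 : N₀ ≤ N₁) :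
    IsNaturalSL2Module F (U.map (QuotientGroup.mk' W)) (⊤ : Subgroup (Γ ⧸ W)) := by
  have k : ∀ x, ∃ u, u ∈ U ∧ u ∈ N₁ ∧ D.c u = x := fun x => by
    obtain ⟨v, hv, rfl⟩ := D.c_surj x
    obtain ⟨u, hu, n, hn, rfl⟩ := (mem_sup_of_le_Nm le_normalizer_of_normal).1 (h1 hv)
    exact ⟨u, hu.1, hu.2, by rw [D.c_mul _ hu.2 _ (h5 hn), (D.c_zero _ (h5 hn)).2 hn, add_zero]⟩
  choose f f0 f1 f2 using k
  have e : ∀ u ∈ U, u ∈ N₁ → (QuotientGroup.mk (f (D.c u)) : Γ ⧸ W) = QuotientGroup.mk u :=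
    fun u hu hu' => QuotientGroup.eq.2 (h2 (mi (mul_mem (inv_mem (f0 _)) hu)
      ((D.c_eq_iff (f1 _) hu').1 (f2 _))))
  let ρ₀ : Γ →* SL(2, F) := D.ρ.comp topEquiv.symm.toMonoidHom
  have hW : W ≤ ρ₀.ker := fun w hw => (D.ρ_eq_one ⟨w, trivial⟩).2 fun u hu =>
    h3 ⟨commutator_mem_left hw (le_normalizer_of_normal (mem_top u)),
      commutator_mem_right hu (D.n (mem_top w))⟩
  refine CfH8.NatD.isNatural ⟨(QuotientGroup.lift W ρ₀ hW).comp (Subgroup.subtype ⊤),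
    fun x => QuotientGroup.mk (f x), fun x y => ?_, fun x y h => ?_, fun g => ⟨?_, ?_⟩,
    fun s => ?_, fun l x => ?_⟩
  · rw [← QuotientGroup.mk_mul, ← e _ (mul_mem (f0 x) (f0 y)) (mul_mem (f1 x) (f1 y)),
      D.c_mul _ (f1 x) _ (f1 y), f2, f2]
  · rw [← f2 x, ← f2 y, D.c_eq_iff (f1 x) (f1 y)]
    exact h3 (mi (QuotientGroup.eq.1 h) (mul_mem (inv_mem (f1 x)) (f1 y)))
  · rintro ⟨u, hu, rfl⟩
    obtain ⟨x, hx, w, hw, rfl⟩ := (mem_sup_of_le_Nm le_normalizer_of_normal).1 (h4 hu)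
    exact ⟨D.c x, (e x hx.1 hx.2).trans (QuotientGroup.eq.2 (by simpa using hw))⟩
  · rintro ⟨x, rfl⟩
    exact ⟨f x, f0 x, rfl⟩
  · obtain ⟨g, rfl⟩ := D.surj s
    exact ⟨⟨QuotientGroup.mk g, trivial⟩, rfl⟩
  · obtain ⟨l, hl⟩ := l
    obtain ⟨g, rfl⟩ := QuotientGroup.mk_surjective l
    have := D.act ⟨g, trivial⟩ _ (f1 x)
    rw [f2] at this
    change _ = QuotientGroup.mk (f ((D.ρ ⟨g, trivial⟩).1 *ᵥ x))
    rw [← this, e _ (hU.conj_mem _ (f0 x) g) (conj_mem_of_mem_normalizer (D.n (mem_top g)) (f1 x))]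
    rfl

variable [Finite Γ] {p q : ℕ} [hp : Fact p.Prime]

theorem chief_central {U W N₀ N₁ : Subgroup Γ} (hc : IsChiefFactor U W) (hU : IsPGroup p U)
    (hn : ¬ ⁅U, (⊤ : Subgroup Γ)⁆ ≤ W) [N₁.Normal] (h1 : ⁅N₁, Op(p, (⊤ : Subgroup Γ))⁆ ≤ N₀)
    (h0 : U ⊓ N₀ ≤ W) : U ⊓ N₁ ≤ W := by
  obtain ⟨l, nU, nW, irr⟩ := hc
  by_contra hh
  have e1 : (U ⊓ N₁) ⊔ W = U := (irr _ inferInstance le_sup_right
    (sup_le inf_le_left l.le)).resolve_left fun e => hh (le_sup_left.trans e.le)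
  have e2 : ⁅U, (⊤ : Subgroup Γ)⁆ ⊔ W = U := (irr _ inferInstance le_sup_right
    (sup_le (commutator_le_left _ _) l.le)).resolve_left fun e => hn (le_sup_left.trans e.le)
  refine comm_lt hU le_normalizer_of_normal le_normalizer_of_normal le_normalizer_of_normal ?_
    l.not_ge e2.ge
  rw [← e1]
  refine CfH7.commutator_sup_left_le le_normalizer_of_normal le_normalizer_of_normal
    (le_trans (le_inf ?_ ((commutator_mono inf_le_right le_rfl).trans h1)) h0)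
    (commutator_le_left _ _)
  exact (commutator_le_left _ _).trans inf_le_left

theorem chief_natural {U W N₀ N₁ : Subgroup Γ} [W.Normal] (hc : IsChiefFactor U W)
    (hN : IsChiefFactor N₁ N₀) (D : SecD F ⊤ N₁ N₀) (h0 : U ⊓ N₀ ≤ W) : U ⊓ N₁ ≤ W ∨
      IsNaturalSL2Module F (U.map (QuotientGroup.mk' W)) (⊤ : Subgroup (Γ ⧸ W)) := by
  obtain ⟨l, nU, nW, irr⟩ := hc
  obtain ⟨l', n1, n0, irr'⟩ := hN
  refine or_iff_not_imp_left.2 fun hh => ?_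
  have e1 : (U ⊓ N₁) ⊔ W = U := (irr _ inferInstance le_sup_right
    (sup_le inf_le_left l.le)).resolve_left fun e => hh (le_sup_left.trans e.le)
  have e2 : (U ⊓ N₁) ⊔ N₀ = N₁ := (irr' _ inferInstance le_sup_right
    (sup_le inf_le_right l'.le)).resolve_left fun e =>
      hh ((le_inf inf_le_left (le_sup_left.trans e.le)).trans h0)
  have e3 : (W ⊓ N₁) ⊔ N₀ = N₀ := (irr' _ inferInstance le_sup_right
    (sup_le inf_le_right l'.le)).resolve_right fun e => hh fun x hx => by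
      obtain ⟨w, hw, n, hn, rfl⟩ := (mem_sup_of_le_Nm le_normalizer_of_normal).1 (e.ge hx.2)
      exact mul_mem hw.1 (h0 ⟨(mul_mem_cancel_left (l.le hw.1)).1 hx.1, hn⟩)
  exact natural_of_secD D e2.ge h0 (le_sup_left.trans e3.le) e1.ge l'.le

theorem CS.Cg_le {G S T M : Subgroup Γ} (h : CS p q G S T M) (hg : Good p G S T) : Cg G T ≤ T := by
  rcases hg with hI | ⟨A, h2⟩
  · exact h.I_Cg hI
  · obtain ⟨d, rfl, rfl, rfl⟩ := h.exists_pd h2.hA h2.hT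
    exact d.II_Cg h2

theorem PU.ρ_eq_one {G S T M : Subgroup Γ} (h : PU p q G S T M) (hC : Cg G T ≤ T)
    (D : SecD F G Zc(T) Zc(G)) (g : G) : D.ρ g = 1 ↔ (g : Γ) ∈ T := by
  rw [D.ρ_eq_one]
  exact ⟨fun hh => hC ⟨g.2, h.nZg g.2, fun r hr => comm_mem_symm (hh r hr)⟩,
    fun hh u hu => comm_mem_symm ((h.T_le_Cg hh).2.2 u hu)⟩

theorem CS.quot_equiv {S T M : Subgroup Γ} [T.Normal] (h : CS p q ⊤ S T M) (hg : Good p ⊤ S T)
    (D : SecD F ⊤ Zc(T) Zc((⊤ : Subgroup Γ))) : Nonempty (Γ ⧸ T ≃* SL(2, F)) := by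
  let ρ₀ : Γ →* SL(2, F) := D.ρ.comp topEquiv.symm.toMonoidHom
  have e : T = ρ₀.ker := Subgroup.ext fun g => (h.ρ_eq_one (h.Cg_le hg) D ⟨g, trivial⟩).symm
  exact ⟨(QuotientGroup.quotientMulEquivOfEq e).trans
    (QuotientGroup.quotientKerEquivOfSurjective ρ₀ (D.surj.comp topEquiv.symm.surjective))⟩

theorem CS.chief {S T M : Subgroup Γ} (h : CS p q ⊤ S T M) (hg : Good p ⊤ S T)
    (D : SecD F ⊤ Zc(T) Zc((⊤ : Subgroup Γ)))
    (D' : ∀ d : PD p q ⊤ T, II p ⊤ d.S T d.A →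
      Nonempty (SecD F ⊤ (Lc p ⊤ T ⊔ Wc p ⊤ T) (Zc(T) ⊔ Wc p ⊤ T)))
    {U W : Subgroup Γ} [W.Normal] (hU : U ≤ T) (hc : IsChiefFactor U W)
    (hn : ¬ ⁅U, (⊤ : Subgroup Γ)⁆ ≤ W) :
    IsNaturalSL2Module F (U.map (QuotientGroup.mk' W)) (⊤ : Subgroup (Γ ⧸ W)) := by
  have pU := h.pT.to_le hU
  have nT := normal_iff_top_le_Nm.2 h.nT
  have nZg := normal_iff_top_le_Nm.2 h.nZg
  have nZW := normal_iff_top_le_Nm.2 h.nZW
  have last : ¬ U ⊓ T ≤ W := fun hh => hc.1.not_ge ((le_inf le_rfl hU).trans hh)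
  have s1 : U ⊓ Zc((⊤ : Subgroup Γ)) ≤ W := chief_central (N₀ := ⊥) hc pU hn
    (CfH7.comm_eq_bot_left.2 (inf_le_right.trans (Cz_anti le_top))).le (inf_le_right.trans bot_le)
  refine (chief_natural hc h.chiefZ.1 D s1).elim (fun s2 => ?_) id
  rcases hg with hI | ⟨A, h2⟩
  · exact (last (chief_central hc pU hn hI s2)).elim
  · obtain ⟨d, rfl, rfl, rfl⟩ := h.exists_pd h2.hA h2.hT
    obtain ⟨D'⟩ := D' d h2
    refine (chief_natural hc (d.chiefL h2).1 D' (chief_central hc pU hn h.ZW_O s2)).elim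
      (fun s3 => (last (chief_central hc pU hn le_sup_left s3)).elim) id

section qd

variable {G S T M : Subgroup Γ}

theorem CS.compl_S (h : CS p q G S T M) (h2 : p ≠ 2) (hT : T ≤ Zc(T)) (he : ∀ x ∈ S, x ^ p = 1) :
    ∃ K : Subgroup Γ, Zc(G) ⊓ K = ⊥ ∧ Zc(G) ⊔ K = S := by
  obtain ⟨c, hc, e⟩ := h.exists_inv
  have hI : Lc p G T ≤ Zc(T) := h.LT.trans hT
  have cz : ∀ {z : Γ}, z ∈ Zc(T) → c * z * c⁻¹ ∈ Zc(T) := fun hz =>
    conj_mem_of_mem_normalizer (h.nZ hc) hz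
  let N : Subgroup Γ :=
    { carrier := {z | z ∈ Zc(T) ∧ c * z * c⁻¹ = z⁻¹}
      one_mem' := ⟨one_mem _, by simp⟩
      mul_mem' := fun {a b} ha hb => ⟨mul_mem ha.1 hb.1, by
        rw [show c * (a * b) * c⁻¹ = (c * a * c⁻¹) * (c * b * c⁻¹) by group, ha.2, hb.2,
          h.zcomm ha.1 hb.1.1, _root_.mul_inv_rev]⟩
      inv_mem' := fun {a} ha => ⟨inv_mem ha.1, by
        rw [show c * a⁻¹ * c⁻¹ = (c * a * c⁻¹)⁻¹ by group, ha.2]⟩ }
  have NT : N ≤ T := fun z hz => hz.1.1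
  have k1 : ⁅T, S⁆ ≤ N := commutator_le.2 fun z hz a ha => comm_mem_symm (by
    have hz := hT hz
    have haG := h.SG ha
    refine ⟨h.comm_mem_Z haG hz, ?_⟩
    have t1 : ⁅c, a⁆ ∈ T := h.I_Cg hI (h.comm_mem_Cg hc e haG)
    have t2 := h.inv_of_act hc e hz
    have t3 : c * (a * z * a⁻¹) * c⁻¹ = a * (c * z * c⁻¹) * a⁻¹ := by
      rw [← conj_eq_self (h.zcomm (conj_mem_of_mem_normalizer (h.nZ haG) (cz hz)) t1).symm,
        commutatorElement_def]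
      group
    have t4 : a * (c * z * c⁻¹ * z) * a⁻¹ = c * z * c⁻¹ * z := conj_eq_self (cz_comm t2.2 haG).symm
    have t5 := h.zcomm (cz hz) hz.1
    have t6 := h.zcomm (conj_mem_of_mem_normalizer (h.nZ haG) hz) hz.1
    calc c * ⁅a, z⁆ * c⁻¹ = c * (a * z * a⁻¹) * c⁻¹ * (c * z * c⁻¹)⁻¹ := by
          rw [commutatorElement_def]; group
      _ = a * (c * z * c⁻¹ * z) * a⁻¹ * (a * z * a⁻¹)⁻¹ * (c * z * c⁻¹)⁻¹ := by rw [t3]; group
      _ = (c * z * c⁻¹) * (z * (a * z * a⁻¹)⁻¹) * (c * z * c⁻¹)⁻¹ := by rw [t4]; group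
      _ = z * (a * z * a⁻¹)⁻¹ := conj_eq_self (h.zcomm (cz hz) (mul_mem hz.1 (inv_mem
          (conj_mem_of_mem_normalizer (h.nT haG) hz.1))))
      _ = _ := by rw [commutatorElement_def]; group)
  have k2 : S ≤ Nm(N) := CfH7.le_Nm_of_comm_le_left
    ((commutator_mono NT le_rfl).trans k1)
  have k3 : ⁅S, S⁆ ≤ N := by
    obtain ⟨A, hA, hAT⟩ := h.exA
    have e1 := (h.large hA hAT).1
    refine (commutator_mono e1.ge le_rfl).trans (CfH7.commutator_sup_left_le (hA.le.trans k2)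
      (h.TS.trans k2) ((commutator_mono le_rfl e1.ge).trans (CfH7.commutator_sup_right_le
        (hA.le.trans k2) (h.TS.trans k2) ?_ ?_)) k1)
    · rw [CfH7.comm_eq_bot_left.2 (le_Cz_of_comm hA.comm)]; exact bot_le
    · rw [commutator_comm]; exact (commutator_mono le_rfl hA.le).trans k1
  have ZS : Zc(G) ≤ S := h.Zg_le_ZS.trans inf_le_left
  obtain ⟨W, w1, w2⟩ := CfH8.exists_complement_of_elementary (p := p) (V := CfH8.qb N S)
    (U := CfH8.qb N Zc(G)) ⟨comm_of_le_Cz ((CfH8.qb_le_Cz_iff k2 k2).2 k3), fun x hx => by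
      obtain ⟨g, hg, rfl⟩ := CfH8.mem_qb.1 hx
      rw [← map_pow, show g ^ p = 1 from Subtype.ext (he g hg), map_one]⟩ (CfH8.qb_mono ZS)
  have NS : N ≤ S := NT.trans h.TS
  have w3 : CfH8.qp N W ≤ S := (CfH8.qp_le_iff k2 NS).2 (w2 ▸ le_sup_right)
  refine ⟨CfH8.qp N W, eq_bot_iff.2 fun x hx => ?_, le_antisymm (sup_le ZS w3) ?_⟩
  · have m : x ∈ N := by
      have := CfH8.qb_inf_qp (Q := N) Zc(G) W
      rw [w1, CfH8.qb_eq_bot_iff (inf_le_right.trans (CfH8.qp_le W))] at this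
      exact this hx
    have m2 := m.2
    rw [conj_eq_self (cz_comm hx.1.2 hc).symm] at m2
    exact mem_of_sq (p := p) h2 (by rw [mem_bot, pow_two]; exact mul_eq_one_iff_eq_inv.2 m2)
      (by rw [mem_bot]; exact he x (ZS hx.1))
  · have := (CfH8.qb_le_qb_iff (Q := N) (C := Zc(G) ⊔ CfH8.qp N W) k2
      ((sup_le ZS w3).trans k2)).1 (by
        rw [CfH8.qb_sup (ZS.trans k2) (CfH8.qp_le W), CfH8.qb_qp, w2])
    rwa [sup_assoc, sup_eq_left.2 (CfH8.le_qp W)] at this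

theorem CS.exists_qd (h : CS p q G S T M) (h2 : p ≠ 2) (h2' : (2 : F) ≠ 0) (hT : T ≤ Zc(T))
    (he : ∀ x ∈ S, x ^ p = 1) (D : SecD F G Zc(T) Zc(G)) :
    ∃ G₀ E : Subgroup Γ, IsInternalDirectProduct G₀ E G ∧ IsElementaryAbelian p E ∧
      Nonempty (G₀ ≃* qdOver F) := by
  obtain ⟨c, hc, e⟩ := h.exists_inv
  have hI : Lc p G T ≤ Zc(T) := h.LT.trans hT
  have m : ∀ g ∈ G, ⁅g, c⁆ ∈ Zc(T) := fun g hg =>
    hT (h.I_Cg hI (comm_mem_symm (h.comm_mem_Cg hc e hg)))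
  let Φ : G →* QdS F := MonoidHom.mk' (fun g => ⟨Multiplicative.ofAdd (D.c ⁅(g : Γ), c⁆), D.ρ g⟩)
    fun a b => by
      refine SemidirectProduct.ext ?_ (map_mul _ _ _)
      change _ = Multiplicative.ofAdd _ * slAct F (D.ρ a) (Multiplicative.ofAdd _)
      rw [slAct_apply, ← ofAdd_add, coe_mul, comm_mul_left,
        D.c_mul _ (conj_mem_of_mem_normalizer (h.nZ a.2) (m _ b.2)) _ (m _ a.2), D.act a _ (m _ b.2),
        add_comm]
      rfl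
  have k1 : ∀ z ∈ Zc(T), D.c ⁅z, c⁆ = (2 : F) • D.c z := fun z hz => by
    have t1 := conj_mem_of_mem_normalizer (h.nZ hc) hz
    have t2 := (D.c_zero _ (mul_mem t1 hz)).2 (h.inv_of_act hc e hz)
    rw [D.c_mul _ t1 _ hz] at t2
    have t3 : ⁅z, c⁆ = z * (c * z * c⁻¹)⁻¹ := by rw [commutatorElement_def]; group
    rw [t3, D.c_mul _ hz _ (inv_mem t1), D.c_inv t1, eq_neg_of_add_eq_zero_left t2, neg_neg,
      two_smul]
  have k2 : ∀ g : G, Φ g = 1 ↔ (g : Γ) ∈ Zc(G) := fun g => by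
    constructor
    · intro hh
      have t1 := hT ((h.ρ_eq_one (h.I_Cg hI) D g).1 (congrArg SemidirectProduct.right hh))
      have t2 : D.c ⁅(g : Γ), c⁆ = 0 := congrArg (fun y : QdS F => y.left.toAdd) hh
      rw [k1 _ t1, smul_eq_zero] at t2
      exact (D.c_zero _ t1).1 (t2.resolve_left h2')
    · intro hh
      refine SemidirectProduct.ext ?_ ((h.ρ_eq_one (h.I_Cg hI) D g).2 (h.Zg_le_Z hh).1)
      change Multiplicative.ofAdd (D.c _) = 1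
      rw [comm_eq_one hh.2 hc, D.c_one]; rfl
  have k3 : Function.Surjective Φ := fun y => by
    obtain ⟨g, hg⟩ := D.surj y.right
    obtain ⟨z, hz, e1⟩ := D.c_surj ((2 : F)⁻¹ • (y.left.toAdd - D.c ⁅(g : Γ), c⁆))
    have t1 := (h.ρ_eq_one (h.I_Cg hI) D ⟨z, h.Z_le_G hz⟩).2 hz.1
    refine ⟨⟨z, h.Z_le_G hz⟩ * g, ?_⟩
    rw [map_mul]
    refine SemidirectProduct.ext ?_ ?_
    · change Multiplicative.ofAdd (D.c ⁅z, c⁆) * slAct F (D.ρ _) (Multiplicative.ofAdd _) = _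
      rw [t1, map_one, MulAut.one_apply, ← ofAdd_add, k1 z hz, e1, smul_inv_smul₀ h2',
        sub_add_cancel]
      rfl
    · change D.ρ _ * D.ρ g = _
      rw [t1, one_mul, hg]
  obtain ⟨K, a1, a2⟩ := h.compl_S h2 hT he
  obtain ⟨L, b1, b2⟩ := CfH8.gaschuetz' (comm_inf_Cz G) h.nZg h.SG (by
    obtain ⟨n, hn⟩ := IsPGroup.iff_card.1 (h.pS.to_le (h.Zg_le_ZS.trans inf_le_left))
    rw [hn]
    exact Nat.Coprime.pow_right n
      ((Nat.Prime.coprime_iff_not_dvd hp.out).2 h.syl.not_dvd_relIndex).symm) a1 a2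
  have LG : L ≤ G := b2 ▸ le_sup_right
  refine ⟨L, Zc(G), ⟨LG, inf_le_left, fun a ha b hb => (cz_comm hb.2 (LG ha)).symm,
    by rwa [inf_comm], by rwa [sup_comm]⟩, ⟨comm_inf_Cz G, fun a ha => h.elem a (h.Zg_le_ZS ha)⟩,
    ⟨(MulEquiv.ofBijective (Φ.comp (inclusion LG)) ⟨(injective_iff_map_eq_one _).2 fun a ha => ?_,
      fun y => ?_⟩).trans (CfH8.qdOverEquiv F)⟩⟩
  · exact Subtype.ext (mem_bot.1 (b1.le ⟨(k2 _).1 ha, a.2⟩))
  · obtain ⟨g, rfl⟩ := k3 y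
    obtain ⟨z, hz, l, hl, e1⟩ := (mem_sup_of_le_Nm' (LG.trans h.nZg)).1 (b2.ge g.2)
    refine ⟨⟨l, hl⟩, ?_⟩
    have : g = ⟨z, hz.1⟩ * inclusion LG ⟨l, hl⟩ := Subtype.ext e1.symm
    rw [this, map_mul, (k2 _).2 hz, one_mul]; rfl

theorem CS.T_comm (h : CS p q G S T M) (hI : Lc p G T ≤ Zc(T))
    (hmax : ∀ R : Subgroup Γ, IsPGroup p R → R ≠ ⊥ → G ≤ Nm(R) → Nm(R) = G) (hN : ¬ Nm(S) ≤ G) :
    T ≤ Zc(T) := by
  have cs : ∀ x ∈ Nm(S), CS p q (cj x G) S (cj x T) (cj x M) := fun x hx => by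
    have := h.toFF.conj x
    rw [cj_eq_of_mem_normalizer hx] at this
    exact ⟨this, h.toCDS⟩
  obtain ⟨x, hx, hn⟩ : ∃ x ∈ Nm(S), ¬ Zc(cj x T) ≤ T := by
    by_contra hh
    push Not at hh
    have k0 : CfH7.nclo Zc(T) Nm(S) ≤ T := CfH7.nclo_le_iff'.2 fun x hx => by rw [cj_Zc]; exact hh x hx
    have k1 := CfH7.le_nclo Zc(T) Nm(S)
    have k2 := CfH7.right_le_Nm_nclo Zc(T) Nm(S)
    refine hN (k2.trans (hmax _ (h.pT.to_le k0) (fun e => h.Zg_ne ((k1.trans e.le).trans bot_le))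
      (h.le_of_O_S ?_ (le_normalizer.trans k2))).le)
    exact CfH7.le_Nm_of_comm_le_left (((commutator_mono k0 le_rfl).trans hI).trans k1)
  have h₁ := cs x hx
  have hn' : ¬ Zc(T) ≤ cj x T := fun hh => hn (le_trans (le_inf h₁.Z_le_S
    (CfH7.le_Cz_comm (hh.trans (CfH7.le_Cz_comm inf_le_right)))) (h.S_inf_CzZ h.nc).le)
  have key : ∀ {G₀ G₁ T₀ T₁ M₀ M₁ : Subgroup Γ}, CS p q G₀ S T₀ M₀ → CS p q G₁ S T₁ M₁ →
      ¬ Zc(T₀) ≤ T₁ → ⁅T₀, T₀⁆ ≤ ⁅T₁, T₁⁆ := fun h₀ h₁ hn => by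
    have e := h₁.sup_T (h₀.up h₀.cdZ).1 hn
    refine commutator_le.2 fun a ha b hb => ?_
    obtain ⟨z, hz, t, ht, rfl⟩ := h₁.mem_of_sup_eq e (h₀.TS ha)
    obtain ⟨z', hz', t', ht', rfl⟩ := h₁.mem_of_sup_eq e (h₀.TS hb)
    have m := (mul_mem_cancel_left (mi1 hz)).1 ha
    have m' := (mul_mem_cancel_left (mi1 hz')).1 hb
    rw [h₀.zcomm hz' m', h₀.comm_mulZ (h₀.TG ha) m' hz', comm_eq_one' hz'.2 ha, mul_one,
      ← commutatorElement_inv, h₀.zcomm hz m, h₀.comm_mulZ (h₀.TG m') m hz, comm_eq_one' hz.2 m',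
      mul_one]
    exact inv_mem (commutator_mem_commutator ht' ht)
  have e := le_antisymm (key h h₁ hn') (key h₁ h hn)
  refine le_inf le_rfl (CfH7.comm_eq_bot_left.1 ?_)
  by_contra hb
  have e1 := hmax _ (h.pT.to_le (commutator_le_self T)) hb (CfH7.le_normalizer_commutator h.nT h.nT)
  have e2 : cj x G = G := eq_of_le_of_card_ge
    ((CfH7.le_normalizer_commutator h₁.nT h₁.nT).trans (by rw [← e, e1])) (card_cj x G).ge
  refine hn fun z hz => h.mem_T_of_normal (N := cj x T) (e2.ge.trans h₁.nT)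
    (inf_le_right.trans (h₁.TS.trans h.SM)) (h₁.Z_le_S hz) hz.1

end qd

end CfLp
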