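import Cfsg.Agent.OD.Pre
import Cfsg.Agent.L.PU13
import Cfsg.Agent.H7.SL2Rec

/-! Pushing up: recognition of the natural modules. -/

set_option autoImplicit false
set_option linter.unusedSectionVars false
set_option linter.unusedVariables false

open Cfsg Subgroup CfH9 Matrix
open scoped commutatorElement MatrixGroups

namespace CfLp

variable {Γ : Type*} [Group Γ]

namespace Sct

variable (s : Sct Γ)

noncomputable instance : DistribMulAction s.H s.Mod where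
  smul g m := s.act g m
  one_smul m := by change s.act 1 m = m; rw [s.act_one]; rfl
  mul_smul a b m := by change s.act (a * b) m = _; rw [s.act_mul a.2 b.2]; rfl
  smul_zero g := map_zero (s.act g)
  smul_add g := map_add (s.act g)

theorem smul_sub' (g : s.H) (m : s.Mod) : g • m - m = s.δ g m := rfl

/-- image of a subgroup -/
def sub (X : Subgroup Γ) : AddSubgroup s.Mod where
  carrier := {m | ∃ v, v ∈ X ∧ v ∈ s.V ∧ s.cl v = m}
  zero_mem' := ⟨1, one_mem _, one_mem _, s.cl_one⟩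
  add_mem' := by
    rintro _ _ ⟨a, h1, h2, rfl⟩ ⟨b, h3, h4, rfl⟩
    exact ⟨a * b, mul_mem h1 h3, mul_mem h2 h4, s.cl_mul h2 h4⟩
  neg_mem' := by
    rintro _ ⟨a, h1, h2, rfl⟩
    exact ⟨a⁻¹, inv_mem h1, inv_mem h2, s.cl_inv h2⟩

theorem cl_mem_sub {X : Subgroup Γ} (hN : s.N ≤ X) {v : Γ} (hv : v ∈ s.V) :
    s.cl v ∈ s.sub X ↔ v ∈ X :=
  ⟨fun ⟨w, h1, h2, e⟩ => (mul_mem_cancel_left (inv_mem h1)).1 (hN ((s.cl_eq_iff h2 hv).1 e)),
    fun h => ⟨v, h, hv, rfl⟩⟩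

theorem card_sub [Finite Γ] {X : Subgroup Γ} (hN : s.N ≤ X) (hX : X ≤ s.V) :
    Nat.card s.N * Nat.card (s.sub X) = Nat.card X := by
  let φ : X →* Multiplicative s.Mod := MonoidHom.mk' (fun x => Multiplicative.ofAdd (s.cl x))
    fun a b => by rw [← ofAdd_add, ← s.cl_mul (hX a.2) (hX b.2)]; rfl
  have e1 : φ.ker = s.N.subgroupOf X := Subgroup.ext fun x => s.cl_eq_zero (hX x.2)
  have e2 : Nat.card φ.range = Nat.card (s.sub X) := Nat.card_congr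
    (Equiv.subtypeEquiv Multiplicative.toAdd fun m =>
      ⟨fun ⟨x, e⟩ => ⟨x, x.2, hX x.2, congrArg Multiplicative.toAdd e⟩,
        fun ⟨x, h1, h2, e⟩ => ⟨⟨x, h1⟩, congrArg Multiplicative.ofAdd e⟩⟩)
  rw [← e2, ← index_ker, ← card_subgroupOf hN, ← e1, card_mul_index]

/-- `S` acts quadratically with fixed points `X` -/
structure Half (S T X : Subgroup Γ) : Prop where
  SH : S ≤ s.H
  NX : s.N ≤ X
  XV : X ≤ s.V
  aX : ∀ a ∈ S, ∀ v ∈ s.V, ⁅a, v⁆ ∈ X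
  Xa : ∀ a ∈ S, ∀ x ∈ X, ⁅a, x⁆ ∈ s.N
  fix : ∀ a ∈ S, a ∉ T → ∀ v ∈ s.V, ⁅a, v⁆ ∈ s.N → v ∈ X

variable {s} {S S' T X Y : Subgroup Γ}

theorem Half.δ_mem (h : s.Half S T X) {a : Γ} (ha : a ∈ S) (m : s.Mod) : s.δ a m ∈ s.sub X := by
  obtain ⟨v, hv, rfl⟩ := s.surj m
  rw [s.δ_cl (h.SH ha) hv, s.cl_mem_sub h.NX (s.comm_mem (h.SH ha) hv)]
  exact h.aX a ha v hv

theorem Half.δ_zero (h : s.Half S T X) {a : Γ} (ha : a ∈ S) {m : s.Mod} (hm : m ∈ s.sub X) :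
    s.δ a m = 0 := by
  obtain ⟨v, h1, hv, rfl⟩ := hm
  rw [s.δ_cl (h.SH ha) hv, s.cl_eq_zero (s.comm_mem (h.SH ha) hv)]
  exact h.Xa a ha v h1

theorem Half.mem_of (h : s.Half S T X) {a : Γ} (ha : a ∈ S) (hT : a ∉ T) {m : s.Mod}
    (hm : s.δ a m = 0) : m ∈ s.sub X := by
  obtain ⟨v, hv, rfl⟩ := s.surj m
  rw [s.δ_cl (h.SH ha) hv, s.cl_eq_zero (s.comm_mem (h.SH ha) hv)] at hm
  exact (s.cl_mem_sub h.NX hv).2 (h.fix a ha hT v hv hm)

theorem Half.sq (h : s.Half S T X) {a : Γ} (ha : a ∈ S) : s.δ a * s.δ a = 0 :=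
  AddMonoidHom.ext fun m => h.δ_zero ha (h.δ_mem ha m)

theorem Half.δ_inv (h : s.Half S T X) {a : Γ} (ha : a ∈ S) : s.δ a⁻¹ = - s.δ a := by
  have e := s.act_mul (inv_mem (h.SH ha)) (h.SH ha)
  rw [inv_mul_cancel, s.act_one, s.act_eq, s.act_eq] at e
  have e2 : s.δ a⁻¹ * s.δ a = 0 := AddMonoidHom.ext fun m => h.δ_zero (inv_mem ha) (h.δ_mem ha m)
  have e3 : (1 + s.δ a⁻¹) * (1 + s.δ a) = 1 + (s.δ a⁻¹ + s.δ a) + s.δ a⁻¹ * s.δ a := by
    noncomm_ring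
  rw [e3, e2, add_zero, left_eq_add] at e
  exact eq_neg_of_add_eq_zero_left e

theorem sub_inf (h : s.Half S T X) (h' : s.Half S' T Y) (hXY : X ⊓ Y ≤ s.N) {m : s.Mod}
    (h1 : m ∈ s.sub X) (h2 : m ∈ s.sub Y) : m = 0 := by
  obtain ⟨v, a, hv, rfl⟩ := h1
  exact (s.cl_eq_zero hv).2 (hXY ⟨a, (s.cl_mem_sub h'.NX hv).1 h2⟩)

theorem braid_inv [Finite Γ] (h : s.Half S T X) (h' : s.Half S' T Y) (hXY : X ⊓ Y ≤ s.N)
    {a b : Γ} (ha : a ∈ S) (haT : a ∉ T) (hb : b ∈ S') (hbT : b ∉ T)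
    (e : s.act (a * b * a) = s.act (b * a * b)) {m : s.Mod} (hm : m ∈ s.sub X) :
    s.δ a (s.δ b m) = - m := by
  have haH := h.SH ha
  have hbH := h'.SH hb
  rw [s.act_mul (mul_mem haH hbH) haH, s.act_mul (mul_mem hbH haH) hbH, s.act_mul haH hbH,
    s.act_mul hbH haH, s.act_eq, s.act_eq] at e
  have e1 : s.δ a * (1 + s.δ b * s.δ a) - s.δ b * (1 + s.δ a * s.δ b) =
      (1 + s.δ a) * (1 + s.δ b) * (1 + s.δ a) - (1 + s.δ b) * (1 + s.δ a) * (1 + s.δ b) -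
        s.δ a * s.δ a + s.δ b * s.δ b := by noncomm_ring
  rw [e, h.sq ha, h'.sq hb, sub_self, sub_zero, add_zero, sub_eq_zero] at e1
  obtain ⟨n, rfl⟩ := ker_le_range (h.sq ha) (h'.sq hb)
    (fun m m1 m2 => sub_inf h h' hXY (h.mem_of ha haT m1) (h'.mem_of hb hbT m2)) (h.δ_zero ha hm)
  have e2 : s.δ a ((1 + s.δ b * s.δ a) n) = s.δ b ((1 + s.δ a * s.δ b) n) :=
    DFunLike.congr_fun e1 n
  have e3 := sub_inf h h' hXY (h.δ_mem ha _) (e2 ▸ h'.δ_mem hb _)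
  rw [CfH7.end_add_apply, map_add] at e3
  exact eq_neg_of_add_eq_zero_right e3

theorem exists_secD [Finite Γ] {p : ℕ} [Fact p.Prime] (h : s.Half S T X) (h' : s.Half S' T Y)
    (hXY : X ⊓ Y ≤ s.N) (sup : S ⊔ S' = s.H) (hT : ∀ t ∈ T, s.act t = 1)
    (br : ∀ a ∈ S, a ∉ T → ∃ b ∈ S', b ∉ T ∧ s.act (a * b * a) = s.act (b * a * b))
    (br' : ∀ b ∈ S', b ∉ T → ∃ a ∈ S, a ∉ T ∧ s.act (b * a * b) = s.act (a * b * a))
    (ne : ¬ S ≤ T) (ne' : ¬ Y ≤ s.N)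
    (irr : ∀ U : Subgroup Γ, s.N ≤ U → U ≤ s.V → s.H ≤ Nm(U) → U = s.N ∨ U = s.V)
    (hp : ∀ v ∈ s.V, v ^ p ∈ s.N) {F : Type} [Field F] [Fintype F]
    (hc : Nat.card X = Fintype.card F * Nat.card s.N) : Nonempty (SecD F s.H s.V s.N) := by
  have hYX : Y ⊓ X ≤ s.N := by rwa [inf_comm]
  have nT : ∀ {a : s.H} {m : s.Mod}, a • m ≠ m → (a : Γ) ∉ T := fun {a m} hh ha =>
    hh (by change s.act a m = m; rw [hT _ ha]; rfl)
  have Q : CfH7.QP (S.subgroupOf s.H) (S'.subgroupOf s.H) (s.sub X) (s.sub Y) :=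
    { sup := by rw [← subgroupOf_sup h.SH h'.SH, sup, subgroupOf_self]
      inf := eq_bot_iff.2 fun m hm => sub_inf h h' hXY hm.1 hm.2
      aX := fun a ha w => h.δ_mem ha w
      Xa := fun m hm a ha => sub_eq_zero.1 (h.δ_zero ha hm)
      bY := fun a ha w => h'.δ_mem ha w
      Yb := fun m hm a ha => sub_eq_zero.1 (h'.δ_zero ha hm)
      invA := fun a ha ⟨y, _, hy⟩ => by
        replace ha : (a : Γ) ∈ S := ha
        obtain ⟨b, hb, hbT, e⟩ := br a ha (nT hy)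
        refine ⟨⟨b⁻¹, h'.SH (inv_mem hb)⟩, inv_mem hb, fun y hy' => ?_, fun x hx => ?_⟩
        · rw [smul_sub', smul_sub', h'.δ_inv hb, end_neg_apply,
            braid_inv h' h hYX hb hbT ha (nT hy) e.symm hy', neg_neg]
        · rw [smul_sub', smul_sub', h'.δ_inv hb, end_neg_apply, map_neg,
            braid_inv h h' hXY ha (nT hy) hb hbT e hx, neg_neg]
      invB := fun b hb ⟨y, _, hy⟩ => by
        replace hb : (b : Γ) ∈ S' := hb
        obtain ⟨a, ha, haT, e⟩ := br' b hb (nT hy)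
        refine ⟨⟨a⁻¹, h.SH (inv_mem ha)⟩, inv_mem ha, fun y hy' => ?_, fun x hx => ?_⟩
        · rw [smul_sub', smul_sub', h.δ_inv ha, end_neg_apply, map_neg,
            braid_inv h' h hYX hb (nT hy) ha haT e hy', neg_neg]
        · rw [smul_sub', smul_sub', h.δ_inv ha, end_neg_apply,
            braid_inv h h' hXY ha haT hb (nT hy) e.symm hx, neg_neg]
      ne := by
        obtain ⟨a, ha, haT⟩ := SetLike.not_le_iff_exists.1 ne
        obtain ⟨y, hy, hy'⟩ := SetLike.not_le_iff_exists.1 ne'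
        have m := (s.cl_mem_sub h'.NX (h'.XV hy)).2 hy
        exact ⟨⟨a, h.SH ha⟩, ha, s.cl y, m, fun e => hy' ((s.cl_eq_zero (h'.XV hy)).1
          (sub_inf h h' hXY (h.mem_of ha haT (sub_eq_zero.2 e)) m))⟩
      irr := fun Z hZ hne => by
        let U : Subgroup Γ :=
          { carrier := {v | v ∈ s.V ∧ s.cl v ∈ Z}
            one_mem' := ⟨one_mem _, by rw [s.cl_one]; exact zero_mem _⟩
            mul_mem' := fun {a b} ha hb => ⟨mul_mem ha.1 hb.1, by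
              rw [s.cl_mul ha.1 hb.1]; exact add_mem ha.2 hb.2⟩
            inv_mem' := fun {a} ha => ⟨inv_mem ha.1, by rw [s.cl_inv ha.1]; exact neg_mem ha.2⟩ }
        rcases irr U (fun v hv => ⟨h.XV (h.NX hv), by
            rw [(s.cl_eq_zero (h.XV (h.NX hv))).2 hv]; exact zero_mem _⟩) (fun v hv => hv.1)
          (fun g hg => mem_normalizer_of_conj_mem fun v hv => ⟨s.conj_mem hg hv.1, by
            rw [← s.act_cl hg hv.1]; exact hZ ⟨g, hg⟩ _ hv.2⟩) with e | e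
        · refine absurd (eq_bot_iff.2 fun m hm => ?_) hne
          obtain ⟨v, hv, rfl⟩ := s.surj m
          exact (s.cl_eq_zero hv).2 (e.le ⟨hv, hm⟩)
        · refine eq_top_iff.2 fun m _ => ?_
          obtain ⟨v, hv, rfl⟩ := s.surj m
          exact (e.ge hv).2 }
  obtain ⟨ρ, ψ, h1, h2, -⟩ := (Q.main (p := p) fun m => by
    obtain ⟨v, hv, rfl⟩ := s.surj m
    rw [← s.cl_pow hv, s.cl_eq_zero (pow_mem hv p)]
    exact hp v hv).2 F (by
      have := s.card_sub h.NX h.XV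
      rw [hc, mul_comm] at this
      exact (Nat.eq_of_mul_eq_mul_right Nat.card_pos this).symm)
  refine ⟨⟨ρ, fun u => ψ (s.cl u), s.HV, fun u hu v hv => by rw [s.cl_mul hu hv, map_add],
    fun x => ?_, fun u hu => by rw [map_eq_zero_iff _ ψ.injective, s.cl_eq_zero hu], h1,
    fun g u hu => ?_⟩⟩
  · obtain ⟨v, hv, e⟩ := s.surj (ψ.symm x)
    exact ⟨v, hv, by rw [e, ψ.apply_symm_apply]⟩
  · rw [← s.act_cl g.2 hu, ← CfH7.sl_smul_eq]
    exact h2 g (s.cl u)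

end Sct

variable [Finite Γ] {p q : ℕ} {G S T M : Subgroup Γ} [hp : Fact p.Prime]

theorem FF.braid (h : FF p q G S T M) {g : Γ} (hg : g ∈ G) (hM : g ∉ M) (hC : Cg G T ≤ T)
    {s : Sct Γ} (hs : G ≤ s.H) (hT : ∀ t ∈ T, s.act t = 1) {a : Γ} (ha : a ∈ S) (haT : a ∉ T) :
    ∃ b ∈ cj g S, b ∉ T ∧ s.act (a * b * a) = s.act (b * a * b) := by
  obtain ⟨b, hb, r⟩ := h.exists_br hg hM ha haT (sup_eq_left.2 (h.conj' hg).TS)
  have haG := h.SG ha
  have hbG := (h.conj' hg).SG hb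
  have g1 := mul_mem (mul_mem haG hbG) haG
  have g2 := mul_mem (mul_mem hbG haG) hbG
  refine ⟨b, hb, r.hbT, ?_⟩
  rw [← mul_inv_cancel_left (a * b * a) (b * a * b),
    s.act_mul (hs g1) (hs (mul_mem (inv_mem g1) g2)), hT ((a * b * a)⁻¹ * _) (hC ?_), mul_one]
  rw [h.mem_Cg (mul_mem (inv_mem g1) g2), h.sZ.act_mul (inv_mem g1) g2, ← (h.br_ring hg hM r).1,
    ← h.sZ.act_mul (inv_mem g1) g1, inv_mul_cancel, h.sZ.act_one]

namespace PD

variable (d : PD p q G T) {F : Type} [Field F] [Fintype F]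

theorem braid (hC : Cg G T ≤ T) {s : Sct Γ} (hs : G ≤ s.H) (hT : ∀ t ∈ T, s.act t = 1) :
    ∀ a ∈ d.S, a ∉ T → ∃ b ∈ d.S', b ∉ T ∧ s.act (a * b * a) = s.act (b * a * b) :=
  fun a ha haT => d.hS' ▸ d.cs.braid d.gG d.gM hC hs hT ha haT

theorem S_sup : d.S ⊔ d.S' = G := by
  refine le_antisymm (sup_le d.cs.SG d.symm.cs.SG) (d.H_sup.ge.trans (sup_le ?_ ?_))
  · rw [d.hH]; exact sup_le_sup d.AS d.symm.AS
  · exact d.cs.TS.trans le_sup_left

theorem halfZ (d' : PD p q G T) : d.cs.sZ.Half d'.S T Zc(d'.S) :=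
  ⟨d'.cs.SG, d'.cs.Zg_le_ZS, d'.cs.ZS_le_Z, fun a ha v hv => d'.cs.comm_mem ha hv,
    fun a ha x hx => by rw [comm_eq_one' hx.2 ha]; exact one_mem _,
    fun a ha hT v hv hc => d'.cs.mem_ZS_of_comm hv ha hT hc⟩

include d in
theorem secD_Z (hC : Cg G T ≤ T) (hF : Fintype.card F = q) :
    Nonempty (SecD F G Zc(T) Zc(G)) := by
  have hT : ∀ t ∈ T, d.cs.sZ.act t = 1 := fun t ht => (d.cs.mem_Cg (d.cs.TG ht)).1 (d.cs.T_le_Cg ht)
  exact Sct.exists_secD (p := p) (d.halfZ d) (d.halfZ d.symm) d.ZS_inf.le d.S_sup hT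
    (d.braid hC le_rfl hT) (d.symm.braid hC le_rfl hT) d.cs.ne
    (fun hh => d.symm.cs.nc (hh.trans inf_le_right)) (fun U a b c => d.cs.irred a b c)
    (fun v hv => d.cs.pow_mem_Zg hv) (hF ▸ d.cs.card_ZS)

theorem halfU (h2 : II p G d.S T d.A) (d' : PD p q G T) (h2' : II p G d'.S T d'.A) :
    (d.sU h2).Half d'.S T (d'.A₀ ⊔ Wc p G T) :=
  ⟨d'.cs.SG, d'.ZW_AW, d'.AW_LW, fun a ha v hv => comm_mem_of_le' (d'.II_LW_S h2') hv ha,
    fun a ha x hx => sup_le_sup_right d'.cs.ZS_le_Z _ (comm_mem_of_le' (d'.II_AW_S h2') hx ha),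
    fun a ha hT v hv hc => d'.II_fix h2' ha hT hv hc⟩

theorem secD_U (h2 : II p G d.S T d.A) (hF : Fintype.card F = q) :
    Nonempty (SecD F G (Lc p G T ⊔ Wc p G T) (Zc(T) ⊔ Wc p G T)) := by
  have hT : ∀ t ∈ T, (d.sU h2).act t = 1 := fun t ht => ((d.sU h2).act_eq_one (d.cs.TG ht)).2
    fun v hv => mem_sup_right (comm_mem_of_le (d.II_TT h2) ht (d.cs.LWT hv))
  refine Sct.exists_secD (p := p) (d.halfU h2 d h2) (d.halfU h2 d.symm (d.II_symm h2))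
    (d.II_inf h2).le d.S_sup hT (d.braid (d.II_Cg h2) le_rfl hT)
    (d.symm.braid (d.II_Cg h2) le_rfl hT) d.cs.ne (fun hh => ?_)
    (fun U a b c => d.II_irred h2 a b c)
    (fun v hv => mem_sup_right (d.II_powT h2 (d.cs.LWT hv))) (hF ▸ (d.II_cards h2).1)
  have k := card_le_of_le hh
  rw [(d.symm.II_cards (d.II_symm h2)).1] at k
  have k2 : 0 < Nat.card (Zc(T) ⊔ Wc p G T : Subgroup Γ) := Nat.card_pos
  have k3 := d.cs.one_lt_q
  change _ ≤ Nat.card (Zc(T) ⊔ Wc p G T : Subgroup Γ) at k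
  nlinarith

end PD

theorem CS.secD (h : CS p q G S T M) (hg : Good p G S T) {F : Type} [Field F] [Fintype F]
    (hF : Fintype.card F = q) : Nonempty (SecD F G Zc(T) Zc(G)) := by
  obtain ⟨A, hA, hT⟩ := h.exA
  obtain ⟨d, -, -, -⟩ := h.exists_pd hA hT
  exact d.secD_Z (h.Cg_le hg) hF

end CfLp
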