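import Cfsg.Agent.L.BC
import Cfsg.Agent.H1.Basic

/-! For `q = 4` the sectional 2-rank is at most four. -/

set_option autoImplicit false

namespace CfL.Pl

open Subgroup CfH9 Cfsg

variable {G : Type*} [Group G] {F : Type*} [Field F]

theorem sect_of [Finite G] {S : Subgroup G} (hS : SylIn 2 S ⊤) {k : ℕ}
    (h : ∀ A K : Subgroup G, A ≤ S → K ≤ A → (∀ a ∈ A, a * a ∈ K) →
      Nat.card A ≤ 2 ^ k * Nat.card K) : SectionalPRankLE 2 k G := fun H N _ B _ hB => by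
  obtain ⟨P, hP⟩ := exists_sylIn 2 (B.comap (QuotientGroup.mk' N))
  have h1 := hP.map (QuotientGroup.mk' N)
  rw [map_comap_eq_self_of_surjective (QuotientGroup.mk'_surjective N)] at h1
  have h2 := CfH1.card_map_mk'_mul N P
  rw [← h1.eq_of_le (isPGroup_iff_mem.2 fun a ha => ⟨1, by simpa using hB a ha⟩) le_rfl h1.le] at h2
  obtain ⟨g, -, hg⟩ := hS.exists_cj_le (hP.pgrp.map H.subtype) le_top
  have h3 := h _ (cj g ((N ⊓ P).map H.subtype)) hg (cj_mono g (map_mono inf_le_right)) (by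
    rintro _ ⟨_, ⟨a, ha, rfl⟩, rfl⟩
    refine ⟨_, ⟨a * a, ⟨(QuotientGroup.eq_one_iff _).1 ?_, P.mul_mem ha ha⟩, rfl⟩, by simp⟩
    simpa [sq] using hB _ (hP.le ha))
  rw [card_cj, card_cj, card_map_subtype, card_map_subtype, ← h2] at h3
  exact Nat.le_of_mul_le_mul_right h3 Nat.card_pos

theorem card_le_of {M β : Type*} [Group M] [Finite β] (X : Subgroup M) (f : M → β)
    (h : ∀ x ∈ X, ∀ y ∈ X, f x = f y → x = y) : Nat.card X ≤ Nat.card β :=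
  Nat.card_le_card_of_injective (fun x : X => f x) fun x y e => Subtype.ext (h _ x.2 _ y.2 e)

theorem arith {A A1 A0 K a z k κ : ℕ} (i1 : A ≤ 2 * A1) (i2 : A1 ≤ 2 * A0) (c : a * z = A0)
    (cK : k * κ ≤ K) (a16 : a ≤ 16) (z4 : z ≤ 4) (k0 : 0 < k) (κ0 : 0 < κ) (κ4 : κ = 4 ∨ a ≤ 4)
    (h : A = A0 ∨ (A = A1 ∧ a ≤ k * 4 ∧ (z ≤ 2 ∨ 2 ≤ κ)) ∨ (A1 = A0 ∧ a ≤ k * 4 ∧ (a = 1 ∨ 2 ≤ κ)) ∨
      (a ≤ k * 4 ∧ ((a = 1 ∧ z ≤ 2) ∨ 2 ≤ κ) ∧ (a ≤ 2 ∨ 2 ≤ k))) : A ≤ 2 ^ 4 * K := by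
  have m : ∀ {a z a' z' : ℕ}, a ≤ a' → z ≤ z' → a * z ≤ a' * z' := Nat.mul_le_mul
  have b1 := m k0 κ0
  have b2 := m a16 z4
  rcases κ4 with rfl | a4
  · rcases h with h | ⟨h, h', -⟩ | ⟨h, h', -⟩ | ⟨h', -⟩
    · omega
    all_goals have := m h' z4; omega
  have b3 := m a4 z4
  rcases h with h | ⟨h, -, h' | h'⟩ | ⟨h, -, h' | h'⟩ | ⟨-, ⟨rfl, h⟩ | h, h' | h'⟩
  · omega
  · have := m a4 h'; omega
  · have := m k0 h'; omega
  · subst h'; omega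
  · have := m k0 h'; omega
  · omega
  · omega
  · have := m h' z4; have := m k0 h; omega
  · have := m h' h; omega

section F4

variable [CharP F 2] [Finite F] (hq : Nat.card F = 4)
include hq

theorem f4_cases {t : F} (h0 : t ≠ 0) (h1 : t ≠ 1) (x : F) :
    x = 0 ∨ x = 1 ∨ x = t ∨ x = t + 1 := by
  have := Fintype.ofFinite F
  have h2 := FiniteField.pow_card x
  have h3 := FiniteField.pow_card t
  rw [← Nat.card_eq_fintype_card, hq] at h2 h3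
  grind

theorem f4_span {s t : F} (h0 : s ≠ 0) (h1 : t ≠ 0) (h : s ≠ t) (x : F) :
    x = 0 ∨ x = s ∨ x = t ∨ x = s + t := by
  have := f4_cases hq (t := t / s) (by grind) (by grind) (x / s)
  grind

theorem f4_aut {σ : F →+* F} (h : ∃ μ, σ μ ≠ μ) {x : F} (h0 : x ≠ 0) (h1 : x ≠ 1) :
    σ x = x + 1 := by
  obtain ⟨μ, hμ⟩ := h
  rcases f4_cases hq h0 h1 (σ x) with h | h | h | h
  · exact absurd (by simpa using h) h0
  · exact absurd (σ.injective (h.trans σ.map_one.symm)) h1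
  · rcases f4_cases hq h0 h1 μ with e | e | e | e <;> simp [e, h] at hμ
  · exact h

theorem f4_aut2 {σ τ : F →+* F} (h : ∃ μ, σ μ ≠ μ) (h' : ∃ μ, τ μ ≠ μ) (x : F) : σ (τ x) = x := by
  by_cases h0 : x = 0
  · simp [h0]
  by_cases h1 : x = 1
  · simp [h1]
  rw [f4_aut hq h' h0 h1, map_add, map_one, f4_aut hq h h0 h1]
  grind

theorem f4_fix {σ : F →+* F} (h : ∃ μ, σ μ ≠ μ) {s x y : F} (hx : σ x * s = x) (hy : σ y * s = y)
    (h0 : x = 0 ↔ y = 0) : x = y := by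
  by_contra hn
  have h1 : y ≠ 0 := by grind
  have h2 := f4_aut hq h (x := x / y) (by grind) (by grind)
  have h3 : σ y ≠ 0 := by simpa using h1
  rw [map_div₀] at h2
  grind

end F4

namespace Cf2

variable {c1 c2 : F → F → G} {L1 L2 : Subgroup G} (C : Cf2 c1 c2 L1 L2) [Finite G]

def bar (X : Subgroup G) : Subgroup (Multiplicative (F × F)) where
  carrier := {v | ∃ g ∈ X, InJ c1 c2 g v.toAdd.1 v.toAdd.2}
  one_mem' := ⟨1, one_mem _, C.b1.zero ▸ C.inJ1 0 0⟩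
  mul_mem' := fun ⟨_, h1, h2⟩ ⟨_, h3, h4⟩ => ⟨_, mul_mem h1 h3, C.inJ_mul h2 h4⟩
  inv_mem' := fun {v} ⟨g, h1, h2⟩ => ⟨g⁻¹, inv_mem h1, by
    obtain ⟨w, y, h⟩ := C.mem_J.1 (inv_mem (C.inJ_mem h2))
    have h3 := C.inJ_mul h2 h
    rw [mul_inv_cancel] at h3
    obtain ⟨h4, h5⟩ := C.inJ_uniq h3 (C.b1.zero ▸ C.inJ1 0 0)
    rwa [toAdd_inv, Prod.fst_neg, Prod.snd_neg, neg_eq_of_add_eq_zero_right h4,
      neg_eq_of_add_eq_zero_right h5]⟩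

theorem card_bar (X : Subgroup G) : Nat.card (C.bar X) * Nat.card (X ⊓ C.Z : Subgroup G) =
    Nat.card (X ⊓ C.J : Subgroup G) := by
  choose w y h using fun g : C.J => C.mem_J.1 g.2
  let π : C.J →* Multiplicative (F × F) := MonoidHom.mk' (fun g => .ofAdd (w g, y g)) fun a b => by
    obtain ⟨h1, h2⟩ := C.inJ_uniq (h (a * b)) (C.inJ_mul (h a) (h b))
    rw [h1, h2]; rfl
  have := CfH1.card_map_mul_card_inf_ker π (X.subgroupOf C.J)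
  rw [← card_map_subtype (X.subgroupOf _), subgroupOf_map_subtype, ← card_map_subtype (_ ⊓ _)] at this
  convert this using 4
  · ext v
    constructor
    · rintro ⟨g, h1, h2⟩
      obtain ⟨h3, h4⟩ := C.inJ_uniq (h ⟨g, C.inJ_mem h2⟩) h2
      exact ⟨⟨g, C.inJ_mem h2⟩, h1, congrArg Multiplicative.ofAdd (Prod.ext h3 h4)⟩
    · rintro ⟨g, h1, rfl⟩
      exact ⟨g, h1, h g⟩
  · ext g
    constructor
    · rintro ⟨h1, h2⟩
      obtain ⟨x, rfl⟩ := C.mem_Z.1 h2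
      obtain ⟨h3, h4⟩ := C.inJ_uniq (h ⟨_, C.V1_le h2.1⟩) (C.inJ1 x 0)
      exact ⟨⟨_, C.V1_le h2.1⟩, ⟨congrArg Multiplicative.ofAdd (Prod.ext h3 h4), h1⟩, rfl⟩
    · rintro ⟨g, ⟨h1, h2⟩, rfl⟩
      have h3 := h g
      rw [show w g = 0 from congrArg (·.toAdd.1) h1, show y g = 0 from congrArg (·.toAdd.2) h1] at h3
      obtain ⟨x, hx⟩ := C.inJ_V1 h3
      exact ⟨h2, C.mem_Z.2 ⟨x, hx.symm⟩⟩

variable [CharP F 2]

def Fx (n : G) (w y : F) : Prop := ∃ g, InJ c1 c2 g w y ∧ InJ c1 c2 (n * g * n⁻¹) w y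

theorem sq_comm {A K : Subgroup G} (h : ∀ a ∈ A, a * a ∈ K) {a b : G} (ha : a ∈ A) (hb : b ∈ A) :
    a * b * a⁻¹ * b⁻¹ ∈ K := by
  rw [show a * b * a⁻¹ * b⁻¹ = (a * a) * (a⁻¹ * b * (a⁻¹ * b)) * (b⁻¹ * b⁻¹) by group]
  exact mul_mem (mul_mem (h a ha) (h _ (mul_mem (inv_mem ha) hb))) (h _ (inv_mem hb))

theorem ex_nu {n : G} (hn : n ∈ Nm(C.J)) : ∃ ν : Multiplicative (F × F) →* Multiplicative (F × F),
    ∀ g v, InJ c1 c2 g v.toAdd.1 v.toAdd.2 →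
      InJ c1 c2 (n * g * n⁻¹ * g⁻¹) (ν v).toAdd.1 (ν v).toAdd.2 := by
  choose a b h using fun w y => C.mem_J.1 (conj_mem_of_mem_normalizer hn
    (C.inJ_mem (⟨0, rfl⟩ : InJ c1 c2 _ w y)))
  have key : ∀ g w y, InJ c1 c2 g w y → InJ c1 c2 (n * g * n⁻¹) (a w y) (b w y) := by
    rintro _ w y ⟨x, rfl⟩
    obtain ⟨x', h1⟩ := C.conjZ (C.NJ_le_NZ hn) x
    rw [C.c1_eq, mul_assoc (c1 x 0), cmul, h1]
    simpa using C.inJ_mul (C.inJ1 x' 0) (h w y)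
  refine ⟨MonoidHom.mk' (fun v => .ofAdd (a v.toAdd.1 v.toAdd.2 + v.toAdd.1,
    b v.toAdd.1 v.toAdd.2 + v.toAdd.2)) fun u v => ?_, fun g v h1 =>
      C.inJ_mul (key _ _ _ h1) (C.inJ_inv h1)⟩
  have h1 := C.inJ_mul (h u.toAdd.1 u.toAdd.2) (h v.toAdd.1 v.toAdd.2)
  rw [← cmul] at h1
  obtain ⟨h2, h3⟩ := C.inJ_uniq h1 (key _ _ _ (C.inJ_mul ⟨0, rfl⟩ ⟨0, rfl⟩))
  refine congrArg Multiplicative.ofAdd (Prod.ext ?_ ?_) <;>
    simp only [toAdd_mul, Prod.fst_add, Prod.snd_add, ← h2, ← h3, toAdd_ofAdd] <;> ring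

theorem bar_le {A K : Subgroup G} (h : ∀ a ∈ A, a * a ∈ K) {n : G} (hn : n ∈ Nm(C.J)) (hA : n ∈ A)
    {β : Type*} [Finite β] (f : F → F → β)
    (hf : ∀ w y w' y', Fx (c1 := c1) (c2 := c2) n w y → Fx (c1 := c1) (c2 := c2) n w' y' →
      f w y = f w' y' → w = w' ∧ y = y') [Finite F] :
    Nat.card (C.bar A) ≤ Nat.card (C.bar K) * Nat.card β := by
  obtain ⟨ν, hν⟩ := C.ex_nu hn
  rw [← CfH1.card_map_mul_card_inf_ker ν]
  have fx : ∀ v ∈ ν.ker ⊓ C.bar A, Fx (c1 := c1) (c2 := c2) n v.toAdd.1 v.toAdd.2 :=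
    fun v ⟨h1, g, _, h2⟩ => ⟨g, h2, by
      have := C.inJ_mul (hν g v h2) h2
      rw [show ν v = 1 from h1] at this
      simpa using this⟩
  refine Nat.mul_le_mul (card_le_of_le ?_) (card_le_of _ (fun v => f v.toAdd.1 v.toAdd.2)
    fun u hu v hv e => ?_)
  · rintro _ ⟨v, ⟨g, h1, h2⟩, rfl⟩
    exact ⟨_, sq_comm h hA h1, hν g v h2⟩
  · obtain ⟨h1, h2⟩ := hf _ _ _ _ (fx u hu) (fx v hv) e
    exact Multiplicative.toAdd.injective (Prod.ext h1 h2)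

theorem fx_of {A K : Subgroup G} (h : ∀ a ∈ A, a * a ∈ K) {n : G} (hn : n ∈ Nm(C.J)) (hA : n ∈ A)
    (hK : C.bar K = ⊥) {v : Multiplicative (F × F)} (hv : v ∈ C.bar A) :
    Fx (c1 := c1) (c2 := c2) n v.toAdd.1 v.toAdd.2 := by
  obtain ⟨ν, hν⟩ := C.ex_nu hn
  obtain ⟨g, h1, h2⟩ := hv
  have := C.inJ_mul (hν g v h2) h2
  rw [show ν v = 1 from hK.le ⟨_, sq_comm h hA h1, hν g v h2⟩] at this
  exact ⟨g, h2, by simpa using this⟩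

theorem swap_inJ {n g : G} (hn : n ∈ Nm(C.J)) (hn' : n ∉ Nm(C.V1)) {y : F} (h : InJ c1 c2 g 0 y) :
    ∃ w, InJ c1 c2 (n * g * n⁻¹) w 0 ∧ (w = 0 → y = 0) := by
  obtain ⟨-, h4⟩ := (C.NJ_cases hn).resolve_left fun h => hn' h.1
  obtain ⟨x, rfl⟩ := C.inJ_V2 h
  obtain ⟨u, w, h1⟩ := h4.le (conj_mem_cj n (C.b2.cV x y))
  refine ⟨w, h1 ▸ C.inJ1 u w, ?_⟩
  rintro rfl
  have := conj_mem_of_mem_normalizer' (C.NJ_le_NZ hn) (C.cZ u)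
  rw [h1] at this
  exact C.c2_mem1 (x := x) (by simpa [mul_assoc] using this.1)

theorem fx_swap {n : G} (hn : n ∈ Nm(C.J)) (hn' : n ∉ Nm(C.V1)) {w y y' : F}
    (h : Fx (c1 := c1) (c2 := c2) n w y) (h' : Fx (c1 := c1) (c2 := c2) n w y') : y = y' := by
  obtain ⟨g, h1, h2⟩ := h
  obtain ⟨g', h3, h4⟩ := h'
  have h5 := C.inJ_mul h1 h3
  have h6 := C.inJ_mul h2 h4
  rw [CharTwo.add_self_eq_zero] at h5 h6
  obtain ⟨u, h7, -⟩ := C.swap_inJ hn hn' h5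
  have := (C.inJ_uniq (cmul n g g' ▸ h7) h6).2
  grind

theorem fx_field {n : G} (h1 : n ∈ Nm(C.V1)) (h2 : n ∈ Nm(C.V2)) {σ : F →+* F} (h : Semi c1 n σ) :
    ∃ s u, ∀ w y, Fx (c1 := c1) (c2 := c2) n w y → σ w * s = w ∧ σ y * u = y := by
  obtain ⟨p, s, h3⟩ := C.b1.ex_conj h1 0 1
  obtain ⟨p', u, h4⟩ := C.b2.ex_conj h2 0 1
  refine ⟨s, u, ?_⟩
  rintro w y ⟨_, ⟨x, rfl⟩, h5⟩
  obtain ⟨x', h6⟩ := C.conjZ (mem_Nm_inf h1 h2) x
  have h7 := h w _ _ _ _ h3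
  have h8 := C.semi12 h1 h2 h y _ _ _ _ h4
  rw [mul_zero, mul_one] at h7 h8
  rw [C.c1_eq, cmul, cmul, h6, h7, h8] at h5
  simpa using C.inJ_uniq (C.inJ_mul (C.inJ_mul (C.inJ1 _ _) (C.inJ1 _ _)) (C.inJ2 _ _)) h5

variable [Finite F] (hq : Nat.card F = 4)
include hq

theorem bar_small {A K : Subgroup G} (h : ∀ a ∈ A, a * a ∈ K) (hK : ¬ C.Z ≤ K) :
    Nat.card (C.bar A) ≤ 4 := by
  classical
  have e0 : ∀ w y, .ofAdd (w, y) ∈ C.bar A → c1 (w * y) 0 ∈ K := fun w y ⟨g, h1, h2⟩ =>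
    C.inJ_sq h2 ▸ h g h1
  have e1 : ∀ s t, c1 s 0 ∈ K → c1 t 0 ∈ K → s = 0 ∨ t = 0 ∨ s = t := fun s t hs ht => by
    by_contra hn
    refine hK fun z hz => ?_
    obtain ⟨x, rfl⟩ := C.mem_Z.1 hz
    rcases f4_span hq (s := s) (t := t) (by tauto) (by tauto) (by tauto) x with e | e | e | e <;>
      rw [e]
    · exact C.b1.zero ▸ one_mem K
    · exact hs
    · exact ht
    · have := K.mul_mem hs ht
      rwa [← C.b1.add, add_zero] at this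
  have e2 : ∀ w y w' y', .ofAdd (w, y) ∈ C.bar A → .ofAdd (w', y') ∈ C.bar A →
      .ofAdd (w + w', y + y') ∈ C.bar A := fun _ _ _ _ => mul_mem
  have e3 : ∀ w y w' y', .ofAdd (w, y) ∈ C.bar A → .ofAdd (w', y') ∈ C.bar A →
      c1 (w * y' + w' * y) 0 ∈ K := fun w y w' y' h1 h2 => by
    have := K.mul_mem (K.mul_mem (e0 _ _ (e2 _ _ _ _ h1 h2)) (e0 _ _ h1)) (e0 _ _ h2)
    rw [← C.b1.add, ← C.b1.add] at this
    convert this using 2 <;> grind only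
  by_cases a1 : ∃ y, y ≠ 0 ∧ .ofAdd (0, y) ∈ C.bar A
  swap
  · refine hq ▸ card_le_of _ (·.toAdd.1) fun u hu v hv e => Multiplicative.toAdd.injective
      (Prod.ext e (by_contra fun e' => a1 ⟨u.toAdd.2 + v.toAdd.2, by grind only, ?_⟩))
    have := e2 u.toAdd.1 u.toAdd.2 v.toAdd.1 v.toAdd.2 hu hv
    rwa [e, CharTwo.add_self_eq_zero] at this
  by_cases a2 : ∃ w, w ≠ 0 ∧ .ofAdd (w, 0) ∈ C.bar A
  swap
  · refine hq ▸ card_le_of _ (·.toAdd.2) fun u hu v hv e => Multiplicative.toAdd.injective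
      (Prod.ext (by_contra fun e' => a2 ⟨u.toAdd.1 + v.toAdd.1, by grind only, ?_⟩) e)
    have := e2 u.toAdd.1 u.toAdd.2 v.toAdd.1 v.toAdd.2 hu hv
    rwa [e, CharTwo.add_self_eq_zero] at this
  obtain ⟨y, hy, a1⟩ := a1
  obtain ⟨w, hw, a2⟩ := a2
  refine (card_le_of _ (fun v => (decide (v.toAdd.1 = 0), decide (v.toAdd.2 = 0)))
    fun u hu v hv e => Multiplicative.toAdd.injective ?_).trans (by simp)
  have b1 := e1 _ _ (e3 u.toAdd.1 u.toAdd.2 _ _ hu a1) (e3 v.toAdd.1 v.toAdd.2 _ _ hv a1)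
  have b2 := e1 _ _ (e3 u.toAdd.1 u.toAdd.2 _ _ hu a2) (e3 v.toAdd.1 v.toAdd.2 _ _ hv a2)
  simp only [Prod.mk.injEq, decide_eq_decide] at e
  exact Prod.ext (by grind only) (by grind only)

theorem rank {A K : Subgroup G} (hp : IsPGroup 2 A) (hA : A ≤ Nm(C.J)) (hK : K ≤ A)
    (h : ∀ a ∈ A, a * a ∈ K) : Nat.card A ≤ 2 ^ 4 * Nat.card K := by
  classical
  have nl : ∀ n ∈ A, n ∈ Nm(C.V1) → n ∉ C.J → ∃ σ : F →+* F, Semi c1 n σ ∧ ∃ μ, σ μ ≠ μ :=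
    fun n h1 h2 h3 => by
      obtain ⟨σ, hσ⟩ := C.semi1 h2
      obtain ⟨k, hk⟩ := isPGroup_iff_mem.1 hp n h1
      exact ⟨σ, hσ, C.nonlin h2 (C.N2_of (hA h1) h2) h3 hk hσ⟩
  have i1 := idx2 (H := Nm(C.V1)) (K := A) fun a ha b hb => C.swap_mul (hA ha) (hA hb)
  have i2 := idx2 (H := C.J) (K := A ⊓ Nm(C.V1)) fun a ha b hb ha' hb' => by
    obtain ⟨σ, h1, h2⟩ := nl _ (inv_mem ha.1) (inv_mem ha.2) (by rwa [inv_mem_iff])
    obtain ⟨τ, h3, h4⟩ := nl _ hb.1 hb.2 hb'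
    have h5 := mul_mem (inv_mem ha) hb
    obtain ⟨k, hk⟩ := isPGroup_iff_mem.1 hp _ h5.1
    refine C.mem_J_of_lin h5.2 (C.N2_of (hA h5.1) h5.2) ?_ hk
    rw [← show σ ∘ τ = id from funext (f4_aut2 hq h2 h4)]
    exact h1.mul h3 (C.b1.ex_conj hb.2)
  rw [inf_assoc, inf_eq_right.2 C.J_N1] at i2
  have c1A := C.card_bar A
  have c1K := (C.card_bar K).trans_le (card_le_of_le inf_le_left)
  have a16 : Nat.card (C.bar A) ≤ 16 :=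
    (card_le_of _ (·.toAdd) fun _ _ _ _ e => Multiplicative.toAdd.injective e).trans (by simp [hq])
  have z4 : Nat.card (A ⊓ C.Z : Subgroup G) ≤ 4 := hq ▸ C.card_Z ▸ card_le_of_le inf_le_right
  have k1 : C.bar K = ⊥ ∨ 2 ≤ Nat.card (C.bar K) := or_iff_not_imp_left.2 (one_lt_card_iff_ne_bot _).2
  have κ1 : K ⊓ C.Z = ⊥ ∨ 2 ≤ Nat.card (K ⊓ C.Z : Subgroup G) :=
    or_iff_not_imp_left.2 (one_lt_card_iff_ne_bot _).2
  have k0 : 0 < Nat.card (C.bar K) := Nat.card_pos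
  have κ0 : 0 < Nat.card (K ⊓ C.Z : Subgroup G) := Nat.card_pos
  have κ4 : Nat.card (K ⊓ C.Z : Subgroup G) = 4 ∨ Nat.card (C.bar A) ≤ 4 := by
    by_cases e : C.Z ≤ K
    · rw [inf_eq_right.2 e, C.card_Z, hq]; simp
    · exact Or.inr (C.bar_small hq h e)
  have F1 : ∀ n ∈ A, n ∉ Nm(C.V1) → Nat.card (C.bar A) ≤ Nat.card (C.bar K) * 4 ∧
      (K ⊓ C.Z = ⊥ → Nat.card (C.bar A) = 1) := fun n h1 h2 => by
    refine ⟨hq ▸ C.bar_le h (hA h1) h1 (fun w _ => w) fun w y w' y' a b e =>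
      ⟨e, C.fx_swap (hA h1) h2 a (e ▸ b)⟩, fun e => card_eq_one.2 ?_⟩
    have e0 : ∀ g ∈ A, ∀ w y, InJ c1 c2 g w y → w * y = 0 := fun g hg w y h3 => by
      have : c1 (w * y) 0 ∈ K ⊓ C.Z := ⟨C.inJ_sq h3 ▸ h g hg, C.cZ _⟩
      rw [e, mem_bot, C.b1.eq_one_iff] at this
      exact this.1
    have e1 : ∀ g ∈ A, ∀ y, InJ c1 c2 g 0 y → y = 0 := fun g hg y h3 => by
      obtain ⟨w, h4, h5⟩ := C.swap_inJ (hA h1) h2 h3
      have := e0 _ (mul_mem (mul_mem (mul_mem h1 hg) (inv_mem h1)) hg) _ _ (C.inJ_mul h4 h3)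
      grind only
    refine eq_bot_iff.2 ?_
    rintro v ⟨g, hg, h3⟩
    refine Multiplicative.toAdd.injective ?_
    rcases mul_eq_zero.1 (e0 g hg _ _ h3) with e | e
    · exact Prod.ext e (e1 g hg _ (e ▸ h3))
    obtain ⟨w, h4, h5⟩ := C.swap.swap_inJ (C.toCfg.swap_J ▸ hA h1) (fun e => h2
      (C.toCfg.swap.N2_of (C.toCfg.swap_J ▸ hA h1) e)) (e ▸ C.inJ_swap h3)
    exact Prod.ext (h5 (e1 _ (mul_mem (mul_mem h1 hg) (inv_mem h1)) _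
      (C.toCfg.swap.inJ_swap h4))) e
  have F2 : ∀ n ∈ A ⊓ Nm(C.V1), n ∉ C.J → Nat.card (C.bar A) ≤ Nat.card (C.bar K) * 4 ∧
      (K ⊓ C.Z = ⊥ → Nat.card (A ⊓ C.Z : Subgroup G) ≤ 2) ∧
      ∀ m ∈ A, m ∉ Nm(C.V1) → C.bar K = ⊥ → Nat.card (C.bar A) ≤ 2 := fun n h1 h2 => by
    obtain ⟨σ, h3, h4⟩ := nl n h1.1 h1.2 h2
    have h5 := C.N2_of (hA h1.1) h1.2
    obtain ⟨s, u, h6⟩ := C.fx_field h1.2 h5 h3
    refine ⟨C.bar_le h (hA h1.1) h1.1 (fun w y => (decide (w = 0), decide (y = 0)))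
      (fun w y w' y' a b e => ?_) |>.trans (by simp), fun e => ?_, fun m m1 m2 e =>
        (card_le_of _ (fun v => decide (v.toAdd.1 = 0)) fun a ha b hb e' => ?_).trans (by simp)⟩
    · simp only [Prod.mk.injEq, decide_eq_decide] at e
      exact ⟨f4_fix hq h4 (h6 _ _ a).1 (h6 _ _ b).1 e.1, f4_fix hq h4 (h6 _ _ a).2 (h6 _ _ b).2 e.2⟩
    · have := two_mul_le (H := A ⊓ C.Z) (K := C.Z) (lt_of_le_of_ne inf_le_right fun e' => by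
        have h7 : ∀ x, n * c1 x 0 * n⁻¹ = c1 x 0 := fun x => mul_inv_eq_one.1 (e.le
          ⟨sq_comm h h1.1 (e'.ge (C.cZ x)).1, C.Z.mul_mem (conj_mem_of_mem_normalizer
            (mem_Nm_inf h1.2 h5) (C.cZ x)) (C.Z.inv_mem (C.cZ x))⟩)
        obtain ⟨μ, hμ⟩ := h4
        exact hμ (C.b1.semi_uniq h1.2 h3 (C.lin_of_cZ h1.2 h7) μ))
      rw [C.card_Z, hq] at this
      omega
    · have e1 := f4_fix hq h4 (h6 _ _ (C.fx_of h (hA h1.1) h1.1 e ha)).1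
        (h6 _ _ (C.fx_of h (hA h1.1) h1.1 e hb)).1 (by simpa using e')
      exact Multiplicative.toAdd.injective (Prod.ext e1 (C.fx_swap (hA m1) m2
        (C.fx_of h (hA m1) m1 e ha) (e1 ▸ C.fx_of h (hA m1) m1 e hb)))
  have g1 : Nat.card A = Nat.card (A ⊓ Nm(C.V1) : Subgroup G) ∨ ∃ n ∈ A, n ∉ Nm(C.V1) := by
    by_cases e : A ≤ Nm(C.V1)
    · rw [inf_eq_left.2 e]; simp
    · exact Or.inr (SetLike.not_le_iff_exists.1 e)
  have g2 : Nat.card (A ⊓ Nm(C.V1) : Subgroup G) = Nat.card (A ⊓ C.J : Subgroup G) ∨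
      ∃ n ∈ A ⊓ Nm(C.V1), n ∉ C.J := by
    by_cases e : A ⊓ Nm(C.V1) ≤ C.J
    · exact Or.inl (by rw [le_antisymm (le_inf inf_le_left e) (inf_le_inf_left A C.J_N1)])
    · exact Or.inr (SetLike.not_le_iff_exists.1 e)
  refine arith i1 i2 c1A c1K a16 z4 k0 κ0 κ4 ?_
  rcases g1 with g1 | ⟨m, m1, m2⟩ <;> rcases g2 with g2 | ⟨n, n1, n2⟩
  · exact Or.inl (g1.trans g2)
  · exact Or.inr (Or.inl ⟨g1, (F2 n n1 n2).1, κ1.imp_left (F2 n n1 n2).2.1⟩)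
  · exact Or.inr (Or.inr (Or.inl ⟨g2, (F1 m m1 m2).1, κ1.imp_left (F1 m m1 m2).2⟩))
  · exact Or.inr (Or.inr (Or.inr ⟨(F1 m m1 m2).1, κ1.imp_left fun e => ⟨(F1 m m1 m2).2 e,
      (F2 n n1 n2).2.1 e⟩, k1.imp_left ((F2 n n1 n2).2.2 m m1 m2)⟩))

include C in
theorem sect : SectionalPRankLE 2 4 G := by
  obtain ⟨S, hS, h⟩ := exists_sylIn_ge C.pJ le_top
  exact sect_of hS fun A K h1 => C.rank hq (hS.pgrp.to_le h1)
    (h1.trans (C.two_le_NJ hq.ge hS.pgrp h))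

end Cf2

end CfL.Pl
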