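import Cfsg.Agent.H7.Tools
import Cfsg.Agent.H9.SylIn

/-! Natural `SL₂(F)`-blocks in coordinates. -/

set_option autoImplicit false

namespace CfL.Pl

open Subgroup CfH9

variable {G : Type*} [Group G] {F : Type*} [Field F]

def Act (c : F → F → G) (g : G) (a b d e : F) : Prop :=
  ∀ x y, g * c x y * g⁻¹ = c (a * x + b * y) (d * x + e * y)

def Semi (c : F → F → G) (n : G) (σ : F → F) : Prop :=
  ∀ t x y x' y', n * c x y * n⁻¹ = c x' y' → n * c (t * x) (t * y) * n⁻¹ = c (σ t * x') (σ t * y')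

structure Blk (c : F → F → G) (L : Subgroup G) : Prop where
  add : ∀ x y x' y', c (x + x') (y + y') = c x y * c x' y'
  inj : ∀ x y, c x y = 1 → x = 0 ∧ y = 0
  mem : ∀ x y, c x y ∈ L
  ex : ∀ a b d e, a * e - b * d = 1 → ∃ l ∈ L, Act c l a b d e
  act : ∀ l ∈ L, ∃ a b d e, a * e - b * d = 1 ∧ Act c l a b d e
  ker : ∀ l ∈ L, Act c l 1 0 0 1 → ∃ x y, c x y = l

theorem Act.mul {c : F → F → G} {g g' : G} {a b d e a' b' d' e' : F} (h : Act c g a b d e)
    (h' : Act c g' a' b' d' e') :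
    Act c (g * g') (a * a' + b * d') (a * b' + b * e') (d * a' + e * d') (d * b' + e * e') := by
  intro x y
  rw [show g * g' * c x y * (g * g')⁻¹ = g * (g' * c x y * g'⁻¹) * g⁻¹ by group, h', h]
  congr 1 <;> ring

theorem Act.semi {c : F → F → G} {L : Subgroup G} (B : Blk c L) {g : G} {a b d e : F}
    (h : Act c g a b d e) : Semi c g id := by
  intro t x y x' y' h1
  have h2 : c (a * x + b * y - x') (d * x + e * y - y') = 1 := by
    have := B.add (a * x + b * y - x') (d * x + e * y - y') x' y'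
    rw [sub_add_cancel, sub_add_cancel, ← h x y, h1] at this
    exact (mul_eq_right.1 this.symm)
  obtain ⟨h3, h4⟩ := B.inj _ _ h2
  rw [h]
  congr 1
  · simp only [id]; linear_combination t * h3
  · simp only [id]; linear_combination t * h4

theorem Semi.mul {c : F → F → G} {n n' : G} {σ σ' : F → F} (h : Semi c n σ) (h' : Semi c n' σ')
    (hn : ∀ x y, ∃ x' y', n' * c x y * n'⁻¹ = c x' y') : Semi c (n * n') (σ ∘ σ') := by
  intro t x y x' y' h1
  obtain ⟨u, v, h2⟩ := hn x y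
  rw [show n * n' * c x y * (n * n')⁻¹ = n * (n' * c x y * n'⁻¹) * n⁻¹ by group, h2] at h1
  rw [show ∀ z, n * n' * z * (n * n')⁻¹ = n * (n' * z * n'⁻¹) * n⁻¹ by intro z; group,
    h' t _ _ _ _ h2, h _ _ _ _ _ h1]
  rfl

namespace Blk

variable {c : F → F → G} {L : Subgroup G} (B : Blk c L)
include B

theorem zero : c 0 0 = 1 := by
  have := B.add 0 0 0 0
  rw [add_zero] at this
  exact mul_eq_left.1 this.symm

theorem comm (x y x' y' : F) : c x y * c x' y' = c x' y' * c x y := by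
  rw [← B.add, ← B.add, add_comm x, add_comm y]

theorem neg (x y : F) : c (-x) (-y) = (c x y)⁻¹ := by
  rw [eq_inv_iff_mul_eq_one, ← B.add, neg_add_cancel, neg_add_cancel, B.zero]

theorem eq_iff {x y x' y' : F} : c x y = c x' y' ↔ x = x' ∧ y = y' := by
  refine ⟨fun h => ?_, fun h => by rw [h.1, h.2]⟩
  have := B.add x y (-x') (-y')
  rw [B.neg, h, mul_inv_cancel] at this
  have := B.inj _ _ this
  exact ⟨by linear_combination this.1, by linear_combination this.2⟩

theorem eq_one_iff {x y : F} : c x y = 1 ↔ x = 0 ∧ y = 0 := by rw [← B.zero, B.eq_iff]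

/-- the module -/
def V : Subgroup G where
  carrier := {g | ∃ x y, c x y = g}
  one_mem' := ⟨0, 0, B.zero⟩
  mul_mem' := by
    rintro _ _ ⟨x, y, rfl⟩ ⟨x', y', rfl⟩
    exact ⟨_, _, B.add _ _ _ _⟩
  inv_mem' := by
    rintro _ ⟨x, y, rfl⟩
    exact ⟨_, _, B.neg _ _⟩

theorem mem_V {g : G} : g ∈ B.V ↔ ∃ x y, c x y = g := Iff.rfl

theorem cV (x y : F) : c x y ∈ B.V := ⟨x, y, rfl⟩

theorem V_le : B.V ≤ L := by
  rintro _ ⟨x, y, rfl⟩
  exact B.mem x y

theorem card_V : Nat.card B.V = Nat.card F ^ 2 := by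
  rw [sq, ← Nat.card_prod]
  refine (Nat.card_congr (Equiv.ofBijective (fun v : F × F => (⟨c v.1 v.2, B.cV _ _⟩ : B.V))
    ⟨fun v w h => ?_, ?_⟩)).symm
  · have := B.eq_iff.1 (congrArg Subtype.val h)
    exact Prod.ext this.1 this.2
  · rintro ⟨_, x, y, rfl⟩
    exact ⟨(x, y), rfl⟩

theorem V_ne_bot : B.V ≠ ⊥ := fun h => by
  have := B.cV 1 0
  rw [h, mem_bot, B.eq_one_iff] at this
  exact one_ne_zero this.1

theorem ex_conj {n : G} (hn : n ∈ Nm(B.V)) (x y : F) : ∃ x' y', n * c x y * n⁻¹ = c x' y' := by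
  obtain ⟨x', y', h⟩ := conj_mem_of_mem_normalizer hn (B.cV x y)
  exact ⟨x', y', h.symm⟩

theorem L_le [Finite G] : L ≤ Nm(B.V) := fun l hl => mem_normalizer_of_conj_mem (by
  rintro _ ⟨x, y, rfl⟩
  obtain ⟨a, b, d, e, -, h⟩ := B.act l hl
  rw [h]; exact B.cV _ _)

theorem trans {x y : F} (h : ¬ (x = 0 ∧ y = 0)) :
    ∃ l ∈ L, ∃ b e, x * e - b * y = 1 ∧ Act c l x b y e := by
  by_cases hx : x = 0
  · have hy : y ≠ 0 := fun e => h ⟨hx, e⟩
    obtain ⟨l, hl, h1⟩ := B.ex x (-y⁻¹) y 0 (by field_simp; ring)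
    exact ⟨l, hl, _, _, by field_simp; ring, h1⟩
  · obtain ⟨l, hl, h1⟩ := B.ex x 0 y x⁻¹ (by field_simp; ring)
    exact ⟨l, hl, _, _, by field_simp; ring, h1⟩

theorem lin {l : G} (hl : l ∈ L) : Semi c l id := by
  obtain ⟨a, b, d, e, -, h⟩ := B.act l hl
  exact h.semi B

theorem fix_one {l : G} (hl : l ∈ L) {t t' : F} (ht : t ≠ 0) (h : l * c t 0 * l⁻¹ = c t' 0) :
    ∃ a b, a ≠ 0 ∧ t' = a * t ∧ Act c l a b 0 a⁻¹ := by
  obtain ⟨a, b, d, e, h1, h2⟩ := B.act l hl
  rw [h2, B.eq_iff] at h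
  have hd : d = 0 := by
    have := h.2
    simpa [ht] using this
  subst hd
  have ha : a ≠ 0 := by rintro rfl; simp at h1
  have he : e = a⁻¹ := by field_simp; linear_combination h1
  exact ⟨a, b, ha, by simpa using h.1.symm, he ▸ h2⟩

theorem semi [Finite G] {n : G} (hV : n ∈ Nm(B.V)) (hL : n ∈ Nm(L)) :
    ∃ σ : F →+* F, Semi c n σ := by
  obtain ⟨x0, y0, h0⟩ := B.ex_conj (inv_mem hV) 1 0
  have h0' : n * c x0 y0 * n⁻¹ = c 1 0 := by rw [← h0]; group
  have tr : ∀ l ∈ L, ∀ t x y x' y' μ ν, n * c x y * n⁻¹ = l * c 1 0 * l⁻¹ →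
      n * c (t * x0) (t * y0) * n⁻¹ = c μ ν → x' = t * x → y' = t * y →
      n * c x' y' * n⁻¹ = l * c μ ν * l⁻¹ := by
    rintro l hl t x y _ _ μ ν h1 h2 rfl rfl
    have h3 := B.lin (conj_mem_of_mem_normalizer' hL hl) t x0 y0 x y (by
      rw [← h0]
      calc _ = n⁻¹ * (l * c 1 0 * l⁻¹) * n := by group
        _ = _ := by rw [← h1]; group)
    simp only [id] at h3
    rw [← h3, ← h2]; group
  have key : ∀ t, ∃ μ, n * c (t * x0) (t * y0) * n⁻¹ = c μ 0 ∧ ∀ x y x' y',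
      n * c x y * n⁻¹ = c x' y' → n * c (t * x) (t * y) * n⁻¹ = c (μ * x') (μ * y') := by
    intro t
    obtain ⟨μ, ν, h1⟩ := B.ex_conj hV (t * x0) (t * y0)
    obtain ⟨u, hu, h2⟩ := B.ex 1 1 0 1 (by simp)
    have h3 := tr u hu t x0 y0 _ _ μ ν (by rw [h0', h2]; simp) h1 rfl rfl
    rw [h1, h2, B.eq_iff] at h3
    obtain rfl : ν = 0 := by linear_combination -h3.1
    refine ⟨μ, h1, fun x y x' y' h4 => ?_⟩
    by_cases h5 : x' = 0 ∧ y' = 0
    · obtain ⟨rfl, rfl⟩ := h5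
      rw [B.zero, conj_eq_one_iff, B.eq_one_iff] at h4
      simp [h4.1, h4.2, B.zero]
    · obtain ⟨l, hl, b, e, -, h6⟩ := B.trans h5
      rw [tr l hl t x y _ _ μ 0 (by rw [h4, h6]; simp) h1 rfl rfl, h6]
      congr 1 <;> ring
  choose σ h1 h2 using key
  refine ⟨⟨⟨⟨σ, ?_⟩, fun s t => ?_⟩, ?_, fun s t => ?_⟩, fun t => h2 t⟩
  · have := h1 1
    rw [one_mul, one_mul, h0', B.eq_iff] at this
    exact this.1.symm
  · have := h2 s _ _ _ _ (h1 t)
    rw [← mul_assoc, ← mul_assoc, h1, B.eq_iff] at this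
    exact this.1
  · have := h1 0
    rw [zero_mul, zero_mul, B.zero, mul_one, mul_inv_cancel, eq_comm, B.eq_one_iff] at this
    exact this.1
  · have := h1 (s + t)
    rw [add_mul, add_mul, B.add, show ∀ a b : G, n * (a * b) * n⁻¹ = (n * a * n⁻¹) * (n * b * n⁻¹) by
      intro a b; group, h1, h1, ← B.add, B.eq_iff] at this
    exact this.1.symm

theorem act_of_lin {n : G} (hV : n ∈ Nm(B.V)) (h : Semi c n id) : ∃ a b d e, Act c n a b d e := by
  obtain ⟨a, d, h1⟩ := B.ex_conj hV 1 0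
  obtain ⟨b, e, h2⟩ := B.ex_conj hV 0 1
  refine ⟨a, b, d, e, fun x y => ?_⟩
  have h3 := h x _ _ _ _ h1
  have h4 := h y _ _ _ _ h2
  simp only [id, mul_one, mul_zero] at h3 h4
  rw [show c x y = c x 0 * c 0 y by rw [← B.add]; simp, show ∀ a b : G, n * (a * b) * n⁻¹ =
    (n * a * n⁻¹) * (n * b * n⁻¹) by intro a b; group, h3, h4, ← B.add]
  congr 1 <;> ring

variable [CharP F 2]

theorem sq (x y : F) : c x y * c x y = 1 := by
  rw [← B.add, CharTwo.add_self_eq_zero, CharTwo.add_self_eq_zero, B.zero]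

theorem inv (x y : F) : (c x y)⁻¹ = c x y := inv_eq_of_mul_eq_one_right (B.sq x y)

theorem pV : IsPGroup 2 B.V := isPGroup_iff_mem.2 (by
  rintro _ ⟨x, y, rfl⟩
  exact ⟨1, by rw [pow_one, pow_two, B.sq]⟩)

theorem coc [Finite F] {d : G} (hL : d ∈ Nm(L)) (hV : ∀ x y, d * c x y * d⁻¹ = c x y)
    (hJ : ∀ j ∈ L, ∀ t, Act c j 1 t 0 1 → d * j * d⁻¹ = j) :
    ∃ x, ∀ l ∈ L, c x 0 * d * l = l * (c x 0 * d) := by
  classical
  have := Fintype.ofFinite F
  have h1 : ∀ l, ∃ p r, l ∈ L → c p r = d * l * d⁻¹ * l⁻¹ := by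
    intro l
    by_cases hl : l ∈ L
    · obtain ⟨p, r, h⟩ := B.ker _ (L.mul_mem (conj_mem_of_mem_normalizer hL hl) (L.inv_mem hl))
        (fun x y => by
          obtain ⟨a, b, e, f, -, h⟩ := B.act _ (L.inv_mem hl)
          have h2 : d⁻¹ * c (a * x + b * y) (e * x + f * y) * d =
              c (a * x + b * y) (e * x + f * y) := by
            conv_lhs => rw [← hV (a * x + b * y)]
            simp only [mul_assoc, inv_mul_cancel_left, inv_mul_cancel, mul_one]
          calc _ = d * l * (d⁻¹ * (l⁻¹ * c x y * l⁻¹⁻¹) * d) * l⁻¹ * d⁻¹ := by group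
            _ = d * c x y * d⁻¹ := by rw [h, h2, ← h]; group
            _ = _ := by rw [hV]; simp)
      exact ⟨p, r, fun _ => h⟩
    · exact ⟨0, 0, fun h => absurd h hl⟩
  choose p r hpr using h1
  have h2 : ∀ v : F × F, ∃ l ∈ L, v ≠ 0 → ∃ b e, Act c l v.1 b v.2 e := by
    intro v
    by_cases hv : v = 0
    · exact ⟨1, L.one_mem, fun h => absurd hv h⟩
    · obtain ⟨l, hl, b, e, -, h⟩ := B.trans (x := v.1) (y := v.2) fun h => hv (Prod.ext h.1 h.2)
      exact ⟨l, hl, fun _ => ⟨b, e, h⟩⟩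
  choose lv hlv hlv' using h2
  set S1 := ∑ v : F × F, if v = 0 then 0 else p (lv v) with hS1
  set S2 := ∑ v : F × F, if v = 0 then 0 else r (lv v) with hS2
  have key : ∀ l ∈ L, ∀ a b e f, a * f - b * e = 1 → Act c l a b e f →
      p l = S1 + (a * S1 + b * S2) ∧ r l = S2 + (e * S1 + f * S2) := by
    intro l hl a b e f hd hA
    let φ : F × F → F × F := fun v => (a * v.1 + b * v.2, e * v.1 + f * v.2)
    have hφ : Function.Injective φ := fun v w h => by
      have h1 : a * v.1 + b * v.2 = a * w.1 + b * w.2 := congrArg Prod.fst h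
      have h2 : e * v.1 + f * v.2 = e * w.1 + f * w.2 := congrArg Prod.snd h
      exact Prod.ext (by linear_combination f * h1 - b * h2 - (v.1 - w.1) * hd)
        (by linear_combination a * h2 - e * h1 - (v.2 - w.2) * hd)
    have hφ0 : ∀ v, φ v = 0 ↔ v = 0 := fun v =>
      ⟨fun h => hφ (by rw [h]; simp [φ, Prod.ext_iff]), fun h => by simp [h, φ]⟩
    have h3 : ∀ v, v ≠ 0 → p (lv (φ v)) = p l + (a * p (lv v) + b * r (lv v)) ∧
        r (lv (φ v)) = r l + (e * p (lv v) + f * r (lv v)) := by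
      intro v hv
      obtain ⟨b1, e1, h4⟩ := hlv' v hv
      obtain ⟨b2, e2, h5⟩ := hlv' (φ v) (mt (hφ0 v).1 hv)
      have hj := L.mul_mem (L.inv_mem (hlv (φ v))) (L.mul_mem hl (hlv v))
      obtain ⟨a', b', -, h6, h7⟩ := B.fix_one hj one_ne_zero (t' := 1) (by
        have h8 : lv (φ v) * c 1 0 * (lv (φ v))⁻¹ = l * (lv v * c 1 0 * (lv v)⁻¹) * l⁻¹ := by
          rw [h4, h5, hA]; simp [φ]
        calc _ = (lv (φ v))⁻¹ * (l * (lv v * c 1 0 * (lv v)⁻¹) * l⁻¹) * lv (φ v) := by group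
          _ = _ := by rw [← h8]; group)
      obtain rfl : a' = 1 := by simpa using h6.symm
      have h9 := hJ _ hj b' (by simpa using h7)
      rw [← B.eq_iff, B.add, ← hA, hpr _ hl, hpr _ (hlv _), hpr _ (hlv _)]
      calc _ = d * lv (φ v) * d⁻¹ * (d * ((lv (φ v))⁻¹ * (l * lv v)) * d⁻¹) *
          ((lv (φ v))⁻¹ * (l * lv v))⁻¹ * (lv (φ v))⁻¹ := by rw [h9]; group
        _ = _ := by group
    have hc : ∀ z : F, ∑ v : F × F, (if v = 0 then 0 else z) = z := fun z => by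
      have : ∀ v : F × F, (if v = 0 then 0 else z) = z + if v = 0 then z else 0 := fun v => by
        split_ifs
        · exact (CharTwo.add_self_eq_zero z).symm
        · simp
      simp only [this, Finset.sum_add_distrib, Finset.sum_const, Finset.card_univ,
        Fintype.card_prod, nsmul_eq_mul, Nat.cast_mul, FiniteField.cast_card_eq_zero]
      simp
    let E := Equiv.ofBijective φ (Finite.injective_iff_bijective.1 hφ)
    constructor
    · have e1 := (E.sum_comp fun v => if v = 0 then 0 else p (lv v))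
      have e2 : ∀ v, (if E v = 0 then 0 else p (lv (E v))) = (if v = 0 then 0 else p l) +
          (a * (if v = 0 then 0 else p (lv v)) + b * (if v = 0 then 0 else r (lv v))) := fun v => by
        by_cases hv : v = 0
        · simp [hv, E, (hφ0 0).2 rfl]
        · simp only [E, Equiv.ofBijective_apply, hφ0, hv, if_false]
          exact (h3 v hv).1
      simp only [e2, Finset.sum_add_distrib, ← Finset.mul_sum, hc] at e1
      rw [← hS1, ← hS2] at e1
      linear_combination e1 - CharTwo.add_self_eq_zero (a * S1 + b * S2)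
    · have e1 := (E.sum_comp fun v => if v = 0 then 0 else r (lv v))
      have e2 : ∀ v, (if E v = 0 then 0 else r (lv (E v))) = (if v = 0 then 0 else r l) +
          (e * (if v = 0 then 0 else p (lv v)) + f * (if v = 0 then 0 else r (lv v))) := fun v => by
        by_cases hv : v = 0
        · simp [hv, E, (hφ0 0).2 rfl]
        · simp only [E, Equiv.ofBijective_apply, hφ0, hv, if_false]
          exact (h3 v hv).2
      simp only [e2, Finset.sum_add_distrib, ← Finset.mul_sum, hc] at e1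
      rw [← hS1, ← hS2] at e1
      linear_combination e1 - CharTwo.add_self_eq_zero (e * S1 + f * S2)
  have h0 : S2 = 0 := by
    obtain ⟨u, hu, h⟩ := B.ex 1 1 0 1 (by simp)
    have h4 := hpr u hu
    rw [hJ u hu 1 h, mul_inv_cancel, B.eq_one_iff, (key u hu _ _ _ _ (by simp) h).1] at h4
    linear_combination h4.1 - CharTwo.add_self_eq_zero S1
  refine ⟨S1, fun l hl => ?_⟩
  obtain ⟨a, b, e, f, hd, hA⟩ := B.act l hl
  have h4 := hpr l hl
  rw [(key l hl _ _ _ _ hd hA).1, (key l hl _ _ _ _ hd hA).2, B.add, ← hA, h0] at h4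
  have h5 : d * l = c S1 0 * l * c S1 0 * d := by
    calc _ = d * l * d⁻¹ * l⁻¹ * l * d := by group
      _ = _ := by rw [← h4]; group
  rw [mul_assoc, h5]
  calc _ = (c S1 0 * c S1 0) * l * c S1 0 * d := by group
    _ = _ := by rw [B.sq]; group

end Blk

end CfL.Pl
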