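import Cfsg.Agent.L.BA

/-! Two blocks sharing a Sylow subgroup `J`: coordinates and self-centralizing modules. -/

set_option autoImplicit false

namespace CfL.Pl

open Subgroup CfH9

variable {G : Type*} [Group G] {F : Type*} [Field F]

theorem cmul (n a b : G) : n * (a * b) * n⁻¹ = (n * a * n⁻¹) * (n * b * n⁻¹) := by group

structure Cfg (c1 c2 : F → F → G) (L1 L2 : Subgroup G) : Prop where
  b1 : Blk c1 L1
  b2 : Blk c2 L2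
  hz : ∀ x, c2 x 0 = c1 x 0
  m21 : ∀ x y, c2 x y ∈ L1
  m12 : ∀ x y, c1 x y ∈ L2
  a21 : ∀ y, Act c1 (c2 0 y) 1 y 0 1
  a12 : ∀ w, Act c2 (c1 0 w) 1 w 0 1

def InJ (c1 c2 : F → F → G) (g : G) (w y : F) : Prop := ∃ x, g = c1 x w * c2 0 y

namespace Cfg

variable {c1 c2 : F → F → G} {L1 L2 : Subgroup G} (C : Cfg c1 c2 L1 L2)
include C

theorem swap : Cfg c2 c1 L2 L1 :=
  ⟨C.b2, C.b1, fun x => (C.hz x).symm, C.m12, C.m21, C.a12, C.a21⟩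

abbrev V1 : Subgroup G := C.b1.V
abbrev V2 : Subgroup G := C.b2.V
def J : Subgroup G := C.V1 ⊔ C.V2
def Z : Subgroup G := C.V1 ⊓ C.V2

theorem swap_J : C.swap.J = C.J := sup_comm _ _
theorem swap_Z : C.swap.Z = C.Z := inf_comm _ _
theorem V1_le : C.V1 ≤ C.J := le_sup_left
theorem V2_le : C.V2 ≤ C.J := le_sup_right

theorem c2_eq (x y : F) : c2 x y = c1 x 0 * c2 0 y := by rw [← C.hz, ← C.b2.add]; simp

theorem c1_eq (x y : F) : c1 x y = c1 x 0 * c1 0 y := by rw [← C.b1.add]; simp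

theorem act21 (x y : F) : Act c1 (c2 x y) 1 y 0 1 := fun u v => by
  rw [C.c2_eq, show ∀ a b z : G, a * b * z * (a * b)⁻¹ = a * (b * z * b⁻¹) * a⁻¹ by intros; group,
    C.a21, C.b1.comm, mul_inv_cancel_right]

theorem conj21 (x y u v : F) : c2 x y * c1 u v * (c2 x y)⁻¹ = c1 (u + y * v) v := by
  rw [C.act21]; simp

theorem conj12 (x y u v : F) : c1 x y * c2 u v * (c1 x y)⁻¹ = c2 (u + y * v) v :=
  C.swap.conj21 x y u v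

theorem mul21 (x y u v : F) : c2 x y * c1 u v = c1 (u + y * v) v * c2 x y := by
  rw [← C.conj21 x]; group

theorem inJ1 (x w : F) : InJ c1 c2 (c1 x w) w 0 := ⟨x, by rw [C.b2.zero, mul_one]⟩

theorem inJ2 (x y : F) : InJ c1 c2 (c2 x y) 0 y := ⟨x, C.c2_eq x y⟩

theorem inJ_mul {g g' : G} {w y w' y' : F} (h : InJ c1 c2 g w y) (h' : InJ c1 c2 g' w' y') :
    InJ c1 c2 (g * g') (w + w') (y + y') := by
  obtain ⟨x, rfl⟩ := h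
  obtain ⟨x', rfl⟩ := h'
  refine ⟨x + (x' + y * w'), ?_⟩
  rw [C.b1.add, show c2 0 (y + y') = c2 0 y * c2 0 y' by rw [← C.b2.add]; simp,
    mul_assoc, ← mul_assoc (c2 0 y), C.mul21]
  group

theorem inJ_act1 {g : G} {w y : F} (h : InJ c1 c2 g w y) : Act c1 g 1 y 0 1 := by
  obtain ⟨x, rfl⟩ := h
  intro u v
  rw [show ∀ a b z : G, a * b * z * (a * b)⁻¹ = a * (b * z * b⁻¹) * a⁻¹ by intros; group,
    C.a21, C.b1.comm, mul_inv_cancel_right]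

theorem inJ_swap {g : G} {w y : F} (h : InJ c1 c2 g w y) : InJ c2 c1 g y w := by
  obtain ⟨x, rfl⟩ := h
  refine ⟨x + w * y, ?_⟩
  rw [C.c1_eq x w, mul_assoc, C.swap.mul21, ← mul_assoc, ← C.hz, ← C.b2.add]
  simp

theorem inJ_act2 {g : G} {w y : F} (h : InJ c1 c2 g w y) : Act c2 g 1 w 0 1 :=
  C.swap.inJ_act1 (C.inJ_swap h)

theorem inJ_conj1 {g : G} {w y : F} (h : InJ c1 c2 g w y) (u v : F) :
    g * c1 u v * g⁻¹ = c1 (u + y * v) v := by rw [C.inJ_act1 h]; simp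

theorem inJ_conj2 {g : G} {w y : F} (h : InJ c1 c2 g w y) (u v : F) :
    g * c2 u v * g⁻¹ = c2 (u + w * v) v := by rw [C.inJ_act2 h]; simp

theorem inJ_uniq {g : G} {w y w' y' : F} (h : InJ c1 c2 g w y) (h' : InJ c1 c2 g w' y') :
    w = w' ∧ y = y' := by
  have h1 := C.inJ_conj1 h 0 1
  have h2 := C.inJ_conj2 h 0 1
  rw [C.inJ_conj1 h', C.b1.eq_iff] at h1
  rw [C.inJ_conj2 h', C.b2.eq_iff] at h2
  exact ⟨by simpa using h2.1.symm, by simpa using h1.1.symm⟩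

theorem inJ_V1 {g : G} {w : F} (h : InJ c1 c2 g w 0) : ∃ x, g = c1 x w := by
  obtain ⟨x, rfl⟩ := h
  exact ⟨x, by rw [C.b2.zero, mul_one]⟩

theorem inJ_V2 {g : G} {y : F} (h : InJ c1 c2 g 0 y) : ∃ x, g = c2 x y :=
  C.swap.inJ_V1 (C.inJ_swap h)

theorem inJ_mem {g : G} {w y : F} (h : InJ c1 c2 g w y) : g ∈ C.J := by
  obtain ⟨x, rfl⟩ := h
  exact mul_mem (C.V1_le (C.b1.cV _ _)) (C.V2_le (C.b2.cV _ _))

theorem V2_le_L1 : C.V2 ≤ L1 := by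
  rintro _ ⟨x, y, rfl⟩
  exact C.m21 x y

theorem J_le1 : C.J ≤ L1 := sup_le C.b1.V_le C.V2_le_L1

theorem J_le2 : C.J ≤ L2 := C.swap_J ▸ C.swap.J_le1

theorem mem_Z {g : G} : g ∈ C.Z ↔ ∃ x, c1 x 0 = g := by
  constructor
  · rintro ⟨⟨x, w, rfl⟩, u, v, h⟩
    obtain ⟨rfl, -⟩ := C.inJ_uniq (C.inJ1 x w) (h ▸ C.inJ2 u v)
    exact ⟨x, rfl⟩
  · rintro ⟨x, rfl⟩
    exact ⟨C.b1.cV _ _, C.hz x ▸ C.b2.cV _ _⟩

theorem cZ (x : F) : c1 x 0 ∈ C.Z := C.mem_Z.2 ⟨x, rfl⟩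

theorem c1_mem2 {x w : F} (h : c1 x w ∈ C.V2) : w = 0 := by
  obtain ⟨u, h⟩ := C.mem_Z.1 ⟨C.b1.cV x w, h⟩
  exact (C.b1.eq_iff.1 h).2.symm

theorem c2_mem1 {x w : F} (h : c2 x w ∈ C.V1) : w = 0 := C.swap.c1_mem2 h

theorem V1_ne : C.V1 ≠ C.V2 := fun h => one_ne_zero (C.c1_mem2 (h.le (C.b1.cV 0 1)))

theorem card_Z : Nat.card C.Z = Nat.card F :=
  (Nat.card_congr (Equiv.ofBijective (fun x : F => (⟨c1 x 0, C.cZ x⟩ : C.Z))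
    ⟨fun _ _ h => (C.b1.eq_iff.1 (congrArg Subtype.val h)).1, fun ⟨_, h⟩ => by
      obtain ⟨x, rfl⟩ := C.mem_Z.1 h
      exact ⟨x, rfl⟩⟩)).symm

variable [Finite G]

theorem mem_J {g : G} : g ∈ C.J ↔ ∃ w y, InJ c1 c2 g w y := by
  refine ⟨fun h => ?_, fun ⟨_, _, h⟩ => C.inJ_mem h⟩
  obtain ⟨_, ⟨x, w, rfl⟩, _, ⟨u, y, rfl⟩, rfl⟩ :=
    (mem_sup_of_le_Nm' (C.V2_le_L1.trans C.b1.L_le)).1 h
  exact ⟨_, _, C.inJ_mul (C.inJ1 x w) (C.inJ2 u y)⟩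

theorem J_N1 : C.J ≤ Nm(C.V1) := C.J_le1.trans C.b1.L_le

theorem J_N2 : C.J ≤ Nm(C.V2) := C.J_le2.trans C.b2.L_le

theorem J_cZ {g : G} (h : g ∈ C.J) (x : F) : g * c1 x 0 * g⁻¹ = c1 x 0 := by
  obtain ⟨w, y, h⟩ := C.mem_J.1 h
  simpa using C.inJ_conj1 h x 0

theorem mem_J_of_act {l : G} (hl : l ∈ L1) {t : F} (h : Act c1 l 1 t 0 1) : l ∈ C.J := by
  obtain ⟨x, y, h1⟩ := C.b1.ker (l * c2 0 (-t)) (mul_mem hl (C.m21 _ _)) (by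
    simpa using h.mul (C.a21 (-t)))
  rw [show l = c1 x y * (c2 0 (-t))⁻¹ by rw [h1]; group]
  exact mul_mem (C.V1_le (C.b1.cV _ _)) (inv_mem (C.V2_le (C.b2.cV _ _)))

theorem N0_le {n : G} (h1 : n ∈ Nm(C.V1)) (h2 : n ∈ Nm(C.V2)) : n ∈ Nm(C.J) := mem_Nm_sup h1 h2

theorem conjZ {n : G} (h1 : n ∈ Nm(C.Z)) (x : F) : ∃ x', n * c1 x 0 * n⁻¹ = c1 x' 0 := by
  obtain ⟨x', h⟩ := C.mem_Z.1 (conj_mem_of_mem_normalizer h1 (C.cZ x))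
  exact ⟨x', h.symm⟩

variable [CharP F 2]

omit [Finite G] in
theorem inJ_sq {g : G} {w y : F} (h : InJ c1 c2 g w y) : g * g = c1 (w * y) 0 := by
  obtain ⟨x, rfl⟩ := h
  rw [mul_assoc, ← mul_assoc (c2 0 y), C.mul21, mul_assoc, C.b2.sq, mul_one, ← C.b1.add]
  congr 1
  · linear_combination CharTwo.add_self_eq_zero x
  · exact CharTwo.add_self_eq_zero w

omit [Finite G] in
theorem inJ_inv {g : G} {w y : F} (h : InJ c1 c2 g w y) : InJ c1 c2 g⁻¹ w y := by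
  have h1 := C.inJ_mul (C.inJ1 (w * y) 0) h
  have h2 : g⁻¹ = c1 (w * y) 0 * g := by
    rw [eq_comm, ← mul_eq_one_iff_eq_inv, mul_assoc, C.inJ_sq h, C.b1.sq]
  simpa [h2] using h1

theorem pJ : IsPGroup 2 C.J := isPGroup_sup C.b1.pV C.b2.pV (C.V1_le.trans C.J_N2)

theorem J_four {g : G} (h : g ∈ C.J) : g ^ 4 = 1 := by
  obtain ⟨w, y, h⟩ := C.mem_J.1 h
  rw [show g ^ 4 = (g * g) * (g * g) by simp [pow_succ, mul_assoc], C.inJ_sq h, C.b1.sq]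

theorem inv_mem_or {g : G} (h : g ∈ C.J) (h2 : g * g = 1) : g ∈ C.V1 ∨ g ∈ C.V2 := by
  obtain ⟨w, y, h⟩ := C.mem_J.1 h
  rw [C.inJ_sq h, C.b1.eq_one_iff, mul_eq_zero] at h2
  rcases h2.1 with rfl | rfl
  · obtain ⟨x, rfl⟩ := C.inJ_V2 h
    exact Or.inr (C.b2.cV _ _)
  · obtain ⟨x, rfl⟩ := C.inJ_V1 h
    exact Or.inl (C.b1.cV _ _)

theorem el_le {A : Subgroup G} (h : A ≤ C.J) (h2 : ∀ a ∈ A, a * a = 1) :
    A ≤ C.V1 ∨ A ≤ C.V2 := by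
  by_contra hn
  rw [not_or, SetLike.not_le_iff_exists, SetLike.not_le_iff_exists] at hn
  obtain ⟨⟨a, ha, ha'⟩, b, hb, hb'⟩ := hn
  obtain ⟨x, y, rfl⟩ := (C.inv_mem_or (h ha) (h2 a ha)).resolve_left ha'
  obtain ⟨u, w, rfl⟩ := (C.inv_mem_or (h hb) (h2 _ hb)).resolve_right hb'
  have := h2 _ (mul_mem hb ha)
  rw [C.inJ_sq (C.inJ_mul (C.inJ1 u w) (C.inJ2 x y)), C.b1.eq_one_iff] at this
  rcases (by simpa using this.1 : w = 0 ∨ y = 0) with rfl | rfl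
  · exact hb' (C.cZ u).2
  · exact ha' (C.hz x ▸ C.b1.cV _ _)

theorem el_eq {A : Subgroup G} (h : A ≤ C.J) (h2 : ∀ a ∈ A, a * a = 1)
    (hc : Nat.card A = Nat.card F ^ 2) : A = C.V1 ∨ A = C.V2 :=
  (C.el_le h h2).imp (fun h => eq_of_le_of_card_ge h (by rw [hc, C.b1.card_V]))
    fun h => eq_of_le_of_card_ge h (by rw [hc, C.b2.card_V])

omit [Finite G] in
theorem cj1_sq (g : G) : ∀ a ∈ cj g C.V1, a * a = 1 := by
  rintro _ ⟨_, ⟨x, y, rfl⟩, rfl⟩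
  change g * c1 x y * g⁻¹ * (g * c1 x y * g⁻¹) = 1
  rw [← cmul, C.b1.sq]; simp

theorem cj1_eq {g : G} (h : cj g C.V1 ≤ C.J) : cj g C.V1 = C.V1 ∨ cj g C.V1 = C.V2 :=
  C.el_eq h (C.cj1_sq g) (by rw [card_cj, C.b1.card_V])

theorem cj2_eq {g : G} (h : cj g C.V2 ≤ C.J) : cj g C.V2 = C.V1 ∨ cj g C.V2 = C.V2 :=
  (C.swap.cj1_eq (C.swap_J ▸ h)).symm

theorem NJ_cases {n : G} (h : n ∈ Nm(C.J)) :
    (n ∈ Nm(C.V1) ∧ n ∈ Nm(C.V2)) ∨ (cj n C.V1 = C.V2 ∧ cj n C.V2 = C.V1) := by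
  have e := cj_eq_of_mem_normalizer h
  have hne : cj n C.V1 ≠ cj n C.V2 := fun h => C.V1_ne (cj_inj.1 h)
  simp only [mem_normalizer_iff_cj]
  rcases C.cj1_eq (e ▸ cj_mono n C.V1_le) with h1 | h1 <;>
    rcases C.cj2_eq (e ▸ cj_mono n C.V2_le) with h2 | h2
  · exact absurd (h1.trans h2.symm) hne
  · exact Or.inl ⟨h1, h2⟩
  · exact Or.inr ⟨h1, h2⟩
  · exact absurd (h1.trans h2.symm) hne

theorem N2_of {n : G} (h : n ∈ Nm(C.J)) (h1 : n ∈ Nm(C.V1)) : n ∈ Nm(C.V2) :=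
  (C.NJ_cases h).elim And.right fun e => absurd ((cj_eq_of_mem_normalizer h1).symm.trans e.1) C.V1_ne

theorem NJ_le_NZ : Nm(C.J) ≤ Nm(C.Z) := fun n h => by
  rcases C.NJ_cases h with h | h
  · exact mem_Nm_inf h.1 h.2
  · rw [mem_normalizer_iff_cj, Z, cj_inf, h.1, h.2, inf_comm]

/-- an element of `N(V₁) ∩ N(L₁)` keeping one involution of `Z` in `Z` normalizes `J` -/
theorem NJ_of {n : G} (hL : n ∈ Nm(L1)) {t t' : F} (ht' : t' ≠ 0)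
    (h : n * c1 t 0 * n⁻¹ = c1 t' 0) : n ∈ Nm(C.J) := mem_normalizer_of_conj_mem fun j hj => by
  have hl := conj_mem_of_mem_normalizer hL (C.J_le1 hj)
  obtain ⟨a, b, -, h1, h2⟩ := C.b1.fix_one hl ht' (t' := t') (by
    rw [← h]
    calc _ = n * (j * c1 t 0 * j⁻¹) * n⁻¹ := by group
      _ = _ := by rw [C.J_cZ hj])
  obtain rfl : a = 1 := by
    have : (a - 1) * t' = 0 := by linear_combination -h1
    exact sub_eq_zero.1 ((mul_eq_zero.1 this).resolve_right ht')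
  exact C.mem_J_of_act hl (by simpa using h2)

/-- torus elements of `L₁` -/
theorem torus1 {a : F} (ha : a ≠ 0) : ∃ h ∈ L1, Act c1 h a 0 0 a⁻¹ ∧ h ∈ Nm(C.V1) ∧ h ∈ Nm(C.V2) := by
  obtain ⟨h, hl, h1⟩ := C.b1.ex a 0 0 a⁻¹ (by simp [ha])
  exact ⟨h, hl, h1, C.b1.L_le hl, C.N2_of (C.NJ_of (le_normalizer hl) (t := 1) ha
    (by rw [h1]; simp)) (C.b1.L_le hl)⟩

theorem coc1 {d : G} (hL : d ∈ Nm(L1)) (h1 : d ∈ Cz(C.V1)) (h2 : d ∈ Cz(C.V2)) [Finite F] :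
    ∃ x, c1 x 0 * d ∈ Cz(L1) := by
  obtain ⟨x, hx⟩ := C.b1.coc hL (fun x y => conj_eq_of_mem_centralizer h1 (C.b1.cV _ _))
    fun j hj t ht => by
      have : d ∈ Cz(C.J) := by rw [J, Cz_sup]; exact ⟨h1, h2⟩
      exact conj_eq_of_mem_centralizer this (C.mem_J_of_act hj ht)
  exact ⟨x, fun l hl => (hx l hl).symm⟩

theorem eq_zero_of_Cz {x : F} (h : c1 x 0 ∈ Cz(L1)) : x = 0 := by
  obtain ⟨l, hl, h1⟩ := C.b1.ex 0 1 (-1) 0 (by simp)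
  have h2 := h1 x 0
  rw [h l hl, mul_inv_cancel_right, C.b1.eq_iff] at h2
  simpa using h2.1

theorem CL_le [Finite F] (hM2 : Nm(C.V2) ≤ Nm(L2)) {a : F} (ha : a ≠ 0) (ha1 : a ≠ 1) :
    Cz(L1) ≤ Cz(L2) := fun d hd => by
  have h1 : d ∈ Cz(C.V1) := Cz_anti C.b1.V_le hd
  have h2 : d ∈ Cz(C.V2) := Cz_anti C.V2_le_L1 hd
  obtain ⟨x, hx⟩ := C.swap.coc1 (hM2 (Cz_le_Nm _ h2)) h2 h1
  obtain ⟨h, hl, h3, -, h4⟩ := C.torus1 ha
  have h5 := conj_mem_of_mem_normalizer (mem_Nm_Cz (hM2 h4)) hx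
  rw [cmul, C.hz, h3, hd h hl, mul_inv_cancel_right] at h5
  have h6 := mul_mem h5 (inv_mem hx)
  rw [C.hz, mul_inv_rev, mul_assoc, mul_inv_cancel_left, C.b1.inv, ← C.b1.add] at h6
  simp only [mul_zero, add_zero, zero_mul, ← C.hz] at h6
  have h7 := C.swap.eq_zero_of_Cz h6
  obtain rfl : x = 0 := by
    have : (a - 1) * x = 0 := by linear_combination h7 - CharTwo.add_self_eq_zero x
    exact (mul_eq_zero.1 this).resolve_left (sub_ne_zero.2 ha1)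
  simpa [C.b2.zero] using hx

theorem CV_le [Finite F] (hM1 : Nm(C.V1) ≤ Nm(L1)) (hM2 : Nm(C.V2) ≤ Nm(L2))
    (hD : Cz(L2) = ⊥) : Cz(C.V1) ≤ C.V1 := fun d hd => by
  have hd1 := hM1 (Cz_le_Nm _ hd)
  have hz : ∀ x, d * c2 x 0 * d⁻¹ = c2 x 0 := fun x => by
    rw [C.hz]; exact conj_eq_of_mem_centralizer hd (C.b1.cV _ _)
  have hJ := C.NJ_of hd1 (t := 1) one_ne_zero (conj_eq_of_mem_centralizer hd (C.b1.cV _ _))
  have hd2 := C.N2_of hJ (Cz_le_Nm _ hd)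
  obtain ⟨σ, hσ⟩ := C.b2.semi hd2 (hM2 hd2)
  obtain ⟨a, b, e, f, h1⟩ := C.b2.act_of_lin hd2 (fun t => by
    have h := hσ t _ _ _ _ (hz 1)
    simp only [mul_one, mul_zero, hz, C.b2.eq_iff] at h
    have h' := hσ t
    rwa [← h.1] at h')
  have h2 := h1 1 0
  rw [hz, C.b2.eq_iff] at h2
  obtain rfl : a = 1 := by simpa using h2.1.symm
  obtain rfl : e = 0 := by simpa using h2.2.symm
  obtain rfl : f = 1 := by
    have h3 := C.conj21 (1 * 0 + b * 1) (0 * 0 + f * 1) 0 1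
    rw [← h1, ← conj_eq_of_mem_centralizer hd (C.b1.cV 0 1), show ∀ u v : G, d * u * d⁻¹ *
      (d * v * d⁻¹) * (d * u * d⁻¹)⁻¹ = d * (u * v * u⁻¹) * d⁻¹ by intros; group, C.conj21,
      conj_eq_of_mem_centralizer hd (C.b1.cV _ _), C.b1.eq_iff] at h3
    simpa using h3.1.symm
  have h4 : d * c1 0 b ∈ Cz(C.V2) := mem_centralizer_of_conj_eq (by
    rintro _ ⟨x, y, rfl⟩
    rw [h1.mul (C.a12 b)]
    congr 1
    · linear_combination y * CharTwo.add_self_eq_zero b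
    · simp)
  obtain ⟨x, hx⟩ := C.swap.coc1 (mul_mem (hM2 hd2) (le_normalizer (C.m12 0 b))) h4
    (mul_mem hd (mem_centralizer_of_conj_eq (by
      rintro _ ⟨x, y, rfl⟩
      rw [C.b1.comm, mul_inv_cancel_right])))
  rw [hD, mem_bot, C.hz] at hx
  rw [show d = (c1 x 0)⁻¹ * (c1 x 0 * (d * c1 0 b)) * (c1 0 b)⁻¹ by group, hx]
  exact mul_mem (mul_mem (inv_mem (C.b1.cV _ _)) (one_mem _)) (inv_mem (C.b1.cV _ _))

end Cfg

end CfL.Pl
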