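import Cfsg.Agent.L.BB
import Cfsg.Agent.OD.Leadx2918e7ea36
import Cfsg.Agent.OD.Leadxf851825fe5

/-! `J` is weakly closed and normal in every 2-subgroup containing it. -/

set_option autoImplicit false

namespace CfL.Pl

open Subgroup CfH9

variable {G : Type*} [Group G] {F : Type*} [Field F]

theorem idx2 [Finite G] {H K : Subgroup G}
    (h : ∀ a ∈ K, ∀ b ∈ K, a ∉ H → b ∉ H → a⁻¹ * b ∈ H) :
    Nat.card K ≤ 2 * Nat.card (K ⊓ H : Subgroup G) := by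
  classical
  by_cases hK : K ≤ H
  · rw [inf_eq_left.2 hK]; omega
  obtain ⟨a, ha, ha'⟩ := SetLike.not_le_iff_exists.1 hK
  have := Nat.card_le_card_of_injective (fun k : K => if hk : (k : G) ∈ H then
    ((⟨k, k.2, hk⟩ : (K ⊓ H : Subgroup G)), false) else
      (⟨a⁻¹ * k, K.mul_mem (K.inv_mem ha) k.2, h a ha k k.2 ha' hk⟩, true)) fun k l e => by
    by_cases hk : (k : G) ∈ H <;> by_cases hl : (l : G) ∈ H <;>
      simp only [hk, hl, dite_true, dite_false, Prod.mk.injEq,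
        reduceCtorEq, and_false, and_true] at e
    · exact Subtype.ext (congrArg Subtype.val e :)
    · exact Subtype.ext (mul_left_cancel (congrArg Subtype.val e :))
  simpa [Nat.card_prod, mul_comm] using this

theorem two_mul_le [Finite G] {H K : Subgroup G} (h : H < K) : 2 * Nat.card H ≤ Nat.card K := by
  have h1 := card_mul_relIndex h.le
  have h2 : H.relIndex K ≠ 1 := fun e => h.not_ge (relIndex_eq_one.1 e)
  have h3 : H.relIndex K ≠ 0 := fun e => by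
    rw [e] at h1
    exact Nat.card_pos.ne' (by simpa using h1.symm)
  rw [← h1, mul_comm]
  exact Nat.mul_le_mul_left _ (by omega)

theorem aut_uniq [Finite F] [CharP F 2] {σ τ : F →+* F} (hσ : ∀ x, σ (σ x) = x)
    (hτ : ∀ x, τ (τ x) = x) (h1 : ∃ x, σ x ≠ x) (h2 : ∃ x, τ x ≠ x) (x : F) : σ x = τ x := by
  classical
  letI := ZMod.algebra F 2
  have mk : ∀ ρ : F →+* F, (∀ x, ρ (ρ x) = x) → ∃ e : F ≃ₐ[ZMod 2] F, ∀ x, e x = ρ x := fun ρ h =>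
    ⟨AlgEquiv.ofBijective ⟨ρ, fun r => RingHom.congr_fun
      (RingHom.ext_zmod (ρ.comp (algebraMap (ZMod 2) F)) (algebraMap _ _)) r⟩
      (Function.Involutive.bijective h), fun _ => rfl⟩
  obtain ⟨e, he⟩ := mk σ hσ
  obtain ⟨e', he'⟩ := mk τ hτ
  have := Fintype.ofFinite (F ≃ₐ[ZMod 2] F)
  have h3 := IsCyclic.card_pow_eq_one_le (α := F ≃ₐ[ZMod 2] F) (n := 2) two_pos
  by_contra hn
  have h4 : ({1, e, e'} : Finset (F ≃ₐ[ZMod 2] F)).card = 3 := by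
    rw [Finset.card_eq_three]
    refine ⟨1, e, e', ?_, ?_, ?_, rfl⟩
    · rintro rfl
      obtain ⟨y, hy⟩ := h1
      exact hy (he y).symm
    · rintro rfl
      obtain ⟨y, hy⟩ := h2
      exact hy (he' y).symm
    · rintro rfl
      exact hn ((he x).symm.trans (he' x))
  have h5 := Finset.card_le_card (s := {1, e, e'})
    (t := Finset.univ.filter fun a : F ≃ₐ[ZMod 2] F => a ^ 2 = 1) (by
      intro a ha
      simp only [Finset.mem_insert, Finset.mem_singleton] at ha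
      simp only [Finset.mem_filter, Finset.mem_univ, true_and]
      rcases ha with rfl | rfl | rfl
      · simp
      · ext y; simp [pow_two, he, hσ]
      · ext y; simp [pow_two, he', hτ])
  omega

theorem Act.pow {c : F → F → G} {g : G} {a b e : F} (h : Act c g a b 0 e) (n : ℕ) :
    ∃ b', Act c (g ^ n) (a ^ n) b' 0 (e ^ n) := by
  induction n with
  | zero => exact ⟨0, fun x y => by simp⟩
  | succ n ih =>
    obtain ⟨b', h'⟩ := ih
    exact ⟨_, by simpa [pow_succ] using h'.mul h⟩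

theorem eq_one_of_pow [CharP F 2] {a : F} {k : ℕ} (h : a ^ 2 ^ k = 1) : a = 1 := by
  have := sub_pow_char_pow (p := 2) a 1 (n := k)
  rw [h, one_pow, sub_self] at this
  exact sub_eq_zero.1 (pow_eq_zero_iff (by positivity) |>.1 this)

theorem Blk.semi_uniq {c : F → F → G} {L : Subgroup G} (B : Blk c L) {n : G} (hn : n ∈ Nm(B.V))
    {σ τ : F → F} (h : Semi c n σ) (h' : Semi c n τ) (t : F) : σ t = τ t := by
  obtain ⟨x, y, h1⟩ := B.ex_conj hn 1 0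
  have h2 := h t _ _ _ _ h1
  rw [h' t _ _ _ _ h1, B.eq_iff] at h2
  by_contra hne
  have hx : x = 0 := by grind
  have hy : y = 0 := by grind
  rw [hx, hy, B.zero, conj_eq_one_iff, B.eq_one_iff] at h1
  exact one_ne_zero h1.1

theorem Blk.fix_small [Finite G] {c : F → F → G} {L : Subgroup G} (B : Blk c L) {n : G}
    {σ : F → F} (h : Semi c n σ) {μ : F} (hμ : σ μ ≠ μ) {D : Subgroup G} (hD : D ≤ B.V)
    (hn : ∀ d ∈ D, n * d * n⁻¹ = d) [Finite F] : Nat.card D ≤ Nat.card F := by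
  choose p r hpr using fun d : D => hD d.2
  have := Nat.card_le_card_of_injective (fun d : D × D =>
    (p d.1 + μ * p d.2, r d.1 + μ * r d.2)) fun d e he => by
    simp only [Prod.mk.injEq] at he
    have h1 : ∀ u v : D, c (p u - p v) (r u - r v) ∈ D := fun u v => by
      rw [sub_eq_add_neg, sub_eq_add_neg, B.add, B.neg, hpr, hpr]; exact (u * v⁻¹).2
    have h2 := h μ _ _ _ _ (hn _ (h1 e.2 d.2))
    have e1 : μ * (p e.2 - p d.2) = p d.1 - p e.1 := by linear_combination -he.1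
    have e2 : μ * (r e.2 - r d.2) = r d.1 - r e.1 := by linear_combination -he.2
    rw [e1, e2, hn _ (h1 d.1 e.1), B.eq_iff] at h2
    have h3 : p e.2 = p d.2 := by grind
    have h4 : r e.2 = r d.2 := by grind
    refine Prod.ext (Subtype.ext ?_) (Subtype.ext ?_)
    · rw [← hpr, ← hpr, B.eq_iff]; grind
    · rw [← hpr, ← hpr, h3, h4]
  simp only [Nat.card_prod] at this
  exact Nat.mul_self_le_mul_self_iff.1 this

structure Cf2 (c1 c2 : F → F → G) (L1 L2 : Subgroup G) : Prop extends Cfg c1 c2 L1 L2 where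
  M1 : Nm(toCfg.V1) ≤ Nm(L1)
  M2 : Nm(toCfg.V2) ≤ Nm(L2)
  C1 : Cz(toCfg.V1) ≤ toCfg.V1
  C2 : Cz(toCfg.V2) ≤ toCfg.V2

namespace Cf2

variable {c1 c2 : F → F → G} {L1 L2 : Subgroup G} (C : Cf2 c1 c2 L1 L2)
include C

theorem swap : Cf2 c2 c1 L2 L1 := ⟨C.toCfg.swap, C.M2, C.M1, C.C2, C.C1⟩

variable [Finite G]

theorem semi1 {n : G} (h : n ∈ Nm(C.V1)) : ∃ σ : F →+* F, Semi c1 n σ := C.b1.semi h (C.M1 h)

theorem conjZ' {n : G} (h1 : n ∈ Nm(C.V1)) (h2 : n ∈ Nm(C.V2)) :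
    ∃ r, r ≠ 0 ∧ n * c1 1 0 * n⁻¹ = c1 r 0 := by
  obtain ⟨r, h⟩ := C.conjZ (mem_Nm_inf h1 h2) 1
  refine ⟨r, ?_, h⟩
  rintro rfl
  rw [C.b1.zero, conj_eq_one_iff, C.b1.eq_one_iff] at h
  exact one_ne_zero h.1

theorem semi12 {n : G} (h1 : n ∈ Nm(C.V1)) (h2 : n ∈ Nm(C.V2)) {σ : F → F} (h : Semi c1 n σ) :
    Semi c2 n σ := by
  obtain ⟨τ, hτ⟩ := C.swap.semi1 h2
  obtain ⟨r, hr, h3⟩ := C.conjZ' h1 h2
  have : σ = τ := funext fun t => by
    have h4 := h t _ _ _ _ h3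
    have h5 := hτ t 1 0 r 0 (by rw [C.hz, C.hz, h3])
    simp only [mul_zero, mul_one, C.hz, h4, C.b1.eq_iff] at h4 h5
    rw [h4, C.b1.eq_iff] at h5
    exact mul_right_cancel₀ hr h5.1
  exact this ▸ hτ

theorem lin_of_cZ {n : G} (h1 : n ∈ Nm(C.V1)) (h : ∀ x, n * c1 x 0 * n⁻¹ = c1 x 0) :
    Semi c1 n id := by
  obtain ⟨σ, hσ⟩ := C.semi1 h1
  intro t
  have h2 := hσ t _ _ _ _ (h 1)
  simp only [mul_one, mul_zero, h, C.b1.eq_iff] at h2
  have h' := hσ t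
  rwa [← h2.1] at h'

variable [CharP F 2]

theorem mem_J_of_lin {n : G} (h1 : n ∈ Nm(C.V1)) (h2 : n ∈ Nm(C.V2)) (h : Semi c1 n id) {k : ℕ}
    (hk : n ^ 2 ^ k = 1) : n ∈ C.J := by
  obtain ⟨a, b, d, e, h3⟩ := C.b1.act_of_lin h1 h
  obtain ⟨r, -, h4⟩ := C.conjZ' h1 h2
  rw [h3, C.b1.eq_iff] at h4
  obtain rfl : d = 0 := by simpa using h4.2
  obtain ⟨b', h5⟩ := h3.pow (2 ^ k)
  have h6 := h5 1 0
  have h7 := h5 0 1
  simp only [hk, one_mul, inv_one, mul_one, C.b1.eq_iff, mul_zero, add_zero, zero_add] at h6 h7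
  obtain rfl := eq_one_of_pow h6.1.symm
  obtain rfl := eq_one_of_pow h7.2.symm
  have h8 : n * c2 0 b ∈ C.V1 := C.C1 (mem_centralizer_of_conj_eq (by
    rintro _ ⟨x, y, rfl⟩
    rw [h3.mul (C.a21 b)]
    congr 1
    · grind
    · simp))
  rw [show n = n * c2 0 b * (c2 0 b)⁻¹ by group]
  exact mul_mem (C.V1_le h8) (inv_mem (C.V2_le (C.b2.cV _ _)))

theorem nonlin {n : G} (h1 : n ∈ Nm(C.V1)) (h2 : n ∈ Nm(C.V2)) (hJ : n ∉ C.J) {k : ℕ}
    (hk : n ^ 2 ^ k = 1) {σ : F → F} (h : Semi c1 n σ) : ∃ μ, σ μ ≠ μ := by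
  by_contra hn
  push Not at hn
  exact hJ (C.mem_J_of_lin h1 h2 ((funext hn : σ = id) ▸ h) hk)

theorem semi_sq {n : G} (h1 : n ∈ Nm(C.V1)) (hJ : n * n ∈ C.J) {σ : F → F} (h : Semi c1 n σ)
    (t : F) : σ (σ t) = t :=
  C.b1.semi_uniq (mul_mem h1 h1) (h.mul h (C.b1.ex_conj h1)) (C.b1.lin (C.J_le1 hJ)) t

theorem swap_mul {a b : G} (ha : a ∈ Nm(C.J)) (hb : b ∈ Nm(C.J)) (ha' : a ∉ Nm(C.V1))
    (hb' : b ∉ Nm(C.V1)) : a⁻¹ * b ∈ Nm(C.V1) := by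
  have h1 := ((C.NJ_cases ha).resolve_left fun h => ha' h.1).1
  have h2 := ((C.NJ_cases hb).resolve_left fun h => hb' h.1).1
  rw [mem_normalizer_iff_cj, cj_mul, h2, ← h1, cj_inv_cj]

theorem swap_fix {g : G} (hg : g ∈ Nm(C.J)) (hg' : g ∉ Nm(C.V1)) {x : G} (hx : x ∈ C.J)
    (h2 : x * x = 1) (hc : g * x * g⁻¹ = x) : x ∈ C.Z := by
  obtain ⟨h3, h4⟩ := (C.NJ_cases hg).resolve_left fun h => hg' h.1
  rcases C.inv_mem_or hx h2 with h | h
  · exact ⟨h, by rw [← h3, ← hc]; exact conj_mem_cj g h⟩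
  · exact ⟨by rw [← h4, ← hc]; exact conj_mem_cj g h, h⟩

variable [Finite F]

theorem field_mul {a b : G} (ha : a ∈ Nm(C.V1)) (ha' : a ∈ Nm(C.V2)) (hb : b ∈ Nm(C.V1))
    (hb' : b ∈ Nm(C.V2)) (ha2 : a * a ∈ C.J) (hb2 : b * b ∈ C.J) (haJ : a ∉ C.J) (hbJ : b ∉ C.J)
    {k : ℕ} (hk : (a⁻¹ * b) ^ 2 ^ k = 1) : a⁻¹ * b ∈ C.J := by
  have pw : ∀ {a : G}, a * a ∈ C.J → a ^ 2 ^ 3 = 1 := fun {a} h => by
    rw [show a ^ 2 ^ 3 = (a * a) ^ 4 by rw [← sq, ← pow_mul]; rfl, C.J_four h]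
  obtain ⟨σ, hσ⟩ := C.semi1 (inv_mem ha)
  obtain ⟨τ, hτ⟩ := C.semi1 hb
  have ha3 : a⁻¹ * a⁻¹ ∈ C.J := by rw [← mul_inv_rev]; exact inv_mem ha2
  have h1 := C.semi_sq (inv_mem ha) ha3 hσ
  have h2 := aut_uniq h1 (C.semi_sq hb hb2 hτ)
    (C.nonlin (inv_mem ha) (inv_mem ha') (by rwa [inv_mem_iff]) (pw ha3) hσ)
    (C.nonlin hb hb' hbJ (pw hb2) hτ)
  refine C.mem_J_of_lin (mul_mem (inv_mem ha) hb) (mul_mem (inv_mem ha') hb') ?_ hk
  have h3 := hσ.mul hτ (C.b1.ex_conj hb)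
  rwa [show (σ ∘ τ : F → F) = id from funext fun t => by simp [← h2, h1]] at h3

theorem le_J (hq : 4 ≤ Nat.card F) {A : Subgroup G} (hA : A ≤ Nm(C.J)) (h2 : ∀ a ∈ A, a * a = 1)
    (hc : Nat.card A = Nat.card F ^ 2) : A ≤ C.J := by
  by_contra hn
  have cm : ∀ a ∈ A, ∀ b ∈ A, a * b * a⁻¹ = b := fun a ha b hb => by
    rw [inv_eq_of_mul_eq_one_right (h2 a ha), ← mul_inv_cancel_right (a * b * a) b,
      inv_eq_of_mul_eq_one_right (h2 b hb), mul_assoc (a * b), h2 _ (mul_mem ha hb), one_mul]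
  have i1 := idx2 (H := Nm(C.V1)) (K := A) fun a ha b hb => C.swap_mul (hA ha) (hA hb)
  have i2 := idx2 (H := C.J) (K := A ⊓ Nm(C.V1)) fun a ha b hb ha' hb' =>
    C.field_mul ha.2 (C.N2_of (hA ha.1) ha.2) hb.2 (C.N2_of (hA hb.1) hb.2)
      (by rw [h2 a ha.1]; exact one_mem _) (by rw [h2 b hb.1]; exact one_mem _) ha' hb' (k := 1)
      (by rw [pow_one, sq]; exact h2 _ (mul_mem (inv_mem ha.1) hb.1))
  have hq' : 2 * Nat.card F < Nat.card F ^ 2 := by nlinarith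
  by_cases h3 : A ≤ Nm(C.V1)
  · obtain ⟨a, ha, haJ⟩ := SetLike.not_le_iff_exists.1 hn
    obtain ⟨σ, hσ⟩ := C.semi1 (h3 ha)
    obtain ⟨μ, hμ⟩ := C.nonlin (h3 ha) (C.N2_of (hA ha) (h3 ha)) haJ (k := 1)
      (by rw [pow_one, sq]; exact h2 _ ha) hσ
    rw [inf_eq_left.2 h3] at i2
    have : Nat.card (A ⊓ C.J : Subgroup G) ≤ Nat.card F := by
      rcases C.el_le (A := A ⊓ C.J) inf_le_right fun b hb => h2 b hb.1 with h | h
      · exact C.b1.fix_small hσ hμ h fun d hd => cm a ha d hd.1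
      · exact C.b2.fix_small (C.semi12 (h3 ha) (C.N2_of (hA ha) (h3 ha)) hσ) hμ h
          fun d hd => cm a ha d hd.1
    omega
  obtain ⟨g, hg, hg'⟩ := SetLike.not_le_iff_exists.1 h3
  have h4 : A ⊓ Nm(C.V1) ⊓ C.J ≤ C.Z := fun x hx =>
    C.swap_fix (hA hg) hg' hx.2 (h2 x hx.1.1) (cm g hg x hx.1.1)
  by_cases h5 : A ⊓ Nm(C.V1) ≤ C.J
  · rw [inf_eq_left.2 h5] at h4
    have := card_le_of_le h4
    rw [C.card_Z] at this
    omega
  obtain ⟨a, ha, haJ⟩ := SetLike.not_le_iff_exists.1 h5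
  have := two_mul_le (lt_of_le_of_ne h4 fun e => haJ (C.mem_J_of_lin ha.2 (C.N2_of (hA ha.1) ha.2)
    (C.lin_of_cZ ha.2 fun x => cm a ha.1 _ (e.ge (C.cZ x)).1.1) (k := 1)
      (by rw [pow_one, sq]; exact h2 _ ha.1)))
  rw [C.card_Z] at this
  omega

theorem cj1_le (hq : 4 ≤ Nat.card F) {g : G} (h : cj g C.V1 ≤ Nm(C.J)) : cj g C.V1 ≤ C.J :=
  C.le_J hq h (C.cj1_sq g) (by rw [card_cj, C.b1.card_V])

theorem cj2_le (hq : 4 ≤ Nat.card F) {g : G} (h : cj g C.V2 ≤ Nm(C.J)) : cj g C.V2 ≤ C.J :=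
  C.le_J hq h (C.toCfg.swap.cj1_sq g) (by rw [card_cj, C.b2.card_V])

theorem NJ_of_cj (hq : 4 ≤ Nat.card F) {g : G} (h : cj g C.J ≤ Nm(C.J)) : g ∈ Nm(C.J) :=
  mem_normalizer_of_cj_le (by
    rw [Cfg.J, cj_sup] at h ⊢
    exact sup_le (C.cj1_le hq (le_sup_left.trans h)) (C.cj2_le hq (le_sup_right.trans h)))

theorem two_le_NJ (hq : 4 ≤ Nat.card F) {P : Subgroup G} (hP : IsPGroup 2 P) (h : C.J ≤ P) :
    P ≤ Nm(C.J) := by
  by_contra hn
  have h1 := lt_inf_Nm hP (Q := P ⊓ Nm(C.J)) (lt_of_le_of_ne inf_le_left fun e => hn (inf_eq_left.1 e))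
  refine h1.not_ge fun t ht => ⟨ht.1, C.NJ_of_cj hq ?_⟩
  exact ((cj_mono t (le_inf h le_normalizer)).trans (cj_eq_of_mem_normalizer ht.2).le).trans
    inf_le_right

end Cf2

end CfL.Pl
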