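import Cfsg.Agent.L.BC

/-! For `q ≥ 8` the centralizers of the involutions of `Z(J)` normalize `J`. -/

set_option autoImplicit false

namespace CfL.Pl

open Subgroup CfH9 Cfsg

variable {G : Type*} [Group G] {F : Type*} [Field F]

theorem cube_span [CharP F 2] {S : Set F} (ha : ∀ x ∈ S, ∀ y ∈ S, x + y ∈ S)
    (hc : ∀ a, a ≠ 0 → ∀ x ∈ S, a ^ 3 * x ∈ S) {w : F} (hw : w ∈ S) (hw0 : w ≠ 0) {a0 : F}
    (h0 : a0 ≠ 0) (h3 : a0 ^ 3 ≠ 1) (x : F) : x ∈ S := by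
  have t3 : ∀ a, ∀ x ∈ S, a ^ 3 * x ∈ S := fun a x hx => by
    by_cases h : a = 0
    · have := ha w hw w hw
      rw [CharTwo.add_self_eq_zero] at this
      simpa [h] using this
    · exact hc a h x hx
  have t2 : ∀ a, ∀ x ∈ S, (a ^ 2 + a) * x ∈ S := fun a x hx => by
    have := ha _ (ha _ (t3 (a + 1) x hx) _ (t3 a x hx)) _ hx
    rwa [show (a + 1) ^ 3 * x + a ^ 3 * x + x = (a ^ 2 + a) * x by grind] at this
  have hd : (a0 ^ 3) ^ 2 + a0 ^ 3 ≠ 0 := by grind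
  have := ha _ (t2 (a0 ^ 3 * (x / w / ((a0 ^ 3) ^ 2 + a0 ^ 3))) w hw) _
    (t3 a0 _ (t3 a0 _ (t2 (x / w / ((a0 ^ 3) ^ 2 + a0 ^ 3)) w hw)))
  generalize a0 ^ 3 = c at this hd
  have e : ∀ u, (c ^ 2 + c) * u * w = x → ((c * u) ^ 2 + c * u) * w + c * (c * ((u ^ 2 + u) * w)) = x :=
    fun u hu => by grind
  rwa [e _ (by rw [mul_div_cancel₀ _ hd, div_mul_cancel₀ _ hw0])] at this

theorem Nm_zpowers {z : G} (hz : z * z = 1) : Nm(zpowers z) = Cx(z) := by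
  refine le_antisymm (fun n hn => mem_Cx'.2 ?_) (Cz_zpowers z ▸ Cz_le_Nm _)
  obtain ⟨k, hk⟩ := mem_zpowers_iff.1 (conj_mem_of_mem_normalizer hn (mem_zpowers z))
  rcases Int.even_or_odd' k with ⟨j, rfl | rfl⟩
  · rw [zpow_mul, zpow_two, hz, one_zpow, eq_comm, conj_eq_one_iff] at hk
    simp [hk]
  · rw [zpow_add, zpow_mul, zpow_two, hz, one_zpow, one_mul, zpow_one] at hk
    exact hk.symm

def Mv (c1 c2 : F → F → G) (n : G) (s u : F) : Prop :=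
  ∀ g w y, InJ c1 c2 g w y → InJ c1 c2 (n * g * n⁻¹) (s * w) (u * y)

theorem Mv.mul {c1 c2 : F → F → G} {n n' : G} {s u s' u' : F} (h : Mv c1 c2 n s u)
    (h' : Mv c1 c2 n' s' u') : Mv c1 c2 (n * n') (s * s') (u * u') := fun g w y hg => by
  have := h _ _ _ (h' _ _ _ hg)
  rwa [show n * (n' * g * n'⁻¹) * n⁻¹ = n * n' * g * (n * n')⁻¹ by group, ← mul_assoc,
    ← mul_assoc] at this

def Ch2 (G : Type*) [Group G] : Prop := ∀ T : Subgroup G, IsPGroup 2 T → T ≠ ⊥ →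
  Nm(T) ⊓ Cz(pCoreOf 2 Nm(T)) ≤ pCoreOf 2 Nm(T)

namespace Cfg

variable {c1 c2 : F → F → G} {L1 L2 : Subgroup G} (C : Cfg c1 c2 L1 L2)
include C

theorem mv_swap {n : G} {s u : F} (h : Mv c2 c1 n u s) : Mv c1 c2 n s u := fun _ _ _ hg =>
  C.swap.inJ_swap (h _ _ _ (C.inJ_swap hg))

theorem mv_of_act {h : G} {a : F} (ha : a ≠ 0) (h1 : Act c1 h a 0 0 a⁻¹) (h2 : h ∈ Nm(C.V2)) :
    Mv c1 c2 h a⁻¹ (a ^ 2) := by
  rintro _ w y ⟨x, rfl⟩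
  obtain ⟨x', y', h3⟩ := C.b2.ex_conj h2 0 y
  have h4 := C.conj21 x' y' (a * 0 + 0 * 1) (0 * 0 + a⁻¹ * 1)
  rw [← h3, ← h1, show ∀ u v : G, h * u * h⁻¹ * (h * v * h⁻¹) * (h * u * h⁻¹)⁻¹ =
    h * (u * v * u⁻¹) * h⁻¹ by intros; group, C.conj21, h1, C.b1.eq_iff] at h4
  obtain rfl : y' = a ^ 2 * y := by
    have := h4.1
    field_simp at this
    linear_combination -this
  rw [cmul, h3, h1]
  simpa using C.inJ_mul (C.inJ1 _ _) (C.inJ2 x' (a ^ 2 * y))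

variable [Finite G] [CharP F 2]

theorem tor0 {a : F} (ha : a ≠ 0) : ∃ h ∈ Nm(C.V1), h ∈ Nm(C.V2) ∧
    (∀ x, h * c1 x 0 * h⁻¹ = c1 x 0) ∧ Mv c1 c2 h (a ^ 3) (a⁻¹ ^ 3) := by
  obtain ⟨h1, -, a1, n1, m1⟩ := C.torus1 (inv_ne_zero ha)
  obtain ⟨h2, -, a2, n2, m2⟩ := C.swap.torus1 ha
  refine ⟨h2 * h1, mul_mem m2 n1, mul_mem n2 m1, fun x => ?_, ?_⟩
  · rw [show h2 * h1 * c1 x 0 * (h2 * h1)⁻¹ = h2 * (h1 * c1 x 0 * h1⁻¹) * h2⁻¹ by group, a1]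
    simp only [mul_zero, add_zero, zero_mul, ← C.hz]
    rw [a2]; simp [ha]
  · have := (C.mv_swap (C.swap.mv_of_act ha a2 m2)).mul (C.mv_of_act (inv_ne_zero ha) a1 m1)
    rwa [inv_inv, ← pow_succ, ← pow_succ'] at this

theorem tor2 {a : F} (ha : a ≠ 0) : ∃ h ∈ Nm(C.V1), h ∈ Nm(C.V2) ∧ Mv c1 c2 h 1 (a ^ 3) := by
  obtain ⟨h1, -, a1, n1, m1⟩ := C.torus1 (pow_ne_zero 2 ha)
  obtain ⟨h2, -, a2, n2, m2⟩ := C.swap.torus1 ha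
  refine ⟨h2 * h1, mul_mem m2 n1, mul_mem n2 m1, ?_⟩
  have := (C.mv_swap (C.swap.mv_of_act ha a2 m2)).mul (C.mv_of_act (pow_ne_zero 2 ha) a1 m1)
  rwa [mul_inv_cancel₀ (pow_ne_zero 2 ha), show a⁻¹ * (a ^ 2) ^ 2 = a ^ 3 by field_simp] at this

theorem conj_N0 {r h : G} (hr : r ∈ Nm(C.J)) (h1 : h ∈ Nm(C.V1)) (h2 : h ∈ Nm(C.V2)) :
    r * h * r⁻¹ ∈ Nm(C.V1) := by
  rcases C.NJ_cases (inv_mem hr) with h3 | h3
  · exact mul_mem (mul_mem (by simpa using inv_mem h3.1) h1) h3.1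
  · rw [mem_normalizer_iff_cj, cj_mul, cj_mul, h3.1, cj_eq_of_mem_normalizer h2, ← h3.1, cj_cj_inv]

end Cfg

namespace Cf2

variable {c1 c2 : F → F → G} {L1 L2 : Subgroup G} (C : Cf2 c1 c2 L1 L2)

structure Loc (X R : Subgroup G) : Prop where
  J : C.J ≤ X
  K : ∀ h, h ∈ Nm(C.V1) → h ∈ Nm(C.V2) → (∀ x, h * c1 x 0 * h⁻¹ = c1 x 0) → h ∈ X
  p : IsPGroup 2 R
  le : R ≤ X
  n : X ≤ Nm(R)
  c : X ⊓ Cz(R) ≤ R

namespace Loc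

variable {C} {X R : Subgroup G} (h : C.Loc X R)
include h

theorem swap : C.swap.Loc X R :=
  ⟨C.toCfg.swap_J ▸ h.J, fun g h1 h2 h3 => h.K g h2 h1 fun x => by rw [← C.hz, h3], h.p, h.le,
    h.n, h.c⟩

theorem cm {r x : G} (hr : r ∈ R) (hx : x ∈ X) : r * x * r⁻¹ * x⁻¹ ∈ R := by
  rw [show r * x * r⁻¹ * x⁻¹ = r * (x * r⁻¹ * x⁻¹) by group]
  exact mul_mem hr (conj_mem_of_mem_normalizer (h.n hx) (inv_mem hr))

variable [Finite G] [CharP F 2] [Finite F] (hq : 4 ≤ Nat.card F)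
include hq

theorem RN : R ≤ Nm(C.J) :=
  le_sup_right.trans (C.two_le_NJ hq (isPGroup_sup C.pJ h.p (h.J.trans h.n)) le_sup_left)

theorem lin {r : G} (hr : r ∈ R) (h1 : r ∈ Nm(C.V1)) (h2 : Semi c1 r id) : r ∈ C.J := by
  obtain ⟨k, hk⟩ := isPGroup_iff_mem.1 h.p r hr
  exact C.mem_J_of_lin h1 (C.N2_of (h.RN hq hr) h1) h2 hk

theorem V1_le (h1 : C.V1 ≤ R) : X ≤ Nm(C.J) ∨ X ≤ Nm(C.V1) := by
  by_cases h2 : C.V2 ≤ R
  · exact Or.inl fun x hx => C.NJ_of_cj hq ((cj_mono x (sup_le h1 h2)).trans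
      ((cj_eq_of_mem_normalizer (h.n hx)).le.trans (h.RN hq)))
  refine Or.inr fun x hx => mem_normalizer_iff_cj.2 ?_
  have h3 := (cj_mono x h1).trans (cj_eq_of_mem_normalizer (h.n hx)).le
  exact (C.cj1_eq (C.cj1_le hq (h3.trans (h.RN hq)))).resolve_right fun e => h2 (e ▸ h3)

variable {a0 : F} (h0 : a0 ≠ 0) (h3 : a0 ^ 3 ≠ 1)
include h0 h3

theorem ex : ∃ r ∈ R, ∃ w y, InJ c1 c2 r w y ∧ ¬ (w = 0 ∧ y = 0) := by
  by_contra hn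
  push Not at hn
  obtain ⟨t, t1, t2, tz, tm⟩ := C.tor0 h0
  have tX := h.K t t1 t2 tz
  have h4 : t * t ∈ R := h.c ⟨mul_mem tX tX, fun r hr => by
    have hr' := h.RN hq hr
    have u1 := mul_mem (C.conj_N0 hr' t1 t2) (inv_mem t1)
    obtain ⟨w, y, hu⟩ := C.mem_J.1 (h.lin hq (h.cm hr tX) u1 (C.lin_of_cZ u1 fun x => by
      obtain ⟨x', e⟩ := C.conjZ (inv_mem (C.NJ_le_NZ hr')) x
      have e1 : t⁻¹ * c1 x 0 * t = c1 x 0 := by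
        conv_lhs => rw [← tz x]
        group
      calc _ = r * (t * (r⁻¹ * (t⁻¹ * c1 x 0 * t) * r⁻¹⁻¹) * t⁻¹) * r⁻¹ := by group
        _ = _ := by rw [e1, e, tz, ← e]; group))
    obtain ⟨rfl, rfl⟩ := hn _ (h.cm hr tX) _ _ hu
    obtain ⟨x, hx⟩ := C.inJ_V1 hu
    have e2 : r * t = c1 x 0 * t * r := by rw [← hx]; group
    calc r * (t * t) = c1 x 0 * t * r * t := by rw [← mul_assoc, e2]
      _ = c1 x 0 * t * (r * t) := mul_assoc _ _ _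
      _ = c1 x 0 * t * (c1 x 0 * t * r) := by rw [e2]
      _ = c1 x 0 * (t * c1 x 0 * t⁻¹) * (t * t * r) := by simp only [mul_assoc, inv_mul_cancel_left]
      _ = _ := by rw [tz, C.b1.sq, one_mul]⟩
  obtain ⟨w, y, h5⟩ := C.mem_J.1 (h.lin hq h4 (mul_mem t1 t1) (C.lin_of_cZ (mul_mem t1 t1) fun x => by
    rw [show t * t * c1 x 0 * (t * t)⁻¹ = t * (t * c1 x 0 * t⁻¹) * t⁻¹ by group, tz, tz]))
  have h6 := (tm.mul tm) _ _ _ (C.inJ1 0 1)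
  rw [C.inJ_conj1 h5] at h6
  have := (C.inJ_uniq h6 (C.inJ1 _ _)).1
  grind

omit hq h0 h3 [Finite F] in
theorem Z_of {r : G} (hr : r ∈ R) {w y : F} (hJ : InJ c1 c2 r w y) (hw : w ≠ 0) (x : F) :
    c1 x 0 ∈ R := by
  have := h.cm hr (h.J (C.V2_le (C.b2.cV 0 (x / w))))
  rw [C.inJ_conj2 hJ, C.b2.inv, ← C.b2.add, CharTwo.add_self_eq_zero, C.hz] at this
  rwa [show 0 + w * (x / w) + 0 = x by field_simp; ring] at this

theorem Z_le (x : F) : c1 x 0 ∈ R := by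
  obtain ⟨r, hr, w, y, h4, h5⟩ := h.ex hq h0 h3
  by_cases hw : w = 0
  · exact C.hz x ▸ h.swap.Z_of hr (C.inJ_swap h4) (fun e => h5 ⟨hw, e⟩) x
  · exact h.Z_of hr h4 hw x

theorem V1_of {x w : F} (hw : w ≠ 0) (h4 : c1 x w ∈ R) : C.V1 ≤ R := by
  have key : ∀ x w, c1 x w ∈ R ↔ c1 0 w ∈ R := fun x w => by
    rw [C.c1_eq, mul_mem_cancel_left (h.Z_le hq h0 h3 x)]
  rintro _ ⟨u, v, rfl⟩
  refine (key _ _).2 (cube_span (S := {w | c1 0 w ∈ R}) (fun a ha b hb => ?_) (fun a ha b hb => ?_)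
    ((key _ _).1 h4) hw h0 h3 v)
  · have := R.mul_mem ha hb
    rwa [← C.b1.add, add_zero] at this
  · obtain ⟨t, t1, t2, tz, tm⟩ := C.tor0 ha
    have h5 := tm _ _ _ (C.inJ1 0 b)
    rw [mul_zero] at h5
    obtain ⟨x', h6⟩ := C.inJ_V1 h5
    exact (key _ _).1 (h6 ▸ conj_mem_of_mem_normalizer (h.n (h.K t t1 t2 tz)) hb)

theorem diag (d1 : ∀ x w, c1 x w ∈ R → w = 0) (d2 : ∀ x w, c2 x w ∈ R → w = 0) : X ≤ Nm(C.Z) := by
  have R0 : ∀ r ∈ R, r ∈ Nm(C.V1) → r ∈ C.J := fun r hr h1 => by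
    obtain ⟨σ, hσ⟩ := C.semi1 h1
    have e : ∀ t x y, r * c1 0 t * r⁻¹ = c1 x y → y = t := fun t x y e => by
      have := h.cm hr (h.J (C.V1_le (C.b1.cV 0 t)))
      rw [e, C.b1.inv, ← C.b1.add] at this
      have := d1 _ _ this
      grind
    obtain ⟨x0, y0, h4⟩ := C.b1.ex_conj h1 0 1
    obtain rfl := e _ _ _ h4
    refine h.lin hq hr h1 fun t => ?_
    have h5 := hσ t _ _ _ _ h4
    rw [mul_zero, mul_one, mul_one] at h5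
    have h6 := hσ t
    rwa [e _ _ _ h5] at h6
  intro x hx
  refine mem_normalizer_of_conj_mem fun z hz => ?_
  obtain ⟨t, rfl⟩ := C.mem_Z.1 hz
  have yR := conj_mem_of_mem_normalizer (h.n hx) (h.Z_le hq h0 h3 t)
  have y2 : x * c1 t 0 * x⁻¹ * (x * c1 t 0 * x⁻¹) = 1 := by rw [← cmul, C.b1.sq]; simp
  have P : ∀ r ∈ R, ∀ r' ∈ R, r * (x * c1 t 0 * x⁻¹) * r⁻¹ ≠ x * c1 t 0 * x⁻¹ →
      r' * (x * c1 t 0 * x⁻¹) * r'⁻¹ ≠ x * c1 t 0 * x⁻¹ →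
      r' * (x * c1 t 0 * x⁻¹) * r'⁻¹ = r * (x * c1 t 0 * x⁻¹) * r⁻¹ := by
    have Q : ∀ r, x⁻¹ * r * x ∈ C.J → r * (x * c1 t 0 * x⁻¹) * r⁻¹ = x * c1 t 0 * x⁻¹ :=
      fun r hr => by
        conv_rhs => rw [← C.J_cZ hr t]
        group
    intro r hr r' hr' n1 n2
    have m1 := conj_mem_of_mem_normalizer' (h.n hx) hr
    have m2 := conj_mem_of_mem_normalizer' (h.n hx) hr'
    have := Q (r⁻¹ * r') (by
      have := R0 _ (mul_mem (inv_mem m1) m2) (C.swap_mul (h.RN hq m1) (h.RN hq m2)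
        (fun e => n1 (Q _ (R0 _ m1 e))) fun e => n2 (Q _ (R0 _ m2 e)))
      rwa [show (x⁻¹ * r * x)⁻¹ * (x⁻¹ * r' * x) = x⁻¹ * (r⁻¹ * r') * x by group] at this)
    conv_rhs => rw [← this]
    group
  generalize x * c1 t 0 * x⁻¹ = y at yR y2 P
  by_cases yJ : y ∈ C.J
  · rcases C.inv_mem_or yJ y2 with ⟨u, v, rfl⟩ | ⟨u, v, rfl⟩
    · obtain rfl := d1 _ _ yR
      exact C.cZ u
    · obtain rfl := d2 _ _ yR
      exact C.hz u ▸ C.cZ u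
  exfalso
  have yN := h.RN hq yR
  have y1 := ((C.NJ_cases yN).resolve_left fun e => yJ (R0 _ yR e.1)).1
  have yi : y⁻¹ = y := inv_eq_of_mul_eq_one_right y2
  choose p γ hγ using fun w => (y1.le (conj_mem_cj y (C.b1.cV 0 w)) : _ ∈ C.V2)
  have key : ∀ w, w ≠ 0 → w * γ w ≠ 0 ∧ ∃ r ∈ R, r * y * r⁻¹ = c1 (w * γ w) 0 * y := fun w hw => by
    refine ⟨mul_ne_zero hw fun e => hw (C.c1_mem2 (x := 0) ?_), c1 0 w * c2 (p w) (γ w), ?_, ?_⟩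
    · have := conj_mem_of_mem_normalizer' (C.NJ_le_NZ yN) (C.cZ (p w))
      rw [← C.hz, ← e, hγ] at this
      simpa [mul_assoc] using this.2
    · have := inv_mem (h.cm yR (h.J (C.V1_le (C.b1.cV 0 w))))
      rwa [← hγ, mul_inv_rev, inv_inv, C.b2.inv] at this
    · have := C.inJ_sq (C.inJ_mul (C.inJ1 0 w) (C.inJ2 (p w) (γ w)))
      rw [add_zero, zero_add] at this
      rw [← this, mul_inv_rev, C.b1.inv, C.b2.inv, hγ, yi]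
      calc _ = c1 0 w * (y * c1 0 w * y) * (y * y) * c1 0 w * y * c1 0 w := by group
        _ = c1 0 w * (y * c1 0 w * y) * (c1 0 w * y * c1 0 w * (y * y)) := by rw [y2]; group
        _ = _ := by group
  have k2 : ∀ w, w ≠ 0 → w * γ w = 1 * γ 1 := fun w hw => by
    obtain ⟨n1, r, hr, e⟩ := key w hw
    obtain ⟨n2, r', hr', e'⟩ := key 1 one_ne_zero
    have := P r' hr' r hr (by rw [e']; simp [C.b1.eq_one_iff]; simpa using n2)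
      (by rw [e]; simp [C.b1.eq_one_iff]; simpa using n1)
    rw [e, e', mul_left_inj, C.b1.eq_iff] at this
    exact this.1
  have k3 : γ (1 + a0) = γ 1 + γ a0 := by
    have := hγ (1 + a0)
    rw [show c1 0 (1 + a0) = c1 0 1 * c1 0 a0 by rw [← C.b1.add]; simp, cmul, ← hγ, ← hγ,
      ← C.b2.add, C.b2.eq_iff] at this
    exact this.2
  have k4 := k2 a0 h0
  have k5 := k2 (1 + a0) (by grind)
  have k6 := (key 1 one_ne_zero).1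
  rw [k3] at k5
  grind

theorem cases : X ≤ Nm(C.J) ∨ X ≤ Nm(C.V1) ∨ X ≤ Nm(C.V2) ∨ (X ≤ Nm(C.Z) ∧
    (∀ x w, c2 x w ∈ R → w = 0) ∧ ∃ r ∈ R, ∃ w y, InJ c1 c2 r w y ∧ y ≠ 0) := by
  by_cases d1 : ∀ x w, c1 x w ∈ R → w = 0
  · by_cases d2 : ∀ x w, c2 x w ∈ R → w = 0
    · obtain ⟨r, hr, w, y, h4, h5⟩ := h.ex hq h0 h3
      refine Or.inr (Or.inr (Or.inr ⟨h.diag hq h0 h3 d1 d2, d2, r, hr, w, y, h4, ?_⟩))
      rintro rfl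
      obtain ⟨x, rfl⟩ := C.inJ_V1 h4
      exact h5 ⟨d1 _ _ hr, rfl⟩
    · push Not at d2
      obtain ⟨x, w, h4, h5⟩ := d2
      rcases h.swap.V1_le hq (h.swap.V1_of hq h0 h3 h5 h4) with e | e
      · exact Or.inl (C.toCfg.swap_J ▸ e)
      · exact Or.inr (Or.inr (Or.inl e))
  · push Not at d1
    obtain ⟨x, w, h4, h5⟩ := d1
    exact (h.V1_le hq (h.V1_of hq h0 h3 h5 h4)).imp_right Or.inl

end Loc

theorem loc (hG : Ch2 G) {T : Subgroup G} (hT : IsPGroup 2 T) (h1 : T ≠ ⊥) (hJ : C.J ≤ Nm(T))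
    (hK : ∀ h, h ∈ Nm(C.V1) → h ∈ Nm(C.V2) → (∀ x, h * c1 x 0 * h⁻¹ = c1 x 0) → h ∈ Nm(T)) :
    C.Loc Nm(T) (pCoreOf 2 Nm(T)) :=
  ⟨hJ, hK, CfH7.isPGroup_pCoreOf _, CfH7.pCoreOf_le _, CfH7.le_normalizer_pCoreOf _, hG T hT h1⟩

variable [Finite G] [CharP F 2]

theorem NJ_of1 {n : G} (h1 : n ∈ Nm(C.V1)) {t t' : F} (ht : t ≠ 0)
    (h : n * c1 t 0 * n⁻¹ = c1 t' 0) : n ∈ Nm(C.J) :=
  C.NJ_of (C.M1 h1) (by
    rintro rfl
    rw [C.b1.zero, conj_eq_one_iff, C.b1.eq_one_iff] at h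
    exact ht h.1) h

theorem NJ_of2 {n : G} (h1 : n ∈ Nm(C.V2)) {t t' : F} (ht : t ≠ 0)
    (h : n * c1 t 0 * n⁻¹ = c1 t' 0) : n ∈ Nm(C.J) :=
  C.toCfg.swap_J ▸ C.swap.NJ_of1 h1 ht (t' := t') (by rw [C.hz, C.hz, h])

variable [Finite F] (hG : Ch2 G) (hq : 4 ≤ Nat.card F) {a0 : F} (h0 : a0 ≠ 0) (h3 : a0 ^ 3 ≠ 1)
include hG hq h0 h3

theorem NZ_le : Nm(C.Z) ≤ Nm(C.J) := by
  have h := C.loc hG (T := C.Z) (C.b1.pV.to_le inf_le_left) (fun e => by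
    have := C.cZ 1
    rw [e, mem_bot, C.b1.eq_one_iff] at this
    exact one_ne_zero this.1) (le_normalizer.trans C.NJ_le_NZ) fun _ h1 h2 _ => mem_Nm_inf h1 h2
  rcases h.cases hq h0 h3 with e | e | e | ⟨-, d2, r, hr, w, y, h4, hy⟩
  · exact e
  · intro n hn
    obtain ⟨x, hx⟩ := C.conjZ hn 1
    exact C.NJ_of1 (e hn) one_ne_zero hx
  · intro n hn
    obtain ⟨x, hx⟩ := C.conjZ hn 1
    exact C.NJ_of2 (e hn) one_ne_zero hx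
  · obtain ⟨k, k1, k2, km⟩ := C.tor2 h0
    have h5 := C.inJ_mul h4 (km _ _ _ h4)
    rw [one_mul, CharTwo.add_self_eq_zero] at h5
    obtain ⟨x, h6⟩ := C.inJ_V2 h5
    have := d2 _ _ (h6 ▸ mul_mem hr (conj_mem_of_mem_normalizer (h.n (mem_Nm_inf k1 k2)) hr))
    grind

theorem CX_le {t : F} (ht : t ≠ 0) : Cx(c1 t 0) ≤ Nm(C.J) := by
  have e0 := Nm_zpowers (C.b1.sq t 0)
  have h := C.loc hG (T := zpowers (c1 t 0)) (isPGroup_zpowers (k := 1) (by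
    rw [pow_one, sq, C.b1.sq])) (by simp [C.b1.eq_one_iff, ht])
    (fun j hj => e0 ▸ mem_Cx'.2 (C.J_cZ hj t)) fun _ _ _ h => e0 ▸ mem_Cx'.2 (h t)
  rw [e0] at h
  rcases h.cases hq h0 h3 with e | e | e | ⟨e, -⟩
  · exact e
  · exact fun n hn => C.NJ_of1 (e hn) ht (mem_Cx'.1 hn)
  · exact fun n hn => C.NJ_of2 (e hn) ht (mem_Cx'.1 hn)
  · exact e.trans (C.NZ_le hG hq h0 h3)

end Cf2

end CfL.Pl
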