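import Cfsg.Agent.L.BD

/-! No field involutions; the transfer removing graph elements. -/

set_option autoImplicit false

namespace CfL.Pl

open Subgroup CfH9 Cfsg

variable {G : Type*} [Group G] {F : Type*} [Field F]

theorem mem_zp {f x : G} (hf : f * f = 1) (h : x ∈ zpowers f) : x = 1 ∨ x = f := by
  obtain ⟨k, rfl⟩ := mem_zpowers_iff.1 h
  rcases Int.even_or_odd' k with ⟨j, rfl | rfl⟩
  · left; rw [zpow_mul, zpow_two, hf, one_zpow]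
  · right; rw [zpow_add, zpow_mul, zpow_two, hf, one_zpow, one_mul, zpow_one]

theorem Blk.fixed {c : F → F → G} {L : Subgroup G} (B : Blk c L) {n : G} (h2 : n * n = 1)
    {x y x' y' : F} (h : n * c x y * n⁻¹ = c x' y') :
    n * c (x + x') (y + y') * n⁻¹ = c (x + x') (y + y') := by
  have : n * c x' y' * n⁻¹ = c x y := by
    rw [← h, show n * (n * c x y * n⁻¹) * n⁻¹ = (n * n) * c x y * (n * n)⁻¹ by group, h2]; simp
  rw [B.add, cmul, h, this, B.comm]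

structure Cf3 (c1 c2 : F → F → G) (L1 L2 : Subgroup G) : Prop extends Cf2 c1 c2 L1 L2 where
  CX : ∀ t, t ≠ 0 → Cx(c1 t 0) ≤ Nm(toCf2.J)

namespace Cf3

variable {c1 c2 : F → F → G} {L1 L2 : Subgroup G} (C : Cf3 c1 c2 L1 L2)

include C in
theorem swap : Cf3 c2 c1 L2 L1 :=
  ⟨C.toCf2.swap, fun t ht => by rw [C.hz]; exact C.toCfg.swap_J ▸ C.CX t ht⟩

structure FI (f : G) (σ : F →+* F) (R : Subgroup G) : Prop where
  n1 : f ∈ Nm(C.V1)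
  n2 : f ∈ Nm(C.V2)
  sq : f * f = 1
  s : Semi c1 f σ
  nl : ∃ μ, σ μ ≠ μ
  p : IsPGroup 2 R
  le : R ≤ Cx(f)
  n : Cx(f) ≤ Nm(R)

variable [Finite G]

namespace FI

variable {C} {f : G} {σ : F →+* F} {R : Subgroup G} (h : C.FI f σ R)
include h

theorem swap : C.swap.FI f σ R :=
  ⟨h.n2, h.n1, h.sq, C.semi12 h.n1 h.n2 h.s, h.nl, h.p, h.le, h.n⟩

variable [CharP F 2]

theorem fixV : ∃ x w, w ≠ 0 ∧ f * c1 x w * f⁻¹ = c1 x w := by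
  obtain ⟨x, s, h1⟩ := C.b1.ex_conj h.n1 0 1
  obtain ⟨μ, hμ⟩ := h.nl
  by_cases hs : s = 1
  · exact ⟨_, _, by grind, C.b1.fixed h.sq (h.s μ _ _ _ _ h1)⟩
  · exact ⟨_, _, by grind, C.b1.fixed h.sq h1⟩

theorem fixZ : ∃ t, t ≠ 0 ∧ f * c1 t 0 * f⁻¹ = c1 t 0 := by
  obtain ⟨r, -, h1⟩ := C.conjZ' h.n1 h.n2
  obtain ⟨μ, hμ⟩ := h.nl
  by_cases hs : r = 1
  · exact ⟨μ * 1 + σ μ * r, by grind, by simpa using C.b1.fixed h.sq (h.s μ _ _ _ _ h1)⟩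
  · exact ⟨1 + r, by grind, by simpa using C.b1.fixed h.sq h1⟩

theorem ss (t : F) : σ (σ t) = t := C.semi_sq h.n1 (h.sq ▸ one_mem _) h.s t

theorem conj {l : G} (hl : l ∈ L1) (h1 : f * (l * c1 1 0 * l⁻¹) * f⁻¹ = l * c1 1 0 * l⁻¹) :
    C.FI (l⁻¹ * f * l) σ (cj l⁻¹ R) := by
  have hn := C.b1.L_le hl
  have n1 := mul_mem (mul_mem (inv_mem hn) h.n1) hn
  have e : Cx(l⁻¹ * f * l) = cj l⁻¹ Cx(f) := by rw [cj_Cx, inv_inv]
  refine ⟨n1, C.N2_of (C.CX 1 one_ne_zero (mem_Cx'.2 ?_)) n1, ?_, ?_, h.nl, isPGroup_cj h.p _,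
    e ▸ cj_mono _ h.le, by rw [e, ← cj_normalizer]; exact cj_mono _ h.n⟩
  · calc _ = l⁻¹ * (f * (l * c1 1 0 * l⁻¹) * f⁻¹) * l := by group
      _ = _ := by rw [h1]; group
  · calc _ = l⁻¹ * (f * f) * l := by group
      _ = _ := by rw [h.sq]; group
  · exact ((C.b1.lin (inv_mem hl)).mul h.s (C.b1.ex_conj h.n1)).mul (C.b1.lin hl) (C.b1.ex_conj hn)

theorem toZ {x w : F} (h1 : c1 x w ∈ R) (h2 : c1 x w ≠ 1) : ∃ t, t ≠ 0 ∧ c1 t 0 ∈ R := by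
  by_cases hw : w = 0
  · subst hw
    exact ⟨x, fun e => h2 (by rw [e, C.b1.zero]), h1⟩
  obtain ⟨u, y, hy, h3⟩ := h.swap.fixV
  have := mul_mem (conj_mem_of_mem_normalizer (h.n (mem_Cx.2 (mul_inv_eq_iff_eq_mul.1 h3).symm)) h1) h1
  rw [C.conj21, ← C.b1.add, CharTwo.add_self_eq_zero] at this
  exact ⟨_, by grind, this⟩

theorem setup {x w : F} (h1 : c1 x w ∈ R) (h2 : c1 x w ≠ 1) : ∃ l ∈ L1, ∃ a b d e, d ≠ 0 ∧
    Act c1 l a b d e ∧ C.FI (l⁻¹ * f * l) σ (cj l⁻¹ R) ∧ ∃ t, t ≠ 0 ∧ c1 t 0 ∈ cj l⁻¹ R := by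
  obtain ⟨x0, w0, hw, h3⟩ := h.fixV
  obtain ⟨l, hl, b, e, -, h4⟩ := C.b1.trans (x := x0) (y := w0) fun e => hw e.2
  have h5 := h.conj hl (by rw [h4]; simpa using h3)
  obtain ⟨x', w', h6⟩ := C.b1.ex_conj (inv_mem (C.b1.L_le hl)) x w
  exact ⟨l, hl, _, _, _, _, hw, h4, h5, h5.toZ (h6 ▸ conj_mem_cj _ h1)
    (by rw [← h6, Ne, conj_eq_one_iff]; exact h2)⟩

theorem offZ {x w : F} (h1 : c1 x w ∈ R) (h2 : c1 x w ≠ 1) : ∃ x w, w ≠ 0 ∧ c1 x w ∈ R := by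
  obtain ⟨l, -, a, b, d, e, hd, h3, -, t, ht, h4⟩ := h.setup h1 h2
  rw [mem_cj_inv, h3] at h4
  exact ⟨_, _, by simp [hd, ht], h4⟩

theorem off2 {t : F} (ht : t ≠ 0) (h1 : c1 t 0 ∈ R) : ∃ x w, w ≠ 0 ∧ c2 x w ∈ R :=
  h.swap.offZ (x := t) (w := 0) (C.hz t ▸ h1) (by simp [C.b2.eq_one_iff, ht])

theorem inf1 {x w : F} (h1 : c1 x w ∈ R) : c1 x w = 1 := by
  by_contra h2
  obtain ⟨t, ht, h3⟩ := h.toZ h1 h2
  obtain ⟨u, y, hy, h4⟩ := h.off2 ht h3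
  obtain ⟨l, hl, a, b, d, e, hd, h5, h6, t', ht', h7⟩ := h.setup h1 h2
  obtain ⟨u', y', hy', h8⟩ := h6.off2 ht' h7
  rw [mem_cj_inv] at h8
  obtain ⟨_, ⟨p, s, rfl⟩, h9, h10⟩ := exists_mem_center_of_normal (T := R ⊓ Nm(C.V1))
    (h.p.to_le inf_le_left) C.b1.pV inf_le_right C.b1.V_ne_bot
  have e1 := h10 _ ⟨h4, C.b1.L_le (C.m21 _ _)⟩
  have e2 := h10 _ ⟨h8, C.b1.L_le (conj_mem_of_mem_normalizer (le_normalizer hl) (C.m21 _ _))⟩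
  rw [← mul_inv_eq_iff_eq_mul, C.conj21, C.b1.eq_iff] at e1
  obtain ⟨p', s', h11⟩ := C.b1.ex_conj (inv_mem (C.b1.L_le hl)) p s
  have e3 : c1 p s = l * c1 p' s' * l⁻¹ := by rw [← h11]; group
  rw [e3, ← cmul, ← cmul, mul_left_inj, mul_right_inj, ← mul_inv_eq_iff_eq_mul, C.conj21,
    C.b1.eq_iff] at e2
  rw [h5, C.b1.eq_iff] at e3
  rw [Ne, C.b1.eq_one_iff] at h9
  grind

theorem inf2 {x w : F} (h1 : c2 x w ∈ R) : c2 x w = 1 := h.swap.inf1 h1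

theorem cent {y : G} (hy : y ∈ R) (h1 : y ∈ Nm(C.V1)) {x w : F} (e : f * c1 x w * f⁻¹ = c1 x w) :
    y * c1 x w * y⁻¹ = c1 x w := by
  obtain ⟨x', w', h2⟩ := C.b1.ex_conj h1 x w
  have := mul_mem hy (conj_mem_of_mem_normalizer (h.n (mem_Cx.2 (mul_inv_eq_iff_eq_mul.1 e).symm))
    (inv_mem hy))
  rw [show y * (c1 x w * y⁻¹ * (c1 x w)⁻¹) = y * c1 x w * y⁻¹ * (c1 x w)⁻¹ by group, h2,
    C.b1.inv, ← C.b1.add] at this
  have := h.inf1 this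
  rw [C.b1.add, mul_eq_one_iff_eq_inv, C.b1.inv] at this
  rw [h2, this]

theorem lin1 {y : G} (hy : y ∈ R) (h1 : y ∈ Nm(C.V1)) (h2 : y ∈ Nm(C.V2)) (hs : Semi c1 y id) :
    y = 1 := by
  obtain ⟨k, hk⟩ := isPGroup_iff_mem.1 h.p y hy
  obtain ⟨w, u, h3⟩ := C.mem_J.1 (C.mem_J_of_lin h1 h2 hs hk)
  obtain ⟨x0, w0, hw, h4⟩ := h.fixV
  have := h.cent hy h1 h4
  rw [C.inJ_conj1 h3, C.b1.eq_iff] at this
  obtain rfl : u = 0 := by grind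
  obtain ⟨x, rfl⟩ := C.inJ_V1 h3
  exact h.inf1 hy

theorem one_or (hf : f ∈ R) {y : G} (hy : y ∈ R) {t x w : F} (ht : t ≠ 0) (hw : w ≠ 0)
    (e1 : y * c1 t 0 * y⁻¹ = c1 t 0) (e2 : y * c1 x w * y⁻¹ = c1 x w) : y = 1 ∨ y = f := by
  obtain ⟨h1, h2⟩ := (C.NJ_cases (C.CX t ht (mem_Cx'.2 e1))).resolve_right fun e =>
    hw (C.c1_mem2 (x := x) (by rw [← e.1, ← e2]; exact conj_mem_cj _ (C.b1.cV _ _)))
  obtain ⟨τ, hτ⟩ := C.semi1 h1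
  obtain ⟨t0, ht0, h3⟩ := h.fixZ
  have h4 : ∀ a, σ a = a → τ a = a := fun a ha => by
    have h5 := h.s a _ _ _ _ h3
    rw [ha] at h5
    have h6 := hτ a _ _ _ _ (h.cent hy h1 h3)
    rw [h.cent hy h1 h5, C.b1.eq_iff] at h6
    exact (mul_right_cancel₀ ht0 h6.1).symm
  have h5 : ∀ a, τ a = a ∨ τ a = σ a := fun a => by
    have h6 := h4 (a + σ a) (by rw [map_add, h.ss, add_comm])
    have h7 := h4 (a * σ a) (by rw [map_mul, h.ss, mul_comm])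
    rw [map_add] at h6
    rw [map_mul] at h7
    grind
  by_cases h6 : ∀ a, τ a = a
  · exact Or.inl (h.lin1 hy h1 h2 ((funext h6 : (τ : F → F) = id) ▸ hτ))
  push Not at h6
  obtain ⟨a, ha⟩ := h6
  have h7 : ∀ b, τ b = σ b := fun b => by
    have h8 := h5 (a + b)
    have h9 := h5 a
    have h10 := h5 b
    rw [map_add, map_add] at h8
    grind
  have h8 := hτ.mul h.s (C.b1.ex_conj h.n1)
  rw [show (τ ∘ σ : F → F) = id from funext fun b => by simp [h7, h.ss]] at h8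
  have := h.lin1 (mul_mem hy hf) (mul_mem h1 h.n1) (mul_mem h2 h.n2) h8
  exact Or.inr (by rw [eq_inv_of_mul_eq_one_left this, inv_eq_of_mul_eq_one_right h.sq])

theorem false (hf : f ∈ R) (hc : Cx(f) ⊓ Cz(R) ≤ R) {a0 : F} (h0 : a0 ≠ 0) (h3 : a0 ^ 3 ≠ 1) :
    False := by
  obtain ⟨l, l1, l2, l3⟩ : ∃ l, σ l = l ∧ l ≠ 0 ∧ l ≠ 1 := by
    by_contra hn
    push Not at hn
    have h1 := hn (a0 + σ a0) (by rw [map_add, h.ss, add_comm])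
    have h2 := hn (a0 * σ a0) (by rw [map_mul, h.ss, mul_comm]) (by simp [h0])
    generalize σ a0 = b at h1 h2
    by_cases h4 : a0 + b = 0
    · exact h3 (by rw [eq_one_of_pow (k := 1) (a := a0) (by grind), one_pow])
    · have := h1 h4
      grind
  obtain ⟨t0, ht0, h4⟩ := h.fixZ
  obtain ⟨x0, w0, hw0, h5⟩ := h.fixV
  have pP : IsPGroup 2 (C.V1 ⊓ Cx(f) : Subgroup G) := C.b1.pV.to_le inf_le_left
  have PN : C.V1 ⊓ Cx(f) ≤ Nm(R) := inf_le_right.trans h.n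
  have fN : zpowers f ≤ Nm(C.V1 ⊓ Cx(f)) :=
    zpowers_le.2 (mem_Nm_inf h.n1 (le_normalizer (mem_Cx.2 rfl)))
  have QR : ∀ r ∈ R, r ∈ C.V1 ⊓ Cx(f) ⊔ zpowers f → r = 1 ∨ r = f := fun r hr h6 => by
    obtain ⟨_, ⟨⟨x, w, rfl⟩, -⟩, b, hb, rfl⟩ := (mem_sup_of_le_Nm' fN).1 h6
    rw [h.inf1 ((mul_mem_cancel_right (zpowers_le.2 hf hb)).1 hr), one_mul]
    exact mem_zp h.sq hb
  rcases (sup_le_sup_left (zpowers_le.2 hf) (C.V1 ⊓ Cx(f))).eq_or_lt with e | e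
  · have := h.inf1 (hc ⟨mem_Cx.2 (mul_inv_eq_iff_eq_mul.1 h4).symm, fun r hr => by
      rcases QR r hr (e.ge (mem_sup_right hr)) with rfl | rfl
      · simp
      · exact mul_inv_eq_iff_eq_mul.1 h4⟩)
    exact ht0 (C.b1.eq_one_iff.1 this).1
  obtain ⟨_, ⟨g1, g2⟩, g3⟩ := SetLike.exists_of_lt (lt_inf_Nm (isPGroup_sup pP h.p PN) e)
  obtain ⟨a, ha, r, hr, rfl⟩ := (mem_sup_of_le_Nm PN).1 g1
  have g4 := (mul_mem_cancel_left (le_normalizer (mem_sup_left ha))).1 g2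
  have key : ∀ x w, f * c1 x w * f⁻¹ = c1 x w → r * c1 x w * r⁻¹ ≠ c1 x w →
      r * c1 x w * r⁻¹ = f * c1 x w := fun x w e1 e2 => by
    have m : c1 x w ∈ C.V1 ⊓ Cx(f) := ⟨C.b1.cV _ _, mem_Cx.2 (mul_inv_eq_iff_eq_mul.1 e1).symm⟩
    have := QR (r * c1 x w * r⁻¹ * (c1 x w)⁻¹) (by
      rw [show r * c1 x w * r⁻¹ * (c1 x w)⁻¹ = r * (c1 x w * r⁻¹ * (c1 x w)⁻¹) by group]
      exact mul_mem hr (conj_mem_of_mem_normalizer (PN m) (inv_mem hr)))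
      (mul_mem (conj_mem_of_mem_normalizer g4 (mem_sup_left m)) (inv_mem (mem_sup_left m)))
    exact mul_inv_eq_iff_eq_mul.1 (this.resolve_left fun e => e2 (mul_inv_eq_one.1 e))
  have trip : ∀ x w, f * c1 x w * f⁻¹ = c1 x w →
      ∃ m, m ≠ 0 ∧ r * c1 (m * x) (m * w) * r⁻¹ = c1 (m * x) (m * w) := fun x w e1 => by
    by_contra hn
    push Not at hn
    have e2 := h.s l _ _ _ _ e1
    rw [l1] at e2
    have k1 := key x w e1 (by simpa using hn 1 one_ne_zero)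
    have k2 := key _ _ e2 (hn l l2)
    refine hn (1 + l) (by grind) ?_
    rw [add_mul, add_mul, one_mul, one_mul, C.b1.add, cmul, k1, k2, mul_inv_eq_iff_eq_mul.1 e1,
      mul_assoc, ← mul_assoc f, h.sq, one_mul]
  obtain ⟨m, hm, k1⟩ := trip _ _ h4
  obtain ⟨m', hm', k2⟩ := trip _ _ h5
  rw [mul_zero] at k1
  refine g3 (mul_mem (mem_sup_left ha) (mem_sup_right ?_))
  rcases h.one_or hf hr (mul_ne_zero hm ht0) (mul_ne_zero hm' hw0) k1 k2 with rfl | rfl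
  · exact one_mem _
  · exact mem_zpowers _

end FI

variable [CharP F 2] (hG : Ch2 G) {a0 : F} (h0 : a0 ≠ 0) (h3 : a0 ^ 3 ≠ 1)
include hG h0 h3

theorem sq_mem {t : G} (h1 : t ∈ Nm(C.V1)) (h2 : t ∈ Nm(C.V2)) (h : t * t ∈ C.J) : t ∈ C.J := by
  by_contra hJ
  obtain ⟨σ, hσ⟩ := C.semi1 h1
  obtain ⟨μ, hμ⟩ := C.nonlin h1 h2 hJ (k := 3) (by
    rw [show t ^ 2 ^ 3 = (t * t) ^ 4 by rw [← sq, ← pow_mul]; rfl, C.J_four h]) hσ
  obtain ⟨l, hl⟩ : ∃ l, l + σ l = 1 := ⟨μ / (μ + σ μ), by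
    rw [map_div₀, map_add, C.semi_sq h1 h hσ, add_comm (σ μ), ← add_div, div_self (by grind)]⟩
  obtain ⟨w, y, h4⟩ := C.mem_J.1 h
  obtain ⟨x', y', h5⟩ := C.b2.ex_conj h2 0 y
  obtain rfl : y' = y := by
    obtain ⟨x, h6⟩ := h4
    obtain ⟨p, s, h7⟩ := C.b1.ex_conj h1 x w
    have := C.inJ_mul (C.inJ1 p s) (C.inJ2 x' y')
    rw [← h5, ← h7, ← cmul, ← h6, show t * (t * t) * t⁻¹ = t * t by group] at this
    simpa using (C.inJ_uniq this ⟨x, h6⟩).2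
  have h6 := C.inJ_mul (C.inJ_mul (C.inJ2 (σ l * x') (σ l * y')) h4) (C.inJ2 (l * 0) (l * y'))
  rw [← C.semi12 h1 h2 hσ l _ _ _ _ h5, show σ l * y' + y' + l * y' = 0 by grind,
    show ∀ u, t * u * t⁻¹ * (t * t) * u = (t * u) * (t * u) by intros; group] at h6
  obtain ⟨x1, h7⟩ := C.inJ_V1 h6
  have m2 := C.m21 (l * 0) (l * y')
  have s1 := hσ.mul (C.b1.lin m2) (C.b1.ex_conj (C.b1.L_le m2))
  have n1 := mul_mem h1 (C.b1.L_le m2)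
  have n2 := mul_mem h2 (le_normalizer (C.b2.cV (l * 0) (l * y')))
  generalize t * c2 (l * 0) (l * y') = t1 at h7 s1 n1 n2
  generalize 0 + w + 0 = w1 at h7
  have h8 := s1 l x1 w1 x1 w1 (by rw [← h7]; group)
  have m1 := C.b1.mem (l * x1) (l * w1)
  have f2 : t1 * c1 (l * x1) (l * w1) * (t1 * c1 (l * x1) (l * w1)) = 1 := by
    rw [show ∀ u, t1 * u * (t1 * u) = t1 * u * t1⁻¹ * (t1 * t1) * u by intros; group, h8, h7,
      ← C.b1.add, ← C.b1.add, C.b1.eq_one_iff]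
    simp only [Function.comp, id]
    grind
  have s2 := s1.mul (C.b1.lin m1) (C.b1.ex_conj (C.b1.L_le m1))
  have n3 := mul_mem n1 (C.b1.L_le m1)
  have n4 := mul_mem n2 (C.b2.L_le (C.m12 (l * x1) (l * w1)))
  generalize t1 * c1 (l * x1) (l * w1) = f at f2 s2 n3 n4
  have pf : IsPGroup 2 (zpowers f) := isPGroup_zpowers (k := 1) (by rw [pow_one, sq, f2])
  have hc := hG _ pf (by
    rw [Ne, zpowers_eq_bot]
    rintro rfl
    exact hμ (C.b1.semi_uniq (one_mem _) s2 (C.b1.lin (one_mem _)) μ))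
  rw [Nm_zpowers f2] at hc
  exact FI.false (C := C) (σ := σ) ⟨n3, n4, f2, s2, ⟨μ, hμ⟩, CfH7.isPGroup_pCoreOf _,
    CfH7.pCoreOf_le _, CfH7.le_normalizer_pCoreOf _⟩ (CfH7.le_pCoreOf (zpowers_le.2 (mem_Cx.2 rfl))
      (Nm_zpowers f2).ge pf (mem_zpowers f)) hc h0 h3

theorem two_mem {k : ℕ} : ∀ {t : G}, t ∈ Nm(C.V1) → t ∈ Nm(C.V2) → t ^ 2 ^ k = 1 → t ∈ C.J := by
  induction k with
  | zero => intro t _ _ h; rw [pow_zero, pow_one] at h; exact h ▸ one_mem _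
  | succ k ih =>
    intro t h1 h2 h
    exact C.sq_mem hG h0 h3 h1 h2 (ih (mul_mem h1 h1) (mul_mem h2 h2)
      (by rw [← sq, ← pow_mul, ← pow_succ', h]))

end Cf3

end CfL.Pl
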