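import Cfsg.Agent.L.BE
import Mathlib.GroupTheory.Focal

/-! The transfer: `J` is a Sylow subgroup of `G'`. -/

set_option autoImplicit false

namespace CfL.Pl

open Subgroup CfH9 Cfsg
open scoped commutatorElement

variable {G : Type*} [Group G] {F : Type*} [Field F]

namespace Cfg

variable {c1 c2 : F → F → G} {L1 L2 : Subgroup G} (C : Cfg c1 c2 L1 L2) [Finite G] [CharP F 2]
include C

theorem L1_le {N : Subgroup G} (hJ : C.J ≤ N) (hn : L1 ≤ Nm(N)) : L1 ≤ N := by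
  obtain ⟨s, hs, h1⟩ := C.b1.ex 0 1 1 0 (by grind)
  have low : ∀ t, ∃ u ∈ N, u ∈ L1 ∧ Act c1 u 1 0 t 1 := fun t =>
    ⟨s * c2 0 t * s⁻¹, conj_mem_of_mem_normalizer (hn hs) (hJ (C.V2_le (C.b2.cV _ _))),
      conj_mem_of_mem_normalizer (le_normalizer hs) (C.m21 _ _), fun x y => by
        have h2 := h1 y x
        simp only [zero_mul, one_mul, zero_add, add_zero] at h2
        rw [← h2, ← cmul, show ∀ u v, s * u * s⁻¹ * (s * v * s⁻¹)⁻¹ = s * (u * v⁻¹) * s⁻¹ by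
          intros; group, C.conj21, h1]
        congr 1 <;> ring⟩
  have key : ∀ l ∈ L1, ∀ a b d e, a * e - b * d = 1 → Act c1 l a b d e → d ≠ 0 → l ∈ N := by
    intro l hl a b d e h2 h3 hd
    obtain ⟨u, hu, hu', h4⟩ := low d
    have h5 := (((C.a21 ((a + 1) / d)).mul h3).mul (C.a21 ((e + 1) / d))).mul h4
    obtain ⟨x, y, h6⟩ := C.b1.ker _ (mul_mem (mul_mem (mul_mem (C.m21 _ _) hl) (C.m21 _ _)) hu') (by
      convert h5 using 1 <;> field_simp <;> grind)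
    have h7 : c1 x y ∈ N := hJ (C.V1_le (C.b1.cV _ _))
    have h8 : ∀ t, c2 0 t ∈ N := fun t => hJ (C.V2_le (C.b2.cV _ _))
    rwa [h6, mul_mem_cancel_right hu, mul_mem_cancel_right (h8 _), mul_mem_cancel_left (h8 _)] at h7
  intro l hl
  obtain ⟨a, b, d, e, h2, h3⟩ := C.b1.act l hl
  by_cases hd : d = 0
  · obtain ⟨u, hu, hu', h4⟩ := low 1
    exact (mul_mem_cancel_right hu).1 (key _ (mul_mem hl hu') _ _ _ _ (by grind) (h3.mul h4)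
      (by grind))
  · exact key l hl _ _ _ _ h2 h3 hd

theorem V1_comm {a : F} (h0 : a ≠ 0) (h1 : a ≠ 1) : C.V1 ≤ commutator G := by
  obtain ⟨h, -, h2, -⟩ := C.torus1 h0
  have key : ∀ x y, c1 ((a + 1) * x) ((a⁻¹ + 1) * y) ∈ commutator G := fun x y => by
    have := commutator_mem_commutator (mem_top h) (mem_top (c1 x y))
    rw [commutatorElement_def, h2, C.b1.inv, ← C.b1.add] at this
    rwa [show a * x + 0 * y + x = (a + 1) * x by ring,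
      show 0 * x + a⁻¹ * y + y = (a⁻¹ + 1) * y by ring] at this
  rintro _ ⟨x, y, rfl⟩
  have := key (x / (a + 1)) (y / (a⁻¹ + 1))
  rwa [mul_div_cancel₀ _ (by grind), mul_div_cancel₀ _ (by grind)] at this

theorem L1_comm {a : F} (h0 : a ≠ 0) (h1 : a ≠ 1) : L1 ≤ commutator G :=
  C.L1_le (sup_le (C.V1_comm h0 h1) (C.swap.V1_comm h0 h1)) fun g _ => mem_Nm_of_normal g _

theorem conj_X1 {x w : F} (h : c1 x w ≠ 1) : ∃ l ∈ L1, l * c1 1 0 * l⁻¹ = c1 x w := by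
  obtain ⟨l, hl, b, e, -, h1⟩ := C.b1.trans (x := x) (y := w) fun e => h (C.b1.eq_one_iff.2 e)
  exact ⟨l, hl, by rw [h1]; simp⟩

theorem conj_X {j : G} (h : j ∈ C.J) (h2 : j * j = 1) (h1 : j ≠ 1) :
    ∃ l, l * c1 1 0 * l⁻¹ = j := by
  rcases C.inv_mem_or h h2 with ⟨x, w, rfl⟩ | ⟨x, w, rfl⟩
  · obtain ⟨l, -, h⟩ := C.conj_X1 h1
    exact ⟨l, h⟩
  · obtain ⟨l, -, h⟩ := C.swap.conj_X1 h1
    exact ⟨l, C.hz 1 ▸ h⟩

end Cfg

structure Cf4 (c1 c2 : F → F → G) (L1 L2 : Subgroup G) : Prop extends Cf3 c1 c2 L1 L2 where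
  two : ∀ n ∈ Nm(toCf3.J), ∀ k, n ^ 2 ^ k = 1 → n ∈ toCf3.J

namespace Cf3

variable {c1 c2 : F → F → G} {L1 L2 : Subgroup G} (C : Cf3 c1 c2 L1 L2) [Finite G] [CharP F 2]
  [Finite F] (hq : 4 < Nat.card F)
include C hq

theorem NJ_of_Z {g : G} {t t' : F} (ht : t ≠ 0) (h : g * c1 t 0 * g⁻¹ = c1 t' 0) : g ∈ Nm(C.J) := by
  refine inv_mem_iff.1 (C.NJ_of_cj hq.le (le_trans (cj_le_iff_forall.2 fun j hj => ?_) (C.CX t ht)))
  rw [mem_Cx']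
  calc _ = g⁻¹ * (j * (g * c1 t 0 * g⁻¹) * j⁻¹) * g := by group
    _ = _ := by rw [h, C.J_cZ hj, ← h]; group

variable (hG : Ch2 G) {a0 : F} (h0 : a0 ≠ 0) (h3 : a0 ^ 3 ≠ 1)
include hG h0 h3

theorem nofuse {s : G} (hs : s ∈ Nm(C.J)) {k : ℕ} (hk : s ^ 2 ^ k = 1) (hJ : s ∉ C.J) (g : G) :
    g * s * g⁻¹ ∉ C.J := fun hj => by
  have h1 : s ∉ Nm(C.V1) := fun e => hJ (C.two_mem hG h0 h3 e (C.N2_of hs e) hk)
  have h4 : s * s ∈ Nm(C.V1) := by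
    simpa using C.swap_mul (inv_mem hs) hs (by rwa [inv_mem_iff]) h1
  have h5 := C.two_mem hG h0 h3 h4 (C.N2_of (mul_mem hs hs) h4) (k := k)
    (by rw [← sq, ← pow_mul, mul_comm, pow_mul, hk, one_pow])
  by_cases h6 : s * s = 1
  swap
  · obtain ⟨t, ht⟩ := C.mem_Z.1 (C.swap_fix hs h1 h5 (by
      have := C.J_four hj
      rw [conj_pow, conj_eq_one_iff] at this
      rw [← this]; simp [pow_succ, mul_assoc]) (by group))
    obtain ⟨w, y, h7⟩ := C.mem_J.1 hj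
    have h8 := C.inJ_sq h7
    rw [← cmul, ← ht] at h8
    have h9 := C.NJ_of_Z hq (fun e => h6 (by rw [← ht, e, C.b1.zero])) h8
    exact hJ (by simpa [mul_assoc] using conj_mem_of_mem_normalizer' h9 hj)
  obtain ⟨l, hl⟩ := C.conj_X hj (by rw [← cmul, h6]; simp)
    (by rw [Ne, conj_eq_one_iff]; rintro rfl; exact hJ (one_mem _))
  have e : s = (g⁻¹ * l) * c1 1 0 * (g⁻¹ * l)⁻¹ := by
    rw [show g⁻¹ * l * c1 1 0 * (g⁻¹ * l)⁻¹ = g⁻¹ * (l * c1 1 0 * l⁻¹) * g by group, hl]; group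
  generalize g⁻¹ * l = h at e
  have k1 : ∀ z ∈ C.Z ⊓ Cx(s), h⁻¹ * z * h ∈ Nm(C.J) := fun z hz => C.CX 1 one_ne_zero (by
    rw [← mem_cj, cj_Cx, ← e]; exact hz.2)
  have k2 : ∀ z ∈ C.Z ⊓ Cx(s), h⁻¹ * z * h ∈ Nm(C.V1) → z = 1 := fun z hz h7 => by
    by_contra hz1
    obtain ⟨t, rfl⟩ := C.mem_Z.1 hz.1
    have z2 : h⁻¹ * c1 t 0 * h * (h⁻¹ * c1 t 0 * h) = 1 := by
      rw [show ∀ u, h⁻¹ * u * h * (h⁻¹ * u * h) = h⁻¹ * (u * u) * h by intros; group, C.b1.sq]; simp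
    have h8 := C.CX t fun e => hz1 (by rw [e, C.b1.zero])
    have h9 : ∀ v, v * (h⁻¹ * c1 t 0 * h) = h⁻¹ * c1 t 0 * h * v → h * v * h⁻¹ ∈ Nm(C.J) :=
      fun v hv => h8 (mem_Cx.2 (by
        calc _ = h * (v * (h⁻¹ * c1 t 0 * h)) * h⁻¹ := by group
          _ = _ := by rw [hv]; group))
    refine hJ (e ▸ ?_)
    rcases C.inv_mem_or (C.two_mem hG h0 h3 h7 (C.N2_of (k1 _ hz) h7) (k := 1)
      (by rw [pow_one, sq, z2])) z2 with ⟨x, w, h10⟩ | ⟨x, w, h10⟩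
    · refine C.cj1_le hq.le (cj_le_iff_forall.2 ?_) (conj_mem_cj h (C.b1.cV _ _))
      rintro _ ⟨u, v, rfl⟩
      exact h9 _ (h10 ▸ C.b1.comm _ _ _ _)
    · refine C.cj2_le hq.le (cj_le_iff_forall.2 ?_) (conj_mem_cj h (C.cZ 1).2)
      rintro _ ⟨u, v, rfl⟩
      exact h9 _ (h10 ▸ C.b2.comm _ _ _ _)
  have k3 : ∀ a ∈ C.Z ⊓ Cx(s), ∀ b ∈ C.Z ⊓ Cx(s), a ≠ 1 → b ≠ 1 → a⁻¹ * b = 1 :=
    fun a ha b hb ha1 hb1 => k2 _ (mul_mem (inv_mem ha) hb) (by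
      have := C.swap_mul (k1 a ha) (k1 b hb) (fun e => ha1 (k2 a ha e)) fun e => hb1 (k2 b hb e)
      rwa [show (h⁻¹ * a * h)⁻¹ * (h⁻¹ * b * h) = h⁻¹ * (a⁻¹ * b) * h by group] at this)
  have i1 := idx2 (H := ⊥) (K := C.Z ⊓ Cx(s)) k3
  have i2 := idx2 (H := Cx(s)) (K := C.Z) fun a ha b hb ha' hb' => by
    have k4 : ∀ a ∈ C.Z, a ∉ Cx(s) → a⁻¹ * (s * a * s⁻¹) ∈ C.Z ⊓ Cx(s) ∧
        a⁻¹ * (s * a * s⁻¹) ≠ 1 := fun a ha ha' => by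
      obtain ⟨x, rfl⟩ := C.mem_Z.1 ha
      obtain ⟨x', hx⟩ := C.conjZ (C.NJ_le_NZ hs) x
      refine ⟨⟨C.Z.mul_mem (C.Z.inv_mem ha) (hx ▸ C.cZ x'), mem_Cx.2 (mul_inv_eq_iff_eq_mul.1 ?_).symm⟩,
        fun e => ha' (mem_Cx.2 (mul_inv_eq_iff_eq_mul.1 (inv_mul_eq_one.1 e).symm).symm)⟩
      rw [hx, C.b1.inv, ← C.b1.add, C.b1.fixed h6 hx]
    have k5 := k3 _ (k4 a ha ha').1 _ (k4 b hb hb').1 (k4 a ha ha').2 (k4 b hb hb').2
    obtain ⟨x, rfl⟩ := C.mem_Z.1 ha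
    obtain ⟨y, rfl⟩ := C.mem_Z.1 hb
    obtain ⟨x', hx⟩ := C.conjZ (C.NJ_le_NZ hs) x
    obtain ⟨y', hy⟩ := C.conjZ (C.NJ_le_NZ hs) y
    refine mem_Cx.2 (mul_inv_eq_iff_eq_mul.1 ?_).symm
    rw [C.b1.inv, cmul, hx, hy]
    simp only [hx, hy, C.b1.inv, ← C.b1.add, C.b1.eq_one_iff, C.b1.eq_iff] at k5 ⊢
    grind
  rw [inf_bot_eq, card_bot] at i1
  rw [C.card_Z] at i2
  omega

theorem two_comm {n : G} (hn : n ∈ Nm(C.J)) (hc : n ∈ commutator G) {k : ℕ} (hk : n ^ 2 ^ k = 1) :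
    n ∈ C.J := by
  obtain ⟨S, hS⟩ := (isPGroup_sup (isPGroup_zpowers hk) C.pJ (zpowers_le.2 hn)).exists_le_sylow
  have hN := C.two_le_NJ hq.le S.isPGroup' (le_sup_right.trans hS)
  have h1 : n ∈ commutator G ⊓ S := ⟨hc, hS (mem_sup_left (mem_zpowers n))⟩
  rw [commutator_inf_eq_focalSubgroup, focalSubgroup_def] at h1
  refine (closure_le _).2 ?_ h1
  rintro _ ⟨h2, x, hx, u, rfl⟩
  have hy : u * x * u⁻¹ ∈ (S : Subgroup G) := by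
    have := inv_mem (mul_mem (inv_mem hx) h2)
    rwa [commutatorElement_def, show (x⁻¹ * (x * u * x⁻¹ * u⁻¹))⁻¹ = u * x * u⁻¹ by group] at this
  obtain ⟨i, hi⟩ := isPGroup_iff_mem.1 S.isPGroup' _ hx
  obtain ⟨j, hj⟩ := isPGroup_iff_mem.1 S.isPGroup' _ hy
  obtain ⟨m, hm⟩ := isPGroup_iff_mem.1 S.isPGroup' _ h2
  rw [show ⁅x, u⁆ = x⁻¹⁻¹ * (u * x * u⁻¹)⁻¹ by rw [commutatorElement_def]; group] at hm ⊢
  by_cases hxJ : x ∈ C.J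
  · refine mul_mem (inv_mem (inv_mem hxJ)) (inv_mem (by_contra fun e => ?_))
    exact C.nofuse hq hG h0 h3 (hN hy) hj e u⁻¹ (by simpa [mul_assoc] using hxJ)
  · have h4 := C.swap_mul (inv_mem (hN hx)) (inv_mem (hN hy))
      (fun e => hxJ (C.two_mem hG h0 h3 (inv_mem_iff.1 e) (C.N2_of (hN hx) (inv_mem_iff.1 e)) hi))
      fun e => C.nofuse hq hG h0 h3 (hN hx) hi hxJ u
        (C.two_mem hG h0 h3 (inv_mem_iff.1 e) (C.N2_of (hN hy) (inv_mem_iff.1 e)) hj)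
    exact C.two_mem hG h0 h3 h4 (C.N2_of (mul_mem (inv_mem (inv_mem (hN hx))) (inv_mem (hN hy))) h4) hm

end Cf3

/-! ### Passing to a subgroup -/

section sub

variable {K : Subgroup G}

theorem Blk.sub {c : F → F → G} {L : Subgroup G} (B : Blk c L) (hK : L ≤ K) :
    Blk (fun x y => (⟨c x y, hK (B.mem x y)⟩ : K)) (L.subgroupOf K) where
  add x y x' y' := Subtype.ext (B.add x y x' y')
  inj x y h := B.inj x y (congrArg Subtype.val h)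
  mem := B.mem
  ex a b d e h := by
    obtain ⟨l, hl, h1⟩ := B.ex a b d e h
    exact ⟨⟨l, hK hl⟩, hl, fun x y => Subtype.ext (h1 x y)⟩
  act l hl := by
    obtain ⟨a, b, d, e, h, h1⟩ := B.act l hl
    exact ⟨a, b, d, e, h, fun x y => Subtype.ext (h1 x y)⟩
  ker l hl h := by
    obtain ⟨x, y, h1⟩ := B.ker l hl fun x y => congrArg Subtype.val (h x y)
    exact ⟨x, y, Subtype.ext h1⟩

theorem Blk.sub_V {c : F → F → G} {L : Subgroup G} (B : Blk c L) (hK : L ≤ K) :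
    (B.sub hK).V = B.V.subgroupOf K := by
  ext g
  exact ⟨fun ⟨x, y, h⟩ => ⟨x, y, congrArg Subtype.val h⟩, fun ⟨x, y, h⟩ => ⟨x, y, Subtype.ext h⟩⟩

variable {c1 c2 : F → F → G} {L1 L2 : Subgroup G}

theorem Cfg.sub (C : Cfg c1 c2 L1 L2) (h1 : L1 ≤ K) (h2 : L2 ≤ K) :
    Cfg (fun x y => (⟨c1 x y, h1 (C.b1.mem x y)⟩ : K)) (fun x y => (⟨c2 x y, h2 (C.b2.mem x y)⟩ : K))
      (L1.subgroupOf K) (L2.subgroupOf K) :=
  ⟨C.b1.sub h1, C.b2.sub h2, fun x => Subtype.ext (C.hz x), C.m21, C.m12,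
    fun y u v => Subtype.ext (C.a21 y u v), fun y u v => Subtype.ext (C.a12 y u v)⟩

theorem Cfg.sub_J (C : Cfg c1 c2 L1 L2) (h1 : L1 ≤ K) (h2 : L2 ≤ K) :
    (C.sub h1 h2).J = C.J.subgroupOf K := by
  rw [Cfg.J, Cfg.J, subgroupOf_sup (C.b1.V_le.trans h1) (C.b2.V_le.trans h2), ← C.b1.sub_V h1,
    ← C.b2.sub_V h2]

theorem Cf3.sub [Finite G] (C : Cf3 c1 c2 L1 L2) (h1 : L1 ≤ K) (h2 : L2 ≤ K)
    (h : ∀ n ∈ Nm(C.J), n ∈ K → ∀ k, n ^ 2 ^ k = 1 → n ∈ C.J) :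
    Cf4 (fun x y => (⟨c1 x y, h1 (C.b1.mem x y)⟩ : K)) (fun x y => (⟨c2 x y, h2 (C.b2.mem x y)⟩ : K))
      (L1.subgroupOf K) (L2.subgroupOf K) := by
  have cz : ∀ {V : Subgroup G}, V ≤ K → Cz(V) ≤ V → Cz(V.subgroupOf K) ≤ V.subgroupOf K :=
    fun {V} hV hc g hg => hc fun v hv => congrArg Subtype.val (hg ⟨v, hV hv⟩ hv)
  refine ⟨⟨⟨C.toCfg.sub h1 h2, ?_, ?_, ?_, ?_⟩, fun t ht g hg => ?_⟩, fun n hn k hk => ?_⟩
  · rw [Cfg.V1, C.b1.sub_V h1, ← subgroupOf_normalizer_eq h1,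
      ← subgroupOf_normalizer_eq (C.b1.V_le.trans h1)]
    exact fun g hg => C.M1 hg
  · rw [Cfg.V2, C.b2.sub_V h2, ← subgroupOf_normalizer_eq h2,
      ← subgroupOf_normalizer_eq (C.b2.V_le.trans h2)]
    exact fun g hg => C.M2 hg
  · rw [Cfg.V1, C.b1.sub_V h1]; exact cz (C.b1.V_le.trans h1) C.C1
  · rw [Cfg.V2, C.b2.sub_V h2]; exact cz (C.b2.V_le.trans h2) C.C2
  · rw [C.toCfg.sub_J h1 h2, ← subgroupOf_normalizer_eq (C.J_le1.trans h1)]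
    exact C.CX t ht (mem_Cx.2 (congrArg Subtype.val (mem_Cx.1 hg)))
  · rw [C.toCfg.sub_J h1 h2] at hn ⊢
    rw [← subgroupOf_normalizer_eq (C.J_le1.trans h1)] at hn
    exact h n hn n.2 k (congrArg Subtype.val hk)

end sub

end CfL.Pl
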