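import Cfsg.Agent.L.BF

/-! The geometry of conjugates of `V₁` (points) and `V₂` (lines). -/

set_option autoImplicit false

namespace CfL.Pl

open Subgroup CfH9 Cfsg

variable {G : Type*} [Group G] {F : Type*} [Field F]

theorem mem_of_sq {H : Subgroup G} {g : G} (ho : Odd (orderOf g)) (h : g * g ∈ H) : g ∈ H := by
  obtain ⟨k, hk⟩ := ho
  have := pow_orderOf_eq_one g
  rw [hk, pow_succ, pow_mul, sq] at this
  exact (mul_mem_cancel_left (pow_mem h k)).1 (this ▸ one_mem H)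

theorem ex_inv [Finite G] {g : G} (ho : ¬ Odd (orderOf g)) :
    ∃ k, g ^ k * g ^ k = 1 ∧ g ^ k ≠ 1 := by
  obtain ⟨k, hk⟩ := Nat.not_odd_iff_even.1 ho
  have := orderOf_pos g
  exact ⟨k, by rw [← pow_add, ← hk, pow_orderOf_eq_one],
    pow_ne_one_of_lt_orderOf (by omega) (by omega)⟩

def Inc (P W : Subgroup G) : Prop := ∃ u, u ≠ 1 ∧ u ∈ P ∧ u ∈ W

theorem Inc.symm {P W : Subgroup G} (h : Inc P W) : Inc W P :=
  let ⟨u, h1, h2, h3⟩ := h; ⟨u, h1, h3, h2⟩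

theorem Inc.cj {P W : Subgroup G} (h : Inc P W) (g : G) : Inc (cj g P) (cj g W) :=
  let ⟨u, h1, h2, h3⟩ := h
  ⟨g * u * g⁻¹, by rwa [Ne, conj_eq_one_iff], conj_mem_cj g h2, conj_mem_cj g h3⟩

namespace Cf4

variable {c1 c2 : F → F → G} {L1 L2 : Subgroup G} (C : Cf4 c1 c2 L1 L2)

include C in
theorem swap : Cf4 c2 c1 L2 L1 :=
  ⟨C.toCf3.swap, by rw [show C.toCf3.swap.J = C.J from C.toCfg.swap_J]; exact C.two⟩

def Pt (P : Subgroup G) : Prop := ∃ g, cj g C.V1 = P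
def Ln (W : Subgroup G) : Prop := ∃ g, cj g C.V2 = W

variable {C} in
theorem Pt.cj {P : Subgroup G} (h : C.Pt P) (g : G) : C.Pt (cj g P) :=
  let ⟨k, hk⟩ := h; ⟨g * k, by rw [cj_mul, hk]⟩

variable {C} in
theorem Ln.cj {P : Subgroup G} (h : C.Ln P) (g : G) : C.Ln (cj g P) :=
  let ⟨k, hk⟩ := h; ⟨g * k, by rw [cj_mul, hk]⟩

theorem pt1 : C.Pt C.V1 := ⟨1, cj_one _⟩
theorem ln2 : C.Ln C.V2 := ⟨1, cj_one _⟩

theorem inc12 : Inc C.V1 C.V2 := ⟨c1 1 0, by simp [C.b1.eq_one_iff], C.cZ 1⟩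

variable [Finite G] [CharP F 2]

theorem inv_J {u : G} (h : u ∈ Nm(C.J)) (h2 : u * u = 1) : u ∈ C.J :=
  C.two u h 1 (by rw [pow_one, sq, h2])

theorem NJ_le1 : Nm(C.J) ≤ Nm(C.V1) := fun n hn => by
  obtain ⟨k, m, ⟨j, rfl⟩, h⟩ := Nat.exists_eq_two_pow_mul_odd (orderOf_pos n).ne'
  have h1 := C.J_N1 (C.two _ (pow_mem hn (2 * j + 1)) k (by
    rw [← pow_mul, mul_comm, ← h, pow_orderOf_eq_one]))
  by_contra h2
  have h3 : n * n ∈ Nm(C.V1) := by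
    simpa using C.swap_mul (inv_mem hn) hn (by rwa [inv_mem_iff]) h2
  rw [pow_succ, pow_mul, sq] at h1
  exact h2 ((mul_mem_cancel_left (pow_mem h3 j)).1 h1)

theorem NJ_le2 : Nm(C.J) ≤ Nm(C.V2) := fun _ h => C.N2_of h (C.NJ_le1 h)

theorem pt_sq {P : Subgroup G} (h : C.Pt P) {u : G} (hu : u ∈ P) : u * u = 1 := by
  obtain ⟨g, rfl⟩ := h
  exact C.cj1_sq g u hu

theorem ln_N {u P} (h1 : u ≠ 1) (h2 : u * u = 1) (hP : C.Pt P) (h : u ∈ Nm(P)) :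
    u ∈ P ∨ ∃ W, C.Ln W ∧ u ∈ W ∧ Inc P W := by
  obtain ⟨g, rfl⟩ := hP
  obtain ⟨_, ⟨_, ⟨x, w, rfl⟩, rfl⟩, h3, h4⟩ := exists_mem_center_of_normal (T := zpowers u)
    (isPGroup_zpowers (k := 1) (by rw [pow_one, sq, h2])) (isPGroup_cj C.b1.pV g) (zpowers_le.2 h)
    (cj_ne_bot C.b1.V_ne_bot)
  change g * c1 x w * g⁻¹ ≠ 1 at h3
  change g * c1 x w * g⁻¹ ∈ _ at h4
  obtain ⟨l, hl, h5⟩ := C.conj_X1 (x := x) (w := w) (by rwa [Ne, conj_eq_one_iff] at h3)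
  have h6 := h4 u (mem_zpowers u)
  have h7 : (g * l)⁻¹ * u * (g * l) ∈ C.J := C.inv_J (C.CX 1 one_ne_zero (by
    rw [← mem_cj, cj_Cx, show g * l * c1 1 0 * (g * l)⁻¹ = g * (l * c1 1 0 * l⁻¹) * g⁻¹ by group, h5]
    exact mem_Cx.2 h6)) (by
      rw [show ∀ k, k⁻¹ * u * k * (k⁻¹ * u * k) = k⁻¹ * (u * u) * k by intros; group, h2]; simp)
  rcases C.inv_mem_or h7 (by
    rw [show ∀ k, k⁻¹ * u * k * (k⁻¹ * u * k) = k⁻¹ * (u * u) * k by intros; group, h2]; simp)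
    with h8 | h8 <;> rw [← mem_cj] at h8
  · rw [cj_mul, cj_eq_of_mem_normalizer (C.b1.L_le hl)] at h8
    exact Or.inl h8
  · refine Or.inr ⟨_, ⟨_, rfl⟩, h8, ?_⟩
    have := C.inc12.cj (g * l)
    rwa [cj_mul g l C.V1, cj_eq_of_mem_normalizer (C.b1.L_le hl)] at this

variable [Finite F] (hq : 4 ≤ Nat.card F)
include hq

theorem syl : SylIn 2 C.J ⊤ := ⟨le_top, C.pJ, fun Q hQ _ h n hn => by
  obtain ⟨k, hk⟩ := isPGroup_iff_mem.1 hQ n hn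
  exact C.two n (C.two_le_NJ hq hQ h hn) k hk⟩

include C in
theorem conj_inv {u : G} (h1 : u ≠ 1) (h2 : u * u = 1) : ∃ g, g * c1 1 0 * g⁻¹ = u := by
  obtain ⟨h, -, h3⟩ := (C.syl hq).exists_conj_mem (mem_top u) (k := 1) (by rw [pow_one, sq, h2])
  obtain ⟨l, hl⟩ := C.conj_X h3 (by rw [← cmul, h2]; simp) (by rwa [Ne, conj_eq_one_iff])
  refine ⟨h⁻¹ * l, ?_⟩
  rw [show h⁻¹ * l * c1 1 0 * (h⁻¹ * l)⁻¹ = h⁻¹ * (l * c1 1 0 * l⁻¹) * h by group, hl]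
  group

theorem cj_ne (g : G) : cj g C.V1 ≠ C.V2 := fun e => by
  obtain ⟨m, hm, h⟩ := ((C.syl hq).mono C.J_N1 le_top).exists_cj_le (isPGroup_cj C.pJ g⁻¹) (by
    rw [cj_le_iff, inv_inv, cj_normalizer, e]; exact C.J_N2)
  rw [← cj_mul] at h
  have := (mul_mem_cancel_left hm).1 (C.NJ_le1 (mem_normalizer_of_cj_le h))
  exact C.V1_ne ((cj_eq_of_mem_normalizer (inv_mem_iff.1 this)).symm.trans e)

theorem pt_X {P : Subgroup G} (hP : C.Pt P) {t : F} (ht : t ≠ 0) (h : c1 t 0 ∈ P) : P = C.V1 := by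
  obtain ⟨g, rfl⟩ := hP
  refine (C.cj1_eq (C.cj1_le hq (le_trans (fun u hu => mem_Cx.2 ?_) (C.CX t ht)))).resolve_right
    (C.cj_ne hq g)
  exact comm_iff.1 (isMulCommutative_cj (comm_iff.2 (by
    rintro _ ⟨x, y, rfl⟩ _ ⟨x', y', rfl⟩
    exact C.b1.comm _ _ _ _)) g) _ hu _ h

theorem ln_X {P : Subgroup G} (hP : C.Ln P) {t : F} (ht : t ≠ 0) (h : c1 t 0 ∈ P) : P = C.V2 :=
  C.swap.pt_X hq hP ht (C.hz t ▸ h)

theorem flag {P W : Subgroup G} (hP : C.Pt P) (hW : C.Ln W) (h : Inc P W) :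
    ∃ g, cj g C.V1 = P ∧ cj g C.V2 = W := by
  obtain ⟨u, h1, h2, h3⟩ := h
  obtain ⟨g, rfl⟩ := C.conj_inv hq h1 (C.pt_sq hP h2)
  exact ⟨g, (cj_eq_iff.1 (C.pt_X hq (hP.cj g⁻¹) one_ne_zero (mem_cj_inv.2 h2))).symm ▸ by simp,
    (cj_eq_iff.1 (C.ln_X hq (hW.cj g⁻¹) one_ne_zero (mem_cj_inv.2 h3))).symm ▸ by simp⟩

theorem pt_uniq {P P' : Subgroup G} (hP : C.Pt P) (hP' : C.Pt P') (h : Inc P P') : P = P' := by
  obtain ⟨u, h1, h2, h3⟩ := h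
  obtain ⟨g, rfl⟩ := C.conj_inv hq h1 (C.pt_sq hP h2)
  exact cj_inj.1 ((C.pt_X hq (hP.cj g⁻¹) one_ne_zero (mem_cj_inv.2 h2)).trans
    (C.pt_X hq (hP'.cj g⁻¹) one_ne_zero (mem_cj_inv.2 h3)).symm)

theorem ln_uniq {P P' : Subgroup G} (hP : C.Ln P) (hP' : C.Ln P') (h : Inc P P') : P = P' :=
  C.swap.pt_uniq hq hP hP' h

theorem ex_flag {u : G} (h1 : u ≠ 1) (h2 : u * u = 1) :
    ∃ P W, C.Pt P ∧ C.Ln W ∧ u ∈ P ∧ u ∈ W := by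
  obtain ⟨g, rfl⟩ := C.conj_inv hq h1 h2
  exact ⟨_, _, ⟨g, rfl⟩, ⟨g, rfl⟩, conj_mem_cj g (C.cZ 1).1, conj_mem_cj g (C.cZ 1).2⟩

theorem inc_N {P W : Subgroup G} (hP : C.Pt P) (hW : C.Ln W) (h : Inc P W) :
    W ≤ Nm(P) ∧ P ≤ Nm(W) := by
  obtain ⟨g, rfl, rfl⟩ := C.flag hq hP hW h
  simp only [← cj_normalizer]
  exact ⟨cj_mono g (C.V2_le.trans C.J_N1), cj_mono g (C.V1_le.trans C.J_N2)⟩

theorem ln_of_N {u P} (h1 : u ≠ 1) (h2 : u * u = 1) (hP : C.Pt P) (h : u ∈ Nm(P)) :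
    ∃ W, C.Ln W ∧ u ∈ W ∧ Inc P W := by
  refine (C.ln_N h1 h2 hP h).elim (fun h3 => ?_) id
  obtain ⟨-, W, -, hW, -, h4⟩ := C.ex_flag hq h1 h2
  exact ⟨W, hW, h4, u, h1, h3, h4⟩

theorem two_two {P P' W W' : Subgroup G} (hP : C.Pt P) (hP' : C.Pt P') (hW : C.Ln W)
    (hW' : C.Ln W') (h1 : Inc P W) (h2 : Inc P' W) (h3 : Inc P W') (h4 : Inc P' W') :
    P = P' ∨ W = W' := by
  obtain ⟨g, rfl, rfl⟩ := C.flag hq hP hW h1
  have k2 := h2.cj g⁻¹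
  have k3 := h3.cj g⁻¹
  have k4 := h4.cj g⁻¹
  have kP := hP'.cj g⁻¹
  have kW := hW'.cj g⁻¹
  rw [cj_inv_cj] at k2 k3
  rw [cj_eq_iff, cj_eq_iff]
  generalize cj g⁻¹ P' = Q at k2 k4 kP
  generalize cj g⁻¹ W' = U at k3 k4 kW
  obtain ⟨_, n1, ⟨x, w, rfl⟩, m1⟩ := k3
  obtain ⟨_, n2, m2, ⟨x', y, rfl⟩⟩ := k2
  by_cases hw : w = 0
  · subst hw
    exact Or.inr (C.ln_X hq kW (fun e => n1 (by rw [e, C.b1.zero])) m1).symm
  by_cases hy : y = 0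
  · subst hy
    exact Or.inl (C.pt_X hq kP (fun e => n2 (by rw [e, C.b2.zero])) (C.hz x' ▸ m2)).symm
  have := mul_mem (conj_mem_of_mem_normalizer ((C.inc_N hq kP kW k4).1 m1) m2) m2
  rw [C.conj12, ← C.b2.add, CharTwo.add_self_eq_zero, C.hz] at this
  exact Or.inl (C.pt_X hq kP (by grind) this).symm

include C in
theorem odd_cent {u x v : G} (hu : u * u = 1) (h : u * x * u⁻¹ = x⁻¹) (ho : Odd (orderOf x))
    (h1 : v ≠ 1) (h2 : v * v = 1) (hv : v * x = x * v) : x = 1 := by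
  have uN : u ∈ Nm(Cx(x)) := by
    rw [mem_normalizer_iff_cj, cj_Cx, h, ← Cz_zpowers, zpowers_inv, Cz_zpowers]
  have pu : IsPGroup 2 (zpowers u) := isPGroup_zpowers (k := 1) (by rw [pow_one, sq, hu])
  obtain ⟨T, hT, hu'⟩ := exists_sylIn_ge pu (le_sup_right (a := Cx(x)))
  have h3 := hT.inf_normal' (sup_le le_normalizer (zpowers_le.2 uN)) le_sup_left
  obtain ⟨y, hy, y1, y2⟩ := exists_mem_center_of_normal pu h3.pgrp
    (zpowers_le.2 (mem_Nm_inf (le_normalizer (hu' (mem_zpowers u))) uN))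
    (h3.ne_bot_iff.2 (orderOf_eq_prime (p := 2) (by rw [sq, h2]) h1 ▸
      orderOf_dvd_natCard _ (mem_Cx.2 hv)))
  obtain ⟨k, hk⟩ := isPGroup_iff_mem.1 h3.pgrp y hy
  obtain ⟨n, hn⟩ := exists_pow_orderOf_eq_prime hk y1
  obtain ⟨g, hg⟩ := C.conj_inv hq (u := y ^ n) (fun e => by simp [e] at hn)
    (by rw [← sq, ← hn, pow_orderOf_eq_one])
  have k1 : ∀ a, a * y = y * a → g⁻¹ * a * g ∈ Nm(C.J) := fun a ha => C.CX 1 one_ne_zero (by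
    rw [← mem_cj, cj_Cx, hg]; exact mem_Cx.2 (Commute.pow_right ha n))
  have k2 := C.inv_J (k1 u (y2 u (mem_zpowers u))) (by
    rw [show g⁻¹ * u * g * (g⁻¹ * u * g) = g⁻¹ * (u * u) * g by group, hu]; simp)
  have k3 := C.J_four (mul_mem (conj_mem_of_mem_normalizer (k1 x (mem_Cx.1 hy.2).symm) k2)
    (inv_mem k2))
  rw [show g⁻¹ * x * g * (g⁻¹ * u * g) * (g⁻¹ * x * g)⁻¹ * (g⁻¹ * u * g)⁻¹ =
    g⁻¹ * (x * (u * x * u⁻¹)⁻¹) * g⁻¹⁻¹ by group, h, inv_inv x, conj_pow, conj_eq_one_iff, ← sq,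
    ← pow_mul] at k3
  exact orderOf_eq_one_iff.1 (((Nat.coprime_two_right.2 ho).pow_right 3).eq_one_of_dvd
    (orderOf_dvd_of_pow_eq_one k3))

end Cf4

end CfL.Pl
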