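import Cfsg.Agent.L.BG

/-! Counting involutions: any two points are collinear. -/

set_option autoImplicit false

namespace CfL.Pl

open Subgroup CfH9 Cfsg

variable {G : Type*} [Group G] {F : Type*} [Field F]

def Sl (c : F → F → G) (n : G) (t t' : F) : Prop := ∃ s, s ≠ 0 ∧ n * c t 1 * n⁻¹ = c (s * t') s

theorem Sl.mul {c : F → F → G} {n n' : G} {σ : F →+* F} (hn : Semi c n σ) {t t' t'' : F}
    (h : Sl c n t' t'') (h' : Sl c n' t t') : Sl c (n * n') t t'' := by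
  obtain ⟨s, hs, h⟩ := h
  obtain ⟨s', hs', h'⟩ := h'
  have := hn s' _ _ _ _ h
  rw [mul_one, ← h', ← mul_assoc (σ s')] at this
  exact ⟨σ s' * s, by simp [hs, hs'], by rw [← this]; group⟩

theorem Sl.uniq {c : F → F → G} {L : Subgroup G} (B : Blk c L) {n : G} {t t' t'' : F}
    (h : Sl c n t t') (h' : Sl c n t t'') : t' = t'' := by
  obtain ⟨s, hs, h⟩ := h
  obtain ⟨s', hs', h'⟩ := h'
  rw [h, B.eq_iff] at h'
  grind

namespace Cf2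

variable {c1 c2 : F → F → G} {L1 L2 : Subgroup G} (C : Cf2 c1 c2 L1 L2) [Finite G]
include C

theorem aff {n : G} (h1 : n ∈ Nm(C.V1)) (h2 : n ∈ Nm(C.V2)) : ∃ (σ : F →+* F) (r p s : F),
    s ≠ 0 ∧ Semi c1 n σ ∧ (∀ t, n * c1 t 0 * n⁻¹ = c1 (σ t * r) 0) ∧
      ∀ t, n * c1 t 1 * n⁻¹ = c1 (σ t * r + p) s := by
  obtain ⟨σ, hσ⟩ := C.semi1 h1
  obtain ⟨r, -, h3⟩ := C.conjZ' h1 h2
  obtain ⟨p, s, h4⟩ := C.b1.ex_conj h1 0 1
  have h5 : ∀ t, n * c1 t 0 * n⁻¹ = c1 (σ t * r) 0 := fun t => by simpa using hσ t _ _ _ _ h3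
  refine ⟨σ, r, p, s, ?_, hσ, h5, fun t => by rw [C.c1_eq, cmul, h5, h4, ← C.b1.add, zero_add]⟩
  rintro rfl
  have := conj_mem_of_mem_normalizer' h2 (C.cZ p).2
  rw [← h4] at this
  exact one_ne_zero (C.c1_mem2 (x := 0) (by simpa [mul_assoc] using this))

variable [CharP F 2]

theorem fix_slope {Y : Subgroup G} (h1 : Y ≤ Nm(C.V1)) (h2 : Y ≤ Nm(C.V2))
    (ho : Odd (Nat.card Y)) : ∃ t, ∀ y ∈ Y, Sl c1 y t t := by
  have := Fintype.ofFinite Y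
  choose σ r p s hs hσ _ h4 using fun y : Y => C.aff (h1 y.2) (h2 y.2)
  have sl : ∀ (y : Y) t, Sl c1 y t ((σ y t * r y + p y) / s y) := fun y t =>
    ⟨s y, hs y, by rw [h4, mul_div_cancel₀ _ (hs y)]⟩
  refine ⟨∑ x : Y, (σ x 0 * r x + p x) / s x, fun y hy => ?_⟩
  lift y to Y using hy
  have e := Equiv.sum_comp (Equiv.mulLeft y) fun x => (σ x 0 * r x + p x) / s x
  have : ∀ x : Y, (σ (y * x) 0 * r (y * x) + p (y * x)) / s (y * x) =
      σ y ((σ x 0 * r x + p x) / s x) * (r y / s y) + p y / s y := fun x => by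
    rw [(sl (y * x) 0).uniq C.b1 ((sl y _).mul (hσ y) (sl x 0))]; ring
  obtain ⟨k, hk⟩ := ho
  simp only [Equiv.coe_mulLeft, this, Finset.sum_add_distrib, ← Finset.sum_mul, ← map_sum,
    Finset.sum_const, Finset.card_univ, ← Nat.card_eq_fintype_card, hk, nsmul_eq_mul] at e
  convert sl y _ using 1
  generalize ∑ x : Y, (σ x 0 * r x + p x) / s x = T at e
  push_cast at e
  rw [add_div, mul_div_assoc]
  linear_combination -e + k * CharTwo.add_self_eq_zero (p y / s y)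

theorem two_slopes [Finite F] {x : G} (h1 : x ∈ Nm(C.V1)) (h2 : x ∈ Nm(C.V2)) {t t' : F}
    (h : Sl c1 x t t) (h' : Sl c1 x t' t') (hne : t ≠ t') :
    ∃ v, v ≠ 1 ∧ v * v = 1 ∧ v * x = x * v := by
  by_contra hn
  push Not at hn
  obtain ⟨σ, r, p, s, hs, -, h3, h4⟩ := C.aff h1 h2
  obtain ⟨s1, -, h⟩ := h
  obtain ⟨s2, -, h'⟩ := h'
  obtain rfl : s1 = s := (C.b1.eq_iff.1 (h.symm.trans (h4 t))).2
  obtain rfl : s2 = s1 := (C.b1.eq_iff.1 (h'.symm.trans (h4 t'))).2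
  obtain ⟨p', y, h5⟩ := C.b2.ex_conj h2 0 (t + t')
  obtain rfl : y = t + t' := by
    have h6 := C.conj21 p' y (s2 * t) s2
    rw [← h5, ← h, show ∀ u v : G, x * u * x⁻¹ * (x * v * x⁻¹) * (x * u * x⁻¹)⁻¹ =
      x * (u * v * u⁻¹) * x⁻¹ by intros; group, C.conj21,
      show t + (t + t') * 1 = t' by grind, h', C.b1.eq_iff] at h6
    grind
  obtain ⟨z, hz⟩ := (Finite.injective_iff_surjective (f := fun z => σ z * r + z)).1 (fun a b e => by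
    by_contra hab
    refine hn (c1 (a + b) 0) (by rw [Ne, C.b1.eq_one_iff]; grind) (C.b1.sq _ _)
      (mul_inv_eq_iff_eq_mul.1 ?_).symm
    rw [h3, map_add, C.b1.eq_iff]
    grind) p'
  refine hn (c2 z (t + t')) (by rw [Ne, C.b2.eq_one_iff]; grind) (C.b2.sq _ _)
    (mul_inv_eq_iff_eq_mul.1 ?_).symm
  rw [C.c2_eq, cmul, h3, h5, C.c2_eq p', ← mul_assoc, ← C.b1.add]
  congr 2 <;> grind

end Cf2

namespace Cf4

variable {c1 c2 : F → F → G} {L1 L2 : Subgroup G} (C : Cf4 c1 c2 L1 L2)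

def Col (P P' : Subgroup G) : Prop := ∃ W, C.Ln W ∧ Inc P W ∧ Inc P' W

variable [Finite G] [CharP F 2] [Finite F] (hq : 4 ≤ Nat.card F)
include hq

theorem col_of {u : G} (h1 : u ≠ 1) (h2 : u * u = 1) (h : C.Col C.V1 (cj u C.V1)) {P : Subgroup G}
    (hP : C.Pt P) (hu : u ∈ P) : C.Col C.V1 P := by
  obtain ⟨W, hW, h3, h4⟩ := h
  have h5 := h4.cj u
  rw [← cj_mul, h2, cj_one] at h5
  rcases C.two_two hq C.pt1 (C.pt1.cj u) hW (hW.cj u) h3 h4 h5 (h3.cj u) with e | e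
  · obtain ⟨W', hW', h6, h7⟩ := C.ln_of_N hq h1 h2 C.pt1 (mem_normalizer_iff_cj.2 e.symm)
    exact ⟨W', hW', h7, u, h1, hu, h6⟩
  · obtain ⟨P', hP', h6, h7⟩ := C.swap.ln_of_N hq h1 h2 hW (mem_normalizer_iff_cj.2 e.symm)
    exact ⟨W, hW, h3, C.pt_uniq hq hP' hP ⟨u, h1, h6, hu⟩ ▸ h7.symm⟩

section nc

variable {P : Subgroup G} (hP : C.Pt P) (hnc : ¬ C.Col C.V1 P)
include hP hnc

theorem nc_odd {x : G} (h1 : x ∈ Nm(C.V1)) (h2 : x ∈ Nm(P)) : Odd (orderOf x) := by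
  by_contra ho
  obtain ⟨k, h3, h4⟩ := ex_inv ho
  obtain ⟨W, hW, h5, h6⟩ := C.ln_of_N hq h4 h3 C.pt1 (pow_mem h1 k)
  obtain ⟨W', hW', h7, h8⟩ := C.ln_of_N hq h4 h3 hP (pow_mem h2 k)
  exact hnc ⟨W, hW, h6, C.ln_uniq hq hW' hW ⟨_, h4, h7, h5⟩ ▸ h8⟩

omit hq hP hnc [Finite G] [CharP F 2] [Finite F] in
theorem nc_mem {u u' : G} (h1 : u * u = 1) (h2 : u' * u' = 1) (h3 : cj u C.V1 = P)
    (h4 : cj u' C.V1 = P) : u' * u ∈ Nm(C.V1) ∧ u' * u ∈ Nm(P) := by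
  constructor
  · rw [mem_normalizer_iff_cj, cj_mul, h3, ← h4, ← cj_mul, h2, cj_one]
  · rw [mem_normalizer_iff_cj, cj_mul, ← h3, ← cj_mul u, h1, cj_one, h3, h4]

theorem nc_fix {u u' : G} (h1 : u * u = 1) (h2 : u' * u' = 1) (h3 : cj u C.V1 = P)
    (h4 : cj u' C.V1 = P) {v : G} (h5 : v ≠ 1) (h6 : v * v = 1) (h7 : v * (u' * u) = u' * u * v) :
    u' = u := by
  obtain ⟨m1, m2⟩ := C.nc_mem h1 h2 h3 h4
  have := C.odd_cent hq h1 (by
    rw [mul_inv_rev, inv_eq_of_mul_eq_one_right h2, ← mul_assoc, mul_inv_cancel_right,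
      inv_eq_of_mul_eq_one_right h1]) (C.nc_odd hq hP hnc m1 m2) h5 h6 h7
  rw [eq_inv_of_mul_eq_one_left this, inv_eq_of_mul_eq_one_right h1]

theorem nc_false {u0 : G} (h1 : u0 * u0 = 1) (h2 : cj u0 C.V1 = P) {a : F} (ha : a ≠ 0)
    (ha1 : a ≠ 1) (hT : ∀ x w, c1 x w ≠ 1 → ∃ u, u * u = 1 ∧ cj u C.V1 = P ∧
      u0 * u * c1 1 0 * (u0 * u)⁻¹ = c1 x w) : False := by
  obtain ⟨t, ht⟩ := C.fix_slope (Y := Nm(C.V1) ⊓ Nm(P) ⊓ Nm(C.V2)) (inf_le_left.trans inf_le_left)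
    inf_le_right (Nat.not_even_iff_odd.1 fun e => by
      obtain ⟨x, hx, h⟩ := exists_orderOf_eq_prime (p := 2) e.two_dvd
      have := C.nc_odd hq hP hnc hx.1.1 hx.1.2
      rw [h] at this
      exact absurd this (by decide))
  obtain ⟨u, k1, k2, k3⟩ := hT t 1 (by simp [C.b1.eq_one_iff])
  obtain ⟨g1, g2⟩ := C.nc_mem k1 h1 k2 h2
  generalize u0 * u = g at k3 g1 g2
  obtain ⟨σ, hσ⟩ := C.semi1 g1
  have hs : ∀ s, ∃ l, g * c1 l 0 * g⁻¹ = c1 (s * t) s := fun s => by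
    obtain ⟨l, rfl⟩ := Finite.injective_iff_surjective.1 σ.injective s
    exact ⟨l, by simpa using hσ l _ _ _ _ k3⟩
  have gN : g⁻¹ ∈ Nm(Nm(C.V1) ⊓ Nm(P) ⊓ Nm(C.V2)) := mem_normalizer_of_conj_mem fun y hy => by
    have n1 := mul_mem (mul_mem (inv_mem g1) hy.1.1) (inv_mem (inv_mem g1))
    obtain ⟨s, -, h3⟩ := ht y hy
    obtain ⟨l, h4⟩ := hs s
    have n2 := mul_mem (mul_mem (inv_mem g2) hy.1.2) (inv_mem (inv_mem g2))
    refine ⟨⟨n1, n2⟩,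
      C.NJ_le2 (C.NJ_of1 n1 one_ne_zero (t' := l) ?_)⟩
    calc _ = g⁻¹ * (y * (g * c1 1 0 * g⁻¹) * y⁻¹) * g := by group
      _ = _ := by rw [k3, h3, ← h4]; group
  obtain ⟨u', k4, k5, k6⟩ := hT a 0 (by simp [C.b1.eq_one_iff, ha])
  obtain ⟨x1, x2⟩ := C.nc_mem k4 h1 k5 h2
  have x3 := C.NJ_le2 (C.NJ_of1 x1 one_ne_zero k6)
  obtain ⟨p, s', h3⟩ := C.b1.ex_conj g1 t 1
  by_cases hs' : s' = 0
  · subst hs'
    have := mem_of_sq (C.nc_odd hq hP hnc g1 g2) (C.NJ_le2 (C.NJ_of1 (mul_mem g1 g1) one_ne_zero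
      (t' := p) (by rw [← h3, ← k3]; group)))
    exact one_ne_zero (C.c1_mem2 (k3 ▸ conj_mem_of_mem_normalizer this (C.cZ 1).2))
  obtain ⟨τ, hτ⟩ := C.semi1 x1
  obtain ⟨s, hs0, h4⟩ := ht _ (conj_mem_of_mem_normalizer gN ⟨⟨x1, x2⟩, x3⟩)
  have h5 : u0 * u' * c1 p s' * (u0 * u')⁻¹ = c1 (σ s * p) (σ s * s') := by
    have := hσ s _ _ _ _ h3
    rw [mul_one] at this
    rw [← this, ← h4, ← h3]; group
  have h6 := hτ s'⁻¹ _ _ _ _ h5
  rw [inv_mul_cancel₀ hs'] at h6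
  obtain ⟨v, v1, v2, v3⟩ := C.two_slopes x1 x3 (ht _ ⟨⟨x1, x2⟩, x3⟩) (t' := s'⁻¹ * p)
    ⟨τ s'⁻¹ * (σ s * s'), by simp [hs', hs0], by rw [h6]; congr 1; field_simp⟩ (by
      rintro rfl
      obtain ⟨l, h7⟩ := hs s'
      rw [mul_inv_cancel_left₀ hs', ← h3, mul_left_inj, mul_right_inj, C.b1.eq_iff] at h7
      exact zero_ne_one h7.2)
  obtain rfl := C.nc_fix hq hP hnc k4 h1 k5 h2 v1 v2 v3
  rw [h1, one_mul, inv_one, mul_one, C.b1.eq_iff] at k6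
  exact ha1 k6.1.symm

end nc

theorem col {a : F} (ha : a ≠ 0) (ha1 : a ≠ 1) {P : Subgroup G} (hP : C.Pt P) : C.Col C.V1 P := by
  classical
  have := Fintype.ofFinite G
  have := Fintype.ofFinite (Subgroup G)
  let N : Finset (Subgroup G) := Finset.univ.filter fun P => C.Pt P ∧ ¬ C.Col C.V1 P
  let T : Subgroup G → Finset G := fun P => (Finset.univ.filter (· ∈ P)).erase 1
  have hT : ∀ P, C.Pt P → (T P).card = Nat.card F ^ 2 - 1 := by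
    rintro _ ⟨g, rfl⟩
    rw [Finset.card_erase_of_mem (by simp), ← C.b1.card_V, ← card_cj g, Nat.card_eq_fintype_card,
      Fintype.card_subtype]
  have mT : ∀ P u, u ∈ T P ↔ u ≠ 1 ∧ u ∈ P := by simp [T]
  have h1 : (N.biUnion T).card = (Nat.card F ^ 2 - 1) * N.card := by
    rw [Finset.card_biUnion, Finset.sum_congr rfl fun P hP => hT P (Finset.mem_filter.1 hP).2.1,
      Finset.sum_const, smul_eq_mul, mul_comm]
    intro P hP P' hP' hne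
    refine Finset.disjoint_left.2 fun u hu hu' => hne ?_
    exact C.pt_uniq hq (Finset.mem_filter.1 hP).2.1 (Finset.mem_filter.1 hP').2.1
      ⟨u, ((mT _ _).1 hu).1, ((mT _ _).1 hu).2, ((mT _ _).1 hu').2⟩
  have sq : ∀ u ∈ N.biUnion T, u * u = 1 := fun u hu => by
    obtain ⟨P, hP, hu⟩ := Finset.mem_biUnion.1 hu
    exact C.pt_sq (Finset.mem_filter.1 hP).2.1 ((mT _ _).1 hu).2
  have h2 := Finset.card_le_mul_card_image_of_maps_to (f := fun u => cj u C.V1) (s := N.biUnion T)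
    (t := N) (fun u hu => by
      obtain ⟨P, hP, hu'⟩ := Finset.mem_biUnion.1 hu
      obtain ⟨-, hP, hc⟩ := Finset.mem_filter.1 hP
      exact Finset.mem_filter.2 ⟨Finset.mem_univ _, C.pt1.cj u, fun e => hc
        (C.col_of hq ((mT _ _).1 hu').1 (sq u hu) e hP ((mT _ _).1 hu').2)⟩)
    (Nat.card F ^ 2 - 2) (fun P hP => by
      obtain ⟨-, hP, hc⟩ := Finset.mem_filter.1 hP
      by_contra hn
      obtain ⟨u0, hu0⟩ := Finset.card_pos.1 (Nat.zero_lt_of_lt (not_le.1 hn))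
      obtain ⟨k1, k2⟩ := Finset.mem_filter.1 hu0
      have := Finset.surjOn_of_injOn_of_card_le (s := (N.biUnion T).filter fun u => cj u C.V1 = P)
        (t := T C.V1) (fun u => u0 * u * c1 1 0 * (u0 * u)⁻¹) (fun u hu => by
          obtain ⟨k3, k4⟩ := Finset.mem_filter.1 hu
          exact (mT _ _).2 ⟨by rw [Ne, conj_eq_one_iff, C.b1.eq_one_iff]; simp,
            conj_mem_of_mem_normalizer (C.nc_mem (sq u k3) (sq u0 k1) k4 k2).1 (C.b1.cV _ _)⟩)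
        (fun u hu u' hu' e => by
          obtain ⟨k3, k4⟩ := Finset.mem_filter.1 hu
          obtain ⟨k5, k6⟩ := Finset.mem_filter.1 hu'
          refine (C.nc_fix hq hP hc (sq u k3) (sq u' k5) k4 k6 (v := c1 1 0)
            (by simp [C.b1.eq_one_iff]) (C.b1.sq _ _) ?_).symm
          have e' : u0 * u * c1 1 0 * (u0 * u)⁻¹ = u0 * u' * c1 1 0 * (u0 * u')⁻¹ := e
          calc _ = (u0 * u')⁻¹ * (u0 * u' * c1 1 0 * (u0 * u')⁻¹) * u0 * (u' * u') * u := by group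
            _ = u'⁻¹ * u * c1 1 0 := by rw [← e', sq u' k5]; group
            _ = _ := by rw [inv_eq_of_mul_eq_one_right (sq u' k5)])
        (by rw [hT _ C.pt1]; omega)
      refine C.nc_false hq hP hc (sq u0 k1) k2 ha ha1 fun x w h => ?_
      obtain ⟨u, hu, e⟩ := this ((mT _ _).2 ⟨h, C.b1.cV x w⟩)
      obtain ⟨k3, k4⟩ := Finset.mem_filter.1 hu
      exact ⟨u, sq u k3, k4, e⟩)
  by_contra hc
  have h3 : 0 < N.card := Finset.card_pos.2 ⟨P, Finset.mem_filter.2 ⟨Finset.mem_univ _, hP, hc⟩⟩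
  rw [h1] at h2
  have h4 := Nat.le_of_mul_le_mul_right h2 h3
  have : 16 ≤ Nat.card F ^ 2 := by nlinarith
  omega

theorem col' {a : F} (ha : a ≠ 0) (ha1 : a ≠ 1) {P P' : Subgroup G} (hP : C.Pt P) (hP' : C.Pt P') :
    C.Col P P' := by
  obtain ⟨g, rfl⟩ := hP
  obtain ⟨W, hW, h1, h2⟩ := C.col hq ha ha1 (hP'.cj g⁻¹)
  exact ⟨_, hW.cj g, h1.cj g, by simpa only [cj_cj_inv] using h2.cj g⟩

theorem meet {a : F} (ha : a ≠ 0) (ha1 : a ≠ 1) {W W' : Subgroup G} (hW : C.Ln W) (hW' : C.Ln W') :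
    ∃ P, C.Pt P ∧ Inc P W ∧ Inc P W' := by
  obtain ⟨P, hP, h1, h2⟩ := C.swap.col' hq ha ha1 hW hW'
  exact ⟨P, hP, h1.symm, h2.symm⟩

end Cf4

end CfL.Pl
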