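import Cfsg.Agent.L.BH

/-! Coordinates for the lines. -/

set_option autoImplicit false

namespace CfL.Pl

open Subgroup CfH9 Cfsg

variable {G : Type*} [Group G] {F : Type*} [Field F]

namespace Cf4

variable {c1 c2 : F → F → G} {L1 L2 : Subgroup G} (C : Cf4 c1 c2 L1 L2)

def Io (W0 : Subgroup G) (x y w : F) (W : Subgroup G) : Prop :=
  C.Ln W ∧ ((w = 0 ∧ c1 x y ≠ 1 ∧ c1 x y ∈ W) ∨ (w ≠ 0 ∧ W = cj (c1 (x / w) (y / w)) W0))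

variable [Finite G] [CharP F 2] [Finite F] (hq : 4 ≤ Nat.card F)
include hq

theorem ln_eq {W : Subgroup G} (hW : C.Ln W) {l : G} {x y b e : F} (h : Act c1 l x b y e)
    (h1 : c1 x y ∈ W) : W = cj l C.V2 := by
  have h2 : l * c1 1 0 * l⁻¹ = c1 x y := by rw [h]; simp
  rw [← C.ln_X hq (hW.cj l⁻¹) one_ne_zero (by rwa [mem_cj_inv, h2]), cj_cj_inv]

theorem ln_smul {W : Subgroup G} (hW : C.Ln W) {x y : F} (h0 : c1 x y ≠ 1) (h1 : c1 x y ∈ W)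
    (t : F) : c1 (t * x) (t * y) ∈ W := by
  obtain ⟨l, -, b, e, -, h⟩ := C.b1.trans (x := x) (y := y) fun e => h0 (C.b1.eq_one_iff.2 e)
  have := conj_mem_cj l (C.cZ t).2
  rw [h, ← C.ln_eq hq hW h h1] at this
  simpa [mul_comm] using this

theorem ln_prop {W : Subgroup G} (hW : C.Ln W) {x y x' y' : F} (h0 : c1 x y ≠ 1) (h1 : c1 x y ∈ W)
    (h2 : c1 x' y' ∈ W) : ∃ t, x' = t * x ∧ y' = t * y := by
  obtain ⟨l, hl, b, e, -, h⟩ := C.b1.trans (x := x) (y := y) fun e => h0 (C.b1.eq_one_iff.2 e)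
  rw [C.ln_eq hq hW h h1, mem_cj] at h2
  obtain ⟨t, ht⟩ := C.mem_Z.1 ⟨conj_mem_of_mem_normalizer' (C.b1.L_le hl) (C.b1.cV _ _), h2⟩
  have := h t 0
  rw [ht, show l * (l⁻¹ * c1 x' y' * l) * l⁻¹ = c1 x' y' by group, C.b1.eq_iff] at this
  exact ⟨t, by grind, by grind⟩

theorem move {a : F} (ha : a ≠ 0) (ha1 : a ≠ 1) {P Q W W' : Subgroup G} (hP : C.Pt P)
    (hQ : C.Pt Q) (hW : C.Ln W) (hW' : C.Ln W') (h1 : Inc Q W) (h2 : Inc Q W') (h3 : ¬ Inc P W)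
    (h4 : ¬ Inc P W') : ∃ u ∈ P, cj u W = W' := by
  obtain ⟨m, hm, k1, k2⟩ := C.col' hq ha ha1 hP hQ
  obtain ⟨g, rfl, rfl⟩ := C.flag hq hQ hm k2
  obtain ⟨P, rfl⟩ : ∃ R, cj g R = P := ⟨_, cj_cj_inv g P⟩
  obtain ⟨W, rfl⟩ : ∃ R, cj g R = W := ⟨_, cj_cj_inv g W⟩
  obtain ⟨W', rfl⟩ : ∃ R, cj g R = W' := ⟨_, cj_cj_inv g W'⟩
  replace k1 := k1.cj g⁻¹
  replace h1 := h1.cj g⁻¹
  replace h2 := h2.cj g⁻¹
  replace hP := hP.cj g⁻¹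
  replace hW := hW.cj g⁻¹
  replace hW' := hW'.cj g⁻¹
  replace h3 : ¬ Inc P W := fun e => h3 (e.cj g)
  replace h4 : ¬ Inc P W' := fun e => h4 (e.cj g)
  simp only [cj_inv_cj] at k1 h1 h2 hP hW hW'
  have key : ∀ W, C.Ln W → Inc C.V1 W → ¬ Inc P W → ∃ x, c1 x 1 ∈ W := by
    rintro W hW ⟨_, n, ⟨x, y, rfl⟩, h⟩ h'
    by_cases hy : y = 0
    · subst hy
      exact absurd (C.ln_X hq hW (fun e => n (by rw [e, C.b1.zero])) h ▸ k1) h'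
    · exact ⟨_, inv_mul_cancel₀ hy ▸ C.ln_smul hq hW n h y⁻¹⟩
  obtain ⟨x, hx⟩ := key W hW h1 h3
  obtain ⟨x', hx'⟩ := key W' hW' h2 h4
  obtain ⟨_, n, h, u, y, rfl⟩ := k1
  have hy : y ≠ 0 := by
    rintro rfl
    exact h3 (C.pt_X hq hP (fun e => n (by rw [e, C.b2.zero])) (C.hz u ▸ h) ▸ h1)
  have h5 := C.swap.ln_smul hq hP n h ((x + x') / y)
  refine ⟨_, conj_mem_cj g h5, ?_⟩
  rw [← cj_mul, inv_mul_cancel_right, cj_mul, cj_inj]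
  refine C.ln_uniq hq (hW.cj _) hW' ⟨_, ?_, conj_mem_cj _ hx, ?_⟩ <;> rw [C.conj21]
  · simp [C.b1.eq_one_iff]
  · convert hx' using 2
    grind

variable {W0 : Subgroup G} (hW0 : C.Ln W0) (hn : ¬ Inc C.V1 W0)
include hW0 hn

omit hq hW0 [CharP F 2] [Finite F] in
theorem not_inc {g : G} (hg : g ∈ Nm(C.V1)) : ¬ Inc C.V1 (cj g W0) := fun h => hn (by
  simpa only [cj_inv_cj, cj_eq_of_mem_normalizer (inv_mem hg)] using h.cj g⁻¹)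

theorem cj_c1_inj {x y x' y' : F} (h : cj (c1 x y) W0 = cj (c1 x' y') W0) : x = x' ∧ y = y' := by
  rw [cj_eq_iff, C.b1.inv, ← cj_mul, ← C.b1.add, eq_comm, ← mem_normalizer_iff_cj] at h
  by_contra hne
  have n : c1 (x + x') (y + y') ≠ 1 := by rw [Ne, C.b1.eq_one_iff]; grind
  obtain ⟨P, hP, h1, h2⟩ := C.swap.ln_of_N hq n (C.b1.sq _ _) hW0 h
  exact hn (C.pt_uniq hq hP C.pt1 ⟨_, n, h1, C.b1.cV _ _⟩ ▸ h2.symm)

theorem ex_c1 {a : F} (ha : a ≠ 0) (ha1 : a ≠ 1) {W : Subgroup G} (hW : C.Ln W)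
    (h : ¬ Inc C.V1 W) : ∃ x y, W = cj (c1 x y) W0 := by
  obtain ⟨Q, hQ, h1, h2⟩ := C.meet hq ha ha1 hW0 hW
  obtain ⟨_, ⟨x, y, rfl⟩, h3⟩ := C.move hq ha ha1 C.pt1 hQ hW0 hW h1 h2 hn h
  exact ⟨x, y, h3.symm⟩

theorem io_surj {a : F} (ha : a ≠ 0) (ha1 : a ≠ 1) {W : Subgroup G} (hW : C.Ln W) :
    ∃ x y w, C.Io W0 x y w W := by
  by_cases h : Inc C.V1 W
  · obtain ⟨_, n, ⟨x, y, rfl⟩, h⟩ := h
    exact ⟨x, y, 0, hW, Or.inl ⟨rfl, n, h⟩⟩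
  · obtain ⟨x, y, h⟩ := C.ex_c1 hq hW0 hn ha ha1 hW h
    exact ⟨x, y, 1, hW, Or.inr ⟨one_ne_zero, by simpa using h⟩⟩

omit hn in
theorem io_ex {x y w : F} (h : ¬ (x = 0 ∧ y = 0 ∧ w = 0)) : ∃ W, C.Io W0 x y w W := by
  by_cases hw : w = 0
  · have n : c1 x y ≠ 1 := by rw [Ne, C.b1.eq_one_iff]; tauto
    obtain ⟨-, W, -, hW, -, h1⟩ := C.ex_flag hq n (C.b1.sq _ _)
    exact ⟨W, hW, Or.inl ⟨hw, n, h1⟩⟩
  · exact ⟨_, hW0.cj _, Or.inr ⟨hw, rfl⟩⟩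

omit hW0 hn in
variable {C} in
theorem Io.uniq {x y w : F} {W W' : Subgroup G} (h : C.Io W0 x y w W) (h' : C.Io W0 x y w W') :
    W = W' := by
  obtain ⟨h1, h2 | h2⟩ := h <;> obtain ⟨h3, h4 | h4⟩ := h'
  · exact C.ln_uniq hq h1 h3 ⟨_, h2.2.1, h2.2.2, h4.2.2⟩
  · exact absurd h2.1 h4.1
  · exact absurd h4.1 h2.1
  · exact h2.2.trans h4.2.symm

omit hW0 hn in
variable {C} in
theorem Io.smul {x y w : F} {W : Subgroup G} (h : C.Io W0 x y w W) {t : F} (ht : t ≠ 0) :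
    C.Io W0 (t * x) (t * y) (t * w) W := by
  obtain ⟨h1, ⟨rfl, h2, h3⟩ | ⟨h2, h3⟩⟩ := h
  · refine ⟨h1, Or.inl ⟨mul_zero _, ?_, C.ln_smul hq h1 h2 h3 t⟩⟩
    rw [Ne, C.b1.eq_one_iff] at h2 ⊢
    simpa [ht] using h2
  · exact ⟨h1, Or.inr ⟨mul_ne_zero ht h2, by
      rwa [mul_div_mul_left _ _ ht, mul_div_mul_left _ _ ht]⟩⟩

omit hW0 hn hq [Finite G] [CharP F 2] [Finite F] in
variable {C} in
theorem Io.ne {x y w : F} {W : Subgroup G} (h : C.Io W0 x y w W) : ¬ (x = 0 ∧ y = 0 ∧ w = 0) := by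
  rintro ⟨rfl, rfl, rfl⟩
  obtain ⟨-, h | h⟩ := h
  · exact h.2.1 C.b1.zero
  · exact h.1 rfl

variable {C} in
theorem Io.inj {x y w x' y' w' : F} {W : Subgroup G} (h : C.Io W0 x y w W)
    (h' : C.Io W0 x' y' w' W) : ∃ t, x' = t * x ∧ y' = t * y ∧ w' = t * w := by
  obtain ⟨h1, ⟨rfl, h2, h3⟩ | ⟨h2, h3⟩⟩ := h <;> obtain ⟨-, ⟨rfl, h4, h5⟩ | ⟨h4, h5⟩⟩ := h'
  · obtain ⟨t, h6, h7⟩ := C.ln_prop hq h1 h2 h3 h5
    exact ⟨t, h6, h7, by simp⟩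
  · exact absurd ⟨_, h2, C.b1.cV _ _, h5 ▸ h3⟩ (C.not_inc hn (le_normalizer (C.b1.cV _ _)))
  · exact absurd ⟨_, h4, C.b1.cV _ _, h3 ▸ h5⟩ (C.not_inc hn (le_normalizer (C.b1.cV _ _)))
  · obtain ⟨h6, h7⟩ := C.cj_c1_inj hq hW0 hn (h3.symm.trans h5)
    exact ⟨w' / w, by grind, by grind, by grind⟩

omit hW0 hn hq [CharP F 2] [Finite F] [Finite G] in
variable {C} in
theorem Io.act {x y w : F} {W : Subgroup G} (h : C.Io W0 x y w W) {l : G} {a b d e p r : F}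
    (h1 : Act c1 l a b d e) (h2 : cj l W0 = cj (c1 p r) W0) :
    C.Io W0 (a * x + b * y + p * w) (d * x + e * y + r * w) w (cj l W) := by
  obtain ⟨h3, ⟨rfl, h4, h5⟩ | ⟨h4, rfl⟩⟩ := h
  · refine ⟨h3.cj l, Or.inl ⟨rfl, ?_, ?_⟩⟩ <;> simp only [mul_zero, add_zero, ← h1 x y]
    · rwa [Ne, conj_eq_one_iff]
    · exact conj_mem_cj l h5
  · refine ⟨h3.cj l, Or.inr ⟨h4, ?_⟩⟩
    rw [← cj_mul, ← inv_mul_cancel_right (l * _) l, cj_mul, h1, h2, ← cj_mul, ← C.b1.add]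
    congr 2 <;> field_simp

theorem exL {a0 : F} (ha : a0 ≠ 0) (ha1 : a0 ≠ 1) {a b d e : F} (h : a * e - b * d = 1) (p r : F) :
    ∃ l ∈ L1, Act c1 l a b d e ∧ cj l W0 = cj (c1 p r) W0 := by
  obtain ⟨l, hl, h1⟩ := C.b1.ex a b d e h
  obtain ⟨x, y, h2⟩ := C.ex_c1 hq hW0 hn ha ha1 (hW0.cj l) (C.not_inc hn (C.b1.L_le hl))
  refine ⟨c1 (x + p) (y + r) * l, mul_mem (C.b1.mem _ _) hl, fun u v => ?_, ?_⟩
  · rw [show ∀ k z : G, k * l * z * (k * l)⁻¹ = k * (l * z * l⁻¹) * k⁻¹ by intros; group, h1,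
      C.b1.comm, mul_inv_cancel_right]
  · rw [cj_mul, h2, ← cj_mul, ← C.b1.add]
    congr 2 <;> grind

theorem faithful {n : G} (h : ∀ W, C.Ln W → cj n W = W) :
    n = 1 := by
  obtain ⟨W, hW, h1 | h1⟩ := C.io_ex hq hW0 (x := 0) (y := 1) (w := 0) (by simp)
  swap
  · exact absurd rfl h1.1
  have i : Inc C.V1 W := ⟨_, h1.2.1, C.b1.cV _ _, h1.2.2⟩
  have h2 : n ∈ Nm(C.V1) := mem_normalizer_iff_cj.2 ((C.two_two hq (C.pt1.cj n) C.pt1 hW C.ln2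
    (h W hW ▸ i.cj n) i (h _ C.ln2 ▸ C.inc12.cj n) C.inc12).resolve_right fun e =>
      one_ne_zero (C.c1_mem2 (e ▸ h1.2.2)))
  obtain ⟨x, y, rfl⟩ := C.C1 (mem_centralizer_of_conj_eq (g := n) (by
    rintro _ ⟨x, y, rfl⟩
    obtain ⟨x', y', h3⟩ := C.b1.ex_conj h2 x y
    have := h _ (hW0.cj (c1 x y))
    rw [← cj_mul, ← inv_mul_cancel_right (n * _) n, cj_mul, h _ hW0, h3] at this
    rw [h3, C.b1.eq_iff]
    exact C.cj_c1_inj hq hW0 hn this))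
  exact C.b1.eq_one_iff.2 (C.cj_c1_inj hq hW0 hn (by rw [h _ hW0, C.b1.zero, cj_one]))

end Cf4

end CfL.Pl
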