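import Cfsg.Agent.L.BI
import Cfsg.Agent.H3.AutPSL
import Cfsg.Agent.S0836
import Mathlib.LinearAlgebra.Projectivization.PSL.PSL2
import Cfsg.Agent.OD.Leadx72238e984c

/-! The involutions generate `L₃(q)`. -/

set_option autoImplicit false

namespace CfL.Pl

open Subgroup CfH9 Cfsg Matrix
open scoped MatrixGroups LinearAlgebra.Projectivization

variable {G : Type*} [Group G] {F : Type*} [Field F]

open Matrix.SpecialLinearGroup MulAction in
theorem psl3_simple : IsSimpleGroup PSL(3, F) := by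
  have : Group.IsPerfect SL(3, F) := ⟨eq_top_iff.2 fun A _ =>
    CfH3.sl_transvection_induction (· ∈ _root_.commutator SL(3, F)) (fun i j h c => by
      rw [commutator_eq_closure]
      exact subset_closure (Cfsg.Agent.S0836.result 3 (Or.inl le_rfl) i j h c _ rfl))
      (fun _ _ => mul_mem) A⟩
  have : Group.IsPerfect PSL(3, F) := inferInstance
  refine IwasawaStructure.isSimpleGroup (α := ℙ F (Fin 3 → F)) this.commutator_eq_top
    ⟨PSL.iwasawaT, fun p => ?_, fun g p => ?_, ?_⟩ inferInstance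
  · have hSL : IsMulCommutative (lineStab (F := F) (ι := Fin 3) p.submodule) := by
      rw [← Projectivization.mk_rep p, Projectivization.submodule_mk]
      exact lineStab_isMulCommutative_of_span p.rep p.rep_nonzero
    exact Subgroup.map_isMulCommutative _ _
  · obtain ⟨g, rfl⟩ := QuotientGroup.mk_surjective g
    rw [Matrix.ProjectiveSpecialLinearGroup.smul_proj_mk]
    change Subgroup.map _ _ = _
    rw [PSL.smul_submodule, Matrix.SpecialLinearGroup.lineStab_smul, PSL.iwasawaT_map_conj]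
  · refine eq_top_iff.2 fun A _ => ?_
    obtain ⟨A, rfl⟩ := QuotientGroup.mk_surjective A
    refine CfH3.sl_transvection_induction
      (fun A => (A : PSL(3, F)) ∈ iSup (PSL.iwasawaT (F := F) (ι := Fin 3))) (fun i j h c => ?_)
      (fun _ _ => mul_mem) A
    refine mem_iSup_of_mem (Projectivization.mk F (Pi.single i 1) (by simp)) (mem_map_of_mem _ ?_)
    rw [Projectivization.submodule_mk]
    exact SL2Gen.transvection_mem_lineStab h c

namespace Cf4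

variable {c1 c2 : F → F → G} {L1 L2 : Subgroup G} (C : Cf4 c1 c2 L1 L2)

def Rep (W0 : Subgroup G) (g : G) (M : Matrix (Fin 3) (Fin 3) F) : Prop :=
  ∀ (v : Fin 3 → F) W, C.Io W0 (v 0) (v 1) (v 2) W →
    C.Io W0 ((M *ᵥ v) 0) ((M *ᵥ v) 1) ((M *ᵥ v) 2) (cj g W)

variable {C} in
theorem Rep.mul {W0 : Subgroup G} {g g' : G} {M M' : Matrix (Fin 3) (Fin 3) F} (h : C.Rep W0 g M)
    (h' : C.Rep W0 g' M') : C.Rep W0 (g * g') (M * M') := fun v W hv => by
  rw [cj_mul, ← mulVec_mulVec]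
  exact h _ _ (h' _ _ hv)

theorem rep_act {W0 : Subgroup G} {l : G} {a b d e p r : F}
    (h1 : Act c1 l a b d e) (h2 : cj l W0 = cj (c1 p r) W0) :
    C.Rep W0 l !![a, b, p; d, e, r; 0, 0, 1] := fun v W hv => by
  simpa [mulVec, dotProduct, Fin.sum_univ_three] using hv.act h1 h2

variable [Finite G] [CharP F 2] [Finite F] (hq : 4 ≤ Nat.card F) {a : F} (ha : a ≠ 0) (ha1 : a ≠ 1)
include hq ha ha1

theorem frame : ∃ W0 s, C.Ln W0 ∧ ¬ Inc C.V1 W0 ∧ s * s = 1 ∧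
    C.Rep W0 s !![1, 0, 0; 0, 1, 0; 0, 1, 1] := by
  obtain ⟨l, hl, h1⟩ := C.b2.ex 0 1 1 0 (by grind)
  replace h1 : ∀ x y, l * c2 x y * l⁻¹ = c2 y x := fun x y => by rw [h1]; simp
  have hP := C.pt1.cj l
  have m1 : ∀ y, c2 0 y ∈ cj l C.V1 := fun y => h1 y 0 ▸ conj_mem_cj l (C.hz y ▸ C.b1.cV _ _)
  have i2 : Inc (cj l C.V1) C.V2 := ⟨_, by simp [C.b2.eq_one_iff], m1 1, C.b2.cV _ _⟩
  have ms := conj_mem_cj l (C.b1.cV 0 1)
  have h2 : ∀ x y, l * c1 0 1 * l⁻¹ * c2 x y * (l * c1 0 1 * l⁻¹)⁻¹ = c2 x (y + x) := fun x y => by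
    rw [← h1 y x, show ∀ u v : G, l * u * l⁻¹ * (l * v * l⁻¹) * (l * u * l⁻¹)⁻¹ =
      l * (u * v * u⁻¹) * l⁻¹ by intros; group, C.conj12, h1, one_mul]
  have n1 : l * c1 0 1 * l⁻¹ ≠ 1 := by simp [C.b1.eq_one_iff]
  have n2 : l * c1 0 1 * l⁻¹ ∉ C.V2 := fun e => one_ne_zero (C.c1_mem2 (x := 0) (by
    simpa [mul_assoc] using conj_mem_of_mem_normalizer' (C.b2.L_le hl) e))
  generalize l * c1 0 1 * l⁻¹ = s at ms h2 n1 n2
  generalize cj l C.V1 = P at hP m1 i2 ms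
  have s2 := C.pt_sq hP ms
  obtain ⟨-, W0, -, hW0, -, m0⟩ := C.ex_flag hq n1 s2
  have i0 : Inc P W0 := ⟨s, n1, ms, m0⟩
  have hn : ¬ Inc C.V1 W0 := fun e => (C.two_two hq C.pt1 hP C.ln2 hW0 C.inc12 i2 e i0).elim
    (fun e => one_ne_zero (C.c2_mem1 (e ▸ m1 1))) fun e => n2 (e ▸ m0)
  refine ⟨W0, s, hW0, hn, s2, ?_⟩
  have io2 : C.Io W0 1 0 0 C.V2 := ⟨C.ln2, Or.inl ⟨rfl, by simp [C.b1.eq_one_iff], (C.cZ 1).2⟩⟩
  have a2 : ∀ x y, cj (c2 x y) W0 = cj (c1 x 0) W0 := fun x y => by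
    rw [C.c2_eq, cj_mul, cj_eq_of_mem_normalizer ((C.inc_N hq hP hW0 i0).2 (m1 y))]
  have iP : ∀ x w W, C.Io W0 x 0 w W → Inc P W := by
    rintro x w W ⟨k1, ⟨rfl, k2, k3⟩ | ⟨-, rfl⟩⟩
    · exact C.ln_X hq k1 (fun e => k2 (by rw [e, C.b1.zero])) k3 ▸ i2
    · have := i0.cj (c1 (x / w) (0 / w))
      rwa [cj_eq_of_mem_normalizer ((C.inc_N hq hP C.ln2 i2).1
        (by rw [zero_div]; exact (C.cZ _).2))] at this
  obtain ⟨k, -, k1, k2⟩ := C.exL hq hW0 hn ha ha1 (a := 0) (b := 1) (d := 1) (e := 0) (by grind) 0 0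
  have k3 : ∀ x y w W, C.Io W0 x y w (cj k W) → C.Io W0 y x w W := fun x y w W h => by
    obtain ⟨W', h'⟩ := C.io_ex hq hW0 (x := y) (y := x) (w := w) (by have := h.ne; tauto)
    have := h'.act k1 k2
    simp only [zero_mul, one_mul, zero_add, add_zero] at this
    exact cj_inj.1 (this.uniq hq h) ▸ h'
  have iQ : Inc (cj k P) W0 := by
    have := i0.cj k
    rwa [k2, C.b1.zero, cj_one] at this
  have key : ∀ w W, C.Io W0 0 1 w W → C.Io W0 0 1 (1 + w) (cj s W) := fun w W h => by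
    obtain ⟨x, y, z, h'⟩ := C.io_surj hq hW0 hn ha ha1 (h.1.cj s)
    have j1 := ((iP _ _ _ (k3 _ _ _ (cj k⁻¹ W) (by rwa [cj_cj_inv]))).cj k).cj s
    rw [cj_cj_inv, cj_eq_of_mem_normalizer ((C.inc_N hq (hP.cj k) hW0 iQ).1 m0),
      ← cj_cj_inv k (cj s W)] at j1
    replace j1 := j1.cj k⁻¹
    rw [cj_inv_cj, cj_inv_cj] at j1
    have j2 := k3 _ _ _ (cj k⁻¹ (cj s W)) (by rwa [cj_cj_inv])
    have j3 := j2.act (C.act21 0 1) (a2 0 1)
    rw [cj_eq_of_mem_normalizer ((C.inc_N hq hP j2.1 j1).2 (m1 1))] at j3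
    obtain ⟨t, e1, e2, e3⟩ := j2.inj hq hW0 hn j3
    obtain rfl : x = 0 := by grind
    have j4 := h.act (C.act21 1 w) (a2 1 w)
    rw [show 1 * 0 + w * 1 + 1 * w = 0 by grind, show 0 * 0 + 1 * 1 + 0 * w = 1 by ring] at j4
    have j5 := h'.act (C.act21 1 (w + 1)) (a2 1 _)
    rw [← h2, ← cj_mul, inv_mul_cancel_right, cj_mul, j4.uniq hq h] at j5
    obtain ⟨t, e1, e2, e3⟩ := h'.inj hq hW0 hn j5
    have hy : y ≠ 0 := fun e => h'.ne (by grind)
    convert h'.smul hq (inv_ne_zero hy) using 1 <;> grind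
  intro v W hv
  suffices C.Io W0 (v 0) (v 1) (v 1 + v 2) (cj s W) by
    simpa [mulVec, dotProduct, Fin.sum_univ_three] using this
  generalize v 0 = x, v 1 = y, v 2 = w at hv ⊢
  by_cases hy : y = 0
  · subst hy
    rwa [zero_add, cj_eq_of_mem_normalizer ((C.inc_N hq hP hv.1 (iP _ _ _ hv)).2 ms)]
  have j1 := (hv.smul hq (inv_ne_zero hy)).act (C.act21 0 (x / y)) (a2 0 _)
  have j2 := (key (w / y) _ (by convert j1 using 1 <;> grind)).act (C.act21 0 (x / y)) (a2 0 _)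
  have := mul_inv_eq_iff_eq_mul.1 (h2 0 (x / y))
  rw [add_zero] at this
  rw [← cj_mul, ← cj_mul, ← this, mul_assoc s, C.b2.sq, mul_one] at j2
  convert j2.smul hq hy using 1 <;> grind

include C in
theorem iso : ∃ f : PSL(3, F) →* G, Function.Injective f ∧ L1 ≤ f.range ∧
    f.range = Subgroup.closure {u : G | u * u = 1} := by
  obtain ⟨W0, s, hW0, hn, s2, hs⟩ := C.frame hq ha ha1
  have uq : ∀ {g g' M}, C.Rep W0 g M → C.Rep W0 g' M → g = g' := fun {g g' M} h h' => by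
    rw [← inv_mul_eq_one]
    refine C.faithful hq hW0 hn fun W hW => ?_
    obtain ⟨x, y, w, h1⟩ := C.io_surj hq hW0 hn ha ha1 hW
    rw [cj_mul, (h' ![x, y, w] W h1).uniq hq (h ![x, y, w] W h1), cj_inv_cj]
  have hL : L1 ≤ Subgroup.closure {u : G | u * u = 1} := C.L1_le
    (sup_le (fun u hu => subset_closure (C.pt_sq C.pt1 hu))
      fun u hu => subset_closure (C.swap.pt_sq C.swap.pt1 hu)) fun g _ =>
    mem_normalizer_of_cj_le (by
      rw [cj_closure]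
      refine closure_mono ?_
      rintro _ ⟨u, hu, rfl⟩
      change _ * _ = 1
      rw [← cmul, show u * u = 1 from hu]; simp)
  let R : Matrix (Fin 3) (Fin 3) F → Prop := fun M => ∃ g ∈ Subgroup.closure {u : G | u * u = 1}, C.Rep W0 g M
  have Rm : ∀ {M N}, R M → R N → R (M * N) := fun ⟨g, h1, h2⟩ ⟨g', h3, h4⟩ =>
    ⟨_, mul_mem h1 h3, h2.mul h4⟩
  have R1 : ∀ a b d e p r, a * e - b * d = 1 → R !![a, b, p; d, e, r; 0, 0, 1] :=
    fun a b d e p r h => by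
      obtain ⟨l, hl, h1, h2⟩ := C.exL hq hW0 hn ha ha1 h p r
      exact ⟨l, hL hl, C.rep_act h1 h2⟩
  have R2 : ∀ c, R !![1, 0, 0; 0, 1, 0; 0, c, 1] := fun c => by
    by_cases hc : c = 0
    · exact hc ▸ R1 1 0 0 1 0 0 (by simp)
    simpa [hc] using Rm (Rm (R1 c 0 0 c⁻¹ 0 0 (by simp [hc])) ⟨s, subset_closure s2, hs⟩)
      (R1 c⁻¹ 0 0 c 0 0 (by simp [hc]))
  have R3 : ∀ c, R !![1, 0, 0; 0, 1, 0; c, 0, 1] := fun c => by
    simpa using Rm (Rm (R1 0 1 1 0 0 0 (by grind)) (R2 c)) (R1 0 1 1 0 0 0 (by grind))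
  have RA : ∀ A : SL(3, F), R A := CfH3.sl_transvection_induction _ (fun i j h c => by
    rw [SpecialLinearGroup.transvection_coe]
    fin_cases i <;> fin_cases j <;> first | exact absurd rfl h | skip
    · convert R1 1 c 0 1 0 0 (by simp); ext i j; fin_cases i <;> fin_cases j <;> simp
    · convert R1 1 0 0 1 c 0 (by simp); ext i j; fin_cases i <;> fin_cases j <;> simp
    · convert R1 1 0 c 1 0 0 (by simp); ext i j; fin_cases i <;> fin_cases j <;> simp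
    · convert R1 1 0 0 1 0 c (by simp); ext i j; fin_cases i <;> fin_cases j <;> simp
    · convert R3 c; ext i j; fin_cases i <;> fin_cases j <;> simp
    · convert R2 c; ext i j; fin_cases i <;> fin_cases j <;> simp) fun _ _ => Rm
  choose φ h1 h2 using RA
  let f0 : SL(3, F) →* G := MonoidHom.mk' φ fun A B => uq (h2 _) ((h2 A).mul (h2 B))
  let f : PSL(3, F) →* G := QuotientGroup.lift _ f0 fun A hA => uq (h2 A) fun v W hv => by
    obtain ⟨r, h3, h4⟩ := Matrix.SpecialLinearGroup.mem_center_iff.1 hA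
    simpa [← h4, cj_one] using hv.smul hq (t := r) (by rintro rfl; simp at h3)
  have hf : ∀ {g M}, C.Rep W0 g M → M.det = 1 → g ∈ f.range := fun {g M} h h' =>
    ⟨QuotientGroup.mk ⟨M, h'⟩, uq (h2 _) h⟩
  have h3 : L1 ≤ f.range := fun l hl => by
    obtain ⟨a, b, d, e, h3, h4⟩ := C.b1.act l hl
    obtain ⟨x, y, h5⟩ := C.ex_c1 hq hW0 hn ha ha1 (hW0.cj l) (C.not_inc hn (C.b1.L_le hl))
    exact hf (C.rep_act h4 h5) (by simpa [det_fin_three] using h3)
  have h4 : ∀ {g W}, g ∈ f.range → W ≤ f.range → cj g W ≤ f.range := fun hg h =>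
    (cj_mono _ h).trans (cj_eq_of_mem hg).le
  have h5 : ∀ x y W, C.Io W0 x y 0 W → W ≤ f.range := by
    rintro x y W ⟨k1, ⟨-, k2, k3⟩ | ⟨k2, -⟩⟩
    · obtain ⟨l, hl, b, e, -, h⟩ := C.b1.trans (x := x) (y := y) fun e => k2 (C.b1.eq_one_iff.2 e)
      exact C.ln_eq hq k1 h k3 ▸ h4 (h3 hl) (C.V2_le_L1.trans h3)
    · exact absurd rfl k2
  have h6 : W0 ≤ f.range := by
    obtain ⟨W, hW⟩ := C.io_ex hq hW0 (x := 0) (y := 1) (w := 0) (by simp)
    obtain ⟨-, ⟨k, -⟩ | ⟨-, k⟩⟩ := hs ![0, 1, 0] W hW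
    · simp [mulVec, dotProduct, Fin.sum_univ_three] at k
    rw [eq_comm, cj_eq_iff] at k
    exact k ▸ h4 (inv_mem (h3 (C.b1.mem _ _))) (h4 (hf hs (by simp [det_fin_three])) (h5 _ _ _ hW))
  refine ⟨f, (MonoidHom.ker_eq_bot_iff f).1 (((psl3_simple (F := F)).eq_bot_or_eq_top_of_normal _
    inferInstance).resolve_right fun e => ?_), h3, le_antisymm ?_ ((closure_le _).2 fun u hu => ?_)⟩
  · obtain ⟨A, hA⟩ := h3 (C.b1.mem 1 0)
    rw [show f A = 1 from e.ge (mem_top A), eq_comm, C.b1.eq_one_iff] at hA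
    exact one_ne_zero hA.1
  · rintro _ ⟨A, rfl⟩
    obtain ⟨A, rfl⟩ := QuotientGroup.mk_surjective A
    exact h1 A
  · by_cases h : u = 1
    · exact h ▸ one_mem _
    obtain ⟨-, W, -, hW, -, k⟩ := C.ex_flag hq h hu
    obtain ⟨x, y, w, k1⟩ := C.io_surj hq hW0 hn ha ha1 hW
    by_cases hw : w = 0
    · exact h5 x y W (hw ▸ k1) k
    · exact h4 (h3 (C.b1.mem _ _)) h6 ((k1.2.resolve_left fun e => hw e.1).2 ▸ k)

end Cf4

end CfL.Pl
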