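import Cfsg.Agent.L.BK
import Cfsg.Agent.H7.FStar

/-! For `q ≥ 8`, `F*(G) ≅ L₃(q)`. -/

set_option autoImplicit false

namespace CfL.Pl

open Subgroup CfH9 Cfsg
open scoped MatrixGroups

variable {G : Type*} [Group G] {F : Type*} [Field F]

theorem fstar_eq [Finite G] {S : Subgroup G} (hS : IsComponent S) (h : Cz(S) = ⊥) :
    generalizedFittingSubgroup G = S :=
  le_antisymm (sup_le (CfH7.layer_le_iff.2 fun K hK => (CfH7.component_le_or_le_centralizer hK
    hS.1).resolve_right fun e => CfH7.qs_ne_bot hK.2 (eq_bot_iff.2 (h ▸ e)))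
    ((le_centralizer_iff.1 (CfH7.component_le_centralizer_fitting hS)).trans (h ▸ bot_le)))
    (CfH7.component_le_fstar hS)

theorem Cf2.main {c1 c2 : F → F → G} {L1 L2 : Subgroup G} (C : Cf2 c1 c2 L1 L2) [Finite G]
    [CharP F 2] [Finite F] (hq : 4 < Nat.card F) (hG : Ch2 G) {a : F} (h0 : a ≠ 0)
    (h3 : a ^ 3 ≠ 1) : Nonempty (generalizedFittingSubgroup G ≃* PSL(3, F)) := by
  have ha1 : a ≠ 1 := by rintro rfl; simp at h3
  have C3 : Cf3 c1 c2 L1 L2 := ⟨C, fun t ht => C.CX_le hG hq.le h0 h3 ht⟩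
  have h1 := C.L1_comm h0 ha1
  have h2 := C.toCfg.swap.L1_comm h0 ha1
  obtain ⟨f, hf, hL, hr⟩ := (C3.sub h1 h2 fun n hn hc k hk =>
    C3.two_comm hq hG h0 h3 hn hc hk).iso hq.le h0 ha1
  let f' := (commutator G).subtype.comp f
  have e := MonoidHom.ofInjective (f := f') (Subtype.val_injective.comp hf)
  have hL' : L1 ≤ f'.range := fun l hl => by
    obtain ⟨A, hA⟩ := hL (show (⟨l, h1 hl⟩ : commutator G) ∈ L1.subgroupOf _ from hl)
    exact ⟨A, congrArg Subtype.val hA⟩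
  have hn : f'.range.Normal := normal_of_cj fun g => by
    rw [MonoidHom.range_comp, hr, MonoidHom.map_closure, cj_closure]
    refine closure_mono ?_
    rintro _ ⟨_, ⟨u, hu, rfl⟩, rfl⟩
    refine ⟨⟨_, Normal.conj_mem inferInstance _ u.2 g⟩, Subtype.ext ?_, rfl⟩
    change _ * _ = (1 : G)
    rw [← cmul, show (u : G) * u = 1 from congrArg Subtype.val hu]; simp
  have := psl3_simple (F := F)
  have := e.symm.isSimpleGroup
  have hc : Cz(f'.range) = ⊥ := eq_bot_iff.2 fun g hg => by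
    have k := Cz_anti hL' hg
    obtain ⟨x, y, rfl⟩ := C.C1 (Cz_anti C.b1.V_le k)
    have k1 := conj_eq_of_mem_centralizer (le_centralizer_iff.1 (zpowers_le.2 k) (C.m21 0 1))
      (mem_zpowers _)
    rw [C.conj21, C.b1.eq_iff] at k1
    obtain rfl : y = 0 := by simpa using k1.1
    rw [C.eq_zero_of_Cz k, C.b1.zero]
    exact one_mem _
  rw [fstar_eq ⟨hn.isSubnormal, CfH7.isQuasisimple_of_isSimpleGroup fun h => ?_⟩ hc]
  · exact ⟨e.symm⟩
  · have := le_centralizer_iff_isMulCommutative.2 h (hL' (C.b1.mem 1 0))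
    rw [hc, mem_bot, C.b1.eq_one_iff] at this
    exact one_ne_zero this.1

end CfL.Pl
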