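import Cfsg.Agent.L.BJ
import Cfsg.Agent.L.BL

/-! Normalizing the coordinates. -/

set_option autoImplicit false

namespace CfL.Pl

open Subgroup CfH9 Cfsg
open scoped MatrixGroups

variable {G : Type*} [Group G] {F : Type*} [Field F]

theorem blk_of {L : Subgroup G} (φ : L ⧸ pCore 2 L ≃* SL(2, F))
    (ψ : Additive (pCore 2 L) ≃+ (Fin 2 → F))
    (h : ∀ (g : L) (v : pCore 2 L),
      ψ (Additive.ofMul ⟨g * v * g⁻¹, Normal.conj_mem inferInstance (v : L) v.2 g⟩)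
        = Matrix.mulVec ((φ (QuotientGroup.mk g) : SL(2, F)) : Matrix (Fin 2) (Fin 2) F)
          (ψ (Additive.ofMul v))) :
    ∃ (c : F → F → G) (B : Blk c L), B.V = pCoreOf 2 L := by
  let c : F → F → G := fun x y => ((ψ.symm ![x, y]).toMul : L)
  have e1 : ∀ {x y x' y'}, c x y = c x' y' → x = x' ∧ y = y' := fun e => by
    have := ψ.symm.injective (Additive.toMul.injective (Subtype.ext (Subtype.ext e)))
    exact ⟨congrFun this 0, congrFun this 1⟩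
  have e2 : ∀ g : L, Act c g (φ g 0 0) (φ g 0 1) (φ g 1 0) (φ g 1 1) := fun g x y => by
    have := (ψ.eq_symm_apply).2 (h g (ψ.symm ![x, y]).toMul)
    rw [ofMul_toMul, AddEquiv.apply_symm_apply] at this
    have e : Matrix.mulVec (φ g).1 ![x, y] =
        ![φ g 0 0 * x + φ g 0 1 * y, φ g 1 0 * x + φ g 1 1 * y] := by
      ext i; fin_cases i <;> simp [Matrix.mulVec, dotProduct]
    simp only [c, ← e, ← this]
    rfl
  have e3 : ∀ v : pCore 2 L, ∃ x y, c x y = (v : L) := fun v =>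
    ⟨ψ (.ofMul v) 0, ψ (.ofMul v) 1, by
      simp only [c, show ![ψ (.ofMul v) 0, ψ (.ofMul v) 1] = ψ (.ofMul v) by
        ext i; fin_cases i <;> rfl, AddEquiv.symm_apply_apply, toMul_ofMul]⟩
  refine ⟨c, ⟨fun x y x' y' => ?_, fun x y e => e1 (e.trans ?_), fun x y => Subtype.prop _,
    fun a b d e h1 => ?_, fun l hl => ⟨_, _, _, _, ?_, e2 ⟨l, hl⟩⟩, fun l hl h1 => ?_⟩, ?_⟩
  · simp only [c, show ![x + x', y + y'] = ![x, y] + ![x', y'] by simp, map_add, toMul_add,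
      coe_mul]
  · simp [c, show (![0, 0] : Fin 2 → F) = 0 by simp]
  · obtain ⟨g, hg⟩ := (φ.surjective.comp QuotientGroup.mk_surjective)
      ⟨!![a, b; d, e], by rwa [Matrix.det_fin_two_of]⟩
    have := e2 g
    rw [show φ g = _ from hg] at this
    exact ⟨g, g.2, this⟩
  · exact (Matrix.det_fin_two _).symm.trans (φ (⟨l, hl⟩ : L)).2
  · refine e3 ⟨⟨l, hl⟩, (QuotientGroup.eq_one_iff _).1 (φ.map_eq_one_iff.1 ?_)⟩
    have h2 := e1 ((h1 1 0).symm.trans (e2 ⟨l, hl⟩ 1 0))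
    have h3 := e1 ((h1 0 1).symm.trans (e2 ⟨l, hl⟩ 0 1))
    simp only [mul_one, mul_zero, add_zero, zero_add] at h2 h3
    ext i j
    fin_cases i <;> fin_cases j <;> simp [← h2.1, ← h2.2, ← h3.1, ← h3.2]
  · ext g
    exact ⟨fun ⟨x, y, e⟩ => ⟨_, (ψ.symm ![x, y]).toMul.2, e⟩, fun ⟨v, hv, e⟩ => e ▸ e3 ⟨v, hv⟩⟩

namespace Blk

variable {c : F → F → G} {L : Subgroup G} (B : Blk c L)
include B

theorem conj {k : G} (hk : k ∈ L) : Blk (fun x y => k * c x y * k⁻¹) L := by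
  have e : ∀ l a b d e, Act (fun x y => k * c x y * k⁻¹) l a b d e ↔ Act c (k⁻¹ * l * k) a b d e :=
    fun l a b d e => forall₂_congr fun x y => by
      rw [show l * (k * c x y * k⁻¹) * l⁻¹ = k * (k⁻¹ * l * k * c x y * (k⁻¹ * l * k)⁻¹) * k⁻¹ by
        group, mul_left_inj, mul_right_inj]
  have m : ∀ l ∈ L, k⁻¹ * l * k ∈ L := fun l hl => mul_mem (mul_mem (inv_mem hk) hl) hk
  refine ⟨fun x y x' y' => by rw [B.add, cmul], fun x y h => B.inj x y (conj_eq_one_iff.1 h),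
    fun x y => mul_mem (mul_mem hk (B.mem x y)) (inv_mem hk), fun a b d e' h => ?_,
    fun l hl => by simpa only [e] using B.act _ (m l hl), fun l hl h => ?_⟩
  · obtain ⟨l, hl, h1⟩ := B.ex a b d e' h
    exact ⟨k * l * k⁻¹, mul_mem (mul_mem hk hl) (inv_mem hk), (e ..).2 (by simpa [mul_assoc])⟩
  · obtain ⟨x, y, h1⟩ := B.ker _ (m l hl) ((e ..).1 h)
    exact ⟨x, y, by rw [h1]; group⟩

theorem twist (θ : F ≃+* F) {u v : F} (hu : u ≠ 0) (hv : v ≠ 0) :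
    Blk (fun x y => c (θ x * u) (θ y * v)) L := by
  have e : ∀ l a b d e, Act c l (θ a) (θ b * u / v) (θ d * v / u) (θ e) →
      Act (fun x y => c (θ x * u) (θ y * v)) l a b d e := fun l a b d e h x y => by
    rw [h]
    simp only [map_add, map_mul]
    congr 1 <;> field_simp
  have s : ∀ x y, ∃ x' y', θ x' * u = x ∧ θ y' * v = y := fun x y =>
    ⟨θ.symm (x / u), θ.symm (y / v), by simp [hu], by simp [hv]⟩
  refine ⟨fun x y x' y' => by simp only [map_add, add_mul, B.add], fun x y h => by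
    simpa [hu, hv] using B.inj _ _ h, fun x y => B.mem _ _, fun a b d e' h => ?_,
    fun l hl => ?_, fun l hl h => ?_⟩
  · obtain ⟨l, hl, h1⟩ := B.ex (θ a) (θ b * u / v) (θ d * v / u) (θ e') (by
      have := congrArg θ h
      simp only [map_sub, map_mul, map_one] at this
      rw [← this]; field_simp)
    exact ⟨l, hl, e _ _ _ _ _ h1⟩
  · obtain ⟨a, b, d, e', h, h1⟩ := B.act l hl
    refine ⟨θ.symm a, θ.symm (b * v / u), θ.symm (d * u / v), θ.symm e', θ.injective ?_,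
      e _ _ _ _ _ (by simpa [hu, hv] using h1)⟩
    simp only [map_sub, map_mul θ, map_one, RingEquiv.apply_symm_apply]
    rw [← h]; field_simp
  · obtain ⟨x, y, h1⟩ := B.ker l hl fun x y => by
      obtain ⟨x, y, rfl, rfl⟩ := s x y
      simpa using h x y
    obtain ⟨x, y, rfl, rfl⟩ := s x y
    exact ⟨x, y, h1⟩

theorem twist_V (θ : F ≃+* F) {u v : F} (hu : u ≠ 0) (hv : v ≠ 0) : (B.twist θ hu hv).V = B.V := by
  ext g
  exact ⟨fun ⟨_, _, h⟩ => ⟨_, _, h⟩, fun ⟨x, y, h⟩ =>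
    ⟨θ.symm (x / u), θ.symm (y / v), by simpa [hu, hv] using h⟩⟩

variable [Finite G] [CharP F 2]

theorem norm {J : Subgroup G} (hJ : SylIn 2 J L) : ∃ (c' : F → F → G) (B' : Blk c' L),
    B'.V = B.V ∧ (∀ j ∈ J, ∃ t, Act c' j 1 t 0 1) ∧ ∀ t, ∃ j ∈ J, Act c' j 1 t 0 1 := by
  let U : Subgroup G :=
    { carrier := {l | l ∈ L ∧ ∃ t, Act c l 1 t 0 1}
      one_mem' := ⟨one_mem L, 0, fun x y => by simp⟩
      mul_mem' := fun ⟨h1, t, h2⟩ ⟨h3, t', h4⟩ => ⟨mul_mem h1 h3, _, by simpa using h2.mul h4⟩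
      inv_mem' := fun {l} ⟨h1, t, h2⟩ => ⟨inv_mem h1, t, fun x y => by
        have := h2 (1 * x + t * y) (0 * x + 1 * y)
        rw [show 1 * (1 * x + t * y) + t * (0 * x + 1 * y) = x by grind,
          show 0 * (1 * x + t * y) + 1 * (0 * x + 1 * y) = y by ring] at this
        rw [← this]; group⟩ }
  obtain ⟨k, hk, h1⟩ := hJ.exists_cj_le (Q := U) (isPGroup_iff_mem.2 fun l ⟨h1, t, h2⟩ => ⟨2, by
    obtain ⟨x, y, h3⟩ := B.ker _ (mul_mem h1 h1) (by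
      simpa [CharTwo.add_self_eq_zero] using h2.mul h2)
    rw [show l ^ 2 ^ 2 = l * l * (l * l) by simp [pow_succ, mul_assoc], ← h3, B.sq]⟩) fun _ h => h.1
  have B' := B.conj hk
  have h2 : ∀ t, ∃ j ∈ J, Act (fun x y => k * c x y * k⁻¹) j 1 t 0 1 := fun t => by
    obtain ⟨l, hl, h2⟩ := B.ex 1 t 0 1 (by simp)
    refine ⟨_, h1 (conj_mem_cj k ⟨hl, t, h2⟩), fun x y => ?_⟩
    simp only [← h2 x y]; group
  refine ⟨_, B', ?_, fun j hj => ?_, h2⟩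
  · rw [← cj_eq_of_mem_normalizer (B.L_le hk)]
    ext g
    exact ⟨fun ⟨x, y, h⟩ => ⟨_, B.cV x y, h⟩, fun ⟨_, ⟨x, y, rfl⟩, h⟩ => ⟨x, y, h⟩⟩
  obtain ⟨_, ⟨x, y, rfl⟩, h3, h4⟩ := exists_mem_center_of_normal hJ.pgrp B'.pV
    (hJ.le.trans B'.L_le) B'.V_ne_bot
  obtain ⟨u, hu, h5⟩ := h2 1
  have h6 := (mul_inv_eq_iff_eq_mul.2 (h4 u hu)).symm.trans (h5 x y)
  obtain rfl : y = 0 := by simpa using (B'.eq_iff.1 h6).1
  have hx : x ≠ 0 := fun e => h3 (B'.eq_one_iff.2 ⟨e, rfl⟩)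
  obtain ⟨a, b, -, h7, h8⟩ := B'.fix_one (hJ.le hj) hx (mul_inv_eq_iff_eq_mul.2 (h4 j hj))
  obtain rfl : a = 1 := by grind
  exact ⟨b, by simpa using h8⟩

end Blk

theorem zeta {c1 c2 : F → F → G} {L1 L2 J : Subgroup G} (B1 : Blk c1 L1) (B2 : Blk c2 L2)
    (h1 : B1.V ≤ J) (h2 : B2.V ≤ J) (h3 : J ≤ L2) (a1 : ∀ j ∈ J, ∃ t, Act c1 j 1 t 0 1)
    (b2 : ∀ t, ∃ j ∈ J, Act c2 j 1 t 0 1) (x : F) : ∃ x', c2 x' 0 = c1 x 0 := by
  have k : ∀ j ∈ J, j * c1 x 0 * j⁻¹ = c1 x 0 := fun j hj => by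
    obtain ⟨t, h⟩ := a1 j hj
    simpa using h x 0
  obtain ⟨x', y, h⟩ := B2.ker _ (h3 (h1 (B1.cV x 0))) fun u v => by
    simp [← mul_inv_eq_iff_eq_mul.1 (k _ (h2 (B2.cV u v)))]
  obtain ⟨j, hj, h4⟩ := b2 1
  have := h4 x' y
  rw [h, k j hj, ← h, B2.eq_iff] at this
  obtain rfl : y = 0 := by simpa using this.1
  exact ⟨x', h⟩

theorem ex_one [Finite G] {c1 c2 : F → F → G} {L1 L2 : Subgroup G} (B1 : Blk c1 L1) (B2 : Blk c2 L2)
    (l1 : B2.V ≤ L1) (z : ∀ x, ∃ x', c1 x' 0 = c2 x 0) {α : F → F}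
    (hα : ∀ y, Act c1 (c2 0 y) 1 (α y) 0 1) {j : G} (hj : j ∈ B1.V ⊔ B2.V)
    (h : Act c1 j 1 1 0 1) : ∃ y, α y = 1 := by
  obtain ⟨_, ⟨x, w, rfl⟩, _, ⟨u, y, rfl⟩, rfl⟩ := (mem_sup_of_le_Nm' (l1.trans B1.L_le)).1 hj
  obtain ⟨x', h1⟩ := z u
  have := h 0 1
  rw [show c2 u y = c2 u 0 * c2 0 y by rw [← B2.add]; simp, ← h1, ← mul_assoc (c1 x w), ← B1.add,
    show ∀ a b z : G, a * b * z * (a * b)⁻¹ = a * (b * z * b⁻¹) * a⁻¹ by intros; group, hα,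
    B1.comm, mul_inv_cancel_right, B1.eq_iff] at this
  exact ⟨y, by simpa using this.1⟩

theorem cfg_of' [Finite G] [Finite F] [CharP F 2] {c1 c2 : F → F → G} {L1 L2 : Subgroup G}
    (B1 : Blk c1 L1) (B2 : Blk c2 L2) (l1 : B1.V ⊔ B2.V ≤ L1) (l2 : B1.V ⊔ B2.V ≤ L2)
    (a1 : ∀ j ∈ B1.V ⊔ B2.V, ∃ t, Act c1 j 1 t 0 1) (b1 : ∀ t, ∃ j ∈ B1.V ⊔ B2.V, Act c1 j 1 t 0 1)
    (a2 : ∀ j ∈ B1.V ⊔ B2.V, ∃ t, Act c2 j 1 t 0 1) (b2 : ∀ t, ∃ j ∈ B1.V ⊔ B2.V, Act c2 j 1 t 0 1) :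
    ∃ (d2 : F → F → G) (C : Cfg c1 d2 L1 L2), C.V2 = B2.V := by
  choose ζ hζ using zeta B1 B2 le_sup_left le_sup_right l2 a1 b2
  choose α hα using fun y => a1 _ (mem_sup_right (B2.cV 0 y))
  choose β hβ using fun y => a2 _ (mem_sup_left (B1.cV 0 y))
  obtain ⟨y0, hy⟩ := (b1 1).elim fun j h => ex_one B1 B2 (le_sup_right.trans l1)
    (zeta B2 B1 le_sup_right le_sup_left l1 a2 b1) hα h.1 h.2
  obtain ⟨w0, hw⟩ := (b2 1).elim fun j h => ex_one B2 B1 (le_sup_left.trans l2)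
    (fun x => ⟨_, hζ x⟩) hβ (sup_comm B1.V _ ▸ h.1) h.2
  have key : ∀ y w, ζ (α y * w) = β w * y := fun y w => by
    have h1 := congrArg (· * c1 0 w) (hα y 0 w)
    have h2 := congrArg (· * c2 0 y) (hβ w 0 y)
    simp only [B1.inv, B2.inv, ← B1.add, ← B2.add, mul_zero, zero_add, add_zero, one_mul,
      CharTwo.add_self_eq_zero] at h1 h2
    rw [← hζ] at h1
    have := B2.inv (ζ (α y * w)) 0
    nth_rewrite 1 [← h1] at this
    simp only [mul_inv_rev, B1.inv, B2.inv, ← mul_assoc, h2, B2.eq_iff] at this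
    exact this.1.symm
  have zi : Function.Injective ζ := fun a b e => (B1.eq_iff.1 (by rw [← hζ, e, hζ])).1
  have za : ∀ a b, ζ (a + b) = ζ a + ζ b := fun a b => (B2.eq_iff.1 (show c2 _ 0 = c2 _ (0 + 0) by
    rw [B2.add, hζ, hζ, hζ, ← B1.add, add_zero])).1
  have z0 : ζ 0 = 0 := by simpa using za 0 0
  have zn : ∀ a, a ≠ 0 → ζ a ≠ 0 := fun a h e => h (zi (e.trans z0.symm))
  have hy0 : y0 ≠ 0 := by
    rintro rfl
    exact zn 1 one_ne_zero (by simpa [hy] using key 0 1)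
  have hw0 : w0 ≠ 0 := by
    rintro rfl
    simpa [hw, z0] using key 1 0
  have k1 : ∀ t, α (ζ (t * w0)) = t := fun t => mul_right_cancel₀ hw0 (zi (by rw [key, hw, one_mul]))
  have k2 : ∀ w, β w = ζ w / y0 := fun w => by
    rw [eq_div_iff hy0, ← key, hy, one_mul]
  have k3 : ∀ t w, ζ (t * w) = ζ (t * w0) / y0 * ζ w := fun t w => by
    rw [← k1 t, key, k2, k1]; ring
  have k4 : ζ w0 = y0 := by simpa [hy, hw] using key y0 w0
  let θ' : F →+* F :=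
    { toFun := fun t => ζ (t * w0) / y0
      map_one' := by simp [k4, hy0]
      map_mul' := fun s t => by rw [mul_assoc, k3]; ring
      map_zero' := by simp [z0]
      map_add' := fun s t => by rw [add_mul, za, add_div] }
  let θ := RingEquiv.ofBijective θ' (Finite.injective_iff_bijective.1 θ'.injective)
  have hθ : ∀ t, θ t = ζ (t * w0) / y0 := fun _ => rfl
  have k5 : ∀ t, θ t * ζ 1 = ζ t := fun t => by rw [hθ, ← k3, mul_one]
  refine ⟨_, ⟨B1, B2.twist θ (zn 1 one_ne_zero) hy0, fun x => by simp [k5, hζ],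
    fun x y => l1 (mem_sup_right (B2.cV _ _)), fun x y => l2 (mem_sup_left (B1.cV _ _)),
    fun y => ?_, fun w x y => ?_⟩, B2.twist_V _ (zn 1 one_ne_zero) hy0⟩
  · have := hα (θ y * y0)
    rw [hθ, div_mul_cancel₀ _ hy0, k1] at this
    simpa [hθ, hy0, z0] using this
  · rw [hβ, k2, ← k5 w]
    simp only [map_add, map_mul, one_mul, zero_mul, zero_add]
    congr 1
    field_simp

theorem cf2_of [Finite G] [Finite F] [CharP F 2] (hG : Ch2 G) {c1 c2 : F → F → G}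
    {L1 L2 T : Subgroup G} (C : Cfg c1 c2 L1 L2) (e1 : C.V1 = pCoreOf 2 L1)
    (e2 : C.V2 = pCoreOf 2 L2) (m1 : IsMaximalTwoLocal Nm(L1)) (m2 : IsMaximalTwoLocal Nm(L2))
    (hT : SylIn 2 T Nm(L1)) (hO : pCoreOf 2 (T ⊔ L1 ⊔ L2) = ⊥) {a : F} (h0 : a ≠ 0) (h1 : a ≠ 1) :
    Cf2 c1 c2 L1 L2 := by
  have M1 := m1.2 _ ⟨_, C.b1.pV, C.b1.V_ne_bot, rfl⟩
    (e1 ▸ CfH7.normalizer_le_normalizer_pCoreOf L1 : _ ≤ Nm(C.V1))
  have M2 := m2.2 _ ⟨_, C.b2.pV, C.b2.V_ne_bot, rfl⟩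
    (e2 ▸ CfH7.normalizer_le_normalizer_pCoreOf L2 : _ ≤ Nm(C.V2))
  have D := le_antisymm (C.CL_le M2.le h0 h1) (C.swap.CL_le M1.le h0 h1)
  have hc := hG _ C.b1.pV C.b1.V_ne_bot
  rw [M1] at hc
  have n1 := CfH7.le_normalizer_pCoreOf (p := 2) Nm(L1)
  have n2 : Nm(L1) ≤ Nm(Cz(L1) ⊓ pCoreOf 2 Nm(L1)) := fun g hg => mem_Nm_inf (mem_Nm_Cz hg) (n1 hg)
  have p := CfH7.isPGroup_pCoreOf (p := 2) Nm(L1)
  have Q : Cz(L1) ⊓ pCoreOf 2 Nm(L1) = ⊥ := eq_bot_iff.2 (hO ▸ CfH7.le_pCoreOf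
    (inf_le_right.trans ((hT.le_of_le_Nm p (CfH7.pCoreOf_le _) (hT.le.trans n1)).trans
      (le_sup_left.trans le_sup_left)))
    (sup_le (sup_le (hT.le.trans n2) (le_normalizer.trans n2))
      ((le_centralizer_iff.1 (inf_le_left.trans D.le)).trans (Cz_le_Nm _))) p.to_inf_right)
  have D0 : Cz(L1) = ⊥ := eq_bot_iff.2 fun d hd => Q.le ⟨hd, hc ⟨Cz_le_Nm _ hd, fun o ho => by
    have : d * o * d⁻¹ * o⁻¹ ∈ Cz(L1) ⊓ pCoreOf 2 Nm(L1) := ⟨by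
      rw [show d * o * d⁻¹ * o⁻¹ = d * (o * d⁻¹ * o⁻¹) by group]
      exact mul_mem hd (conj_mem_of_mem_normalizer (mem_Nm_Cz (CfH7.pCoreOf_le _ ho)) (inv_mem hd)),
      Subgroup.mul_mem _ (conj_mem_of_mem_normalizer (n1 (Cz_le_Nm _ hd)) ho) (Subgroup.inv_mem _ ho)⟩
    rw [Q, mem_bot, mul_inv_eq_one, mul_inv_eq_iff_eq_mul] at this
    exact this.symm⟩⟩
  exact ⟨C, M1.le, M2.le, C.CV_le M1.le M2.le (D ▸ D0), C.swap.CV_le M2.le M1.le D0⟩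

end CfL.Pl
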