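import Cfsg.Agent.L.BD
import Cfsg.Agent.H7.Blk8

/-! Pushing up a rank one group: the basic configuration. -/

set_option autoImplicit false

namespace CfLu

open Subgroup CfH9 CfH7 Cfsg
open CfL.Pl (Ch2)
open scoped commutatorElement

variable {G : Type*} [Group G]

/-- a block `K` with `U = O₂(K)`, `Q = O₂(KT)` -/
structure St (T K U Q : Subgroup G) : Prop where
  pT : IsPGroup 2 T
  tK : T ≤ Nm(K)
  uo : U = pCoreOf 2 K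
  une : U ≠ ⊥
  sq : ∀ u ∈ U, u * u = 1
  uQ : U ≤ Q
  qT : Q ≤ T
  kQ : K ≤ Nm(Q)
  tQ : T ≤ Nm(Q)
  cU : Q ≤ Cz(U)
  cK : K ⊓ Cz(U) ≤ U
  uK : U ≤ ⁅U, K⁆
  syl : ∀ P : Subgroup G, IsPGroup 2 P → Q ≤ P → P ≤ Nm(K) → ⁅P, K⁆ ≤ U → P ≤ Q
  uniq : ∀ R : Subgroup G, IsPGroup 2 R → R ≠ ⊥ → K ≤ Nm(R) → T ≤ Nm(R) → Nm(R) ≤ Nm(K)
  sk : SylIn 2 (T ⊓ K) K

theorem comm_of_sq {A : Subgroup G} (h : ∀ a ∈ A, a * a = 1) {a b : G} (ha : a ∈ A) (hb : b ∈ A) :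
    a * b = b * a := by
  have h1 := h _ (mul_mem ha hb)
  calc a * b = a * (a * b * (a * b)) * b := by rw [h1, mul_one]
    _ = (a * a) * (b * a) * (b * b) := by group
    _ = _ := by rw [h a ha, h b hb, one_mul, mul_one]

theorem le_Cz_of_sq {A : Subgroup G} (h : ∀ a ∈ A, a * a = 1) : A ≤ Cz(A) :=
  fun _ ha _ hb => comm_of_sq h hb ha

theorem pg_of_sq {A : Subgroup G} (h : ∀ a ∈ A, a * a = 1) : IsPGroup 2 A :=
  isPGroup_iff_mem.2 fun a ha => ⟨1, by rw [pow_one, pow_two, h a ha]⟩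

theorem pg_inv {t : G} (h : t * t = 1) : IsPGroup 2 (zpowers t) :=
  isPGroup_zpowers (k := 1) (by rw [pow_one, pow_two, h])

theorem sq_cj {A : Subgroup G} (h : ∀ a ∈ A, a * a = 1) (g : G) : ∀ a ∈ cj g A, a * a = 1 := by
  rintro _ ⟨a, ha, rfl⟩
  rw [← map_mul, h a ha, map_one]

theorem ch2_Cx (hG : Ch2 G) {z : G} (h2 : z * z = 1) (h1 : z ≠ 1) :
    Cx(z) ⊓ Cz(pCoreOf 2 Cx(z)) ≤ pCoreOf 2 Cx(z) := by
  have := hG _ (pg_inv h2) (zpowers_ne_bot' h1)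
  rwa [CfL.Pl.Nm_zpowers h2] at this

namespace St

variable {T K U Q : Subgroup G} (h : St T K U Q)
include h

theorem uK' : U ≤ K := h.uo ▸ pCoreOf_le K
theorem uT : U ≤ T := h.uQ.trans h.qT
theorem pU : IsPGroup 2 U := h.pT.to_le h.uT
theorem pQ : IsPGroup 2 Q := h.pT.to_le h.qT
theorem NU : Nm(K) ≤ Nm(U) := h.uo ▸ normalizer_le_normalizer_pCoreOf K
theorem kU : K ≤ Nm(U) := le_normalizer.trans h.NU
theorem tU : T ≤ Nm(U) := h.tK.trans h.NU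
theorem qK : Q ≤ Nm(K) := h.qT.trans h.tK
theorem NU' : Nm(U) ≤ Nm(K) := h.uniq U h.pU h.une h.kU h.tU
theorem qne : Q ≠ ⊥ := ne_bot_of_le h.uQ h.une
theorem NQ : Nm(Q) ≤ Nm(K) := h.uniq Q h.pQ h.qne h.kQ h.tQ

theorem le_U {P : Subgroup G} (hP : IsPGroup 2 P) (h1 : K ≤ Nm(P)) (h2 : P ≤ Nm(K)) :
    ⁅P, K⁆ ≤ U := (le_inf (comm_le_left h1) (comm_le_right h2)).trans
  (h.uo ▸ le_pCoreOf inf_le_right (le_normalizer_inf h1 le_normalizer) hP.to_inf_left)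

theorem qU : ⁅Q, K⁆ ≤ U := h.le_U h.pQ h.kQ h.qK

theorem leQ {P : Subgroup G} (hP : IsPGroup 2 P) (h1 : P ≤ Nm(Q)) (h2 : ⁅P, K⁆ ≤ U) : P ≤ Q :=
  le_sup_left.trans (h.syl (P ⊔ Q) (isPGroup_sup hP h.pQ h1) le_sup_right
    (sup_le (h1.trans h.NQ) h.qK)
    (commutator_sup_left_le (h1.trans (h.NQ.trans h.NU)) (h.qT.trans h.tU) h2 h.qU))

theorem comm_le {P : Subgroup G} (h1 : P ≤ Cz(U)) : ⁅P, K⁆ ≤ U :=
  (le_inf (comm_le_right (h1.trans ((Cz_le_Nm U).trans h.NU')))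
    ((commutator_mono h1 le_rfl).trans (comm_le_left (h.kU.trans (Nm_le_Nm_Cz U))))).trans h.cK

theorem leQ' {P : Subgroup G} (hP : IsPGroup 2 P) (h1 : P ≤ Nm(Q)) (h2 : P ≤ Cz(U)) : P ≤ Q :=
  h.leQ hP h1 (h.comm_le h2)

theorem cT {t : G} (h1 : t ∈ T) (h2 : t ∈ Cz(U)) : t ∈ Q :=
  h.leQ' h.pT.to_inf_left (inf_le_left.trans h.tQ) inf_le_right (mi h1 h2)

theorem O_le : pCoreOf 2 Nm(K) ≤ Q :=
  le_sup_right.trans (h.syl (Q ⊔ pCoreOf 2 Nm(K))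
    (isPGroup_sup h.pQ (isPGroup_pCoreOf _) (h.qK.trans (le_normalizer_pCoreOf _))) le_sup_left
    (sup_le h.qK (pCoreOf_le _)) (commutator_sup_left_le (h.qT.trans h.tU)
      ((pCoreOf_le _).trans h.NU) h.qU (h.le_U (isPGroup_pCoreOf _)
        (le_normalizer.trans (le_normalizer_pCoreOf _)) (pCoreOf_le _))))

theorem chM (hG : Ch2 G) : Nm(K) ⊓ Cz(pCoreOf 2 Nm(K)) ≤ pCoreOf 2 Nm(K) := by
  have := hG U h.pU h.une
  rwa [le_antisymm h.NU' h.NU] at this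

theorem CQ (hG : Ch2 G) : Cz(Q) ≤ Q :=
  (le_inf ((Cz_le_Nm Q).trans h.NQ) (Cz_anti h.O_le)).trans ((h.chM hG).trans h.O_le)

theorem NQ' (hG : Ch2 G) (ha : Q ≤ Cz(Q)) : Nm(K) ≤ Nm(Q) := by
  rw [le_antisymm ((le_inf h.qK (ha.trans (Cz_anti h.O_le))).trans (h.chM hG)) h.O_le]
  exact le_normalizer_pCoreOf _

/-- `[q, k] ∈ U` -/
theorem cm {q k : G} (hq : q ∈ Q) (hk : k ∈ K) : ⁅q, k⁆ ∈ U := h.qU (commutator_mem_commutator hq hk)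

theorem sq_D {q : G} (hq : q ∈ Q) : q * q ∈ Cz(K) := fun k hk => by
  have h1 := h.cm hq hk
  have h2 := h.sq _ h1
  have h3 := h.cU hq _ h1
  have e : q * k = ⁅q, k⁆ * k * q := by rw [commutatorElement_def]; group
  calc k * (q * q) = ⁅q, k⁆ * (⁅q, k⁆ * k * q) * q := by rw [← mul_assoc, ← mul_assoc, ← mul_assoc, h2]; group
    _ = q * (⁅q, k⁆ * k * q) := by rw [← e, ← mul_assoc, h3]; group
    _ = q * q * k := by rw [← e, mul_assoc]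

theorem D_le : T ⊓ Cz(K) ≤ Q := fun _ ht => h.cT ht.1 (Cz_anti h.uK' ht.2)

theorem conj {g : G} (hg : g ∈ Nm(T)) : St T (cj g K) (cj g U) (cj g Q) := by
  have e := cj_eq_of_mem_normalizer hg
  have k : ∀ {A B : Subgroup G}, A ≤ Nm(B) → cj g A ≤ Nm(cj g B) := fun hA => by
    rw [← cj_normalizer]; exact cj_mono g hA
  have k' : ∀ {A B : Subgroup G}, A ≤ Nm(cj g B) → cj g⁻¹ A ≤ Nm(B) := fun hA => by
    rwa [← cj_normalizer, le_cj_iff] at hA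
  refine ⟨h.pT, e ▸ k h.tK, by rw [h.uo, cj_pCoreOf], cj_ne_bot h.une, sq_cj h.sq g, cj_mono g h.uQ,
    e ▸ cj_mono g h.qT, k h.kQ, e ▸ k h.tQ, by rw [← cj_centralizer]; exact cj_mono g h.cU,
    by rw [← cj_centralizer, ← cj_inf]; exact cj_mono g h.cK,
    by rw [← cj_commutator]; exact cj_mono g h.uK, fun P h1 h2 h3 h4 => ?_,
    fun R h1 h2 h3 h4 => ?_, by rw [← e, ← cj_inf]; exact h.sk.cj g⟩
  · refine le_cj_iff.2 (h.syl _ (isPGroup_cj h1 _) (cj_le_iff.1 h2) (k' h3) ?_)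
    rwa [← cj_cj_inv g P, ← cj_commutator, cj_le_cj_iff] at h4
  · rw [← cj_normalizer, le_cj_iff, cj_normalizer]
    refine h.uniq _ (isPGroup_cj h1 _) (cj_ne_bot h2) ?_ ?_ <;> rw [← cj_normalizer, ← cj_le_iff]
    exacts [h3, e.le.trans h4]

theorem ex_conj (hN : ¬ Nm(T) ≤ Nm(K)) : ∃ g ∈ Nm(T), ¬ cj g U ≤ Q := by
  by_contra hn
  push Not at hn
  have h1 : nclo U Nm(T) ≤ Q := nclo_le_iff'.2 hn
  exact hN ((right_le_Nm_nclo U _).trans (h.uniq _ (h.pQ.to_le h1) (ne_bot_of_le (le_nclo _ _) h.une)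
    (le_Nm_of_comm_le_left ((commutator_mono h1 le_rfl).trans (h.qU.trans (le_nclo _ _))))
    (le_normalizer.trans (right_le_Nm_nclo U _))))

end St

/-- two blocks with non-commuting modules -/
structure Pr (T K1 U1 Q1 K2 U2 Q2 : Subgroup G) : Prop where
  a : St T K1 U1 Q1
  b : St T K2 U2 Q2
  n : ¬ U2 ≤ Q1

namespace Pr

variable {T K1 U1 Q1 K2 U2 Q2 : Subgroup G} (h : Pr T K1 U1 Q1 K2 U2 Q2)
include h

theorem nc : ¬ U2 ≤ Cz(U1) := fun e => h.n fun _ hu => h.a.cT (h.b.uT hu) (e hu)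

theorem swap : Pr T K2 U2 Q2 K1 U1 Q1 :=
  ⟨h.b, h.a, fun e => h.nc (le_Cz_comm (e.trans h.b.cU))⟩

theorem nK : ¬ K1 ≤ Nm(K2) := fun e => h.n (h.a.leQ h.b.pU (h.b.uT.trans h.a.tQ)
  (h.a.le_U h.b.pU (e.trans h.b.NU) (h.b.uT.trans h.a.tK)))

theorem triv {R : Subgroup G} (hR : IsPGroup 2 R) (h1 : K1 ≤ Nm(R)) (h2 : K2 ≤ Nm(R))
    (h3 : T ≤ Nm(R)) : R = ⊥ := by_contra fun e => h.nK (h1.trans (h.b.uniq R hR e h2 h3))

theorem DD {d : G} (h0 : d ∈ T) (h1 : d ∈ Cz(K1)) (h2 : d ∈ Cz(K2)) : d = 1 := by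
  have k : ∀ {K : Subgroup G}, T ⊓ (Cz(K1) ⊓ Cz(K2)) ≤ Cz(K) → K ≤ Nm(T ⊓ (Cz(K1) ⊓ Cz(K2))) :=
    fun e => (le_Cz_comm e).trans (Cz_le_Nm _)
  exact mem_bot.1 (h.triv h.a.pT.to_inf_left (k (inf_le_right.trans inf_le_left))
    (k (inf_le_right.trans inf_le_right)) (le_normalizer_inf le_normalizer (le_normalizer_inf
      (h.a.tK.trans (Nm_le_Nm_Cz _)) (h.b.tK.trans (Nm_le_Nm_Cz _)))) ▸ mi h0 (mi h1 h2))

theorem sqR {r : G} (h1 : r ∈ Q1) (h2 : r ∈ Q2) : r * r = 1 :=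
  h.DD (h.a.qT (mul_mem h1 h1)) (h.a.sq_D h1) (h.b.sq_D h2)

theorem sqQ (e : ∀ q ∈ Q1, ∃ u ∈ U1, u * q ∈ Q2) : ∀ q ∈ Q1, q * q = 1 := fun q hq => by
  obtain ⟨u, hu, h2⟩ := e q hq
  have h3 := h.sqR (mul_mem (h.a.uQ hu) hq) h2
  rwa [mul_assoc, ← mul_assoc q, ← h.a.cU hq u hu, mul_assoc, ← mul_assoc, h.a.sq u hu,
    one_mul] at h3

/-- `[u₁, u₂] ∈ U₁ ∩ U₂` -/
theorem cm1 {u v : G} (hu : u ∈ U1) (hv : v ∈ U2) : ⁅u, v⁆ ∈ U1 :=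
  commutator_mem_left hu (h.a.tU (h.b.uT hv))

theorem cm2 {u v : G} (hu : u ∈ U1) (hv : v ∈ U2) : ⁅u, v⁆ ∈ U2 :=
  commutator_mem_right hv (h.b.tU (h.a.uT hu))

end Pr

end CfLu
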