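import Cfsg.Agent.L.DA

/-! Coordinates on the natural section of a linear block. -/

set_option autoImplicit false

namespace CfLu

open Subgroup CfH9 CfH7 Cfsg
open CfL.Pl (Ch2 eq_one_of_pow)
open scoped commutatorElement

variable {G : Type*} [Group G] {F : Type*} [Field F]

def Ac (φ : G → F × F → F × F) (g : G) (a b d e : F) : Prop :=
  ∀ x y, φ g (x, y) = (a * x + b * y, d * x + e * y)

def Sm (φ : G → F × F → F × F) (n : G) (σ : F → F) : Prop := ∀ t w, φ n (t • w) = σ t • φ n w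

structure Rp (φ : G → F × F → F × F) (K : Subgroup G) : Prop where
  one : ∀ w, φ 1 w = w
  mul : ∀ n ∈ Nm(K), ∀ m ∈ Nm(K), ∀ w, φ (n * m) w = φ n (φ m w)
  add : ∀ n ∈ Nm(K), ∀ v w, φ n (v + w) = φ n v + φ n w
  ex : ∀ a b d e, a * e - b * d = 1 → ∃ l ∈ K, Ac φ l a b d e
  act : ∀ l ∈ K, ∃ a b d e, a * e - b * d = 1 ∧ Ac φ l a b d e

structure Bd (π : G → F × F) (φ : G → F × F → F × F) (A K : Subgroup G) : Prop extends Rp φ K where
  n : Nm(K) ≤ Nm(A)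
  pm : ∀ u ∈ A, ∀ v ∈ A, π (u * v) = π u + π v
  ker : ∀ u ∈ A, π u = 0 ↔ u ∈ Cz(K)
  surj : ∀ w, ∃ u ∈ A, π u = w
  cj : ∀ n ∈ Nm(K), ∀ u ∈ A, π (n * u * n⁻¹) = φ n (π u)

theorem Ac.sm {φ : G → F × F → F × F} {g : G} {a b d e : F} (h : Ac φ g a b d e) : Sm φ g id := by
  rintro t ⟨x, y⟩
  rw [Prod.smul_mk, h, h]
  simp only [Prod.smul_mk, smul_eq_mul, id]
  congr 1 <;> ring

theorem Ac.triv {φ : G → F × F → F × F} {g : G} : Ac φ g 1 0 0 1 ↔ ∀ w, φ g w = w :=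
  ⟨fun h ⟨x, y⟩ => by rw [h]; simp, fun h x y => by rw [h]; simp⟩

namespace Rp

variable {φ : G → F × F → F × F} {K : Subgroup G} (B : Rp φ K) {n m : G}
include B

theorem inv (hn : n ∈ Nm(K)) (w : F × F) : φ n⁻¹ (φ n w) = w := by
  rw [← B.mul _ (inv_mem hn) _ hn, inv_mul_cancel, B.one]

theorem inv' (hn : n ∈ Nm(K)) (w : F × F) : φ n (φ n⁻¹ w) = w := by
  rw [← B.mul _ hn _ (inv_mem hn), mul_inv_cancel, B.one]

theorem inj (hn : n ∈ Nm(K)) {v w : F × F} (h : φ n v = φ n w) : v = w := by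
  rw [← B.inv hn v, h, B.inv hn]

theorem zero (hn : n ∈ Nm(K)) : φ n 0 = 0 := by simpa using B.add n hn 0 0

theorem eq_zero (hn : n ∈ Nm(K)) {w : F × F} (h : φ n w = 0) : w = 0 :=
  B.inj hn (h.trans (B.zero hn).symm)

theorem amul (hn : n ∈ Nm(K)) (hm : m ∈ Nm(K)) {a b d e a' b' d' e' : F} (h : Ac φ n a b d e)
    (h' : Ac φ m a' b' d' e') :
    Ac φ (n * m) (a * a' + b * d') (a * b' + b * e') (d * a' + e * d') (d * b' + e * e') := by
  intro x y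
  rw [B.mul n hn m hm, h', h]
  congr 1 <;> ring

theorem smul (hn : n ∈ Nm(K)) (hm : m ∈ Nm(K)) {σ τ : F → F} (h : Sm φ n σ) (h' : Sm φ m τ) :
    Sm φ (n * m) (σ ∘ τ) := fun t w => by
  rw [B.mul n hn m hm, B.mul n hn m hm, h', h]; rfl

theorem sinv (hn : n ∈ Nm(K)) {σ τ : F → F} (h : Sm φ n σ) (e : ∀ t, σ (τ t) = t) :
    Sm φ n⁻¹ τ := fun t w => B.inj hn (by rw [B.inv' hn, h, e, B.inv' hn])

theorem suniq (hn : n ∈ Nm(K)) {σ τ : F → F} (h : Sm φ n σ) (h' : Sm φ n τ) (t : F) : σ t = τ t := by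
  have := (h t (1, 0)).symm.trans (h' t _)
  exact smul_left_injective F (fun e => by simpa using B.eq_zero hn e) this

theorem lin {l : G} (hl : l ∈ K) : Sm φ l id := by
  obtain ⟨a, b, d, e, -, h⟩ := B.act l hl
  exact h.sm

theorem trans {w : F × F} (h : w ≠ 0) :
    ∃ l ∈ K, ∃ b e, w.1 * e - b * w.2 = 1 ∧ Ac φ l w.1 b w.2 e := by
  obtain ⟨x, y⟩ := w
  by_cases hx : x = 0
  · have hy : y ≠ 0 := fun e => h (by rw [hx, e]; rfl)
    obtain ⟨l, hl, h1⟩ := B.ex x (-y⁻¹) y 0 (by simp [hy])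
    exact ⟨l, hl, _, _, by simp [hy], h1⟩
  · obtain ⟨l, hl, h1⟩ := B.ex x 0 y x⁻¹ (by simp [hx])
    exact ⟨l, hl, _, _, by simp [hx], h1⟩

theorem of_lin (hn : n ∈ Nm(K)) (h : Sm φ n id) : ∃ a b d e, Ac φ n a b d e :=
  ⟨(φ n (1, 0)).1, (φ n (0, 1)).1, (φ n (1, 0)).2, (φ n (0, 1)).2, fun x y => by
    rw [show (x, y) = x • ((1 : F), (0 : F)) + y • ((0 : F), (1 : F)) by simp, B.add n hn, h, h]
    ext <;> simp <;> ring⟩

theorem semi (hn : n ∈ Nm(K)) : ∃ σ : F →+* F, Sm φ n σ := by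
  have tr : ∀ l ∈ K, ∀ (t : F) w, φ n (t • φ n⁻¹ (φ l w)) = φ l (φ n (t • φ n⁻¹ w)) := fun l hl t w => by
    have h1 := conj_mem_of_mem_normalizer' hn hl
    have h2 : ∀ w, φ (n⁻¹ * l * n) w = φ n⁻¹ (φ l (φ n w)) := fun w => by
      rw [B.mul _ (mul_mem (inv_mem hn) (le_normalizer hl)) _ hn,
        B.mul _ (inv_mem hn) _ (le_normalizer hl)]
    have := B.lin h1 t (φ n⁻¹ w)
    rw [h2, h2, B.inv' hn, id] at this
    rw [← this, B.inv' hn]
  have key : ∀ t : F, ∃ μ : F, ∀ w, φ n (t • φ n⁻¹ w) = μ • w := fun t => by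
    obtain ⟨u, hu, h2⟩ := B.ex 1 1 0 1 (by simp)
    have h3 := tr u hu t (1, 0)
    rcases h4 : φ n (t • φ n⁻¹ (1, 0)) with ⟨μ, ν⟩
    rw [h2, h4, h2] at h3
    simp only [mul_one, mul_zero, add_zero, one_mul, zero_mul, zero_add, h4, Prod.mk.injEq] at h3
    obtain rfl : ν = 0 := by linear_combination -h3.1
    refine ⟨μ, fun w => ?_⟩
    by_cases h5 : w = 0
    · rw [h5, B.zero (inv_mem hn), smul_zero, smul_zero, B.zero hn]
    · obtain ⟨l, hl, b, e, -, h6⟩ := B.trans h5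
      have h7 := tr l hl t (1, 0)
      rw [h4, h6, h6] at h7
      simp only [mul_one, mul_zero, add_zero] at h7
      rw [h7]
      ext <;> simp <;> ring
  choose σ h using key
  have i : ∀ {a b : F}, a • ((1 : F), (0 : F)) = b • ((1 : F), (0 : F)) → a = b := fun e => by
    simpa using e
  refine ⟨⟨⟨⟨σ, i ?_⟩, fun s t => i ?_⟩, i ?_, fun s t => i ?_⟩, fun t w => ?_⟩
  · rw [← h, one_smul, one_smul, B.inv' hn]
  · rw [← h, mul_smul, mul_smul, ← h t, ← h s, B.inv hn]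
  · rw [← h, zero_smul, zero_smul, B.zero hn]
  · rw [← h, add_smul, add_smul, B.add n hn, h, h]
  · exact (by rw [B.inv hn] : _ = φ n (t • φ n⁻¹ (φ n w))).trans (h t _)

theorem lin_of (hn : n ∈ Nm(K)) {w : F × F} (hw : w ≠ 0) (h : ∀ t : F, φ n (t • w) = t • w) :
    Sm φ n id := by
  obtain ⟨σ, hσ⟩ := B.semi hn
  have h1 := h 1
  rw [one_smul] at h1
  intro t v
  rw [hσ, show σ t = t from smul_left_injective F hw (by simpa only [hσ t w, h1] using h t), id]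

theorem apow (hn : n ∈ Nm(K)) {a b e : F} (h : Ac φ n a b 0 e) (k : ℕ) :
    ∃ b', Ac φ (n ^ k) (a ^ k) b' 0 (e ^ k) := by
  induction k with
  | zero => exact ⟨0, by simpa using Ac.triv.2 B.one⟩
  | succ k ih =>
    obtain ⟨b', h1⟩ := ih
    exact ⟨_, by simpa [pow_succ] using B.amul (pow_mem hn k) hn h1 h⟩

theorem unip [CharP F 2] (hn : n ∈ Nm(K)) {a b e : F} (h : Ac φ n a b 0 e) {k : ℕ}
    (hk : n ^ 2 ^ k = 1) : a = 1 ∧ e = 1 := by
  obtain ⟨b', h1⟩ := B.apow hn h (2 ^ k)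
  have h2 := h1 1 0
  have h3 := h1 0 1
  rw [hk, B.one] at h2 h3
  simp only [mul_one, mul_zero, add_zero, zero_add, Prod.mk.injEq] at h2 h3
  exact ⟨eq_one_of_pow h2.1.symm, eq_one_of_pow h3.2.symm⟩

/-- a linear `2`-element preserving the axis is a transvection -/
theorem tv [CharP F 2] (hn : n ∈ Nm(K)) (h : Sm φ n id) {x : F} (hx : x ≠ 0)
    (h2 : (φ n (x, 0)).2 = 0) {k : ℕ} (hk : n ^ 2 ^ k = 1) : ∃ b, Ac φ n 1 b 0 1 := by
  obtain ⟨a, b, d, e, h3⟩ := B.of_lin hn h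
  obtain rfl : d = 0 := by simpa [h3 x 0, hx] using h2
  obtain ⟨rfl, rfl⟩ := B.unip hn h3 hk
  exact ⟨b, h3⟩

theorem conj {k : G} (hk : k ∈ K) : Rp (fun n => φ (k⁻¹ * n * k)) K := by
  have c : ∀ {n}, n ∈ Nm(K) → k⁻¹ * n * k ∈ Nm(K) := fun hn =>
    mul_mem (mul_mem (inv_mem (le_normalizer hk)) hn) (le_normalizer hk)
  refine ⟨fun w => by simpa using B.one w, fun n hn m hm w => ?_, fun n hn => B.add _ (c hn),
    fun a b d e h => ?_, fun l hl => B.act _ (mul_mem (mul_mem (inv_mem hk) hl) hk)⟩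
  · rw [← B.mul _ (c hn) _ (c hm)]; congr 1; group
  · obtain ⟨l, hl, h1⟩ := B.ex a b d e h
    exact ⟨k * l * k⁻¹, mul_mem (mul_mem hk hl) (inv_mem hk), fun x y => by
      rw [← h1]; group⟩

theorem fix_small [Finite F] {σ : F → F} (hn : n ∈ Nm(K)) (h : Sm φ n σ) {μ : F} (hμ : σ μ ≠ μ)
    {W : AddSubgroup (F × F)} (hW : ∀ w ∈ W, φ n w = w) : Nat.card W ≤ Nat.card F := by
  have := Nat.card_le_card_of_injective (fun d : W × W => (d.1 : F × F) + μ • (d.2 : F × F))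
    fun d e he => by
      have h1 : μ • ((d.2 - e.2 : W) : F × F) = ((e.1 - d.1 : W) : F × F) := by
        simp only [AddSubgroup.coe_sub, smul_sub] at he ⊢
        linear_combination (norm := abel) he
      have h2 := h μ (d.2 - e.2 : W)
      rw [h1, hW _ (e.1 - d.1).2, hW _ (d.2 - e.2).2, ← h1] at h2
      have h3 : ((d.2 - e.2 : W) : F × F) = 0 := by_contra fun e => hμ (smul_left_injective F e h2).symm
      rw [h3, smul_zero, eq_comm] at h1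
      exact Prod.ext (sub_eq_zero.1 (Subtype.ext h1)).symm (sub_eq_zero.1 (Subtype.ext h3))
  simp only [Nat.card_prod] at this
  exact Nat.mul_self_le_mul_self_iff.1 this

end Rp

namespace Bd

variable {π : G → F × F} {φ : G → F × F → F × F} {A K : Subgroup G} (B : Bd π φ A K) {n u v : G}
include B

theorem p1 : π 1 = 0 := (B.ker 1 (one_mem _)).2 (one_mem _)

theorem pinv (hu : u ∈ A) : π u⁻¹ = - π u := by
  rw [eq_neg_iff_add_eq_zero, ← B.pm _ (inv_mem hu) _ hu, inv_mul_cancel, B.p1]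

theorem peq (hu : u ∈ A) (hv : v ∈ A) : π u = π v ↔ u⁻¹ * v ∈ Cz(K) := by
  rw [← B.ker _ (mul_mem (inv_mem hu) hv), B.pm _ (inv_mem hu) _ hv, B.pinv hu, neg_add_eq_zero]

theorem cm (hn : n ∈ Nm(K)) (hu : u ∈ A) : π ⁅n, u⁆ = φ n (π u) - π u := by
  rw [commutatorElement_def, B.pm _ (conj_mem_of_mem_normalizer (B.n hn) hu) _ (inv_mem hu),
    B.cj n hn u hu, B.pinv hu, sub_eq_add_neg]

theorem fix (hn : n ∈ Nm(K)) (hu : u ∈ A) (h : n * u = u * n) : φ n (π u) = π u := by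
  rw [← B.cj n hn u hu, h, mul_inv_cancel_right]

theorem conj {k : G} (hk : k ∈ K) :
    Bd (fun u => π (k⁻¹ * u * k)) (fun n => φ (k⁻¹ * n * k)) A K := by
  have c : ∀ {u}, u ∈ A → k⁻¹ * u * k ∈ A := fun hu =>
    conj_mem_of_mem_normalizer' (B.n (le_normalizer hk)) hu
  refine ⟨B.toRp.conj hk, B.n, fun u hu v hv => ?_, fun u hu => ?_, fun w => ?_, fun n hn u hu => ?_⟩
  · rw [← B.pm _ (c hu) _ (c hv)]; congr 1; group
  · rw [B.ker _ (c hu)]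
    exact (mem_normalizer_iff''.1 (Nm_le_Nm_Cz K (le_normalizer hk)) u).symm
  · obtain ⟨u, hu, rfl⟩ := B.surj w
    exact ⟨_, conj_mem_of_mem_normalizer (B.n (le_normalizer hk)) hu, by congr 1; group⟩
  · rw [← B.cj _ (mul_mem (mul_mem (inv_mem (le_normalizer hk)) hn) (le_normalizer hk)) _ (c hu)]
    congr 1; group

theorem ext {Q : Subgroup G} (h1 : A ≤ Q) (h2 : Nm(K) ≤ Nm(Q)) (h3 : Q ≤ Cz(Q))
    (h : ∀ y ∈ Q, ∃ u ∈ A, u⁻¹ * y ∈ Cz(K)) : ∃ π', Bd π' φ Q K ∧ ∀ u ∈ A, π' u = π u := by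
  choose! s s1 s2 using h
  have k : ∀ y ∈ Q, ∀ u ∈ A, u⁻¹ * y ∈ Cz(K) → π (s y) = π u := fun y hy u hu e => by
    rw [B.peq (s1 y hy) hu, show (s y)⁻¹ * u = (s y)⁻¹ * y * (u⁻¹ * y)⁻¹ by group]
    exact mul_mem (s2 y hy) (inv_mem e)
  have k' : ∀ u ∈ A, π (s u) = π u := fun u hu => k u (h1 hu) u hu (by simp)
  refine ⟨fun y => π (s y), ⟨B.toRp, h2, fun u hu v hv => ?_, fun u hu => ?_, fun w => ?_,
    fun n hn u hu => ?_⟩, k'⟩
  · rw [← B.pm _ (s1 u hu) _ (s1 v hv)]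
    refine k _ (mul_mem hu hv) _ (mul_mem (s1 u hu) (s1 v hv)) ?_
    rw [mul_inv_rev, mul_assoc, ← mul_assoc _ u, ← mul_assoc,
      h3 (mul_mem (inv_mem (h1 (s1 u hu))) hu) _ (inv_mem (h1 (s1 v hv))), mul_assoc]
    exact mul_mem (s2 u hu) (s2 v hv)
  · rw [B.ker _ (s1 u hu), ← mul_mem_cancel_right (s2 u hu), mul_inv_cancel_left]
  · obtain ⟨u, hu, rfl⟩ := B.surj w
    exact ⟨u, h1 hu, k' u hu⟩
  · rw [← B.cj n hn _ (s1 u hu)]
    refine k _ (conj_mem_of_mem_normalizer (h2 hn) hu) _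
      (conj_mem_of_mem_normalizer (B.n hn) (s1 u hu)) ?_
    rw [show (n * s u * n⁻¹)⁻¹ * (n * u * n⁻¹) = n * ((s u)⁻¹ * u) * n⁻¹ by group]
    exact conj_mem_of_mem_normalizer (Nm_le_Nm_Cz K hn) (s2 u hu)

end Bd

open scoped MatrixGroups in
theorem bd_of_md {K U : Subgroup G} (hn : Nm(K) ≤ Nm(U))
    (D : MD (⊤ : Subgroup SL(2, F)) (⊤ : AddSubgroup (Fin 2 → F)) K U (U ⊓ Cz(K))) :
    ∃ (π : G → F × F) (φ : G → F × F → F × F), Bd π φ U K := by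
  choose s s1 s2 using fun w : F × F => D.c_surj ![w.1, w.2] trivial
  let π : G → F × F := fun u => (D.c u 0, D.c u 1)
  have e : ∀ u v, π u = π v ↔ D.c u = D.c v := fun u v =>
    ⟨fun h => funext fun i => by
      fin_cases i
      exacts [congrArg Prod.fst h, congrArg Prod.snd h], fun h => by simp only [π, h]⟩
  have s3 : ∀ w, π (s w) = w := fun w => by simp [π, s2]
  have c : ∀ n ∈ Nm(K), ∀ u ∈ U, π (n * u * n⁻¹) = π (n * s (π u) * n⁻¹) := fun n h u hu => by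
    rw [e, D.c_eq_iff (conj_mem_of_mem_normalizer (hn h) hu) (conj_mem_of_mem_normalizer (hn h) (s1 _)),
      show (n * u * n⁻¹)⁻¹ * (n * s (π u) * n⁻¹) = n * (u⁻¹ * s (π u)) * n⁻¹ by group]
    refine conj_mem_of_mem_normalizer (mem_Nm_inf (hn h) (Nm_le_Nm_Cz K h)) ?_
    rw [← D.c_eq_iff hu (s1 _), ← e, s3]
  have pm : ∀ u ∈ U, ∀ v ∈ U, π (u * v) = π u + π v := fun u hu v hv => by
    simp only [π, D.c_mul u hu v hv]; rfl
  have ac : ∀ l : K, Ac (fun n w => π (n * s w * n⁻¹)) l (D.ρ l 0 0) (D.ρ l 0 1) (D.ρ l 1 0)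
      (D.ρ l 1 1) := fun l x y => by
    simp only [π, D.act l _ (s1 _), s2, sl_smul]
    rfl
  refine ⟨π, fun n w => π (n * s w * n⁻¹), ⟨fun w => by simpa using s3 w, fun n h m h' w => ?_,
    fun n h v w => ?_, fun a b d e h => ?_, fun l hl => ⟨_, _, _, _, ?_, ac ⟨l, hl⟩⟩⟩, hn, pm,
    fun u hu => ?_, fun w => ⟨_, s1 w, s3 w⟩, c⟩
  · rw [← c n h _ (conj_mem_of_mem_normalizer (hn h') (s1 _))]; congr 1; group
  · rw [← pm _ (conj_mem_of_mem_normalizer (hn h) (s1 _)) _ (conj_mem_of_mem_normalizer (hn h) (s1 _)),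
      ← CfL.Pl.cmul, c n h _ (mul_mem (s1 _) (s1 _)), pm _ (s1 _) _ (s1 _), s3, s3]
  · obtain ⟨l, hl⟩ := D.ex (r := ⟨!![a, b; d, e], by rw [Matrix.det_fin_two_of, h]⟩) trivial
    have := ac l
    rw [hl] at this
    exact ⟨l, l.2, this⟩
  · rw [← Matrix.det_fin_two]; exact (D.ρ ⟨l, hl⟩).2
  · rw [show (0 : F × F) = π 1 by simp [π, D.c_one]; rfl, e, D.c_one, D.c_zero u hu]
    exact and_iff_right hu

end CfLu
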