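import Cfsg.Agent.L.DB

/-! Two linear blocks: the configuration. -/

set_option autoImplicit false

namespace CfLu

open Subgroup CfH9 CfH7 Cfsg
open CfL.Pl (Ch2 eq_one_of_pow aut_uniq)
open scoped commutatorElement

variable {G : Type*} [Group G] {F : Type*} [Field F]

namespace Rp

variable {φ : G → F × F → F × F} {K : Subgroup G} (B : Rp φ K) {n m : G}

def kerS : Subgroup G where
  carrier := {n | n ∈ Nm(K) ∧ ∀ w, φ n w = w}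
  one_mem' := ⟨one_mem _, B.one⟩
  mul_mem' {a b} ha hb := ⟨mul_mem ha.1 hb.1, fun w => by rw [B.mul a ha.1 b hb.1, hb.2, ha.2]⟩
  inv_mem' {a} ha := ⟨inv_mem ha.1, fun w => by rw [← ha.2 w, B.inv ha.1, ha.2]⟩

theorem n_kerS : Nm(K) ≤ Nm(B.kerS) := le_normalizer_iff.2 fun g hg x hx =>
  ⟨mul_mem (mul_mem hg hx.1) (inv_mem hg), fun w => by
    rw [B.mul _ (mul_mem hg hx.1) _ (inv_mem hg), B.mul _ hg _ hx.1, hx.2, B.inv' hg]⟩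

include B

theorem fix2 (hn : n ∈ Nm(K)) (h : Sm φ n id) {v w : F × F} (hd : v.1 * w.2 - v.2 * w.1 ≠ 0)
    (h1 : φ n v = v) (h2 : φ n w = w) (x : F × F) : φ n x = x := by
  obtain ⟨a, b, d, e, h3⟩ := B.of_lin hn h
  rw [h3, Prod.ext_iff] at h1 h2
  obtain rfl : a = 1 := mul_left_cancel₀ hd (by linear_combination w.2 * h1.1 - v.2 * h2.1)
  obtain rfl : b = 0 := mul_left_cancel₀ hd (by linear_combination v.1 * h2.1 - w.1 * h1.1)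
  obtain rfl : d = 0 := mul_left_cancel₀ hd (by linear_combination w.2 * h1.2 - v.2 * h2.2)
  obtain rfl : e = 1 := mul_left_cancel₀ hd (by linear_combination v.1 * h2.2 - w.1 * h1.2)
  exact Ac.triv.1 h3 x

theorem basis {σ : F → F} (h : Sm φ n σ) {μ : F} (hμ : σ μ ≠ μ) : ∃ v w : F × F,
    (φ n v - v).1 * (φ n w - w).2 - (φ n v - v).2 * (φ n w - w).1 ≠ 0 := by
  by_contra hn
  push Not at hn
  have h1 := hn (μ • (1, 0)) (μ • (0, 1))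
  have h2 := hn (μ • (1, 0)) (0, 1)
  have h3 := hn (1, 0) (μ • (0, 1))
  have h4 := hn (1, 0) (0, 1)
  simp only [h μ, Prod.fst_sub, Prod.snd_sub, Prod.smul_fst, Prod.smul_snd, smul_eq_mul] at h1 h2 h3 h4
  exact pow_ne_zero 2 (sub_ne_zero.2 hμ) (by
    linear_combination h1 - σ μ * h2 - σ μ * h3 + σ μ ^ 2 * h4)

theorem gen {X : Subgroup G} (h1 : ∀ l ∈ K, ∀ b, Ac φ l 1 b 0 1 → l ∈ X)
    (h2 : ∀ l ∈ K, ∀ d, Ac φ l 1 0 d 1 → l ∈ X) : K ≤ X := by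
  have key : ∀ l ∈ K, ∀ a b d e, d ≠ 0 → a * e - b * d = 1 → Ac φ l a b d e → l ∈ X := by
    intro l hl a b d e hd h3 h4
    obtain ⟨s, hs⟩ : ∃ s, s * d = 1 - a := ⟨_, div_mul_cancel₀ _ hd⟩
    obtain ⟨u, hu, h5⟩ := B.ex 1 s 0 1 (by simp)
    obtain ⟨v, hv, h6⟩ := B.ex 1 (-(b + s * e)) 0 1 (by simp)
    have h7 := B.amul (le_normalizer (mul_mem hu hl)) (le_normalizer hv)
      (B.amul (le_normalizer hu) (le_normalizer hl) h5 h4) h6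
    have := h2 _ (mul_mem (mul_mem hu hl) hv) d (by
      convert h7 using 1
      · linear_combination -hs
      · linear_combination (b + s * e) * hs
      · ring
      · linear_combination e * hs - h3)
    rwa [mul_mem_cancel_right (h1 v hv _ h6), mul_mem_cancel_left (h1 u hu _ h5)] at this
  intro l hl
  obtain ⟨a, b, d, e, h3, h4⟩ := B.act l hl
  by_cases hd : d = 0
  · subst hd
    obtain ⟨u, hu, h5⟩ := B.ex 1 0 1 1 (by simp)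
    exact (mul_mem_cancel_left (h2 u hu _ h5)).1 (key _ (mul_mem hu hl) _ _ _ _
      (fun e => by simp_all) (by linear_combination h3)
      (B.amul (le_normalizer hu) (le_normalizer hl) h5 h4))
  · exact key l hl a b d e hd h3 h4

variable [CharP F 2]

theorem big {t : F} (h0 : t ≠ 0) (h1 : t ≠ 1) (hn : n ∈ Nm(K)) {w0 : F × F} (h : φ n w0 ≠ w0) :
    ¬ ∀ v w, φ n v ≠ v → φ n w ≠ w → φ n (v + w) = v + w := fun e => by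
  obtain ⟨σ, hσ⟩ := B.semi hn
  by_cases hl : ∀ μ, σ μ = μ
  · have k : ∀ s : F, s ≠ 0 → φ n (s • w0) ≠ s • w0 := fun s hs e =>
      h (smul_right_injective _ hs (by simpa only [hσ s w0, hl] using e))
    refine k (1 + t) (by grind) ?_
    rw [add_smul, one_smul]
    exact e _ _ h (k t h0)
  push Not at hl
  obtain ⟨μ, hμ⟩ := hl
  have k : ∀ w, w ≠ 0 → φ n w = w → φ n (μ • w) ≠ μ • w := fun w hw h2 e =>
    hμ (smul_left_injective F hw (by simpa only [hσ μ w, h2] using e))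
  have k2 : ∀ s : F, ∃ x y : F, (x = s ∨ y = s) ∧ (x = 0 ∨ x = s) ∧ (y = 0 ∨ y = s) ∧
      φ n (x, y) = (x, y) := fun s => by
    by_cases a : φ n (s, 0) = (s, 0)
    · exact ⟨s, 0, by simp, by simp, by simp, a⟩
    by_cases b : φ n (0, s) = (0, s)
    · exact ⟨0, s, by simp, by simp, by simp, b⟩
    exact ⟨s, s, by simp, by simp, by simp, by simpa using e _ _ a b⟩
  obtain ⟨x, y, a1, a2, a3, a4⟩ := k2 1
  obtain ⟨x', y', b1, b2, b3, b4⟩ := k2 t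
  refine k ((x, y) + (x', y')) (fun e => ?_) (by rw [B.add n hn, a4, b4]) ?_
  · rw [Prod.mk_add_mk, Prod.mk_eq_zero] at e
    grind
  · rw [smul_add]
    refine e _ _ (k _ (fun e => ?_) a4) (k _ (fun e => ?_) b4) <;> rw [Prod.mk_eq_zero] at e <;> grind

theorem nl_mul [Finite F] (hn : n ∈ Nm(K)) (hm : m ∈ Nm(K)) (h1 : Sm φ (n * n) id)
    (h2 : Sm φ (m * m) id) (h3 : ¬ Sm φ n id) (h4 : ¬ Sm φ m id) : Sm φ (n⁻¹ * m) id := by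
  obtain ⟨σ, hσ⟩ := B.semi hn
  obtain ⟨τ, hτ⟩ := B.semi hm
  have e1 := B.suniq (mul_mem hn hn) (B.smul hn hn hσ hσ) h1
  have e2 := B.suniq (mul_mem hm hm) (B.smul hm hm hτ hτ) h2
  have e3 := aut_uniq e1 e2 (by_contra fun e => h3 (by
    push Not at e; rwa [show (σ : F → F) = id from funext e] at hσ)) (by_contra fun e => h4 (by
    push Not at e; rwa [show (τ : F → F) = id from funext e] at hτ))
  have := B.smul (inv_mem hn) hm (B.sinv hn hσ e1) hτ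
  rwa [show (σ : F → F) ∘ τ = id from funext fun t => (e3 _).trans (e2 t)] at this

theorem weyl : ∃ s ∈ K, Ac φ s 0 1 1 0 ∧ Ac φ s⁻¹ 0 1 1 0 := by
  obtain ⟨s, hs, h⟩ := B.ex 0 1 1 0 (by grind)
  exact ⟨s, hs, h, fun x y => B.inj (le_normalizer hs) (by rw [B.inv' (le_normalizer hs), h]; simp)⟩

end Rp

section

variable {T K U Q A : Subgroup G} {π : G → F × F} {φ : G → F × F → F × F} (h : St T K U Q)
  (B : Bd π φ A K) (hA : U ≤ A)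
include h B hA

theorem St.kK : K ⊓ B.kerS ≤ U := h.uo ▸ le_pCoreOf inf_le_left
  (le_normalizer_inf le_normalizer (le_normalizer.trans B.n_kerS)) (isPGroup_iff_mem.2 fun k hk => by
    refine ⟨2, ?_⟩
    rw [show k ^ 2 ^ 2 = (k * k) * (k * k) by simp [pow_succ, mul_assoc]]
    refine h.sq _ (h.cK (mi (mul_mem hk.1 hk.1) (mem_centralizer_of_conj_eq fun u hu => ?_)))
    have h1 := conj_mem_of_mem_normalizer (h.kU hk.1) hu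
    have h2 := (B.peq (hA hu) (hA h1)).1 (by rw [B.cj k hk.2.1 u (hA hu), hk.2.2])
    have h3 := h.sq _ (mul_mem (inv_mem hu) h1)
    calc _ = k * u * (u⁻¹ * (k * u * k⁻¹)) * k⁻¹ := by group
      _ = u * (u⁻¹ * (k * u * k⁻¹)) * (k * (u⁻¹ * (k * u * k⁻¹))) * k⁻¹ := by group
      _ = u * ((u⁻¹ * (k * u * k⁻¹)) * (u⁻¹ * (k * u * k⁻¹))) := by rw [h2 k hk.1]; group
      _ = u := by rw [h3, mul_one])

theorem St.kP {P : Subgroup G} (hP : IsPGroup 2 P) (h1 : P ≤ Nm(Q)) (h2 : P ≤ B.kerS) : P ≤ Q :=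
  h.leQ hP h1 ((le_inf (comm_le_right (h1.trans h.NQ)) ((commutator_mono h2 le_rfl).trans
    (comm_le_left (le_normalizer.trans B.n_kerS)))).trans (h.kK B hA))

theorem St.kr {n : G} (h1 : n ∈ Nm(Q)) {k : ℕ} (hk : n ^ 2 ^ k = 1) (h2 : ∀ w, φ n w = w) : n ∈ Q :=
  h.kP B hA (isPGroup_zpowers hk) (zpowers_le.2 h1) (zpowers_le.2 ⟨h.NQ h1, h2⟩) (mem_zpowers n)

theorem St.kT {n : G} (h1 : n ∈ T) (h2 : ∀ w, φ n w = w) : n ∈ Q :=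
  let ⟨_, hk⟩ := isPGroup_iff_mem.1 h.pT n h1
  h.kr B hA (h.tQ h1) hk h2

theorem St.dec [CharP F 2] (hN : Nm(K) ≤ Nm(Q)) {k v : G} (hk : k ∈ K) (m : v ∈ Nm(K))
    (hv : v * v = 1) {b : F} (h1 : Ac φ k 1 b 0 1) (h2 : Ac φ v 1 b 0 1) : v * k⁻¹ ∈ Q := by
  have hk' := le_normalizer hk
  have c : v * k⁻¹ ∈ B.kerS := ⟨mul_mem m (inv_mem hk'), fun w => by
    rw [B.mul _ m _ (inv_mem hk'), h2, ← h1, B.inv' hk']⟩
  have k2 := h.kK B hA (mi (mul_mem hk hk) ⟨mul_mem hk' hk', Ac.triv.1 (by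
    simpa [CharTwo.add_self_eq_zero] using B.amul hk' hk' h1 h1)⟩)
  have w := h.kK B hA (mi (commutator_mem_left hk c.1) (commutator_mem_right c (B.n_kerS hk')))
  refine h.kr B hA (hN c.1) (k := 2) ?_ c.2
  rw [show (v * k⁻¹) ^ 2 ^ 2 = (v * k⁻¹ * (v * k⁻¹)) * (v * k⁻¹ * (v * k⁻¹)) by
    simp [pow_succ, mul_assoc]]
  refine h.sq _ ?_
  rw [show v * k⁻¹ * (v * k⁻¹) = (v * k⁻¹ * ⁅k, v * k⁻¹⁆ * (v * k⁻¹)⁻¹)⁻¹ * (v * v) * (k * k)⁻¹ by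
    rw [commutatorElement_def]; group, hv, mul_one]
  exact mul_mem (inv_mem (conj_mem_of_mem_normalizer (h.NU c.1) w)) (inv_mem k2)

end

variable {T K1 U1 Q1 K2 U2 Q2 : Subgroup G} {π1 π2 : G → F × F} {φ1 φ2 : G → F × F → F × F}

theorem pow_two_one {u : G} (h : u * u = 1) : u ^ 2 ^ 1 = 1 := by rw [pow_one, sq, h]

namespace Pr

variable (h : Pr T K1 U1 Q1 K2 U2 Q2) (B1 : Bd π1 φ1 U1 K1)
include h B1

theorem quad {v v' : G} (hv : v ∈ U2) (hv' : v' ∈ U2) (w : F × F) :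
    φ1 v' (φ1 v w - w) = φ1 v w - w := by
  obtain ⟨u, hu, rfl⟩ := B1.surj w
  rw [← B1.cm (h.a.tK (h.b.uT hv)) hu]
  exact B1.fix (h.a.tK (h.b.uT hv')) (h.swap.cm2 hv hu) (comm_of_sq h.b.sq hv' (h.swap.cm1 hv hu))

theorem ntriv : ∃ v ∈ U2, ∃ w, φ1 v w ≠ w := by
  by_contra e
  push Not at e
  exact h.n fun v hv => h.a.kT B1 le_rfl (h.b.uT hv) (e v hv)

variable [CharP F 2] [Finite F] (B2 : Bd π2 φ2 U2 K2) {t : F} (h0 : t ≠ 0) (h1 : t ≠ 1)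
include B2 h0 h1

theorem lin21 {v : G} (hv : v ∈ U2) : Sm φ1 v id := by
  by_contra e
  have m : ∀ {v}, v ∈ U2 → v ∈ Nm(K1) := fun hv => h.a.tK (h.b.uT hv)
  obtain ⟨σ, hσ⟩ := B1.semi (m hv)
  obtain ⟨μ, hμ⟩ : ∃ μ, σ μ ≠ μ := by_contra fun e' => e (by
    push Not at e'; rwa [show (σ : F → F) = id from funext e'] at hσ)
  obtain ⟨x, y, hd⟩ := B1.basis hσ hμ
  have k : ∀ a ∈ U2, Sm φ1 a id → a ∈ Q1 := fun a ha e => h.a.kT B1 le_rfl (h.b.uT ha)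
    (B1.fix2 (m ha) e hd (h.quad B1 hv ha x) (h.quad B1 hv ha y))
  obtain ⟨u, hu, w, hw⟩ := h.swap.ntriv B2
  have f : ∀ a ∈ U2, a ∈ Q1 → φ2 u (π2 a) = π2 a := fun a ha e =>
    B2.fix (h.b.tK (h.a.uT hu)) ha (h.a.cU e u hu)
  have s : ∀ a ∈ U2, Sm φ1 (a * a) id := fun a ha => h.b.sq a ha ▸ (Ac.triv.2 B1.one).sm
  refine B2.big h0 h1 (h.b.tK (h.a.uT hu)) hw fun a b e1 e2 => ?_
  obtain ⟨a, ha, rfl⟩ := B2.surj a
  obtain ⟨b, hb, rfl⟩ := B2.surj b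
  have := B1.nl_mul (m ha) (m hb) (s a ha) (s b hb) (fun e => e1 (f a ha (k a ha e)))
    fun e => e2 (f b hb (k b hb e))
  rw [inv_eq_of_mul_eq_one_right (h.b.sq a ha)] at this
  rw [← B2.pm a ha b hb]
  exact f _ (mul_mem ha hb) (k _ (mul_mem ha hb) this)

theorem axis : ∃ (π : G → F × F) (φ : G → F × F → F × F), Bd π φ U1 K1 ∧
    ∀ v ∈ U2, ∃ b, Ac φ v 1 b 0 1 := by
  obtain ⟨v0, h2, w, h3⟩ := h.ntriv B1
  obtain ⟨k, hk, b, e, -, h4⟩ := B1.trans (sub_ne_zero.2 h3)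
  have hk' := le_normalizer hk
  refine ⟨_, _, B1.conj hk, fun v hv => ?_⟩
  have m := h.a.tK (h.b.uT hv)
  refine (B1.conj hk).tv m (B1.smul (mul_mem (inv_mem hk') m) hk' (B1.smul (inv_mem hk') m
    (B1.lin (inv_mem hk)) (h.lin21 B1 B2 h0 h1 hv)) (B1.lin hk)) one_ne_zero ?_
    (pow_two_one (h.b.sq v hv))
  have h5 : φ1 k (1, 0) = φ1 v0 w - w := by rw [h4]; ext <;> simp
  rw [B1.mul _ (mul_mem (inv_mem hk') m) _ hk', B1.mul _ (inv_mem hk') _ m, h5, h.quad B1 h2 hv, ← h5,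
    B1.inv hk']

end Pr

structure Su (T K1 U1 Q1 K2 U2 Q2 : Subgroup G) (π1 π2 : G → F × F) (φ1 φ2 : G → F × F → F × F) :
    Prop extends Pr T K1 U1 Q1 K2 U2 Q2 where
  b1 : Bd π1 φ1 U1 K1
  b2 : Bd π2 φ2 U2 K2
  a21 : ∀ v ∈ U2, ∃ b, Ac φ1 v 1 b 0 1
  a12 : ∀ v ∈ U1, ∃ b, Ac φ2 v 1 b 0 1

structure Sp (T K1 U1 Q1 K2 U2 Q2 : Subgroup G) (π1 π2 : G → F × F) (φ1 φ2 : G → F × F → F × F) :
    Prop extends Pr T K1 U1 Q1 K2 U2 Q2 where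
  b1 : Bd π1 φ1 Q1 K1
  b2 : Bd π2 φ2 Q2 K2
  s1 : ∀ q ∈ Q1, q * q = 1
  s2 : ∀ q ∈ Q2, q * q = 1
  r1 : ∀ u ∈ Q1, u ∈ Q2 ↔ (π1 u).2 = 0
  r2 : ∀ u ∈ Q2, u ∈ Q1 ↔ (π2 u).2 = 0
  a21 : ∀ v ∈ Q2, ∃ b, Ac φ1 v 1 b 0 1
  a12 : ∀ v ∈ Q1, ∃ b, Ac φ2 v 1 b 0 1
  f21 : ∀ b, ∃ v ∈ Q2, Ac φ1 v 1 b 0 1
  f12 : ∀ b, ∃ v ∈ Q1, Ac φ2 v 1 b 0 1

namespace Su

variable (h : Su T K1 U1 Q1 K2 U2 Q2 π1 π2 φ1 φ2)
include h

theorem swap : Su T K2 U2 Q2 K1 U1 Q1 π2 π1 φ2 φ1 := ⟨h.toPr.swap, h.b2, h.b1, h.a12, h.a21⟩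

theorem ra {u : G} (hu : u ∈ U1) (h2 : u ∈ Q2) : (π1 u).2 = 0 := by
  obtain ⟨v, hv, w, hw⟩ := h.ntriv h.b1
  obtain ⟨b, h3⟩ := h.a21 v hv
  have := h.b1.fix (h.a.tK (h.b.uT hv)) hu (h.b.cU h2 v hv)
  rw [h3, Prod.ext_iff] at this
  by_contra e
  obtain rfl : b = 0 := mul_right_cancel₀ e (by linear_combination this.1)
  exact hw (Ac.triv.1 h3 w)

variable [CharP F 2]

theorem memQ2 {u v : G} (hu : u ∈ T) (hv : v ∈ T) {b : F} (h1 : Ac φ2 u 1 b 0 1)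
    (h2 : Ac φ2 v 1 b 0 1) : u * v ∈ Q2 :=
  h.b.kT h.b2 le_rfl (mul_mem hu hv) (Ac.triv.1 (by
    simpa [CharTwo.add_self_eq_zero] using h.b2.amul (h.b.tK hu) (h.b.tK hv) h1 h2))

variable [Finite F]

theorem f12 (b : F) : ∃ u ∈ U1, Ac φ2 u 1 b 0 1 := by
  choose s s1 s2 using fun x : F => h.b1.surj (0, x)
  choose f hf using fun x => h.a12 _ (s1 x)
  obtain ⟨x, rfl⟩ := Finite.injective_iff_surjective.1 (show Function.Injective f from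
    fun x y e => by
      have := h.ra (mul_mem (s1 x) (s1 y)) (h.memQ2 (h.a.uT (s1 x)) (h.a.uT (s1 y)) (hf x) (e ▸ hf y))
      rw [h.b1.pm _ (s1 x) _ (s1 y), s2, s2] at this
      grind [Prod.snd_add]) b
  exact ⟨_, s1 x, hf x⟩

theorem rb {u : G} (hu : u ∈ U1) (h2 : (π1 u).2 = 0) : u ∈ Q2 := by
  choose s s1 s2 using h.f12
  have m : ∀ a, ∀ v ∈ U1, ∀ b, Ac φ2 v 1 b 0 1 → (π1 (s a)).2 = (π1 v).2 → a = b := by
    have : Function.Surjective fun b => (π1 (s b)).2 := fun x => by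
      obtain ⟨v, hv, e⟩ := h.b1.surj (0, x)
      obtain ⟨b, hb⟩ := h.a12 v hv
      have := h.ra (mul_mem (s1 b) hv) (h.memQ2 (h.a.uT (s1 b)) (h.a.uT hv) (s2 b) hb)
      rw [h.b1.pm _ (s1 b) _ hv, e] at this
      exact ⟨b, by grind [Prod.snd_add]⟩
    intro a v hv b hb e
    refine Finite.injective_iff_surjective.2 this (e.trans ?_)
    have := h.ra (mul_mem (s1 b) hv) (h.memQ2 (h.a.uT (s1 b)) (h.a.uT hv) (s2 b) hb)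
    rw [h.b1.pm _ (s1 b) _ hv] at this
    grind [Prod.snd_add]
  obtain ⟨b, hb⟩ := h.a12 u hu
  have e := h.ra (mul_mem (s1 b) hu) (h.memQ2 (h.a.uT (s1 b)) (h.a.uT hu) (s2 b) hb)
  rw [h.b1.pm _ (s1 b) _ hu, Prod.snd_add, h2, add_zero] at e
  obtain rfl := m b 1 (one_mem _) 0 (Ac.triv.2 h.b2.one) (by rw [e, h.b1.p1]; rfl)
  exact h.b.kT h.b2 le_rfl (h.a.uT hu) (Ac.triv.1 hb)

theorem aQ {q : G} (hq : q ∈ Q1) : ∃ b, Ac φ2 q 1 b 0 1 := by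
  obtain ⟨u, hu, h1⟩ := h.f12 1
  have m := h.b.tK (h.a.qT hq)
  have k : ∀ x : F, φ2 q (x • (1, 0)) = x • (1, 0) := fun x => by
    obtain ⟨v, hv, e⟩ := h.b2.surj (0, x)
    have := h.b2.fix m (h.cm2 hu hv) (h.a.cU hq _ (h.cm1 hu hv)).symm
    rw [h.b2.cm (h.b.tK (h.a.uT hu)) hv, e, h1] at this
    simpa using this
  obtain ⟨j, hj⟩ := isPGroup_iff_mem.1 h.a.pQ q hq
  exact h.b2.tv m (h.b2.lin_of m (by simp) k) one_ne_zero (by simpa using congrArg Prod.snd (k 1)) hj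

theorem alpha {q : G} (hq : q ∈ Q1) : ∃ u ∈ U1, u * q ∈ Q2 := by
  obtain ⟨b, h1⟩ := h.aQ hq
  obtain ⟨u, hu, h2⟩ := h.f12 b
  exact ⟨u, hu, h.memQ2 (h.a.uT hu) (h.a.qT hq) h2 h1⟩

theorem sq1 : ∀ q ∈ Q1, q * q = 1 := h.sqQ fun _ => h.alpha

variable (hG : Ch2 G)
include hG

theorem dec {k v : G} (hk : k ∈ K1) (hv : v ∈ U2) {b : F} (h1 : Ac φ1 k 1 b 0 1)
    (h2 : Ac φ1 v 1 b 0 1) : v * k⁻¹ ∈ Q1 :=
  h.a.dec h.b1 le_rfl (h.a.NQ' hG (le_Cz_of_sq h.sq1)) hk (h.a.tK (h.b.uT hv)) (h.b.sq v hv) h1 h2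

theorem cR {k r : G} (hk : k ∈ K1) {b : F} (h1 : Ac φ1 k 1 b 0 1) (h2 : r ∈ Q1) (h3 : r ∈ Q2) :
    k ∈ Cx(r) := by
  obtain ⟨v, hv, h4⟩ := h.swap.f12 b
  rw [show k = (v * k⁻¹)⁻¹ * v by group]
  exact mul_mem (inv_mem (mem_Cx.2 (comm_of_sq h.sq1 (h.dec hG hk hv h1 h4) h2)))
    (mem_Cx.2 (h.b.cU h3 v hv))

theorem QUD {y : G} (hy : y ∈ Q1) : ∃ u ∈ U1, u⁻¹ * y ∈ Cz(K1) := by
  obtain ⟨s, hs, a1, a2⟩ := h.b1.weyl
  have hs' := le_normalizer hs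
  obtain ⟨u, hu, h1⟩ := h.alpha hy
  have r1 := mul_mem (h.a.uQ hu) hy
  obtain ⟨u', hu', h2⟩ := h.alpha (conj_mem_of_mem_normalizer' (h.a.kQ hs) r1)
  obtain ⟨u1, hu1, e⟩ := h.b1.surj ((π1 u').2, 0)
  have h3 := h.rb hu1 (by rw [e])
  have c1 := conj_mem_of_mem_normalizer' (h.a.kU hs) hu1
  have h4 := h.rb (mul_mem c1 hu') (by
    have := h.b1.cj _ (inv_mem hs') _ hu1
    rw [inv_inv] at this
    rw [h.b1.pm _ c1 _ hu', this, e, a2]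
    simp [CharTwo.add_self_eq_zero])
  refine ⟨(u1 * u)⁻¹, inv_mem (mul_mem hu1 hu), le_Cx_iff.1 (h.b1.gen (fun l hl b e =>
    h.cR hG hl e (by simpa [mul_assoc] using mul_mem (h.a.uQ hu1) r1)
      (by simpa [mul_assoc] using mul_mem h3 h1)) fun l hl d e => ?_)⟩
  have := h.cR hG (r := s⁻¹ * (u1 * (u * y)) * s) (mul_mem (mul_mem (inv_mem hs) hl) hs) (b := d) (by
      simpa using h.b1.amul (mul_mem (inv_mem hs') (le_normalizer hl)) hs'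
        (h.b1.amul (inv_mem hs') (le_normalizer hl) a2 e) a1)
    (conj_mem_of_mem_normalizer' (h.a.kQ hs) (mul_mem (h.a.uQ hu1) r1)) (by
      rw [show s⁻¹ * (u1 * (u * y)) * s = s⁻¹ * u1 * s * (u' * u') * (s⁻¹ * (u * y) * s) by
        rw [h.a.sq u' hu']; group, ← mul_assoc _ u', mul_assoc _ u']
      exact mul_mem h4 h2)
  rw [mem_Cx] at this ⊢
  calc _ = s * (s⁻¹ * l * s * (s⁻¹ * (u1 * (u * y)) * s)) * s⁻¹ := by group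
    _ = _ := by rw [this]; group

theorem D_le {d : G} (h1 : d ∈ Q1) (h2 : d ∈ Cz(K1)) : d ∈ Q2 :=
  h.b.cT (h.a.qT h1) fun v hv => by
    obtain ⟨b, h3⟩ := h.a21 v hv
    obtain ⟨k, hk, h4⟩ := h.b1.ex 1 b 0 1 (by simp)
    rw [show v = v * k⁻¹ * k by group, mul_assoc, h2 k hk, ← mul_assoc,
      comm_of_sq h.sq1 (h.dec hG hk hv h4 h3) h1, mul_assoc]

theorem extQ : ∃ π, Bd π φ1 Q1 K1 ∧ ∀ u ∈ Q1, u ∈ Q2 ↔ (π u).2 = 0 := by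
  obtain ⟨π, B, e⟩ := h.b1.ext h.a.uQ (h.a.NQ' hG (le_Cz_of_sq h.sq1)) (le_Cz_of_sq h.sq1)
    fun _ => h.QUD hG
  refine ⟨π, B, fun y hy => ?_⟩
  obtain ⟨u, hu, h1⟩ := h.QUD hG hy
  rw [← (B.peq (h.a.uQ hu) hy).2 h1, e u hu, ← mul_inv_cancel_left u y,
    mul_mem_cancel_right (h.D_le hG (mul_mem (inv_mem (h.a.uQ hu)) hy) h1)]
  exact ⟨h.ra hu, h.rb hu⟩

theorem sp : ∃ π1 π2, Sp T K1 U1 Q1 K2 U2 Q2 π1 π2 φ1 φ2 := by
  obtain ⟨π1, B1, e1⟩ := h.extQ hG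
  obtain ⟨π2, B2, e2⟩ := h.swap.extQ hG
  exact ⟨π1, π2, h.toPr, B1, B2, h.sq1, h.swap.sq1, e1, e2, fun _ => h.swap.aQ, fun _ => h.aQ,
    fun b => (h.swap.f12 b).imp fun _ e => ⟨h.b.uQ e.1, e.2⟩,
    fun b => (h.f12 b).imp fun _ e => ⟨h.a.uQ e.1, e.2⟩⟩

end Su

theorem Pr.sp [CharP F 2] [Finite F] (hG : Ch2 G) (h : Pr T K1 U1 Q1 K2 U2 Q2) (B1 : Bd π1 φ1 U1 K1)
    (B2 : Bd π2 φ2 U2 K2) {t : F} (h0 : t ≠ 0) (h1 : t ≠ 1) :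
    ∃ (π1 π2 : G → F × F) (φ1 φ2 : G → F × F → F × F), Sp T K1 U1 Q1 K2 U2 Q2 π1 π2 φ1 φ2 := by
  obtain ⟨_, _, C1, e1⟩ := h.axis B1 B2 h0 h1
  obtain ⟨_, _, C2, e2⟩ := h.swap.axis B2 B1 h0 h1
  obtain ⟨_, _, e⟩ := Su.sp ⟨h, C1, C2, e1, e2⟩ hG
  exact ⟨_, _, _, _, e⟩

end CfLu
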