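import Cfsg.Agent.L.DC

/-! The group `S = Q₁Q₂` is weakly closed. -/

set_option autoImplicit false

namespace CfLu

open Subgroup CfH9 CfH7 Cfsg
open CfL.Pl (Ch2 eq_one_of_pow idx2 two_mul_le cmul)
open scoped commutatorElement

variable {G : Type*} [Group G] {F : Type*} [Field F]

theorem Rp.axis {φ : G → F × F → F × F} {K : Subgroup G} (B : Rp φ K) {n : G} (hn : n ∈ Nm(K))
    {x : F} (hx : x ≠ 0) (h : (φ n (x, 0)).2 = 0) (y : F) : (φ n (y, 0)).2 = 0 := by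
  obtain ⟨σ, hσ⟩ := B.semi hn
  rw [show (y, (0 : F)) = (y / x) • (x, (0 : F)) by simp [hx], hσ, Prod.smul_snd, h, smul_zero]

theorem Rp.axis' {φ : G → F × F → F × F} {K : Subgroup G} (B : Rp φ K) {n : G} (hn : n ∈ Nm(K))
    {x : F} (hx : x ≠ 0) (h : (φ n (x, 0)).2 = 0) (y : F) : (φ n⁻¹ (y, 0)).2 = 0 :=
  B.axis (inv_mem hn) (x := (φ n (x, 0)).1) (fun e => hx (congrArg Prod.fst
    (B.eq_zero hn (Prod.ext e h)))) (by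
      rw [show ((φ n (x, 0)).1, (0 : F)) = φ n (x, 0) from Prod.ext rfl h.symm, B.inv hn]) y

def Rp.fx {φ : G → F × F → F × F} {K : Subgroup G} (B : Rp φ K) {n : G} (hn : n ∈ Nm(K)) :
    AddSubgroup (F × F) where
  carrier := {w | φ n w = w}
  zero_mem' := B.zero hn
  add_mem' {a b} (ha : _ = _) (hb : _ = _) := show _ = _ by rw [B.add n hn, ha, hb]
  neg_mem' {a} (ha : _ = _) := show _ = _ by
    rw [eq_neg_iff_add_eq_zero, ← ha, ← B.add n hn, ha, neg_add_cancel, B.zero hn]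

section

variable {π : G → F × F} {φ : G → F × F → F × F} {A K : Subgroup G} (B : Bd π φ A K)

def Bd.χ : A →* Multiplicative (F × F) :=
  MonoidHom.mk' (fun u => .ofAdd (π u)) fun a b => congrArg _ (B.pm _ a.2 _ b.2)

include B

theorem Bd.card_ker : Nat.card B.χ.ker = Nat.card (A ⊓ Cz(K) : Subgroup G) := by
  rw [show B.χ.ker = (A ⊓ Cz(K)).subgroupOf A from Subgroup.ext fun u =>
    (B.ker _ u.2).trans (and_iff_right u.2).symm, CfH9.card_subgroupOf inf_le_left]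

theorem Bd.card_A : Nat.card A = Nat.card F ^ 2 * Nat.card (A ⊓ Cz(K) : Subgroup G) := by
  rw [← B.χ.ker.index_mul_card, index_ker, B.card_ker, MonoidHom.range_eq_top.2 fun w => by
    obtain ⟨u, hu, e⟩ := B.surj w.toAdd
    exact ⟨⟨u, hu⟩, congrArg Multiplicative.ofAdd e⟩, card_top, sq, ← Nat.card_prod F F]
  rfl

theorem Bd.card_le [Finite G] [Finite F] {E : Subgroup G} (hE : E ≤ A) {W : AddSubgroup (F × F)}
    (hW : ∀ u ∈ E, π u ∈ W) :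
    Nat.card E ≤ Nat.card W * Nat.card (A ⊓ Cz(K) : Subgroup G) := by
  let f := B.χ.comp (inclusion hE)
  rw [← f.ker.index_mul_card, index_ker]
  refine Nat.mul_le_mul (card_le_of_le (K := W.toSubgroup) ?_) ?_
  · rintro _ ⟨u, rfl⟩
    exact hW u u.2
  · rw [← CfH9.card_map_subtype]
    refine card_le_of_le ?_
    rintro _ ⟨u, hu, rfl⟩
    exact ⟨hE u.2, (B.ker _ (hE u.2)).1 hu⟩

end

theorem card_axis : Nat.card (AddMonoidHom.snd F F).ker = Nat.card F :=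
  Nat.card_congr ⟨fun w => w.1.1, fun x => ⟨(x, 0), rfl⟩,
    fun w => Subtype.ext (Prod.ext rfl w.2.symm), fun _ => rfl⟩

theorem conj_fix {A : Subgroup G} (h : ∀ a ∈ A, a * a = 1) {a b : G} (ha : a ∈ A) (hb : b ∈ A) :
    a * b * a⁻¹ = b := by rw [comm_of_sq h ha hb, mul_inv_cancel_right]

structure Sq (T K1 U1 Q1 K2 U2 Q2 S : Subgroup G) (π1 π2 : G → F × F)
    (φ1 φ2 : G → F × F → F × F) : Prop extends Sp T K1 U1 Q1 K2 U2 Q2 π1 π2 φ1 φ2 where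
  eS : S = Q1 ⊔ Q2
  ch : Ch2 G
  cQ : Nat.card Q1 = Nat.card Q2
  hq : 4 ≤ Nat.card F

namespace Sq

variable {T K1 U1 Q1 K2 U2 Q2 S : Subgroup G} {π1 π2 : G → F × F} {φ1 φ2 : G → F × F → F × F}
  (h : Sq T K1 U1 Q1 K2 U2 Q2 S π1 π2 φ1 φ2) {n u v s : G}
include h

theorem swap : Sq T K2 U2 Q2 K1 U1 Q1 S π2 π1 φ2 φ1 :=
  ⟨⟨h.toPr.swap, h.b2, h.b1, h.s2, h.s1, h.r2, h.r1, h.a12, h.a21, h.f12, h.f21⟩,
    h.eS.trans (sup_comm _ _), h.ch, h.cQ.symm, h.hq⟩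

theorem q1S : Q1 ≤ S := h.eS ▸ le_sup_left
theorem q2S : Q2 ≤ S := h.eS ▸ le_sup_right
theorem ST : S ≤ T := h.eS ▸ sup_le h.a.qT h.b.qT
theorem pS : IsPGroup 2 S := h.a.pT.to_le h.ST
theorem SQ1 : S ≤ Nm(Q1) := h.ST.trans h.a.tQ
theorem SQ2 : S ≤ Nm(Q2) := h.ST.trans h.b.tQ
theorem SK1 : S ≤ Nm(K1) := h.ST.trans h.a.tK
theorem TS : T ≤ Nm(S) := h.eS ▸ le_normalizer_sup h.a.tQ h.b.tQ
theorem N0 (h1 : n ∈ Nm(Q1)) (h2 : n ∈ Nm(Q2)) : n ∈ Nm(S) := h.eS ▸ mem_Nm_sup h1 h2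

theorem memS (hs : s ∈ S) : ∃ u ∈ Q1, ∃ v ∈ Q2, u * v = s :=
  (mem_sup_of_le_Nm' (h.q2S.trans h.SQ1)).1 (h.eS ▸ hs)

theorem t1 (hu : u ∈ Q1) (w : F × F) : φ1 u w = w := by
  obtain ⟨v, hv, rfl⟩ := h.b1.surj w
  exact h.b1.fix (h.a.qK hu) hv (comm_of_sq h.s1 hu hv)

theorem kr1 (h1 : n ∈ Nm(K1)) {k : ℕ} (hk : n ^ 2 ^ k = 1) (h2 : ∀ w, φ1 n w = w) : n ∈ Q1 :=
  h.a.kr h.b1 h.a.uQ (h.b1.n h1) hk h2

theorem aS (hs : s ∈ S) : ∃ b, Ac φ1 s 1 b 0 1 := by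
  obtain ⟨u, hu, v, hv, rfl⟩ := h.memS hs
  obtain ⟨b, h1⟩ := h.a21 v hv
  exact ⟨b, fun x y => by rw [h.b1.mul _ (h.a.qK hu) _ (h.SK1 (h.q2S hv)), h.t1 hu, h1]⟩

theorem LK : Q1 ⊔ K1 ≤ Nm(K1) := sup_le h.a.qK le_normalizer

theorem NL : Nm(K1) ≤ Nm(Q1 ⊔ K1) := le_normalizer_sup h.b1.n le_rfl

theorem memL {l : G} (hl : l ∈ Q1 ⊔ K1) : ∃ q ∈ Q1, ∃ k ∈ K1, q * k = l ∧ φ1 l = φ1 k := by
  obtain ⟨q, hq, k, hk, rfl⟩ := (mem_sup_of_le_Nm h.a.qK).1 hl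
  exact ⟨q, hq, k, hk, rfl, funext fun w => by
    rw [h.b1.mul _ (h.a.qK hq) _ (le_normalizer hk), h.t1 hq]⟩

theorem linL {l : G} (hl : l ∈ Q1 ⊔ K1) : Sm φ1 l id := by
  obtain ⟨q, -, k, hk, -, e⟩ := h.memL hl
  exact fun t w => by rw [e, h.b1.lin hk]

theorem cm12 (hu : u ∈ Q1) (hv : v ∈ Q2) (e : v * u = u * v) : u ∈ Q2 ∨ v ∈ Q1 := by
  obtain ⟨b, h1⟩ := h.a21 v hv
  have := h.b1.fix (h.SK1 (h.q2S hv)) hu e
  rw [h1, Prod.ext_iff] at this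
  refine (mul_eq_zero.1 (show (π1 u).2 * b = 0 by linear_combination this.1)).imp (h.r1 u hu).2 ?_
  rintro rfl
  exact h.kr1 (h.SK1 (h.q2S hv)) (pow_two_one (h.s2 v hv)) (Ac.triv.1 h1)

theorem inv_or (hs : s ∈ S) (h2 : s * s = 1) : s ∈ Q1 ∨ s ∈ Q2 := by
  obtain ⟨u, hu, v, hv, rfl⟩ := h.memS hs
  refine (h.cm12 hu hv ?_).symm.imp (mul_mem hu) fun e => mul_mem e hv
  calc v * u = (u * u) * (v * u) * (v * v) := by rw [h.s1 u hu, h.s2 v hv, one_mul, mul_one]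
    _ = u * (u * v * (u * v)) * v := by group
    _ = _ := by rw [h2, mul_one]

theorem el_le {A : Subgroup G} (h1 : A ≤ S) (h2 : ∀ a ∈ A, a * a = 1) : A ≤ Q1 ∨ A ≤ Q2 := by
  by_contra hn
  rw [not_or, SetLike.not_le_iff_exists, SetLike.not_le_iff_exists] at hn
  obtain ⟨⟨a, ha, a1⟩, b, hb, b2⟩ := hn
  exact (h.cm12 ((h.inv_or (h1 hb) (h2 b hb)).resolve_right b2)
    ((h.inv_or (h1 ha) (h2 a ha)).resolve_left a1) (comm_of_sq h2 ha hb)).elim b2 a1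

theorem ne12 : Q1 ≠ Q2 := fun e => h.n (h.b.uQ.trans e.ge)

theorem ax1 (h1 : n ∈ Nm(Q1)) (h2 : n ∈ Nm(Q2)) (x : F) : (φ1 n (x, 0)).2 = 0 := by
  obtain ⟨u, hu, e⟩ := h.b1.surj (x, 0)
  rw [← e, ← h.b1.cj n (h.a.NQ h1) u hu, ← h.r1 _ (conj_mem_of_mem_normalizer h1 hu)]
  exact conj_mem_of_mem_normalizer h2 ((h.r1 u hu).2 (by rw [e]))

variable [CharP F 2]

theorem Q2L : Q2 ≤ Q1 ⊔ K1 := fun v hv => by
  obtain ⟨b, h1⟩ := h.a21 v hv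
  obtain ⟨k, hk, h2⟩ := h.b1.ex 1 b 0 1 (by simp)
  rw [show v = v * k⁻¹ * k by group]
  exact mul_mem_sup (h.a.dec h.b1 h.a.uQ h.b1.n hk (h.SK1 (h.q2S hv)) (h.s2 v hv) h2 h1) hk

theorem SL : S ≤ Q1 ⊔ K1 := h.eS ▸ sup_le le_sup_left h.Q2L

theorem ofL {l : G} (hl : l ∈ Q1 ⊔ K1) {b : F} (h1 : Ac φ1 l 1 b 0 1) : l ∈ S := by
  obtain ⟨q, hq, k, hk, rfl, e⟩ := h.memL hl
  obtain ⟨v, hv, h2⟩ := h.f21 b
  have := h.a.dec h.b1 h.a.uQ h.b1.n hk (h.SK1 (h.q2S hv)) (h.s2 v hv) (fun x y => e ▸ h1 x y) h2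
  exact mul_mem (h.q1S hq) (inv_mem_iff.1 ((mul_mem_cancel_left (h.q2S hv)).1 (h.q1S this)))

variable [Finite G]

theorem NS_of (hn : n ∈ Nm(K1)) {x : F} (hx : x ≠ 0) (h1 : (φ1 n (x, 0)).2 = 0) : n ∈ Nm(S) :=
  mem_normalizer_of_conj_mem fun s hs => by
    have hl := conj_mem_of_mem_normalizer (h.NL hn) (h.SL hs)
    obtain ⟨k, hk⟩ := isPGroup_iff_mem.1 h.pS s hs
    obtain ⟨b, h2⟩ := h.aS hs
    obtain ⟨b', h3⟩ := h.b1.tv (h.LK hl) (h.linL hl) one_ne_zero (k := k) (by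
      rw [h.b1.mul _ (mul_mem hn (h.SK1 hs)) _ (inv_mem hn), h.b1.mul _ hn _ (h.SK1 hs),
        ← Prod.mk.eta (p := φ1 n⁻¹ (1, 0)), h.b1.axis' hn hx h1, h2]
      simpa using h.b1.axis hn hx h1 _) (by rw [conj_pow, hk]; simp)
    exact h.ofL hl h3

theorem mem_of_lin (h1 : n ∈ Nm(Q1)) (h2 : n ∈ Nm(Q2)) (h3 : Sm φ1 n id) {k : ℕ}
    (hk : n ^ 2 ^ k = 1) : n ∈ S := by
  have m := h.a.NQ h1
  obtain ⟨b, h4⟩ := h.b1.tv m h3 one_ne_zero (h.ax1 h1 h2 1) hk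
  obtain ⟨v, hv, h5⟩ := h.f21 b
  obtain ⟨j, hj⟩ := isPGroup_iff_mem.1 (isPGroup_sup (isPGroup_zpowers hk) h.pS
    (zpowers_le.2 (h.N0 h1 h2))) _ (mul_mem_sup (mem_zpowers n) (h.q2S hv))
  exact (mul_mem_cancel_right (h.q2S hv)).1 (h.q1S (h.kr1 (mul_mem m (h.SK1 (h.q2S hv))) hj
    (Ac.triv.1 (by simpa [CharTwo.add_self_eq_zero] using h.b1.amul m (h.SK1 (h.q2S hv)) h4 h5))))

omit [CharP F 2]

theorem el_eq {A : Subgroup G} (h1 : A ≤ S) (h2 : ∀ a ∈ A, a * a = 1)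
    (hc : Nat.card A = Nat.card Q1) : A = Q1 ∨ A = Q2 :=
  (h.el_le h1 h2).imp (fun e => eq_of_le_of_card_ge e hc.ge)
    fun e => eq_of_le_of_card_ge e (hc.trans h.cQ).ge

theorem cases (hn : n ∈ Nm(S)) : (n ∈ Nm(Q1) ∧ n ∈ Nm(Q2)) ∨ (cj n Q1 = Q2 ∧ cj n Q2 = Q1) := by
  have e := cj_eq_of_mem_normalizer hn
  have hne : cj n Q1 ≠ cj n Q2 := fun e => h.ne12 (cj_inj.1 e)
  rw [mem_normalizer_iff_cj, mem_normalizer_iff_cj]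
  rcases h.el_eq ((cj_mono n h.q1S).trans e.le) (sq_cj h.s1 n) (card_cj _ _) with a | a <;>
  rcases h.el_eq ((cj_mono n h.q2S).trans e.le) (sq_cj h.s2 n) ((card_cj _ _).trans h.cQ.symm)
    with b | b
  exacts [absurd (a.trans b.symm) hne, Or.inl ⟨a, b⟩, Or.inr ⟨a, b⟩, absurd (a.trans b.symm) hne]

theorem N2_of (hn : n ∈ Nm(S)) (h1 : n ∈ Nm(Q1)) : n ∈ Nm(Q2) :=
  (h.cases hn).elim And.right fun e => absurd ((cj_eq_of_mem_normalizer h1).symm.trans e.1) h.ne12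

theorem sw (hn : n ∈ Nm(S)) (h1 : n ∉ Nm(Q1)) : cj n Q1 = Q2 ∧ cj n Q2 = Q1 :=
  (h.cases hn).resolve_left fun e => h1 e.1

theorem swap_mul {a b : G} (ha : a ∈ Nm(S)) (hb : b ∈ Nm(S)) (ha' : a ∉ Nm(Q1))
    (hb' : b ∉ Nm(Q1)) : a⁻¹ * b ∈ Nm(Q1) := by
  rw [mem_normalizer_iff_cj, cj_mul, (h.sw hb hb').1, ← (h.sw ha ha').1, cj_inv_cj]

theorem swap_fix (hn : n ∈ Nm(S)) (h1 : n ∉ Nm(Q1)) (hs : s ∈ S) (h2 : s * s = 1)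
    (e : n * s * n⁻¹ = s) : s ∈ Q1 ⊓ Q2 := by
  obtain ⟨h3, h4⟩ := h.sw hn h1
  rcases h.inv_or hs h2 with a | a
  · exact ⟨a, by rw [← h3, ← e]; exact conj_mem_cj n a⟩
  · exact ⟨by rw [← h4, ← e]; exact conj_mem_cj n a, a⟩

theorem NR : Nm(S) ≤ Nm(Q1 ⊓ Q2) := fun n hn => by
  rcases h.cases hn with e | e
  · exact mem_Nm_inf e.1 e.2
  · rw [mem_normalizer_iff_cj, cj_inf, e.1, e.2, inf_comm]

variable [CharP F 2] [Finite F]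

theorem field_mul {a b : G} (ha : a ∈ Nm(S) ⊓ Nm(Q1)) (hb : b ∈ Nm(S) ⊓ Nm(Q1)) (ha2 : a * a = 1)
    (hb2 : b * b = 1) (haS : a ∉ S) (hbS : b ∉ S) {k : ℕ} (hk : (a⁻¹ * b) ^ 2 ^ k = 1) :
    a⁻¹ * b ∈ S := by
  have c := mul_mem (inv_mem ha) hb
  exact h.mem_of_lin c.2 (h.N2_of c.1 c.2) (h.b1.nl_mul (h.a.NQ ha.2) (h.a.NQ hb.2)
    (ha2 ▸ (Ac.triv.2 h.b1.one).sm) (hb2 ▸ (Ac.triv.2 h.b1.one).sm)
    (fun e => haS (h.mem_of_lin ha.2 (h.N2_of ha.1 ha.2) e (pow_two_one ha2)))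
    fun e => hbS (h.mem_of_lin hb.2 (h.N2_of hb.1 hb.2) e (pow_two_one hb2))) hk

theorem idx_field {A : Subgroup G} (hA : A ≤ Nm(S) ⊓ Nm(Q1)) (h2 : ∀ a ∈ A, a * a = 1) :
    Nat.card A ≤ 2 * Nat.card (A ⊓ S : Subgroup G) :=
  idx2 fun a ha b hb ha' hb' => h.field_mul (hA ha) (hA hb) (h2 a ha) (h2 b hb) ha' hb'
    (pow_two_one (h2 _ (mul_mem (inv_mem ha) hb)))

theorem fix_le (h1 : n ∈ Nm(Q1)) (h2 : n ∈ Nm(Q2)) (h3 : n * n = 1) (h4 : n ∉ S) {E : Subgroup G}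
    (hE : E ≤ Q1) (h5 : ∀ e ∈ E, n * e = e * n) : 4 * Nat.card E ≤ Nat.card Q1 := by
  have m := h.a.NQ h1
  obtain ⟨σ, hσ⟩ := h.b1.semi m
  obtain ⟨μ, hμ⟩ : ∃ μ, σ μ ≠ μ := by_contra fun e' => h4 (h.mem_of_lin h1 h2 (by
    push Not at e'; rwa [show (σ : F → F) = id from funext e'] at hσ) (pow_two_one h3))
  have a := h.b1.card_le hE (W := h.b1.fx m) fun u hu => h.b1.fix m (hE hu) (h5 u hu)
  have b := h.b1.fix_small m hσ hμ (W := h.b1.fx m) fun _ e => e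
  have c := h.hq
  rw [h.b1.card_A, sq, mul_assoc]
  exact Nat.mul_le_mul c (a.trans (Nat.mul_le_mul_right _ b))

omit [CharP F 2] in
theorem card_R : 4 * Nat.card (Q1 ⊓ Q2 : Subgroup G) ≤ Nat.card Q1 := by
  have a := h.b1.card_le (E := Q1 ⊓ Q2) inf_le_left (W := (AddMonoidHom.snd F F).ker)
    fun u hu => (h.r1 u hu.1).1 hu.2
  rw [h.b1.card_A, sq, mul_assoc, card_axis] at *
  exact Nat.mul_le_mul h.hq a

theorem lin_of_cR (h1 : n ∈ Nm(Q1)) (h2 : ∀ x, ∃ r ∈ Q1, π1 r = (x, 0) ∧ n * r = r * n) :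
    Sm φ1 n id := h.b1.lin_of (h.a.NQ h1) (w := (1, 0)) (by simp) fun t => by
  obtain ⟨r, hr, e, h3⟩ := h2 t
  simpa [e] using h.b1.fix (h.a.NQ h1) hr h3

theorem le_S {A : Subgroup G} (hA : A ≤ Nm(S)) (h2 : ∀ a ∈ A, a * a = 1)
    (hc : Nat.card A = Nat.card Q1) : A ≤ S := by
  by_contra hn
  have i1 := idx2 (H := Nm(Q1)) (K := A) fun a ha b hb => h.swap_mul (hA ha) (hA hb)
  have i2 := h.idx_field (A := A ⊓ Nm(Q1)) (inf_le_inf_right _ hA) fun a ha => h2 a ha.1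
  have c0 : 0 < Nat.card Q1 := Nat.card_pos
  have c1 := h.card_R
  by_cases h3 : A ≤ Nm(Q1)
  · obtain ⟨a, ha, haS⟩ := SetLike.not_le_iff_exists.1 hn
    have h4 := h.N2_of (hA ha) (h3 ha)
    rw [inf_eq_left.2 h3] at i2
    have c2 := h.cQ
    rcases h.el_le (A := A ⊓ S) inf_le_right fun b hb => h2 b hb.1 with e | e
    · have := h.fix_le (h3 ha) h4 (h2 a ha) haS e fun d hd => comm_of_sq h2 ha hd.1
      omega
    · have := h.swap.fix_le h4 (h3 ha) (h2 a ha) haS e fun d hd => comm_of_sq h2 ha hd.1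
      omega
  obtain ⟨g, hg, hg'⟩ := SetLike.not_le_iff_exists.1 h3
  have h4 : A ⊓ Nm(Q1) ⊓ S ≤ Q1 ⊓ Q2 := fun x hx =>
    h.swap_fix (hA hg) hg' hx.2 (h2 x hx.1.1) (conj_fix h2 hg hx.1.1)
  by_cases h5 : A ⊓ Nm(Q1) ≤ S
  · rw [inf_eq_left.2 h5] at h4
    have := card_le_of_le h4
    omega
  obtain ⟨a, ha, haS⟩ := SetLike.not_le_iff_exists.1 h5
  have := two_mul_le (lt_of_le_of_ne h4 fun e => haS (h.mem_of_lin ha.2 (h.N2_of (hA ha.1) ha.2)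
    (h.lin_of_cR ha.2 fun x => by
      obtain ⟨r, hr, e'⟩ := h.b1.surj (x, 0)
      exact ⟨r, hr, e', comm_of_sq h2 ha.1 (e.ge (mi hr ((h.r1 r hr).2 (by rw [e'])))).1.1⟩)
    (pow_two_one (h2 _ ha.1))))
  omega

theorem cj1 {g : G} (e : cj g Q1 ≤ Nm(S)) : cj g Q1 = Q1 ∨ cj g Q1 = Q2 :=
  h.el_eq (h.le_S e (sq_cj h.s1 g) (card_cj _ _)) (sq_cj h.s1 g) (card_cj _ _)

theorem cj1_le {g : G} (e : cj g Q1 ≤ Nm(S)) : cj g Q1 ≤ S := h.le_S e (sq_cj h.s1 g) (card_cj _ _)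

theorem NS_of_cj {g : G} (h1 : cj g Q1 ≤ Nm(S)) (h2 : cj g Q2 ≤ Nm(S)) : g ∈ Nm(S) :=
  mem_normalizer_of_cj_le (by
    nth_rewrite 1 [h.eS]
    rw [cj_sup]
    exact sup_le (h.cj1_le h1) (h.swap.cj1_le h2))

theorem NS_of_cj' {g : G} (h1 : cj g S ≤ Nm(S)) : g ∈ Nm(S) :=
  h.NS_of_cj ((cj_mono g h.q1S).trans h1) ((cj_mono g h.q2S).trans h1)

theorem two_le {P : Subgroup G} (hP : IsPGroup 2 P) (e : S ≤ P) : P ≤ Nm(S) := by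
  by_contra hn
  have h1 := lt_inf_Nm hP (Q := P ⊓ Nm(S)) (lt_of_le_of_ne inf_le_left fun e => hn (inf_eq_left.1 e))
  refine h1.not_ge fun t ht => ⟨ht.1, h.NS_of_cj' ?_⟩
  exact ((cj_mono t (le_inf e le_normalizer)).trans (cj_eq_of_mem_normalizer ht.2).le).trans
    inf_le_right

theorem two_le' {P : Subgroup G} (hP : IsPGroup 2 P) (e : S ≤ Nm(P)) : P ≤ Nm(S) :=
  le_sup_right.trans (h.two_le (isPGroup_sup h.pS hP e) le_sup_left)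

end Sq

end CfLu
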