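import Cfsg.Agent.L.DD
import Cfsg.Agent.L.BM
import Cfsg.Agent.H8.FiTop

/-! The final argument, and the case of `L₃(q)`. -/

set_option autoImplicit false

namespace CfLu

open Subgroup CfH9 CfH7 Cfsg
open CfL.Pl
open scoped commutatorElement

variable {G : Type*} [Group G] {F : Type*} [Field F]

theorem conj_sq {t : G} (h : t * t = 1) (g : G) : g * t * g⁻¹ * (g * t * g⁻¹) = 1 := by
  rw [← cmul, h]; simp

theorem final [Finite G] (hG : Ch2 G) {S Z : Subgroup G} (ZS : Z ≤ S) (Zne : Z ≠ ⊥)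
    (ZN : Nm(S) ≤ Nm(Z)) (Z2 : ∀ z ∈ Z, z * z = 1)
    (nf : ∀ t ∈ Nm(S), t * t = 1 → t ∉ S → ∀ g, g * t * g⁻¹ ∉ S)
    (hz : ∀ t ∈ Nm(S), t * t = 1 → t ∉ S → ∀ w ∈ S, w * w = 1 → w ≠ 1 → t * w * t⁻¹ = w → ∀ g,
      g * w * g⁻¹ ∈ S → t * (g * w * g⁻¹) * t⁻¹ = g * w * g⁻¹ → g ∈ Nm(S))
    {t : G} (ht : t ∈ Nm(S)) (t2 : t * t = 1) (tS : t ∉ S) {u k : G} (hu : u ∈ S) (u2 : u * u = 1)
    (hk : k * u * k⁻¹ ∉ Nm(S)) : False := by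
  have A : ∀ t ∈ Nm(S), t * t = 1 → t ∉ S → Cx(t) ≤ Nm(S) := fun t ht t2 tS => by
    obtain ⟨P, hP, h1⟩ := exists_sylIn_ge (pg_inv t2) (H := Cx(t) ⊓ Nm(S))
      (zpowers_le.2 (mi (mem_Cx.2 rfl) ht))
    obtain ⟨z, z1, z2, z3⟩ := exists_mem_center_of_normal hP.pgrp (pg_of_sq Z2)
      (hP.le.trans (inf_le_right.trans ZN)) Zne
    have z4 : t * z = z * t := z3 t (h1 (mem_zpowers t))
    have key : ∀ g ∈ Cx(t), g * z * g⁻¹ ∈ Nm(S) → g ∈ Nm(S) := fun g hg e =>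
      hz t ht t2 tS z (ZS z1) (Z2 z z1) z2 (by rw [z4]; simp) g (by_contra fun e' =>
        nf _ e (conj_sq (Z2 z z1) g) e' g⁻¹ (by simpa [mul_assoc] using ZS z1))
        (mul_inv_eq_iff_eq_mul.2 (mem_Cx.1 (mul_mem (mul_mem hg (mem_Cx.2 z4.symm)) (inv_mem hg))).symm)
    have zP : z ∈ P := hP.le_of_le_Nm' (pg_inv (Z2 z z1)) (zpowers_le.2 (mi (mem_Cx.2 z4.symm)
      (le_normalizer (ZS z1)))) (zpowers_le.2 (Cz_le_Nm _ z3)) (mem_zpowers z)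
    have h2 := sylIn_pCoreOf_le (hP.of_Nm_le inf_le_left fun g hg =>
      mi hg.1 (key g hg.1 (hP.le (conj_mem_of_mem_normalizer hg.2 zP)).2))
    have zO := ch2_Cx hG t2 (fun e => tS (e ▸ one_mem S)) (mi (mem_Cx.2 z4.symm) (Cz_anti h2 z3))
    exact fun g hg => key g hg
      (hP.le (h2 (conj_mem_of_mem_normalizer (le_normalizer_pCoreOf _ hg) zO))).2
  obtain ⟨w, w1, w2, w3, w4, -⟩ := CfH8.Fi.dihedral_pair t2 (conj_sq u2 k) fun e => by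
    obtain ⟨c, e⟩ := isConj_iff.1 e
    exact nf t ht t2 tS (k⁻¹ * c) (by
      rwa [show k⁻¹ * c * t * (k⁻¹ * c)⁻¹ = k⁻¹ * (c * t * c⁻¹) * k by group, e,
        show k⁻¹ * (k * u * k⁻¹) * k = u by group])
  by_cases c : w ∈ S
  · have e : t * w * t⁻¹ = w := by rw [← w3]; simp
    have e' : k * u * k⁻¹ * w * (k * u * k⁻¹)⁻¹ = w := by rw [← w4, mul_inv_cancel_right]
    exact hk (hz t ht t2 tS w c w2 w1 e _ (by rwa [e']) (by rwa [e']))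
  · exact hk (A w (A t ht t2 tS (mem_Cx.2 w3)) w2 c (mem_Cx.2 w4.symm))

theorem ex_ne [Finite F] (hq : 4 ≤ Nat.card F) : ∃ t : F, t ≠ 0 ∧ t ≠ 1 := by
  by_contra e
  push Not at e
  have := Nat.card_le_card_of_surjective (![0, 1] : Fin 2 → F) fun t => by
    by_cases c : t = 0
    exacts [⟨0, c.symm⟩, ⟨1, (e t c).symm⟩]
  simp at this
  omega

namespace Sq

variable {T K1 U1 Q1 K2 U2 Q2 S : Subgroup G} {π1 π2 : G → F × F} {φ1 φ2 : G → F × F → F × F}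
  (h : Sq T K1 U1 Q1 K2 U2 Q2 S π1 π2 φ1 φ2) [Finite G] [CharP F 2]
include h

theorem torus {a : F} (ha : a ≠ 0) : ∃ k ∈ K1, k ∈ Nm(S) ∧ Ac φ1 k a 0 0 a⁻¹ := by
  obtain ⟨k, hk, h1⟩ := h.b1.ex a 0 0 a⁻¹ (by simp [ha])
  exact ⟨k, hk, h.NS_of (le_normalizer hk) one_ne_zero (by rw [h1]; simp), h1⟩

theorem cent {y s : G} (hy : y ∈ K1) (h1 : y ∈ Nm(S)) (h2 : y ∉ S) (hs : s ∈ S)
    (e : s * y = y * s) : s ∈ Cz(K1) := by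
  have m := le_normalizer hy
  obtain ⟨a, b, d, f, h3, h4⟩ := h.b1.act y hy
  obtain rfl : d = 0 := by simpa [h4 1 0] using h.ax1 (h.a.kQ hy) (h.N2_of h1 (h.a.kQ hy)) 1
  have ha : a ≠ 1 := by
    rintro rfl
    obtain rfl : f = 1 := by simpa using h3
    exact h2 (h.ofL (mem_sup_right hy) h4)
  obtain ⟨c, h5⟩ := h.aS hs
  have h6 := h.b1.amul (h.SK1 hs) m h5 h4 0 1
  rw [e, h.b1.amul m (h.SK1 hs) h4 h5 0 1, Prod.mk.injEq] at h6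
  obtain rfl : c = 0 := by grind
  obtain ⟨j, hj⟩ := isPGroup_iff_mem.1 h.pS s hs
  have h7 := h.kr1 (h.SK1 hs) hj (Ac.triv.1 h5)
  have h8 := h.b1.fix m h7 e.symm
  rw [h4, Prod.ext_iff] at h8
  exact (h.b1.ker s h7).1 (Prod.ext (by grind [Prod.fst_zero]) (by grind [Prod.snd_zero]))

variable [Finite F]

theorem frat {g : G} (hg : g ∈ Nm(S)) (h1 : g ∉ Nm(Q1)) (h2 : cj g K1 = K2) :
    ∃ t ∈ Nm(S), t * t = 1 ∧ t ∉ S := by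
  have sq : ∀ x ∈ Nm(S), x ∉ Nm(Q1) → x * x ∈ Nm(Q1) := fun x hx e => by
    simpa using h.swap_mul (inv_mem hx) hx (by rwa [inv_mem_iff]) e
  have e1 : cj g (Nm(S) ⊓ K1) = Nm(S) ⊓ K2 := by rw [cj_inf, cj_eq_of_mem hg, h2]
  have e2 : cj g (Nm(S) ⊓ K2) = Nm(S) ⊓ K1 := by
    rw [← e1, ← cj_mul, cj_inf, cj_eq_of_mem (mul_mem hg hg),
      cj_eq_of_mem_normalizer (h.a.NQ (sq g hg h1))]
  let B := (Nm(S) ⊓ K1) ⊔ (Nm(S) ⊓ K2)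
  have b0 : B ≤ Nm(S) := sup_le inf_le_left inf_le_left
  have b1 : B ≤ Nm(Q1) := sup_le (inf_le_right.trans h.a.kQ) fun x hx =>
    h.swap.N2_of hx.1 (h.b.kQ hx.2)
  obtain ⟨a, a0, a1⟩ := ex_ne h.hq
  obtain ⟨k, hk, k1, k2⟩ := h.torus a0
  obtain ⟨r, hr, r1, r2⟩ : ∃ r, r.Prime ∧ r ∣ orderOf k ∧ r ≠ 2 := by
    by_contra e
    push Not at e
    exact a1 (h.b1.unip (le_normalizer hk) k2 (by
      rw [← Nat.eq_prime_pow_of_unique_prime_dvd (orderOf_pos k).ne' fun a b => e _ a b,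
        pow_orderOf_eq_one])).1
  have : Fact r.Prime := ⟨hr⟩
  obtain ⟨Y, hY⟩ := exists_sylIn r B
  have dis : S ⊓ Y = ⊥ := (IsPGroup.disjoint_of_ne 2 r r2.symm S Y h.pS hY.pgrp).eq_bot
  obtain ⟨y, hy, y1⟩ := exists_ne_one_of_ne_bot ((hY.inf_normal' (le_normalizer_inf
    (b0.trans le_normalizer) (b1.trans h.a.NQ)) le_sup_left).ne_bot_iff.2
      (r1.trans (orderOf_dvd_natCard _ (mi k1 hk))))
  obtain ⟨n, hn, x, hx, rfl⟩ := hY.frattini (g := g) (by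
    rw [mem_normalizer_iff_cj, cj_sup, e1, e2, sup_comm])
  have x1 := (mul_mem_cancel_left (b0 hn)).1 hg
  rw [mul_mem_cancel_left (b1 hn)] at h1
  obtain ⟨j, t2, t1⟩ := ex_inv fun e => h1 (mem_of_sq e (sq x x1 h1))
  refine ⟨_, pow_mem x1 j, t2, fun e => t1 ?_⟩
  have c := h.cent hy.2.2 hy.2.1 (fun e => y1 (mem_bot.1 (dis ▸ mi e hy.1))) e
    (commute_of_disjoint e hy.1 (pow_mem hx j) hy.2.1 dis)
  refine h.DD (h.ST e) c ?_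
  rw [← cj_eq_of_mem_normalizer (inv_mem (h.b.NQ (h.N2_of (b0 hn) (b1 hn)))), ← h2, ← cj_mul,
    inv_mul_cancel_left, ← cj_centralizer, mem_cj, mul_assoc, ← pow_succ, pow_succ',
    inv_mul_cancel_left]
  exact c

theorem fin {Z : Subgroup G} (ZS : Z ≤ S) (Zne : Z ≠ ⊥)
    (ZN : Nm(S) ≤ Nm(Z)) (Z2 : ∀ z ∈ Z, z * z = 1)
    (nf : ∀ t ∈ Nm(S), t * t = 1 → t ∉ S → ∀ g, g * t * g⁻¹ ∉ S)
    (hz : ∀ t ∈ Nm(S), t * t = 1 → t ∉ S → ∀ w ∈ S, w * w = 1 → w ≠ 1 → t * w * t⁻¹ = w → ∀ g,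
      g * w * g⁻¹ ∈ S → t * (g * w * g⁻¹) * t⁻¹ = g * w * g⁻¹ → g ∈ Nm(S))
    {g : G} (hg : g ∈ Nm(S)) (h1 : g ∉ Nm(Q1)) (h2 : cj g K1 = K2) : False := by
  obtain ⟨t, ht, t2, tS⟩ := h.frat hg h1 h2
  obtain ⟨u, hu, e⟩ := h.f21 1
  obtain ⟨s, hs, a1, a2⟩ := h.b1.weyl
  have m := le_normalizer hs
  have m' := h.SK1 (h.q2S hu)
  refine final h.ch ZS Zne ZN Z2 nf hz ht t2 tS (h.q2S hu) (h.s2 u hu) (k := s) fun e' => ?_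
  have c := h.b1.n (mul_mem (mul_mem m m') (inv_mem m))
  simpa [h.b1.amul (mul_mem m m') (inv_mem m) (h.b1.amul m m' a1 e) a2 1 0] using
    h.ax1 c (h.N2_of e' c) 1

omit [Finite F] [Finite G] [CharP F 2] in
theorem blk (hD : Q1 ⊓ Cz(K1) = ⊥) : ∃ (c : F → F → G) (B : Blk c (Q1 ⊔ K1)), B.V = Q1 ∧
    ∀ l ∈ Nm(K1), ∀ a b d e, Ac φ1 l a b d e → Act c l a b d e := by
  choose s s1 s2 using h.b1.surj
  have i : ∀ u ∈ Q1, ∀ v ∈ Q1, π1 u = π1 v → u = v := fun u hu v hv e =>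
    inv_mul_eq_one.1 (mem_bot.1 (hD ▸ mi (mul_mem (inv_mem hu) hv) ((h.b1.peq hu hv).1 e)))
  have a : ∀ l ∈ Nm(K1), ∀ a b d e, Ac φ1 l a b d e → Act (fun x y => s (x, y)) l a b d e :=
    fun l hl a b d e h1 x y => i _ (conj_mem_of_mem_normalizer (h.b1.n hl) (s1 _)) _ (s1 _)
      (by rw [h.b1.cj l hl _ (s1 _), s2, s2, h1])
  refine ⟨fun x y => s (x, y), ⟨fun x y x' y' => i _ (s1 _) _ (mul_mem (s1 _) (s1 _)) (by
    rw [h.b1.pm _ (s1 _) _ (s1 _), s2, s2, s2]; rfl), fun x y e => Prod.mk_eq_zero.1 (by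
      rw [← s2 (x, y), e, h.b1.p1]), fun x y => mem_sup_left (s1 _), fun a' b d e h1 => ?_,
    fun l hl => ?_, fun l hl e => ?_⟩, Subgroup.ext fun u => ⟨fun ⟨x, y, e⟩ => e ▸ s1 _, fun hu =>
      ⟨(π1 u).1, (π1 u).2, i _ (s1 _) _ hu (s2 _)⟩⟩, a⟩
  · obtain ⟨l, hl, h2⟩ := h.b1.ex _ b d e h1
    exact ⟨l, mem_sup_right hl, a l (le_normalizer hl) _ _ _ _ h2⟩
  · obtain ⟨q, -, k, hk, -, e⟩ := h.memL hl
    obtain ⟨a', b, d, f, h1, h2⟩ := h.b1.act k hk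
    exact ⟨a', b, d, f, h1, a l (h.LK hl) _ _ _ _ fun x y => e ▸ h2 x y⟩
  · have := h.a.CQ h.ch (mem_centralizer_of_conj_eq (g := l) fun u hu => by
      simpa [i _ (s1 _) _ hu (s2 _)] using e (π1 u).1 (π1 u).2)
    exact ⟨(π1 l).1, (π1 l).2, i _ (s1 _) _ this (s2 _)⟩

theorem caseL3 (hD : Q1 ⊓ Cz(K1) = ⊥) (hD' : Q2 ⊓ Cz(K2) = ⊥) {g : G} (hg : g ∈ Nm(S))
    (h1 : g ∉ Nm(Q1)) (h2 : cj g K1 = K2) : SectionalPRankLE 2 4 G := by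
  obtain ⟨c1, B1, e1, a1⟩ := h.blk hD
  obtain ⟨c2, B2, e2, a2⟩ := h.swap.blk hD'
  have eJ : B1.V ⊔ B2.V = S := by rw [e1, e2, h.eS]
  obtain ⟨d2, C, e3⟩ := cfg_of' B1 B2 (eJ ▸ h.SL) (eJ ▸ h.swap.SL)
    (eJ ▸ fun j hj => (h.aS hj).imp fun t => a1 j (h.SK1 hj) _ _ _ _)
    (eJ ▸ fun t => (h.f21 t).imp fun j e => ⟨h.q2S e.1, a1 j (h.SK1 (h.q2S e.1)) _ _ _ _ e.2⟩)
    (eJ ▸ fun j hj => (h.swap.aS hj).imp fun t => a2 j (h.swap.SK1 hj) _ _ _ _)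
    (eJ ▸ fun t => (h.f12 t).imp fun j e => ⟨h.q1S e.1, a2 j (h.swap.SK1 (h.q1S e.1)) _ _ _ _ e.2⟩)
  have f1 : C.V1 = Q1 := e1
  have f2 : C.V2 = Q2 := e3.trans e2
  have C2 : Cf2 c1 d2 _ _ := ⟨C, by rw [f1]; exact h.a.NQ.trans h.NL, by rw [f2]; exact h.b.NQ.trans h.swap.NL,
    by rw [f1]; exact h.a.CQ h.ch, by rw [f2]; exact h.b.CQ h.ch⟩
  rcases h.hq.eq_or_lt with q | q
  · exact C2.sect q.symm
  obtain ⟨x, hx⟩ : IsCyclic Fˣ := inferInstance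
  have ho := orderOf_eq_card_of_forall_mem_zpowers hx
  have h3 : (x : F) ^ 3 ≠ 1 := fun e => by
    have := orderOf_le_of_pow_eq_one (x := x) (n := 3) (by norm_num) (Units.ext (by simpa using e))
    rw [Nat.card_eq_card_units_add_one F] at q
    omega
  have C3 : Cf3 c1 d2 _ _ := ⟨C2, fun t ht => C2.CX_le h.ch q.le x.ne_zero h3 ht⟩
  have fJ : S = C.J := by rw [Cfg.J, f1, f2, h.eS]
  subst fJ
  refine (h.fin (Z := C.Z) (inf_le_left.trans C.V1_le)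
    (ne_bot_of_mem (C.cZ 1) (by simp [C.b1.eq_one_iff])) C.NJ_le_NZ (fun z hz => h.s1 z (f1 ▸ hz.1))
    (fun t ht t2 tS => C3.nofuse q h.ch x.ne_zero h3 ht (pow_two_one t2) tS)
    (fun t ht t2 tS w hw w2 w1 e g h4 h5 => ?_) hg h1 h2).elim
  have k : t ∉ Nm(C.V1) := fun e =>
    tS (C3.two_mem h.ch x.ne_zero h3 e (C.N2_of ht e) (pow_two_one t2))
  obtain ⟨a, rfl⟩ := C.mem_Z.1 (C2.swap_fix ht k hw w2 e)
  obtain ⟨b, hb⟩ := C.mem_Z.1 (C2.swap_fix ht k h4 (conj_sq w2 g) h5)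
  exact C3.NJ_of_Z q (fun e => w1 (by rw [e, C.b1.zero])) hb.symm

end Sq

end CfLu
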