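import Cfsg.Agent.L.DE

/-! The case of `Sp₄(q)`: centralizers of the involutions of `Z(S)`. -/

set_option autoImplicit false

namespace CfLu

open Subgroup CfH9 CfH7 Cfsg
open CfL.Pl
open scoped commutatorElement

variable {G : Type*} [Group G] {F : Type*} [Field F]

theorem card_le_sq [Finite G] {A : Subgroup G} (h : ∀ a ∈ A, a * a = 1) {t : G} (ht : t ∈ Nm(A))
    (t2 : t * t = 1) : Nat.card A ≤ Nat.card (A ⊓ Cx(t) : Subgroup G) ^ 2 := by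
  have c := fun a : A => conj_mem_of_mem_normalizer ht a.2
  let f : A →* (A ⊓ Cx(t) : Subgroup G) := MonoidHom.mk' (fun a => ⟨t * a * t⁻¹ * a, mul_mem (c a) a.2,
    mem_Cx.2 (mul_inv_eq_iff_eq_mul.1 (by
      rw [cmul, comm_of_sq h (c a) a.2, show t * (t * a * t⁻¹) * t⁻¹ = (t * t) * a * (t * t)⁻¹ by group,
        t2]; simp)).symm⟩) fun a b => Subtype.ext (by
      change t * (a * b) * t⁻¹ * (a * b) = t * a * t⁻¹ * a * (t * b * t⁻¹ * b)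
      rw [cmul, mul_assoc, ← mul_assoc (t * b * t⁻¹), ← comm_of_sq h a.2 (c b)]
      simp only [mul_assoc])
  rw [← f.ker.index_mul_card, index_ker, sq]
  refine Nat.mul_le_mul (card_le_card_group _) ?_
  rw [← CfH9.card_map_subtype]
  refine card_le_of_le ?_
  rintro _ ⟨a, ha, rfl⟩
  exact ⟨a.2, mem_Cx.2 (mul_inv_eq_iff_eq_mul.1 (mul_right_cancel
    ((congrArg Subtype.val ha).trans (h a a.2).symm))).symm⟩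

namespace Sq

variable {T K1 U1 Q1 K2 U2 Q2 S : Subgroup G} {π1 π2 : G → F × F} {φ1 φ2 : G → F × F → F × F}
  (h : Sq T K1 U1 Q1 K2 U2 Q2 S π1 π2 φ1 φ2) {d n t u w z : G}
include h

theorem DR : Q1 ⊓ Cz(K1) ≤ Q1 ⊓ Q2 := fun d hd =>
  ⟨hd.1, (h.r1 d hd.1).2 (by rw [(h.b1.ker d hd.1).2 hd.2]; rfl)⟩

theorem DR' : Q2 ⊓ Cz(K2) ≤ Q1 ⊓ Q2 := inf_comm Q2 Q1 ▸ h.swap.DR

theorem ND : Nm(Q1) ≤ Nm(Q1 ⊓ Cz(K1)) := le_normalizer_inf le_rfl (h.a.NQ.trans (Nm_le_Nm_Cz _))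

theorem SR (hz : z ∈ Q1 ⊓ Q2) : S ≤ Cx(z) := h.eS ▸
  sup_le (fun _ hu => mem_Cx.2 (comm_of_sq h.s1 hu hz.1)) fun _ hu => mem_Cx.2 (comm_of_sq h.s2 hu hz.2)

theorem R2 : ∀ r ∈ Q1 ⊓ Q2, r * r = 1 := fun r hr => h.s1 r hr.1

theorem infS {k x : G} (hk : k ∈ Nm(K1)) (h1 : (φ1 k (1, 0)).2 ≠ 0) (h2 : x ∈ S) [CharP F 2]
    (h3 : k⁻¹ * x * k ∈ S) : x ∈ Q1 := by
  obtain ⟨b, h4⟩ := h.aS h2
  obtain ⟨c, h5⟩ := h.aS h3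
  have := congrArg (φ1 k) (h5 1 0)
  rw [← h.b1.mul _ hk _ (h.SK1 h3), show k * (k⁻¹ * x * k) = x * k by group,
    h.b1.mul _ (h.SK1 h2) _ hk, h4] at this
  simp only [mul_one, mul_zero, add_zero, one_mul, Prod.ext_iff] at this
  obtain rfl : b = 0 := mul_right_cancel₀ h1 (by linear_combination this.1)
  obtain ⟨j, hj⟩ := isPGroup_iff_mem.1 h.pS x h2
  exact h.kr1 (h.SK1 h2) hj (Ac.triv.1 h4)

theorem toR (hu : u ∈ Q1) : ∃ k ∈ K1, k⁻¹ * u * k ∈ Q1 ⊓ Q2 := by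
  by_cases c : π1 u = 0
  · exact ⟨1, one_mem _, by simpa using h.DR (mi hu ((h.b1.ker u hu).1 c))⟩
  obtain ⟨l, hl, b, e, -, h1⟩ := h.b1.trans c
  have m := conj_mem_of_mem_normalizer' (h.a.kQ hl) hu
  refine ⟨l, hl, m, (h.r1 _ m).2 ?_⟩
  have := h.b1.cj _ (inv_mem (le_normalizer hl)) u hu
  rw [inv_inv] at this
  rw [this, show π1 u = φ1 l (1, 0) by rw [h1]; simp, h.b1.inv (le_normalizer hl)]

theorem cardD [Finite F] :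
    Nat.card (Q1 ⊓ Cz(K1) : Subgroup G) = Nat.card (Q2 ⊓ Cz(K2) : Subgroup G) :=
  Nat.eq_of_mul_eq_mul_left (pow_pos Nat.card_pos 2) (h.b1.card_A.symm.trans (h.cQ.trans h.b2.card_A))

variable [Finite G] [CharP F 2]

theorem memS_L (h1 : t ∈ Q1 ⊔ K1) (h2 : t ∈ Nm(S)) (h3 : t * t = 1) : t ∈ S :=
  h.mem_of_lin (h.b1.n (h.LK h1)) (h.N2_of h2 (h.b1.n (h.LK h1))) (h.linL h1) (pow_two_one h3)

theorem mv (h1 : n ∈ Nm(Q1)) (h2 : n ∈ Nm(Q2)) (h3 : n * n = 1)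
    (h4 : ∀ u ∈ Q1, ⁅n, u⁆ ∈ Q2) : n ∈ S := by
  have m := h.a.NQ h1
  have k : ∀ x, (φ1 n x).2 = x.2 := fun x => by
    obtain ⟨u, hu, rfl⟩ := h.b1.surj x
    have := (h.r1 _ (commutator_mem_right hu h1)).1 (h4 u hu)
    rwa [h.b1.cm m hu, Prod.snd_sub, sub_eq_zero] at this
  obtain ⟨σ, hσ⟩ := h.b1.semi m
  refine h.mem_of_lin h1 h2 (fun t w => ?_) (pow_two_one h3)
  have := k (t • (0, 1))
  rw [hσ, Prod.smul_snd, k] at this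
  rw [hσ, show σ t = t by simpa using this, id]

theorem axD (hD : Q2 ⊓ Cz(K2) ≠ ⊥) (x : F) : ∃ d ∈ Q2 ⊓ Cz(K2), π1 d = (x, 0) := by
  by_cases hx : x = 0
  · exact ⟨1, one_mem _, by rw [hx, h.b1.p1]; rfl⟩
  obtain ⟨d, hd, h1⟩ := exists_ne_one_of_ne_bot hD
  have h2 := h.DR' hd
  have h3 := (h.r1 d h2.1).1 h2.2
  have h4 : (π1 d).1 ≠ 0 := fun e =>
    h1 (h.DD (h.a.qT h2.1) ((h.b1.ker d h2.1).1 (Prod.ext e h3)) hd.2)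
  obtain ⟨k, hk, k1, k2⟩ := h.torus (div_ne_zero hx h4)
  exact ⟨_, conj_mem_of_mem_normalizer (h.swap.ND (h.N2_of k1 (h.a.kQ hk))) hd, by
    rw [h.b1.cj k (le_normalizer hk) d h2.1, k2, h3]; simp [h4]⟩

theorem decR (hD : Q2 ⊓ Cz(K2) ≠ ⊥) (hz : z ∈ Q1 ⊓ Q2) :
    ∃ d ∈ Q2 ⊓ Cz(K2), π1 d = π1 z ∧ d⁻¹ * z ∈ Q1 ⊓ Cz(K1) := by
  obtain ⟨d, hd, e⟩ := h.axD hD (π1 z).1
  have e' : π1 d = π1 z := e.trans (Prod.ext rfl ((h.r1 z hz.1).1 hz.2).symm)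
  have := mi1 (h.DR' hd)
  exact ⟨d, hd, e', mi (mul_mem (inv_mem this) hz.1) ((h.b1.peq this hz.1).1 e')⟩

variable [Finite F]

theorem four_le (hD : Q2 ⊓ Cz(K2) ≠ ⊥) : 4 ≤ Nat.card (Q2 ⊓ Cz(K2) : Subgroup G) := by
  choose s s1 s2 using h.axD hD
  exact h.hq.trans (Nat.card_le_card_of_injective (fun x => (⟨s x, s1 x⟩ : (Q2 ⊓ Cz(K2) : Subgroup G)))
    fun x y e => congrArg Prod.fst ((s2 x).symm.trans ((congrArg (fun a => π1 a.1) e).trans (s2 y))))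

theorem D_comm (hD : Q2 ⊓ Cz(K2) ≠ ⊥) : Q2 ⊓ Cz(K2) ≤ ⁅Q2, Q1⁆ := fun d hd => by
  obtain ⟨a, a0, a1⟩ := ex_ne h.hq
  obtain ⟨k, hk, k1, k2⟩ := h.torus a0
  have k3 := h.N2_of k1 (h.a.kQ hk)
  have h2 := h.DR' hd
  obtain ⟨v, hv, h3⟩ := h.f21 1
  obtain ⟨u, hu, h4⟩ := h.b1.surj (0, (π1 d).1 / (a + 1))
  have h5 := h.b1.cm (h.SK1 (h.q2S hv)) hu
  have r : ⁅v, u⁆ ∈ Q1 ⊓ Q2 :=
    ⟨commutator_mem_right hu (h.SQ1 (h.q2S hv)), commutator_mem_left hv (h.SQ2 (h.q1S hu))⟩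
  obtain ⟨e, he, h6, h7⟩ := h.decR hD r
  have c := commutator_mem_commutator hv hu
  have h8 := mul_mem (conj_mem_of_mem_normalizer (mem_Nm_commutator k3 (h.a.kQ hk)) c) c
  have e1 := mi1 (h.DR' he)
  have e2 := conj_mem_of_mem_normalizer (h.swap.ND k3) he
  rw [← mul_inv_cancel_left e ⁅v, u⁆, cmul, h7.2 k hk, mul_inv_cancel_right, mul_assoc,
    comm_of_sq h.s1 h7.1 (mul_mem e1 h7.1), mul_assoc e, h.s1 _ h7.1, mul_one] at h8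
  have e3 := mi1 (h.DR' (mul_mem e2 he))
  rwa [← inv_mul_eq_one.1 (h.DD (h.a.qT (mul_mem (inv_mem e3) h2.1)) ((h.b1.peq e3 h2.1).1 ?_)
    (mul_mem (inv_mem (mul_mem e2 he)) hd).2)]
  have : a + 1 ≠ 0 := by grind
  rw [h.b1.pm _ (h.DR' e2).1 _ e1, h.b1.cj k (le_normalizer hk) e e1, h6, h5, h4, h3, k2]
  ext
  · simp; field_simp
  · simp [(h.r1 d h2.1).1 h2.2]

theorem CD (hd : d ∈ Q1 ⊓ Cz(K1)) (h1 : d ≠ 1) : Cx(d) ≤ Nm(Q1) := by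
  have l : Q1 ⊔ K1 ≤ Cx(d) :=
    sup_le (fun _ hu => mem_Cx.2 (comm_of_sq h.s1 hu hd.1)) (le_Cx_iff.2 hd.2)
  have n := l.trans (le_normalizer_pCoreOf (p := 2) _)
  have p := isPGroup_pCoreOf (p := 2) Cx(d)
  have o1 := h.two_le' p (h.SL.trans n)
  obtain ⟨s, hs, a1, -⟩ := h.b1.weyl
  have o2 : pCoreOf 2 Cx(d) ≤ Nm(Q1) := fun o ho => mem_normalizer_of_conj_mem fun u hu =>
    h.infS (le_normalizer hs) (by simp [a1 1 0]) (conj_mem_of_mem_normalizer (o1 ho) (h.q1S hu)) (by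
      rw [show s⁻¹ * (o * u * o⁻¹) * s = s⁻¹ * o * s * (s⁻¹ * u * s) * (s⁻¹ * o * s)⁻¹ by group]
      exact conj_mem_of_mem_normalizer (o1 (conj_mem_of_mem_normalizer' (n (mem_sup_right hs)) ho))
        (h.q1S (conj_mem_of_mem_normalizer' (h.a.kQ hs) hu)))
  have o3 := h.a.leQ p o2 (h.a.le_U p (le_sup_right.trans n) (o2.trans h.a.NQ))
  rw [← le_antisymm o3 ((le_inf (le_sup_left.trans l) ((le_Cz_of_sq h.s1).trans (Cz_anti o3))).trans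
    (ch2_Cx h.ch (h.s1 d hd.1) h1))]
  exact le_normalizer_pCoreOf _

theorem cjD (hd : d ∈ Q1 ⊓ Cz(K1)) (h1 : d ≠ 1) {g : G} (h2 : g * d * g⁻¹ ∈ Q1 ⊓ Q2) :
    cj g Q1 ≤ Nm(S) := h.two_le' (isPGroup_cj h.a.pQ g) (by
  rw [← cj_normalizer]
  exact (h.SR h2).trans (cj_Cx g d ▸ cj_mono g (h.CD hd h1)))

theorem NS_DD {d' g : G} (hd : d ∈ Q1 ⊓ Cz(K1)) (h1 : d ≠ 1) (hd' : d' ∈ Q2 ⊓ Cz(K2)) (h2 : d' ≠ 1)
    (h3 : g * d * g⁻¹ ∈ Q1 ⊓ Q2) (h4 : g * d' * g⁻¹ ∈ Q1 ⊓ Q2) : g ∈ Nm(S) :=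
  h.NS_of_cj (h.cjD hd h1 h3) (h.swap.cjD hd' h2 ⟨h4.2, h4.1⟩)

theorem caseW (hz : z ∈ Q1 ⊓ Q2) (z1 : z ∉ Cz(K1)) (o1 : pCoreOf 2 Cx(z) ≤ Nm(Q1))
    (o2 : pCoreOf 2 Cx(z) ≤ Nm(Q2)) (hw : w ∈ OZ 2 (pCoreOf 2 Cx(z))) (w1 : w ∈ Q1) (w2 : w ∉ Q2) :
    Cx(z) ≤ Nm(S) := by
  have n := (h.SR hz).trans ((le_normalizer_pCoreOf (p := 2) _).trans (Nm_le_Nm_OZ (p := 2) _))
  have o3 : pCoreOf 2 Cx(z) ≤ Q1 := fun o ho => by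
    obtain ⟨j, hj⟩ := isPGroup_iff_mem.1 (isPGroup_pCoreOf _) o ho
    obtain ⟨u, hu, v, hv, rfl⟩ := h.memS (h.mem_of_lin (o1 ho) (o2 ho) (h.lin_of_cR (o1 ho) fun x => by
      obtain ⟨v, hv, e⟩ := h.f21 (x / (π1 w).2)
      refine ⟨_, commutator_mem_right w1 (h.SQ1 (h.q2S hv)), ?_,
        OZ_le_Cz _ (commutator_mem_right hw (n (h.q2S hv))) o ho⟩
      rw [h.b1.cm (h.SK1 (h.q2S hv)) w1, e]
      ext <;> simp [mt (h.r1 w w1).2 w2]) hj)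
    refine mul_mem hu ((h.cm12 w1 hv (mul_left_cancel (a := u) ?_)).resolve_left w2)
    rw [← mul_assoc, OZ_le_Cz _ hw _ ho, ← mul_assoc, ← mul_assoc, comm_of_sq h.s1 w1 hu]
  have e := le_antisymm o3 ((le_inf (h.q1S.trans (h.SR hz)) ((le_Cz_of_sq h.s1).trans
    (Cz_anti o3))).trans (ch2_Cx h.ch (h.R2 z hz) fun e => z1 (e ▸ one_mem _)))
  intro c hc
  have m := h.a.NQ (e ▸ le_normalizer_pCoreOf _ hc)
  have h1 := (h.r1 z hz.1).1 hz.2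
  refine h.NS_of m (x := (π1 z).1) (fun e => z1 ((h.b1.ker z hz.1).1 (Prod.ext e h1))) ?_
  rw [show ((π1 z).1, (0 : F)) = π1 z from Prod.ext rfl h1.symm, h.b1.fix m hz.1 (mem_Cx.1 hc), h1]

variable (hD : Q1 ⊓ Cz(K1) ≠ ⊥) (hD' : Q2 ⊓ Cz(K2) ≠ ⊥)
include hD hD'

theorem R_comm : Q1 ⊓ Q2 ≤ ⁅Q2, Q1⁆ := fun z hz => by
  obtain ⟨d, hd, -, e⟩ := h.decR hD' hz
  exact (mul_mem_cancel_left (inv_mem (h.D_comm hD' hd))).1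
    (commutator_comm Q1 Q2 ▸ h.swap.D_comm hD e)

theorem CZ (hz : z ∈ Q1 ⊓ Q2) (z1 : z ∉ Cz(K1)) (z2 : z ∉ Cz(K2)) : Cx(z) ≤ Nm(S) := by
  have n := le_normalizer_pCoreOf (p := 2) Cx(z)
  have p := isPGroup_pCoreOf (p := 2) Cx(z)
  have n' := (h.SR hz).trans n
  have o0 := h.two_le' p n'
  have ch := ch2_Cx h.ch (h.R2 z hz) fun e => z1 (e ▸ one_mem _)
  have RS : Q1 ⊓ Q2 ≤ S := inf_le_left.trans h.q1S
  by_cases o1 : pCoreOf 2 Cx(z) ≤ Nm(Q1)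
  · have o2 : pCoreOf 2 Cx(z) ≤ Nm(Q2) := fun o ho => h.N2_of (o0 ho) (o1 ho)
    have nW := n.trans (Nm_le_Nm_OZ (p := 2) _)
    have W2 : ∀ w ∈ OZ 2 (pCoreOf 2 Cx(z)), w * w = 1 := fun w hw => sq w ▸ (mem_OZ.1 hw).2
    by_cases c : OZ 2 (pCoreOf 2 Cx(z)) ≤ Q1 ⊓ Q2
    · obtain ⟨d, d1, d2, d3⟩ := exists_mem_center_of_normal p h.a.pQ.to_inf_left (o1.trans h.ND) hD
      obtain ⟨e, e1, e2, e3⟩ := exists_mem_center_of_normal p h.b.pQ.to_inf_left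
        (o2.trans h.swap.ND) hD'
      have k : ∀ d ∈ Q1 ⊓ Q2, d ∈ Cz(pCoreOf 2 Cx(z)) → ∀ g ∈ Cx(z), g * d * g⁻¹ ∈ Q1 ⊓ Q2 :=
        fun d d1 d3 g hg => c (conj_mem_of_mem_normalizer (nW hg) (mem_OZ.2
          ⟨⟨ch (mi (h.SR hz (RS d1)) d3), d3⟩, (sq d).trans (h.R2 d d1)⟩))
      exact fun g hg => h.NS_DD d1 d2 e1 e2 (k d (h.DR d1) d3 g hg) (k e (h.DR' e1) e3 g hg)
    obtain ⟨w, hw, c⟩ := SetLike.not_le_iff_exists.1 c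
    have w1 := o1 (OZ_le _ hw)
    have w2 := o2 (OZ_le _ hw)
    have hS : w ∈ S := by_contra fun e => by
      obtain ⟨u, hu, a⟩ : ∃ u ∈ Q1, ⁅w, u⁆ ∉ Q2 := by
        simpa using mt (h.mv w1 w2 (W2 w hw)) e
      obtain ⟨v, hv, b⟩ : ∃ u ∈ Q2, ⁅w, u⁆ ∉ Q1 := by
        simpa using mt (h.swap.mv w2 w1 (W2 w hw)) e
      exact (h.cm12 (commutator_mem_right hu w1) (commutator_mem_right hv w2) (comm_of_sq W2
        (commutator_mem_left hw (nW (h.SR hz (h.q2S hv))))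
        (commutator_mem_left hw (nW (h.SR hz (h.q1S hu)))))).elim a b
    rcases h.inv_or hS (W2 w hw) with a | a
    · exact h.caseW hz z1 o1 o2 hw a fun b => c ⟨a, b⟩
    · exact h.swap.caseW ⟨hz.2, hz.1⟩ z2 o2 o1 hw a fun b => c ⟨b, a⟩
  obtain ⟨r, hr, r1⟩ := SetLike.not_le_iff_exists.1 o1
  obtain ⟨r2, r3⟩ := h.sw (o0 hr) r1
  have δ : ∀ u ∈ Q1, ⁅r, u⁆ ∈ pCoreOf 2 Cx(z) := fun u hu => commutator_mem_left hr (n' (h.q1S hu))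
  have ρ : ∀ u ∈ Q1, r * u * r⁻¹ ∈ Q2 := fun u hu => r2 ▸ conj_mem_cj r hu
  have RO : Q1 ⊓ Q2 ≤ pCoreOf 2 Cx(z) := (h.R_comm hD hD').trans (commutator_le.2 fun v hv u hu => by
    have a := inv_mem hu
    have := conj_mem_of_mem_normalizer' (n' (h.q2S (ρ _ a)))
      (commutator_mem_right (δ _ a) (n' (h.q2S hv)))
    rwa [show (r * u⁻¹ * r⁻¹)⁻¹ * ⁅v, ⁅r, u⁻¹⁆⁆ * (r * u⁻¹ * r⁻¹) =
      (r * u⁻¹ * r⁻¹)⁻¹ * (v * (r * u⁻¹ * r⁻¹)) * u * v⁻¹ * u⁻¹ by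
        simp only [commutatorElement_def]; group, comm_of_sq h.s2 hv (ρ _ a), inv_mul_cancel_left,
      ← commutatorElement_def] at this)
  intro c hc
  have e := cj_eq_of_mem_normalizer (n hc)
  have A1 : cj c (Q1 ⊓ Q2) ≤ pCoreOf 2 Cx(z) := e ▸ cj_mono c RO
  have A2 : pCoreOf 2 Cx(z) ≤ Nm(cj c (Q1 ⊓ Q2)) := by
    rw [← e, ← cj_normalizer]; exact cj_mono c (o0.trans h.NR)
  have A3 := sq_cj h.R2 c
  have A4 : cj c (Q1 ⊓ Q2) ⊓ S ≤ Q1 ⊓ Q2 := by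
    have := cj_eq_of_mem_normalizer (mem_Nm_inf (A2 hr) (o0 hr))
    rcases h.el_le (A := cj c (Q1 ⊓ Q2) ⊓ S) inf_le_right fun a ha => A3 a ha.1 with a | a
    · exact le_inf a (this.ge.trans ((cj_mono r a).trans r2.le))
    · exact le_inf (this.ge.trans ((cj_mono r a).trans r3.le)) a
  by_cases A5 : cj c (Q1 ⊓ Q2) ≤ S
  · obtain ⟨d, d1, d2⟩ := exists_ne_one_of_ne_bot hD
    obtain ⟨e, e1, e2⟩ := exists_ne_one_of_ne_bot hD'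
    rw [inf_eq_left.2 A5] at A4
    exact h.NS_DD d1 d2 e1 e2 (A4 (conj_mem_cj c (h.DR d1))) (A4 (conj_mem_cj c (h.DR' e1)))
  have A6 : ∀ a ∈ cj c (Q1 ⊓ Q2), a ∈ Nm(Q1) → a ∈ S := fun a ha a1 => by
    have a2 := h.N2_of (o0 (A1 ha)) a1
    refine h.mv a1 a2 (A3 a ha) fun u hu => ?_
    have b := inv_mem hu
    have := mi2 (A4 (mi (commutator_mem_left ha (A2 (δ _ b))) (commutator_mem_right
      (commutator_mem_right (h.q1S b) (o0 hr)) (o0 (A1 ha)))))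
    rwa [show ⁅a, ⁅r, u⁻¹⁆⁆ = a * (r * u⁻¹ * r⁻¹) * a⁻¹ * ⁅a, u⁆ * (r * u⁻¹ * r⁻¹)⁻¹ by
      simp only [commutatorElement_def]; group, mul_mem_cancel_right (inv_mem (ρ _ b)),
      mul_mem_cancel_left (conj_mem_of_mem_normalizer a2 (ρ _ b))] at this
  obtain ⟨a, ha, A7⟩ := SetLike.not_le_iff_exists.1 A5
  have i1 := idx2 (H := S) (K := cj c (Q1 ⊓ Q2)) fun a ha b hb a1 b1 =>
    A6 _ (mul_mem (inv_mem ha) hb) (h.swap_mul (o0 (A1 ha)) (o0 (A1 hb)) (mt (A6 a ha) a1)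
      (mt (A6 b hb) b1))
  have i2 := card_mul_card_le A4 h.DR
  rw [show cj c (Q1 ⊓ Q2) ⊓ S ⊓ (Q1 ⊓ Cz(K1)) = ⊥ from eq_bot_iff.2 fun d hd => by_contra fun e =>
    A7 (A6 a ha (h.CD hd.2 e (mem_Cx.2 (comm_of_sq A3 ha hd.1.1)))), card_bot] at i2
  have i3 := h.swap.four_le hD
  have i4 : 0 < Nat.card (cj c (Q1 ⊓ Q2) ⊓ S : Subgroup G) := Nat.card_pos
  rw [card_cj] at i1
  nlinarith

theorem CR (hz : z ∈ Q1 ⊓ Q2) (h1 : z ≠ 1) :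
    Cx(z) ≤ Nm(S) ∨ Cx(z) ≤ Nm(Q1) ∨ Cx(z) ≤ Nm(Q2) := by
  by_cases a : z ∈ Cz(K1)
  · exact Or.inr (Or.inl (h.CD (mi hz.1 a) h1))
  by_cases b : z ∈ Cz(K2)
  · exact Or.inr (Or.inr (h.swap.CD (mi hz.2 b) h1))
  exact Or.inl (h.CZ hD hD' hz a b)

end Sq

end CfLu
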