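import Cfsg.Agent.L.DF

/-! The case of `Sp₄(q)` does not occur; the linear case. -/

set_option autoImplicit false

namespace CfLu

open Subgroup CfH9 CfH7 Cfsg
open CfL.Pl
open scoped commutatorElement MatrixGroups

variable {G : Type*} [Group G] {F : Type*} [Field F]

namespace Sq

variable {T K1 U1 Q1 K2 U2 Q2 S : Subgroup G} {π1 π2 : G → F × F} {φ1 φ2 : G → F × F → F × F}
  (h : Sq T K1 U1 Q1 K2 U2 Q2 S π1 π2 φ1 φ2) {t w : G} [Finite G] [CharP F 2] [Finite F]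
include h

theorem inL {E : Subgroup G} (h2 : ∀ a ∈ E, a * a = 1) (hc : Nat.card E = Nat.card Q1)
    (h1 : E ≤ Nm(Q1)) : E ≤ Q1 ⊔ K1 := by
  obtain ⟨P, hP, h3⟩ := exists_sylIn_ge h.pS h.SK1
  obtain ⟨m, hm, h4⟩ := hP.exists_cj_le (pg_of_sq h2) (h1.trans h.a.NQ)
  have := (h.le_S (h4.trans (h.two_le hP.pgrp h3)) (sq_cj h2 m) ((card_cj _ _).trans hc)).trans h.SL
  rwa [← cj_eq_of_mem_normalizer (h.NL hm), cj_le_cj_iff] at this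

theorem step {g : G} (t2 : t * t = 1) (h1 : g * t * g⁻¹ ∈ S) {E : Subgroup G} (hE : IsPGroup 2 E)
    (h2 : E ≤ Cx(t)) : ∃ g, g * t * g⁻¹ ∈ Q1 ⊓ Q2 ∧ cj g E ≤ Nm(S) := by
  obtain ⟨g, h3⟩ : ∃ g, g * t * g⁻¹ ∈ Q1 ⊓ Q2 := by
    rcases h.inv_or h1 (conj_sq t2 g) with a | a
    · obtain ⟨k, -, e⟩ := h.toR a
      exact ⟨k⁻¹ * g, by simpa [mul_assoc] using e⟩
    · obtain ⟨k, -, e⟩ := h.swap.toR a
      exact ⟨k⁻¹ * g, by simpa [mul_assoc, and_comm] using e⟩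
  obtain ⟨P, hP, h4⟩ := exists_sylIn_ge h.pS (h.SR h3)
  obtain ⟨c, hc, h5⟩ := hP.exists_cj_le (isPGroup_cj hE g) (cj_Cx g t ▸ cj_mono g h2)
  exact ⟨c * g, by
    rwa [show c * g * t * (c * g)⁻¹ = c * (g * t * g⁻¹) * c⁻¹ by group, mem_Cx'.1 hc],
    cj_mul c g E ▸ h5.trans (h.two_le hP.pgrp h4)⟩

theorem star {g e : G} (h1 : g * t * g⁻¹ ∈ Q1 ⊓ Q2) (e2 : e * e = 1) (h2 : g * e * g⁻¹ ∈ S) :
    ∃ E : Subgroup G, (∀ a ∈ E, a * a = 1) ∧ Nat.card E = Nat.card Q1 ∧ t ∈ E ∧ E ≤ Cx(e) := by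
  have k : ∀ {Q : Subgroup G}, (∀ a ∈ Q, a * a = 1) → g * e * g⁻¹ ∈ Q → cj g⁻¹ Q ≤ Cx(e) :=
    fun h3 h4 _ ha => mem_Cx.2 (comm_of_sq (sq_cj h3 _) ha (mem_cj_inv.2 h4))
  rcases h.inv_or h2 (conj_sq e2 g) with a | a
  · exact ⟨_, sq_cj h.s1 _, card_cj _ _, mem_cj_inv.2 h1.1, k h.s1 a⟩
  · exact ⟨_, sq_cj h.s2 _, (card_cj _ _).trans h.cQ.symm, mem_cj_inv.2 h1.2, k h.s2 a⟩

omit [Finite F] in
theorem fixV (h1 : t ∈ Nm(Q1)) (h2 : t ∈ Nm(Q2)) (t2 : t * t = 1) (tS : t ∉ S) :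
    ∃ u ∈ Q1, u ∉ Q2 ∧ u ∈ Cx(t) := by
  obtain ⟨u, hu, a⟩ : ∃ u ∈ Q1, ⁅t, u⁆ ∉ Q2 := by simpa using mt (h.mv h1 h2 t2) tS
  have c := commutator_mem_right hu h1
  refine ⟨_, c, a, mem_Cx.2 (mul_inv_eq_iff_eq_mul.1 ?_).symm⟩
  rw [show t * ⁅t, u⁆ * t⁻¹ = (t * t) * (u * (t * t)⁻¹ * u⁻¹) * ⁅t, u⁆⁻¹ by
    simp only [commutatorElement_def]; group, t2, inv_eq_of_mul_eq_one_right (h.s1 _ c)]
  simp

omit [Finite F] in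
theorem tw (h1 : t ∈ Nm(Q1)) (h2 : t ∈ Nm(Q2)) (t2 : t * t = 1) (tS : t ∉ S) :
    ∃ k ∈ K1, (φ1 k (1, 0)).2 ≠ 0 ∧ k⁻¹ * t * k⁻¹⁻¹ ∈ Nm(Q1) ∧ k⁻¹ * t * k⁻¹⁻¹ ∈ Nm(Q2) ∧
      k⁻¹ * t * k⁻¹⁻¹ ∉ S := by
  obtain ⟨u, hu, a, b⟩ := h.fixV h1 h2 t2 tS
  have c := mt (h.r1 u hu).2 a
  obtain ⟨k, hk, _, _, -, e⟩ := h.b1.trans (w := π1 u) fun e => c (by rw [e]; rfl)
  have e' : φ1 k (1, 0) = π1 u := by rw [e]; simp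
  have m := le_normalizer hk
  have m' := h.a.NQ h1
  have m2 := mul_mem (mul_mem (inv_mem m) m') m
  simp only [inv_inv]
  refine ⟨k, hk, e' ▸ c, h.b1.n m2, h.N2_of (h.NS_of m2 one_ne_zero ?_) (h.b1.n m2), fun e => tS
    (h.memS_L ((mem_normalizer_iff''.1 (h.NL m) t).2 (h.SL e)) (h.N0 h1 h2) t2)⟩
  rw [h.b1.mul _ (mul_mem (inv_mem m) m') _ m, h.b1.mul _ (inv_mem m) _ m', e',
    h.b1.fix m' hu (mem_Cx.1 b).symm, ← e', h.b1.inv m]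

variable (hD : Q1 ⊓ Cz(K1) ≠ ⊥) (hD' : Q2 ⊓ Cz(K2) ≠ ⊥)
include hD hD'

theorem nf1 {E : Subgroup G} (h2 : ∀ a ∈ E, a * a = 1) (hc : Nat.card E = Nat.card Q1) {e : G}
    (h1 : e ∈ Q1 ⊓ Q2) (e1 : e ≠ 1) (h3 : E ≤ Cx(e)) : E ≤ S ∨ E ≤ Q1 ⊔ K1 ∨ E ≤ Q2 ⊔ K2 :=
  (h.CR hD hD' h1 e1).imp (fun a => h.le_S (h3.trans a) h2 hc) fun a => a.imp
    (fun a => h.inL h2 hc (h3.trans a)) fun a => h.swap.inL h2 (hc.trans h.cQ) (h3.trans a)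

theorem nfF (h1 : t ∈ Nm(Q1)) (h2 : t ∈ Nm(Q2)) (t2 : t * t = 1) (tS : t ∉ S) (g : G) :
    g * t * g⁻¹ ∉ S := fun h3 => by
  obtain ⟨g, h3, h4⟩ := h.step t2 h3 (E := Q1 ⊓ Cx(t)) h.a.pQ.to_inf_left inf_le_right
  have s := sq_cj (A := Q1 ⊓ Cx(t)) (fun a ha => h.s1 a ha.1) g
  have i1 := idx2 (H := Nm(Q1)) (K := cj g (Q1 ⊓ Cx(t))) fun a ha b hb => h.swap_mul (h4 ha) (h4 hb)
  have i2 := h.idx_field (A := cj g (Q1 ⊓ Cx(t)) ⊓ Nm(Q1)) (inf_le_inf_right _ h4)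
    fun a ha => s a ha.1
  have i3 := card_le_sq h.s1 h1 t2
  have i4 := h.swap.four_le hD
  have i5 := h.hq
  obtain ⟨_, ⟨⟨⟨e, he, rfl⟩, -⟩, h5⟩, e1⟩ := exists_ne_one_of_ne_bot
    (A := cj g (Q1 ⊓ Cx(t)) ⊓ Nm(Q1) ⊓ S) fun e => by
      rw [e, card_bot] at i2
      rw [card_cj] at i1
      have := Nat.pow_le_pow_left (show Nat.card (Q1 ⊓ Cx(t) : Subgroup G) ≤ 4 by omega) 2
      have i6 := h.b1.card_A
      nlinarith [Nat.pow_le_pow_left i5 2]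
  obtain ⟨E, a1, a2, a3, a4⟩ := h.star h3 (h.s1 e he.1) h5
  obtain ⟨k, hk, h6⟩ := h.toR he.1
  have m := le_normalizer hk
  have h7 : k⁻¹ * t * k ∈ cj k⁻¹ E := by simpa using conj_mem_cj k⁻¹ a3
  refine tS (h.memS_L ((mem_normalizer_iff''.1 (h.NL m) t).2 ?_) (h.N0 h1 h2) t2)
  rcases h.nf1 hD hD' (sq_cj a1 k⁻¹) ((card_cj _ _).trans a2) h6 (fun e' => e1 (by
    rw [show e = k * (k⁻¹ * e * k) * k⁻¹ by group, e']; simp)) (by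
      simpa [cj_Cx] using cj_mono k⁻¹ a4) with a | a | a
  · exact h.SL (a h7)
  · exact a h7
  · exact h.SL (h.swap.memS_L (a h7) (h.N0 (mul_mem (mul_mem (inv_mem (h.a.kQ hk)) h1) (h.a.kQ hk))
      (h.b2.n (h.swap.LK (a h7)))) (sq_cj a1 _ _ h7))

theorem nf (ht : t ∈ Nm(S)) (t2 : t * t = 1) (tS : t ∉ S) (g : G) : g * t * g⁻¹ ∉ S := fun h3 => by
  obtain ⟨g, h3, h4⟩ := h.step t2 h3 (E := Q1 ⊓ Q2 ⊓ Cx(t)) (pg_of_sq h.R2).to_inf_left inf_le_right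
  have i1 := idx2 (H := Nm(Q1)) (K := cj g (Q1 ⊓ Q2 ⊓ Cx(t))) fun a ha b hb =>
    h.swap_mul (h4 ha) (h4 hb)
  have i3 := card_le_sq h.R2 (h.NR ht) t2
  have i4 := h.swap.four_le hD
  have i5 := two_mul_le (lt_of_le_of_ne h.DR fun e => hD' (eq_bot_iff.2 fun d hd =>
    h.DD (h.b.qT hd.1) (e.ge (h.DR' hd)).2 hd.2))
  obtain ⟨_, h5, e1⟩ := exists_ne_one_of_ne_bot
    (A := cj g (Q1 ⊓ Q2 ⊓ Cx(t)) ⊓ Nm(Q1)) fun e => by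
      rw [e, card_bot, card_cj] at i1
      have := Nat.pow_le_pow_left i1 2
      omega
  obtain ⟨e, he, rfl⟩ := mem_cj'.1 h5.1
  have e2 := h.R2 e he.1
  obtain ⟨E, a1, a2, a3, a4⟩ := h.star h3 e2 (by_contra fun c => h.nfF hD hD' h5.2
    (h.N2_of (h4 h5.1) h5.2) (conj_sq e2 g) c g⁻¹ (by simpa [mul_assoc] using h.q1S he.1.1))
  rcases h.nf1 hD hD' a1 a2 he.1 (fun e' => e1 (by simp [e'])) a4 with a | a | a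
  exacts [tS (a a3), tS (h.memS_L (a a3) ht t2), tS (h.swap.memS_L (a a3) ht t2)]

theorem O_N (h1 : t ∈ Nm(Q1)) (h2 : t ∈ Nm(Q2)) (t2 : t * t = 1) (tS : t ∉ S) :
    pCoreOf 2 Cx(t) ≤ Nm(S) := by
  obtain ⟨P, hP, h3⟩ := exists_sylIn_ge (Q := S ⊓ Cx(t)) h.pS.to_inf_left (H := Cx(t) ⊓ Nm(S))
    (le_inf inf_le_right (inf_le_left.trans le_normalizer))
  refine (sylIn_pCoreOf_le (hP.of_Nm_le inf_le_left fun p hp => mi hp.1 ?_)).trans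
    (hP.le.trans inf_le_right)
  have k : ∀ p ∈ Nm(P), ∀ w ∈ S, w * w = 1 → w ∈ Cx(t) → p * w * p⁻¹ ∈ S := fun p hp w a b c =>
    by_contra fun e => h.nf hD hD' (hP.le (conj_mem_of_mem_normalizer hp (h3 (mi a c)))).2
      (conj_sq b p) e p⁻¹ (by simpa [mul_assoc] using a)
  obtain ⟨u, u1, u2, u3⟩ := h.fixV h1 h2 t2 tS
  obtain ⟨v, v1, v2, v3⟩ := h.swap.fixV h2 h1 t2 tS
  have k2 : ∀ d ∈ Q1 ⊓ Q2, d ∈ Cz(zpowers t) → p * d * p⁻¹ ∈ Q1 ⊓ Q2 := fun d d1 d2 => by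
    have c : ∀ u ∈ S, u * u = 1 → u ∈ Cx(t) → u * (p * d * p⁻¹) = p * d * p⁻¹ * u := fun u a b c => by
      have := mem_Cx.1 (h.SR d1 (k _ (inv_mem hp.2) u a b c))
      calc _ = p * (p⁻¹ * u * p⁻¹⁻¹ * d) * p⁻¹ := by group
        _ = _ := by rw [this]; group
    rcases h.inv_or (k p hp.2 d (h.q1S d1.1) (h.R2 d d1) (Cz_zpowers t ▸ d2))
      (conj_sq (h.R2 d d1) p) with a | a
    · exact ⟨a, (h.cm12 a v1 (c v (h.q2S v1) (h.s2 v v1) v3)).resolve_right v2⟩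
    · exact ⟨(h.swap.cm12 a u1 (c u (h.q1S u1) (h.s1 u u1) u3)).resolve_right u2, a⟩
  obtain ⟨d, d1, d2, d3⟩ := exists_mem_center_of_normal (pg_inv t2) h.a.pQ.to_inf_left
    (zpowers_le.2 (h.ND h1)) hD
  obtain ⟨e, e1, e2, e3⟩ := exists_mem_center_of_normal (pg_inv t2) h.b.pQ.to_inf_left
    (zpowers_le.2 (h.swap.ND h2)) hD'
  exact h.NS_DD d1 d2 e1 e2 (k2 d (h.DR d1) d3) (k2 e (h.DR' e1) e3)

omit h hD hD' [Finite G] in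
theorem O_cj (hw : w ∈ pCoreOf 2 Cx(t)) (g : G) : g * w * g⁻¹ ∈ pCoreOf 2 Cx(g * t * g⁻¹) := by
  rw [← cj_Cx, ← cj_pCoreOf]; exact conj_mem_cj g hw

theorem O_S (h1 : t ∈ Nm(Q1)) (h2 : t ∈ Nm(Q2)) (t2 : t * t = 1) (tS : t ∉ S)
    (hw : w ∈ pCoreOf 2 Cx(t)) (w2 : w * w = 1) {g : G} (h3 : g * w * g⁻¹ ∈ S) : w ∈ S :=
  by_contra fun e => h.nf hD hD' (h.O_N hD hD' h1 h2 t2 tS hw) w2 e g h3

theorem O_Q (h1 : t ∈ Nm(Q1)) (h2 : t ∈ Nm(Q2)) (t2 : t * t = 1) (tS : t ∉ S)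
    (hw : w ∈ pCoreOf 2 Cx(t)) (w2 : w * w = 1) {g : G} (h3 : g * w * g⁻¹ ∈ S) : w ∈ Q1 := by
  have a := h.O_S hD hD' h1 h2 t2 tS hw w2 h3
  obtain ⟨k, hk, b1, b2, b3, b4⟩ := h.tw h1 h2 t2 tS
  exact h.infS (le_normalizer hk) b1 a (by
    simpa using h.O_S hD hD' b2 b3 (conj_sq t2 _) b4 (O_cj hw k⁻¹) (conj_sq w2 _) (g := k)
      (by simpa [mul_assoc] using a))

theorem O_D (h1 : t ∈ Nm(Q1)) (h2 : t ∈ Nm(Q2)) (t2 : t * t = 1) (tS : t ∉ S)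
    (hw : w ∈ pCoreOf 2 Cx(t)) (h3 : w ∈ Q1 ⊓ Q2) : w ∈ Cz(K1) := by
  obtain ⟨k, hk, b1, b2, b3, b4⟩ := h.tw h1 h2 t2 tS
  have m := inv_mem (le_normalizer hk)
  have a := h.swap.O_Q hD' hD b3 b2 (conj_sq t2 _) b4 (O_cj hw k⁻¹) (conj_sq (h.R2 w h3) _) (g := k)
    (by simpa [mul_assoc] using h.q1S h3.1)
  have c := (h.r1 w h3.1).1 h3.2
  rw [h.r1 _ (conj_mem_of_mem_normalizer (h.b1.n m) h3.1), h.b1.cj _ m w h3.1,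
    show π1 w = ((π1 w).1, 0) from Prod.ext rfl c] at a
  exact (h.b1.ker w h3.1).1 (Prod.ext (by_contra fun e => b1 (by simpa using h.b1.axis' m e a 1)) c)

theorem noF (h1 : t ∈ Nm(Q1)) (h2 : t ∈ Nm(Q2)) (t2 : t * t = 1) : t ∈ S := by_contra fun tS => by
  obtain ⟨d, d1, -⟩ := exists_ne_one_of_ne_bot hD
  obtain ⟨z, z1, z2, z3⟩ := exists_mem_center_of_normal (isPGroup_pCoreOf _) (pg_of_sq h.R2)
    ((h.O_N hD hD' h1 h2 t2 tS).trans h.NR) (ne_bot_of_le h.DR hD)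
  have ch := ch2_Cx h.ch t2 fun e => tS (e ▸ one_mem S)
  have a := ch (mi (mem_Cx.2 (z3 t (ch (mi (mem_Cx.2 rfl) (le_Cx_iff.1 (pCoreOf_le _))))).symm) z3)
  exact z2 (h.DD (h.a.qT z1.1) (h.O_D hD hD' h1 h2 t2 tS a z1)
    (h.swap.O_D hD' hD h2 h1 t2 tS a ⟨z1.2, z1.1⟩))

theorem caseSp {g : G} (hg : g ∈ Nm(S)) (h1 : g ∉ Nm(Q1)) (h2 : cj g K1 = K2) : False :=
  h.fin (inf_le_left.trans h.q1S) (ne_bot_of_le h.DR hD) h.NR h.R2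
    (fun _ ht t2 tS => h.nf hD hD' ht t2 tS) (fun t ht t2 tS w hw w2 w1 e g h4 h5 => by
      have k : t ∉ Nm(Q1) := fun e => tS (h.noF hD hD' e (h.N2_of ht e) t2)
      have a := h.swap_fix ht k hw w2 e
      refine inv_mem_iff.1 (h.NS_of_cj' (le_trans ?_ (h.CZ hD hD' a
        (fun c => k (h.CD (mi a.1 c) w1 (mem_Cx'.2 e)))
        fun c => k (h.swap.N2_of ht (h.swap.CD (mi a.2 c) w1 (mem_Cx'.2 e))))))
      rw [cj_le_iff, inv_inv, cj_Cx]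
      exact h.SR (h.swap_fix ht k h4 (conj_sq w2 g) h5)) hg h1 h2

end Sq

theorem caseLin [Finite G] [CharP F 2] [Finite F] (hG : Ch2 G) (hq : 4 ≤ Nat.card F)
    {T K U Q : Subgroup G} (h : St T K U Q) {g : G} (hg : g ∈ Nm(T)) (hn : ¬ cj g U ≤ Q)
    (D : MD (⊤ : Subgroup SL(2, F)) (⊤ : AddSubgroup (Fin 2 → F)) K U (U ⊓ Cz(K))) :
    SectionalPRankLE 2 4 G := by
  have h' := h.conj hg
  obtain ⟨_, _, B1⟩ := bd_of_md h.NU D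
  obtain ⟨_, _, B2⟩ := bd_of_md h'.NU (by
    rw [← cj_centralizer, ← cj_inf]; exact D.map (MulAut.conj g).injective)
  obtain ⟨t, t0, t1⟩ := ex_ne hq
  obtain ⟨_, _, _, _, s⟩ := Pr.sp hG ⟨h, h', hn⟩ B1 B2 t0 t1
  have q : Sq _ _ _ _ _ _ _ _ _ _ _ _ := ⟨s, rfl, hG, (card_cj _ _).symm, hq⟩
  have g1 := q.NS_of_cj (g := g) (q.q2S.trans le_normalizer)
    (((cj_mono g h'.qT).trans (cj_eq_of_mem_normalizer hg).le).trans q.TS)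
  have g2 : g ∉ Nm(Q) := fun e => q.ne12 (cj_eq_of_mem_normalizer e).symm
  have c := q.cardD
  by_cases hD : Q ⊓ Cz(K) = ⊥
  · exact q.caseL3 hD (by rwa [hD, card_bot, eq_comm, card_eq_one] at c) g1 g2 rfl
  · exact (q.caseSp hD (fun e => hD (by rwa [e, card_bot, card_eq_one] at c)) g1 g2 rfl).elim

end CfLu
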