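import Cfsg.Agent.L.DH0
import Cfsg.Agent.L.DC

/-! `A₅`-blocks do not occur. -/

set_option autoImplicit false

namespace CfLu

open Subgroup CfH9 CfH7 Cfsg Equiv
open CfL.Pl (Ch2 cmul)
open scoped commutatorElement

variable {G : Type*} [Group G]

structure P5 (Φ : G → S5) (c : G → PV 5) (K U : Subgroup G) : Prop where
  n : Nm(K) ≤ Nm(U)
  mul : ∀ a ∈ Nm(K), ∀ b ∈ Nm(K), Φ (a * b) = Φ a * Φ b
  pm : ∀ u ∈ U, ∀ v ∈ U, c (u * v) = c u + c v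
  ev : ∀ u ∈ U, c u ∈ evn 5
  surj : ∀ y ∈ evn 5, ∃ u ∈ U, c u = y
  ker : ∀ u ∈ U, c u = 0 → u = 1
  act : ∀ n ∈ Nm(K), ∀ u ∈ U, c (n * u * n⁻¹) = Φ n • c u
  ex : ∀ σ, Perm.sign σ = 1 → ∃ k ∈ K, Φ k = σ
  sg : ∀ k ∈ K, Perm.sign (Φ k) = 1

theorem p5_of_md {K U : Subgroup G} (hn : Nm(K) ≤ Nm(U))
    (D : MD (alternatingGroup (Fin (2 * 2 + 1))) (evn (2 * 2 + 1)) K U ⊥) : ∃ Φ c, P5 Φ c K U := by
  classical
  obtain ⟨R, D', e⟩ := D.ext_perm two_ne_zero hn le_normalizer_of_normal (Or.inl le_rfl)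
  have k : ∀ l : K, D'.ρ ⟨l, le_normalizer l.2⟩ = D.ρ l := fun l => by
    rw [← inv_mul_eq_one]
    refine perm_faith _ fun v hv => ?_
    obtain ⟨u, hu, rfl⟩ := D.c_surj v hv
    rw [mul_smul, inv_smul_eq_iff, ← D.act l u hu, ← e, ← D'.act _ u hu]
  refine ⟨fun n => if h : n ∈ Nm(K) then D'.ρ ⟨n, h⟩ else 1, D.c, hn, fun a ha b hb => ?_, D.c_mul,
    D.c_mem, D.c_surj, fun u hu h => (D.c_zero u hu).1 h, fun n h u hu => ?_, fun σ h => ?_,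
    fun l hl => ?_⟩
  · simp only [dif_pos ha, dif_pos hb, dif_pos (mul_mem ha hb), ← map_mul]; rfl
  · simp only [dif_pos h, ← e]; exact D'.act ⟨n, h⟩ u hu
  · obtain ⟨l, rfl⟩ := D.ex (r := σ) h
    exact ⟨l, l.2, by simp only [dif_pos (le_normalizer l.2), k]⟩
  · simp only [dif_pos (le_normalizer hl), k ⟨l, hl⟩]; exact D.mem_R _

theorem eq_one_of_23 {H : Type*} [Group H] {a : H} {k : ℕ} (h2 : a ^ 2 ^ k = 1) (h3 : a ^ 3 = 1) :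
    a = 1 := by
  rw [← pow_one a, ← (Nat.Coprime.pow_left k (by norm_num : Nat.Coprime 2 3)).gcd_eq_one]
  exact pow_gcd_eq_one.2 ⟨h2, h3⟩

theorem sgc (a b : S5) : Perm.sign (a * b * a⁻¹) = Perm.sign b := by
  rw [map_mul, map_mul, map_inv, mul_right_comm, mul_inv_cancel, one_mul]

namespace P5

variable {Φ : G → S5} {c : G → PV 5} {K U : Subgroup G} (B : P5 Φ c K U) {n m u v : G}
include B

theorem one : Φ 1 = 1 := by simpa using B.mul 1 (one_mem _) 1 (one_mem _)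

theorem inv (hn : n ∈ Nm(K)) : Φ n⁻¹ = (Φ n)⁻¹ :=
  eq_inv_of_mul_eq_one_left (by rw [← B.mul _ (inv_mem hn) _ hn, inv_mul_cancel, B.one])

theorem pow (hn : n ∈ Nm(K)) (k : ℕ) : Φ (n ^ k) = Φ n ^ k := by
  induction k with
  | zero => simpa using B.one
  | succ k ih => rw [pow_succ, B.mul _ (pow_mem hn k) _ hn, ih, pow_succ]

theorem cj (hn : n ∈ Nm(K)) (hm : m ∈ Nm(K)) : Φ (n * m * n⁻¹) = Φ n * Φ m * (Φ n)⁻¹ := by
  rw [B.mul _ (mul_mem hn hm) _ (inv_mem hn), B.mul _ hn _ hm, B.inv hn]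

theorem com (hn : n ∈ Nm(K)) (hm : m ∈ Nm(K)) : Φ ⁅n, m⁆ = ⁅Φ n, Φ m⁆ := by
  rw [commutatorElement_def, B.mul _ (mul_mem (mul_mem hn hm) (inv_mem hn)) _ (inv_mem hm),
    B.cj hn hm, B.inv hm, commutatorElement_def]

theorem c1 : c 1 = 0 := by simpa using B.pm 1 (one_mem _) 1 (one_mem _)

theorem cinv (hu : u ∈ U) : c u⁻¹ = - c u := by
  rw [eq_neg_iff_add_eq_zero, ← B.pm _ (inv_mem hu) _ hu, inv_mul_cancel, B.c1]

theorem inj (hu : u ∈ U) (hv : v ∈ U) (h : c u = c v) : u = v := inv_mul_eq_one.1 (B.ker _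
  (mul_mem (inv_mem hu) hv) (by rw [B.pm _ (inv_mem hu) _ hv, B.cinv hu, h, neg_add_cancel]))

theorem cm (hn : n ∈ Nm(K)) (hu : u ∈ U) : c ⁅n, u⁆ = Φ n • c u - c u := by
  rw [commutatorElement_def, B.pm _ (conj_mem_of_mem_normalizer (B.n hn) hu) _ (inv_mem hu),
    B.act n hn u hu, B.cinv hu, sub_eq_add_neg]

theorem fix (hn : n ∈ Nm(K)) (hu : u ∈ U) (h : n * u = u * n) : Φ n • c u = c u := by
  rw [← B.act n hn u hu, h, mul_inv_cancel_right]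

theorem fix' (hn : n ∈ Nm(K)) (hu : u ∈ U) (h : Φ n • c u = c u) : n * u = u * n :=
  mul_inv_eq_iff_eq_mul.1 (B.inj (conj_mem_of_mem_normalizer (B.n hn) hu) hu (by rwa [B.act n hn u hu]))

theorem cz (hn : n ∈ Nm(K)) (h : Φ n = 1) : n ∈ Cz(U) :=
  fun u hu => (B.fix' hn hu (by rw [h, one_smul])).symm

theorem conj (g : S5) : P5 (fun n => g * Φ n * g⁻¹) (fun u => g • c u) K U := by
  have e : ∀ g : S5, ∀ v ∈ evn 5, g • v ∈ evn 5 := fun g v hv =>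
    (Equiv.sum_comp (g⁻¹ : S5) v).trans hv
  refine ⟨B.n, fun a ha b hb => by rw [B.mul a ha b hb]; group,
    fun u hu v hv => by rw [B.pm u hu v hv, smul_add], fun u hu => e _ _ (B.ev u hu), fun y hy => ?_,
    fun u hu h => B.ker u hu (by simpa using congrArg (g⁻¹ • ·) h),
    fun n hn u hu => by rw [B.act n hn u hu, mul_smul, inv_smul_smul, mul_smul], fun σ h => ?_,
    fun k hk => by simp [B.sg k hk]⟩
  · obtain ⟨u, hu, h⟩ := B.surj _ (e g⁻¹ y hy)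
    exact ⟨u, hu, by rw [h, smul_inv_smul]⟩
  · obtain ⟨k, hk, h⟩ := B.ex (g⁻¹ * σ * g) (by simp [h])
    exact ⟨k, hk, by rw [h]; group⟩

end P5

variable [Finite G] {T K1 U1 Q1 K2 U2 Q2 : Subgroup G} {Φ1 Φ2 : G → S5} {c1 c2 : G → PV 5}

theorem Pr.norm5 (h : Pr T K1 U1 Q1 K2 U2 Q2) (B : P5 Φ1 c1 K1 U1) : ∃ Φ c, P5 Φ c K1 U1 ∧
    (∃ v ∈ U2, Φ v = sd) ∧ ∀ v ∈ U2, In4 (Φ v) := by
  have m : ∀ {v}, v ∈ U2 → v ∈ Nm(K1) := fun hv => h.a.tK (h.b.uT hv)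
  have s : ∀ v ∈ U2, Φ1 v * Φ1 v = 1 := fun v hv => by rw [← B.mul _ (m hv) _ (m hv), h.b.sq v hv, B.one]
  obtain ⟨v, hv, h1, h2⟩ : ∃ v ∈ U2, Φ1 v ≠ 1 ∧ Perm.sign (Φ1 v) = 1 := by
    obtain ⟨v, hv, h1⟩ := SetLike.not_le_iff_exists.1 h.nc
    by_cases c : Perm.sign (Φ1 v) = 1
    · exact ⟨v, hv, fun e => h1 (B.cz (m hv) e), c⟩
    let V : Subgroup G :=
      { carrier := {k | k ∈ K1 ∧ Φ1 k ∈ centralizer {sd, se}}
        one_mem' := ⟨one_mem _, B.one ▸ one_mem _⟩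
        mul_mem' := fun {a b} ha hb => ⟨mul_mem ha.1 hb.1,
          B.mul a (le_normalizer ha.1) b (le_normalizer hb.1) ▸ mul_mem ha.2 hb.2⟩
        inv_mem' := fun {a} ha => ⟨inv_mem ha.1, B.inv (le_normalizer ha.1) ▸ inv_mem ha.2⟩ }
    obtain ⟨g, hg, h3⟩ := h.a.sk.exists_cj_le (Q := V) (isPGroup_iff_mem.2 fun k hk => ⟨2, by
      rw [show k ^ 2 ^ 2 = (k * k) * (k * k) by simp [pow_succ, mul_assoc]]
      have k1 := le_normalizer hk.1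
      exact h.a.sq _ (h.a.cK (mi (mul_mem hk.1 hk.1) (B.cz (mul_mem k1 k1) ((B.mul _ k1 _ k1).trans
        (d1 _ (hk.2 sd (by simp)).symm (hk.2 se (by simp)).symm).2))))⟩) fun k hk => hk.1
    have g1 := le_normalizer hg
    by_contra e
    push Not at e
    have key : ∀ σ, Perm.sign σ = 1 → σ ∈ centralizer {sd, se} →
        (Φ1 g)⁻¹ * Φ1 v * Φ1 g * σ = σ * ((Φ1 g)⁻¹ * Φ1 v * Φ1 g) := fun σ h4 h5 => by
      obtain ⟨k, hk, rfl⟩ := B.ex σ h4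
      have h6 := h3 (conj_mem_cj g (show k ∈ V from ⟨hk, h5⟩))
      have h7 := conj_mem_of_mem_normalizer (h.b.tU h6.1) hv
      have h8 := B.mul _ (m h7) _ (m hv)
      rw [B.cj (h.a.tK h6.1) (m hv), B.cj g1 (le_normalizer hk)] at h8
      have h9 : Φ1 (g * k * g⁻¹ * v * (g * k * g⁻¹)⁻¹ * v) = 1 := by_contra fun a =>
        e _ (mul_mem h7 hv) a (by rw [h8, map_mul, sgc, Int.units_mul_self])
      rw [h9, eq_comm, ← eq_inv_iff_mul_eq_one, inv_eq_of_mul_eq_one_right (s v hv)] at h8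
      calc _ = (Φ1 g)⁻¹ * (Φ1 v * (Φ1 g * Φ1 k * (Φ1 g)⁻¹)) * Φ1 g := by group
        _ = _ := by nth_rewrite 1 [← h8]; group
    exact c ((sgc (Φ1 g)⁻¹ _).symm.trans (d1 _ (key sd (by decide) (by rintro _ (rfl | rfl) <;> decide))
        (key se (by decide) (by rintro _ (rfl | rfl) <;> decide))).1)
  obtain ⟨g, hg⟩ := d2 _ (s v hv) h1 h2
  have B' := B.conj g
  refine ⟨_, _, B', ⟨v, hv, hg⟩, fun w hw => ?_⟩
  have k : ∀ y ∈ evn 5, (g * Φ1 w * g⁻¹) • (sd • y - y) = sd • y - y := fun y hy => by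
    obtain ⟨u, hu, rfl⟩ := B'.surj y hy
    rw [← hg, ← B'.cm (m hv) hu]
    exact B'.fix (m hw) (h.swap.cm2 hv hu) (comm_of_sq h.b.sq hw (h.swap.cm1 hv hu))
  exact d4 _ (by simpa only [show sd • pe 0 4 - pe 0 4 = (pe 0 1 : PV 5) by decide] using k _ (pe_mem 0 4))
    (by simpa only [show sd • pe 2 4 - pe 2 4 = (pe 2 3 : PV 5) by decide] using k _ (pe_mem 2 4))

structure A5 (T K1 U1 Q1 K2 U2 Q2 : Subgroup G) (Φ1 Φ2 : G → S5) (c1 c2 : G → PV 5) : Prop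
    extends Pr T K1 U1 Q1 K2 U2 Q2 where
  p1 : P5 Φ1 c1 K1 U1
  p2 : P5 Φ2 c2 K2 U2
  d21 : ∃ v ∈ U2, Φ1 v = sd
  d12 : ∃ v ∈ U1, Φ2 v = sd
  a21 : ∀ v ∈ U2, In4 (Φ1 v)
  a12 : ∀ v ∈ U1, In4 (Φ2 v)
  ch : Ch2 G

namespace A5

variable (h : A5 T K1 U1 Q1 K2 U2 Q2 Φ1 Φ2 c1 c2)
include h

omit [Finite G]

theorem swap : A5 T K2 U2 Q2 K1 U1 Q1 Φ2 Φ1 c2 c1 :=
  ⟨h.toPr.swap, h.p2, h.p1, h.d12, h.d21, h.a12, h.a21, h.ch⟩

theorem m1 {v : G} (hv : v ∈ U1) : v ∈ Nm(K2) := h.b.tK (h.a.uT hv)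
theorem m2 {v : G} (hv : v ∈ U2) : v ∈ Nm(K1) := h.a.tK (h.b.uT hv)

theorem ne1 {u : G} (hu : u ∈ U1) (e : sd • c1 u ≠ c1 u) : Φ2 u ≠ 1 := fun a => by
  obtain ⟨v, hv, h1⟩ := h.d21
  exact e (h1 ▸ h.p1.fix (h.m2 hv) hu (h.p2.cz (h.m1 hu) a v hv))

theorem full {σ : S5} (hσ : In4 σ) : ∃ u ∈ U1, Φ2 u = σ := by
  obtain ⟨a, ha, e1⟩ := h.p1.surj _ (pe_mem 0 4)
  obtain ⟨b, hb, e2⟩ := h.p1.surj _ (pe_mem 2 4)
  have e := h.p2.mul _ (h.m1 ha) _ (h.m1 hb)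
  rcases d7 _ _ (h.a12 a ha) (h.a12 b hb) (h.ne1 ha (by rw [e1]; decide)) (h.ne1 hb (by rw [e2]; decide))
    (e ▸ h.ne1 (mul_mem ha hb) (by rw [h.p1.pm a ha b hb, e1, e2]; decide)) σ hσ with
    rfl | rfl | rfl | rfl
  exacts [⟨1, one_mem _, h.p2.one⟩, ⟨a, ha, rfl⟩, ⟨b, hb, rfl⟩, ⟨_, mul_mem ha hb, e⟩]

theorem sq1 : ∀ q ∈ Q1, q * q = 1 := h.sqQ fun q hq => by
  have m := h.b.tK (h.a.qT hq)
  obtain ⟨u, hu, e⟩ := h.d12
  have k : ∀ y ∈ evn 5, Φ2 q • (sd • y - y) = sd • y - y := fun y hy => by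
    obtain ⟨v, hv, rfl⟩ := h.p2.surj y hy
    rw [← e, ← h.p2.cm (h.m1 hu) hv]
    exact h.p2.fix m (h.cm2 hu hv) (h.a.cU hq _ (h.cm1 hu hv)).symm
  have i := d4 _
    (by simpa only [show sd • pe 0 4 - pe 0 4 = (pe 0 1 : PV 5) by decide] using k _ (pe_mem 0 4))
    (by simpa only [show sd • pe 2 4 - pe 2 4 = (pe 2 3 : PV 5) by decide] using k _ (pe_mem 2 4))
  obtain ⟨u', hu', e'⟩ := h.full i
  exact ⟨u', hu', h.b.cT (mul_mem (h.a.uT hu') (h.a.qT hq)) (h.p2.cz (mul_mem (h.m1 hu') m)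
    (by rw [h.p2.mul _ (h.m1 hu') _ m, e', (d9 _ i).2.1]))⟩

variable [Finite G]

theorem bO {z : G} (hz : z ∈ U1) (e : c1 z = pe 0 1) : (∃ x ∈ K1, x ∈ Cx(z) ∧ Φ1 x = sr) ∧
    ∃ b ∈ U1, b ∈ pCoreOf 2 Cx(z) ∧ c1 b = pe 3 4 := by
  obtain ⟨x, hx, x1, x3⟩ : ∃ x ∈ K1, Φ1 x = sr ∧ x ^ 3 = 1 := by
    obtain ⟨k, hk, e⟩ := h.p1.ex sr (by decide)
    have m := le_normalizer hk
    have := h.a.sq _ (h.a.cK (mi (pow_mem hk 3) (h.p1.cz (pow_mem m 3) (by rw [h.p1.pow m, e]; decide))))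
    exact ⟨k ^ 4, pow_mem hk 4, by rw [h.p1.pow m, e]; decide, by
      rw [← pow_mul, show 4 * 3 = (3 + 3) * 2 from rfl, pow_mul, pow_add, this, one_pow]⟩
  have m := le_normalizer hx
  have x2 : x ∈ Cx(z) := mem_Cx.2 (h.p1.fix' m hz (by rw [x1, e]; decide))
  refine ⟨⟨x, hx, x2, x1⟩, ?_⟩
  have n := le_normalizer_pCoreOf (p := 2) Cx(z)
  have p := isPGroup_pCoreOf (p := 2) Cx(z)
  have ch := ch2_Cx h.ch (h.a.sq z hz) fun a => absurd (a ▸ e : c1 1 = _) (by rw [h.p1.c1]; decide)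
  have q1 : Q1 ≤ Cx(z) := h.a.cU.trans (Cz_le_Cx hz)
  have cQ := le_Cz_of_sq h.sq1
  have xB : x ∈ Cz(Q1 ⊓ Cx(x)) := le_Cx_iff.1 inf_le_right
  have hP : pCoreOf 2 Cx(z) ⊓ Cz(Q1 ⊓ Cx(x)) ≤ Q1 := by
    by_contra hn
    have nP : Q1 ≤ Nm(pCoreOf 2 Cx(z) ⊓ Cz(Q1 ⊓ Cx(x))) := le_normalizer_inf (q1.trans n)
      ((cQ.trans (Cz_anti inf_le_left)).trans le_normalizer)
    obtain ⟨_, ⟨w1, w2⟩, w3⟩ := SetLike.exists_of_lt (lt_inf_Nm (isPGroup_sup h.a.pQ p.to_inf_left nP)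
      (left_lt_sup.2 hn))
    obtain ⟨q, hq, y, hy, rfl⟩ := (mem_sup_of_le_Nm nP).1 w1
    have y1 := (mul_mem_cancel_left (le_normalizer hq)).1 w2
    have y2 := h.a.NQ y1
    have f : ∀ v ∈ evn 5, sr • v = v → Φ1 y • v = v := fun v hv a => by
      obtain ⟨u, hu, rfl⟩ := h.p1.surj v hv
      exact h.p1.fix y2 hu (hy.2 u ⟨h.a.uQ hu, mem_Cx.2 (h.p1.fix' m hu (x1 ▸ a)).symm⟩).symm
    obtain ⟨f1, f2⟩ := d5 _ (f _ (pe_mem 0 1) (by decide)) (f vf (by decide) (by decide))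
    obtain ⟨j, hj⟩ := isPGroup_iff_mem.1 p _ (commutator_mem_left hy.1 (n x2))
    obtain ⟨i, hi⟩ := isPGroup_iff_mem.1 p _ hy.1
    have f3 := eq_one_of_23 (k := i) (by rw [← h.p1.pow y2, hi, h.p1.one]) (f2 (eq_one_of_23 (k := j)
      (by rw [← x1, ← h.p1.com y2 m, ← h.p1.pow (commutator_mem_left y2 (le_normalizer m)), hj,
        h.p1.one]) f1))
    exact w3 (mul_mem hq (h.a.leQ' (isPGroup_zpowers hi) (zpowers_le.2 y1)
      (zpowers_le.2 (h.p1.cz y2 f3)) (mem_zpowers y)))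
  obtain ⟨y, hy, y1⟩ : ∃ y ∈ pCoreOf 2 Cx(z) ⊓ Cz(Q1 ⊓ Cx(x)), ⁅x, y⁆ ≠ 1 := by
    by_contra a
    push Not at a
    have := AxB_mod (A := Q1 ⊓ Cx(x)) (B := zpowers x) p ((inf_le_left.trans q1).trans n)
      (zpowers_le.2 (n x2)) (by rw [pResidualOf_eq_bot_of_isPGroup h.a.pQ.to_inf_left]; exact bot_le)
      (by rw [comm_eq_bot_right.2 (zpowers_le.2 xB)]; exact bot_le)
      (zpowers_le.2 fun y hy => (commutatorElement_eq_one_iff_mul_comm.1 (a y hy)).symm)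
      (mem_pResidualOf (mem_zpowers x) ((by norm_num : Nat.Coprime 3 2).coprime_dvd_left
        (orderOf_dvd_of_pow_eq_one x3)))
    obtain ⟨j, hj⟩ := isPGroup_iff_mem.1 p _ (ch (mi x2 this))
    rw [eq_one_of_23 hj x3, h.p1.one] at x1
    exact absurd x1 (by decide)
  have y2 := hP hy
  have a1 : ⁅x, y⁆ ∈ U1 := by simpa using inv_mem (h.a.cm y2 hx)
  have a2 := commutator_mem_right hy.1 (n x2)
  have k := fun {u} (hu : u ∈ U1) => conj_mem_of_mem_normalizer (h.a.kU hx) hu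
  have k' := fun {u} (hu : u ∈ pCoreOf 2 Cx(z)) => conj_mem_of_mem_normalizer (n x2) hu
  have b1 := h.p1.act x m _ a1
  have b2 := h.p1.act x m _ (k a1)
  rw [b1, x1] at b2
  rw [x1] at b1
  rcases d6 _ (h.p1.ev _ a1) (fun a => y1 (h.p1.ker _ a1 a)) (by
    have c := fun {u} (hu : u ∈ Q1) => conj_mem_of_mem_normalizer (h.a.kQ hx) hu
    rw [← b2, ← b1, add_comm (c1 _), add_comm, ← add_assoc, ← h.p1.pm _ (k (k a1)) _ (k a1),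
      ← h.p1.pm _ (mul_mem (k (k a1)) (k a1)) _ a1, ← h.p1.c1]
    congr 1
    calc _ = x * x * x * y * (x * x * x)⁻¹ * y⁻¹ := by simp only [commutatorElement_def]; group
      _ = 1 := by rw [← pow_three', x3]; group) with a | a | a
  exacts [⟨_, a1, a2, a⟩, ⟨_, k a1, k' a2, b1.trans a⟩, ⟨_, k (k a1), k' (k' a2), b2.trans a⟩]

theorem false' {u : G} (hu : u ∈ U1) (e1 : c1 u = pe 0 4) (e2 : Φ2 u = sa) : False := by
  have k : ∀ {u v}, u ∈ U1 → v ∈ U2 → c1 ⁅u, v⁆ = Φ1 v • c1 u - c1 u := fun hu hv => by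
    rw [← h.p1.cm (h.m2 hv) hu, ← commutatorElement_inv,
      inv_eq_of_mul_eq_one_right (h.a.sq _ (h.swap.cm2 hv hu))]
  obtain ⟨v, hv, e3⟩ := h.p2.surj _ (pe_mem 0 4)
  have z2 : c2 ⁅u, v⁆ = pe 0 1 := by rw [h.p2.cm (h.m1 hu) hv, e2, e3]; decide
  have z1 : c1 ⁅u, v⁆ = pe 0 1 := by
    refine ((show c1 ⁅u, v⁆ = 0 ∨ _ by rw [k hu hv, e1]; exact (d9 _ (h.a21 v hv)).2.2)).resolve_left ?_
    intro a
    rw [h.p1.ker _ (h.cm1 hu hv) a, h.p2.c1] at z2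
    exact absurd z2 (by decide)
  obtain ⟨⟨x, hx, x1, x2⟩, -⟩ := h.bO (h.cm1 hu hv) z1
  obtain ⟨-, b, hb, b1, b2⟩ := h.swap.bO (h.cm2 hu hv) z2
  obtain ⟨j, hj⟩ := isPGroup_iff_mem.1 (isPGroup_pCoreOf _) _
    (commutator_mem_left b1 (le_normalizer_pCoreOf _ x1))
  have c := congrArg Φ1 hj
  rw [h.p1.pow (commutator_mem_left (h.m2 hb) (le_normalizer (le_normalizer hx))),
    h.p1.com (h.m2 hb) (le_normalizer hx), x2, h.p1.one] at c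
  obtain ⟨w, hw, e4⟩ := h.full (σ := sb) (by decide)
  have z3 : c2 ⁅w, b⁆ = pe 2 3 := by rw [h.p2.cm (h.m1 hw) hb, e4, b2]; decide
  have z4 : ¬ (c1 ⁅w, b⁆ = 0 ∨ c1 ⁅w, b⁆ = pe 0 1) := by
    rintro (a | a)
    · rw [h.p1.ker _ (h.cm1 hw hb) a, h.p2.c1] at z3
      exact absurd z3 (by decide)
    · rw [h.p1.inj (h.cm1 hw hb) (h.cm1 hu hv) (a.trans z1.symm), z2] at z3
      exact absurd z3 (by decide)
  rw [k hw hb] at z4
  rcases h.a21 b hb with a | a | a | a <;> rw [a] at c z4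
  · exact z4 (Or.inl (by simp))
  · exact z4 (d8 _)
  · exact absurd (eq_one_of_23 c (by decide +kernel)) (by decide +kernel)
  · exact absurd (eq_one_of_23 c (by decide +kernel)) (by decide +kernel)

theorem false : False := by
  obtain ⟨u, hu, e⟩ := h.p1.surj _ (pe_mem 0 4)
  rcases h.a12 u hu with a | a | a | a
  · exact h.ne1 hu (by rw [e]; decide) a
  · exact h.false' hu e a
  · exact A5.false' ⟨h.toPr, h.p1, h.p2.conj se, h.d21, h.d12.imp fun v b => ⟨b.1, by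
      simp only [b.2]; decide⟩, h.a21, fun v hv => (d9 _ (h.a12 v hv)).1, h.ch⟩ hu e
      (by simp only [a]; decide)
  have k : ∀ v ∈ U2, c1 ⁅v, u⁆ = 0 ∨ c1 ⁅v, u⁆ = pe 0 1 := fun v hv => by
    rw [h.p1.cm (h.m2 hv) hu, e]; exact (d9 _ (h.a21 v hv)).2.2
  have k2 : ∀ v ∈ U2, c2 ⁅v, u⁆ = sd • c2 v - c2 v := fun v hv => by
    rw [← a, ← h.p2.cm (h.m1 hu) hv, ← commutatorElement_inv,
      inv_eq_of_mul_eq_one_right (h.a.sq _ (h.cm1 hu hv))]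
  have k3 : ∀ v ∈ U2, sd • c2 v - c2 v ≠ 0 → c1 ⁅v, u⁆ = pe 0 1 := fun v hv b =>
    (k v hv).resolve_left fun c => b (by rw [← k2 v hv, h.p1.ker _ (h.swap.cm2 hv hu) c, h.p2.c1])
  obtain ⟨v, hv, e1⟩ := h.p2.surj _ (pe_mem 0 4)
  obtain ⟨w, hw, e2⟩ := h.p2.surj _ (pe_mem 2 4)
  have := k2 v hv
  rw [h.p1.inj (h.swap.cm2 hv hu) (h.swap.cm2 hw hu) ((k3 v hv (by rw [e1]; decide)).trans
    (k3 w hw (by rw [e2]; decide)).symm), k2 w hw, e1, e2] at this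
  exact absurd this (by decide)

end A5

theorem caseA5 (hG : Ch2 G) (h : Pr T K1 U1 Q1 K2 U2 Q2)
    (D1 : MD (alternatingGroup (Fin (2 * 2 + 1))) (evn (2 * 2 + 1)) K1 U1 ⊥)
    (D2 : MD (alternatingGroup (Fin (2 * 2 + 1))) (evn (2 * 2 + 1)) K2 U2 ⊥) : False := by
  obtain ⟨_, _, B1⟩ := p5_of_md h.a.NU D1
  obtain ⟨_, _, B2⟩ := p5_of_md h.b.NU D2
  obtain ⟨_, _, C1, a1, b1⟩ := h.norm5 B1
  obtain ⟨_, _, C2, a2, b2⟩ := h.swap.norm5 B2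
  exact A5.false ⟨h, C1, C2, a1, a2, b1, b2, hG⟩

end CfLu
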