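import Cfsg.Agent.L.DA

/-! Finite checks in `S₅`. -/

set_option autoImplicit false

namespace CfLu

open CfH7 Equiv
open scoped commutatorElement

abbrev S5 := Perm (Fin 5)

def sa : S5 := swap 0 1
def sb : S5 := swap 2 3
def sd : S5 := swap 0 1 * swap 2 3
def se : S5 := swap 0 2 * swap 1 3
def sr : S5 := swap 2 3 * swap 3 4
def vf : PV 5 := ![1, 0, 1, 1, 1]

def In4 (a : S5) : Prop := a = 1 ∨ a = sa ∨ a = sb ∨ a = sd

instance : DecidablePred In4 := fun a => inferInstanceAs (Decidable (a = 1 ∨ a = sa ∨ a = sb ∨ a = sd))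

instance (v : PV 5) : Decidable (v ∈ evn 5) := inferInstanceAs (Decidable (∑ i, v i = 0))

theorem d1 : ∀ b : S5, b * sd = sd * b → b * se = se * b → Perm.sign b = 1 ∧ b * b = 1 := by
  decide +kernel

theorem d2 : ∀ a : S5, a * a = 1 → a ≠ 1 → Perm.sign a = 1 → ∃ g, g * a * g⁻¹ = sd := by
  decide +kernel

theorem d4 : ∀ a : S5, a • (pe 0 1 : PV 5) = pe 0 1 → a • (pe 2 3 : PV 5) = pe 2 3 → In4 a := by
  decide +kernel

theorem d5 : ∀ a : S5, a • (pe 0 1 : PV 5) = pe 0 1 → a • vf = vf →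
    ⁅a, sr⁆ ^ 3 = 1 ∧ (⁅a, sr⁆ = 1 → a ^ 3 = 1) := by
  decide +kernel

theorem d6 : ∀ v : PV 5, v ∈ evn 5 → v ≠ 0 → v + sr • v + sr • sr • v = 0 →
    v = pe 3 4 ∨ sr • v = pe 3 4 ∨ sr • sr • v = pe 3 4 := by
  decide +kernel

theorem d7 : ∀ a b : S5, In4 a → In4 b → a ≠ 1 → b ≠ 1 → a * b ≠ 1 → ∀ c, In4 c →
    c = 1 ∨ c = a ∨ c = b ∨ c = a * b := by
  rintro _ _ (rfl | rfl | rfl | rfl) (rfl | rfl | rfl | rfl) h1 h2 h3 _ (rfl | rfl | rfl | rfl) <;>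
    first | decide | exact absurd rfl h1 | exact absurd rfl h2 | exact absurd (by decide) h3

theorem d8 : ∀ v : PV 5, sa • v - v = 0 ∨ sa • v - v = pe 0 1 := by decide +kernel

theorem d9 (a : S5) (h : In4 a) :
    In4 (se * a * se⁻¹) ∧ a * a = 1 ∧ (a • pe 0 4 - pe 0 4 = (0 : PV 5) ∨ a • pe 0 4 - pe 0 4 = (pe 0 1 : PV 5)) := by
  rcases h with rfl | rfl | rfl | rfl <;> decide +kernel

end CfLu
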