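import Cfsg.Agent.L.DT0
import Cfsg.Agent.L.DG
import Cfsg.Agent.L.DH
import Cfsg.Agent.H9.PuA3
import Cfsg.Agent.H7.GM11
import Cfsg.Agent.H8.Gaschuetz

/-! Pushing up a rank one group: reduction to blocks. -/

set_option autoImplicit false

namespace CfLu

open Subgroup CfH9 CfH7 Cfsg Matrix
open CfL.Pl (Ch2)
open scoped commutatorElement MatrixGroups

variable {G : Type*} [Group G] [Finite G] {P : Type*} [Group P] {H T K U Q : Subgroup G}
  {τ : K →* P}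

theorem ex_blk (g : Good P) (hs : Function.Surjective τ) (ker : ∀ x : K, τ x = 1 ↔ (x : G) ∈ pCoreOf 2 K)
    (hK : pResidualOf 2 H = K) (hT : SylIn 2 T H) (hc : ChP 2 H) (h1 : T ≠ ⊥)
    (hn : ∀ C : Subgroup G, C ≤ T → C ≠ ⊥ → Nm(T) ≤ Nm(C) → ¬ H ≤ Nm(C)) : GB 2 T H K := by
  have kH : K ≤ H := hK ▸ pResidualOf_le H
  have hN : H ≤ Nm(K) := hK ▸ le_normalizer_pResidualOf H
  have sk := hT.inf_normal' hN kH
  have uT : pCoreOf 2 K ≤ T ⊓ K :=
    sk.le_of_le_Nm (isPGroup_pCoreOf K) (pCoreOf_le K) (inf_le_right.trans (le_normalizer_pCoreOf K))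
  have top : ∀ Y, Y ≤ K → im τ Y = ⊤ → K ≤ Y ⊔ pCoreOf 2 K := fun Y hY e =>
    ((im_le_im_iff ker le_rfl hY).1 (e ▸ le_top)).trans (sup_le_sup_left inf_le_right _)
  obtain ⟨M, m1, m2⟩ := g.mx _ (sk.subgroupOf_top.map_surj hs)
  have bK : prim τ M ≤ K := map_subtype_le _
  have nB : ¬ K ≤ prim τ M := fun e => m1 (top_unique fun y _ => by
    obtain ⟨x, rfl⟩ := hs y
    exact mem_prim.1 (e x.2))
  have mB : ∀ Y, T ⊓ K ≤ Y → Y ≤ K → ¬ K ≤ Y → Y ≤ prim τ M := fun Y a b c =>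
    le_prim b (m2 _ (im_mono a) fun e => c ((top Y b e).trans (sup_le le_rfl (uT.trans a))))
  have tB : T ⊓ K ≤ prim τ M := by
    refine mB _ le_rfl inf_le_right fun e => nB fun x hx => mem_prim (x := ⟨x, hx⟩).2 ?_
    rw [(ker _).2 (le_pCoreOf le_rfl le_normalizer (sk.pgrp.to_le e) hx)]
    exact one_mem _
  generalize prim τ M = B at bK nB mB tB
  have nT : T ≤ Nm(B) := fun t ht => by
    have e1 := cj_eq_of_mem_normalizer (hN (hT.le ht))
    refine mem_normalizer_of_cj_le (mB _ ?_ ((cj_mono t bK).trans e1.le) fun e => nB ?_)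
    · rw [← e1, ← cj_eq_of_mem ht, ← cj_inf]
      exact cj_mono t tB
    · rwa [← e1, cj_le_cj_iff] at e
  have n0 : ¬ K ≤ T ⊔ B := fun e => nB fun x hx => by
    obtain ⟨a, ha, b, hb, rfl⟩ := (mem_sup_of_le_Nm nT).1 (e hx)
    exact mul_mem (tB (mi ha ((mul_mem_cancel_right (bK hb)).1 hx))) hb
  have key : ∀ C : Subgroup G, C ≤ T → C ≠ ⊥ → Nm(T) ≤ Nm(C) → H ⊓ Nm(C) ≤ T ⊔ B := by
    intro C a b c x hx
    have tc := le_normalizer.trans c
    obtain ⟨k, hk, t, ht, rfl⟩ := (mem_sup_of_le_Nm' (hT.le.trans hN)).1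
      (hK ▸ (sylIn_pResidualOf_sup hT).ge hx.1 : x ∈ K ⊔ T)
    refine mul_mem (mem_sup_right (mB (K ⊓ Nm(C)) (le_inf inf_le_right (inf_le_left.trans tc))
      inf_le_left (fun e => hn C a b c ((sylIn_pResidualOf_sup hT).ge.trans
        (sup_le (hK.le.trans (e.trans inf_le_right)) tc)))
      (mi hk ((mul_mem_cancel_right (tc ht)).1 hx.2)))) (mem_sup_left ht)
  have hf := H.subtype_injective
  have eT := map_subgroupOf_eq_of_le hT.le
  refine ((core_full (p := 2) H).1 (T.subgroupOf H) ((T ⊔ B).subgroupOf H)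
    hT.subgroupOf_top hc (cs_le (map_le_iff_le_comap.1 ?_) fun C c1 c2 c3 => map_le_iff_le_comap.1 ?_)
    fun e => n0 (kH.trans (subgroupOf_eq_top.1 e))).elim fun E ⟨e1, e2⟩ => ?_
  rotate_right
  · replace e1 := e1.of_rel hT.le
    have e3 : ¬ E.map H.subtype ≤ pCoreOf 2 K := fun e =>
      e2 (map_le_iff_le_comap.1 (e.trans (uT.trans (inf_le_left.trans le_sup_left))))
    generalize E.map H.subtype = E at e1 e3
    have e4 : E ≤ K := e1.bk.res ▸ hK ▸ pResidualOf_mono e1.le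
    have e5 := e1.sub.mono_right e4 kH
    have e6 := e5.pResidualOf_eq_of_le_sup (isPGroup_pCoreOf K) (le_normalizer_pCoreOf K)
      (top E e4 (((e5.2.map hs).eq_bot_or_top_of_isSimpleGroup g.si).resolve_left
        fun e => e3 ((im_eq_bot_iff ker e4).1 e)))
    rwa [← e1.bk.res, e6, ← hK, pResidualOf_pResidualOf, hK] at e1
  · rw [map_subtype_Cz, map_OZ_inj hf, eT]
    exact (inf_le_inf_left _ (Cz_le_Nm _)).trans
      (key _ (OZ_le T) (OZ_ne_bot hT.pgrp h1) (Nm_le_Nm_OZ T))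
  · have c4 := char_map hf c1 c3
    replace c1 := map_mono (f := H.subtype) c1
    rw [map_B_inj hf, eT] at c1 c4
    rw [map_subtype_Nm]
    refine key _ (c1.trans (CfH8.B_le T)) (fun e => c2 ((map_eq_bot_iff_of_injective _ hf).1 e))
      ((CfH8.Nm_le_Nm_B (p := 2) T).trans ?_)
    simpa [map_subgroupOf_eq_of_le c1] using Nm_le_Nm_char ((C.map H.subtype).subgroupOf (CfH8.BB 2 T))

theorem a3_data (h : St T K U Q) (g : Good P) (hs : Function.Surjective τ)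
    (ker : ∀ x : K, τ x = 1 ↔ (x : G) ∈ U) (e3 : ∀ x : K, (x : G) ^ 3 ∈ U)
    (c : Nat.card U = 4 * Nat.card (U ⊓ Cz(K) : Subgroup G)) :
    Nat.card U = 4 ∧ ∃ x ∈ K, K ≤ U ⊔ zpowers x ∧ U ⊓ Cx(x) = ⊥ := by
  haveI : Fact (Nat.Prime 3) := ⟨by norm_num⟩
  haveI := g.si
  haveI := Finite.of_surjective _ hs
  have p3 : ∀ y : P, y ^ 3 = 1 := fun y => by
    obtain ⟨x, rfl⟩ := hs y
    rw [← map_pow]
    exact (ker _).2 (e3 x)
  have c1 : center P = ⊤ := (IsSimpleGroup.eq_bot_or_eq_top_of_normal _ inferInstance).resolve_left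
    ((nontrivial_iff_ne_bot _).1 (IsPGroup.center_nontrivial (p := 3) fun y => ⟨1, p3 y⟩))
  obtain ⟨y, y1⟩ := exists_ne (1 : P)
  have c2 : zpowers y = ⊤ := (IsSimpleGroup.eq_bot_or_eq_top_of_normal _
    ⟨fun a h b => by rwa [mem_center_iff.1 (c1.ge (mem_top a)) b, mul_inv_cancel_right]⟩).resolve_left (zpowers_ne_bot' y1)
  obtain ⟨x, rfl⟩ := hs y
  have x3 : ((x : G) ^ 4) ^ 3 = 1 := by
    rw [show ((x : G) ^ 4) ^ 3 = (x ^ 3 * x ^ 3) ^ 2 by group, h.sq _ (e3 x), one_pow]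
  have k : K ≤ U ⊔ zpowers ((x : G) ^ 4) := fun a ha => by
    obtain ⟨j, e⟩ := c2.ge (mem_top (τ ⟨a, ha⟩))
    rw [← inv_mul_cancel_right a ((x ^ 4) ^ j)]
    refine mul_mem_sup ((ker (⟨a, ha⟩ * ((x ^ 4) ^ j)⁻¹)).1 ?_) ⟨j, rfl⟩
    rw [map_mul, map_inv, map_zpow, map_pow, pow_succ, p3, one_mul, ← e, mul_inv_cancel]
  have n := (zpowers_le.2 (pow_mem x.2 4)).trans h.kU
  have b : U ⊓ Cx((x : G) ^ 4) = ⊥ := by
    refine le_bot_iff.1 ((inf_le_inf (h.uK.trans (commutator_le_of_le_sup_Cz (le_Cz_of_sq h.sq) n k))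
      ?_).trans (CfH8.commutator_inf_centralizer_eq_bot ⟨⟨fun a b => Subtype.ext
        (comm_of_sq h.sq a.2 b.2)⟩⟩ n ?_).le)
    · rw [Cz_zpowers]
    · obtain ⟨j, e⟩ := IsPGroup.iff_card.1 h.pU
      rw [e, Nat.card_zpowers]
      exact (Nat.Coprime.pow_right j (by norm_num : Nat.Coprime 3 2)).coprime_dvd_left
        (orderOf_dvd_of_pow_eq_one x3)
  refine ⟨?_, _, pow_mem x.2 4, k, b⟩
  rw [c, le_bot_iff.1 ((inf_le_inf_left U ?_).trans b.le), card_bot]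
  exact fun a ha => mem_Cx.2 (ha _ (pow_mem x.2 4)).symm

theorem a3_cj (g : G) (a : Nat.card U = 4 ∧ ∃ x ∈ K, K ≤ U ⊔ zpowers x ∧ U ⊓ Cx(x) = ⊥) :
    Nat.card (cj g U) = 4 ∧ ∃ x ∈ cj g K, cj g K ≤ cj g U ⊔ zpowers x ∧ cj g U ⊓ Cx(x) = ⊥ := by
  obtain ⟨a, x, b, c, d⟩ := a
  refine ⟨by rw [card_cj, a], _, conj_mem_cj g b, ?_, ?_⟩
  · rw [← cj_zpowers, ← cj_sup]
    exact cj_mono g c
  · rw [← cj_Cx, ← cj_inf, d, cj_bot]

theorem st_sect (hG : Ch2 G) (h : St T K U Q) (hN : ¬ Nm(T) ≤ Nm(K)) (b : GB 2 T H K)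
    (g : Good P) (hs : Function.Surjective τ) (ker : ∀ x : K, τ x = 1 ↔ (x : G) ∈ U)
    (hV : bV 2 K = U) : SectionalPRankLE 2 4 G := by
  obtain ⟨x, hx, hn⟩ := h.ex_conj hN
  have pr : Pr T K U Q (cj x K) (cj x U) (cj x Q) := ⟨h, h.conj hx, hn⟩
  have a3 := fun e3 c => caseA3 pr (a3_data h g hs ker e3 c) (a3_cj x (a3_data h g hs ker e3 c))
  by_cases l : Ln 2 K
  · obtain ⟨F, _, _, ⟨n, hF⟩, ⟨D⟩, -⟩ := l
    have k := b.bk.ρ_eq_one D (sl_faith _)
    rw [← h.uo] at k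
    have c := D.card_U
    rw [bV0, hV] at c
    by_cases s : SF F
    · refine a3 (fun y => (k (y ^ 3)).1 (by rw [map_pow]; exact s.pow_eq hF (D.mem_R y))) ?_
      rw [c, AddSubgroup.card_top, Nat.card_fun, Nat.card_eq_fintype_card, (s.card_eq hF).1]
      simp
    · haveI := charP_of_card_eq_prime_pow hF
      rw [bV0, hV, comm_top_of_not_sf s] at D
      exact caseLin hG (by rw [Nat.card_eq_fintype_card]; exact not_le.1 fun e => s (sf_of_card e))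
        h hx hn D
  · obtain ⟨-, m, m0, ⟨D⟩, -⟩ := (blk_kind b.blk).resolve_left l
    have k := b.bk.ρ_eq_one D fun r _ => perm_faith r
    rw [← h.uo] at k
    have e0 := b.sp.resolve_right l
    obtain _ | _ | _ | m := m
    · exact absurd rfl m0
    · refine a3 (fun y => (k (y ^ 3)).1 (by rw [map_pow]; exact alt3_pow (D.mem_R y))) ?_
      have c := D.card_U
      have := card_evn (0 + 1)
      rw [bV0, hV] at c
      rw [c, show Nat.card (evn (2 * (0 + 1) + 1)) = 4 by omega]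
    · rw [e0, hV] at D
      have D' := D.map (f := (MulAut.conj x).toMonoidHom) (MulAut.conj x).injective
      rw [Subgroup.map_bot] at D'
      exact (caseA5 hG pr D D').elim
    · obtain ⟨s, s0, s1, s2⟩ := ex4 (m := m + 3) (by omega)
      obtain ⟨y, rfl⟩ := D.range.ge s0
      refine (s2 ?_).elim
      rw [← map_pow] at s1 ⊢
      rw [k, ← ker, map_pow] at s1 ⊢
      exact g.e4 _ s1

theorem main (hG : Ch2 G) (hK : pResidualOf 2 H = K) (hT : SylIn 2 T H)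
    (g : Good P) (hs : Function.Surjective τ) (ker : ∀ x : K, τ x = 1 ↔ (x : G) ∈ pCoreOf 2 K)
    (syl : ∀ S : Subgroup G, IsPGroup 2 S → pCoreOf 2 H ≤ S → S ≤ Nm(K) → ⁅S, K⁆ ≤ pCoreOf 2 K →
      S ≤ pCoreOf 2 H)
    (huniq : maxTwoLocalsContaining H = {Nm(K)}) (hN : ¬ Nm(T) ≤ Nm(K)) :
    SectionalPRankLE 2 4 G := by
  have kH : K ≤ H := hK ▸ pResidualOf_le H
  have nK : H ≤ Nm(K) := hK ▸ le_normalizer_pResidualOf H
  have uq : ∀ R : Subgroup G, IsPGroup 2 R → R ≠ ⊥ → H ≤ Nm(R) → Nm(R) ≤ Nm(K) := fun R a b c => by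
    obtain ⟨M, m1, m2, m3⟩ := exists_maximal_ge IsTwoLocal (A := Nm(R)) ⟨R, a, b, rfl⟩
    exact m2.trans (huniq.le ⟨⟨m1, m3⟩, c.trans m2⟩).le
  have qT : pCoreOf 2 H ≤ T :=
    hT.le_of_le_Nm (isPGroup_pCoreOf H) (pCoreOf_le H) (hT.le.trans (le_normalizer_pCoreOf H))
  have cm : ∀ {R : Subgroup G}, IsPGroup 2 R → R ≤ Nm(K) → K ≤ Nm(R) → ⁅R, K⁆ ≤ pCoreOf 2 K :=
    fun a b c => (le_inf (comm_le_left c) (comm_le_right b)).trans
      (le_pCoreOf inf_le_right (le_normalizer_inf c le_normalizer) a.to_inf_left)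
  obtain ⟨⟨⟨R, r1, r2, r3⟩, -⟩, -⟩ := huniq.ge rfl
  have c0 := hG R r1 r2
  rw [← r3] at c0
  have pq := isPGroup_sup (isPGroup_pCoreOf (p := 2) H) (isPGroup_pCoreOf Nm(K))
    ((pCoreOf_le H).trans (nK.trans (le_normalizer_pCoreOf _)))
  have nq := sup_le ((pCoreOf_le (p := 2) H).trans nK) (pCoreOf_le (p := 2) Nm(K))
  have oq : pCoreOf 2 Nm(K) ≤ pCoreOf 2 H := le_sup_right.trans (syl _ pq le_sup_left nq
    (cm pq nq (le_normalizer_sup (kH.trans (le_normalizer_pCoreOf H))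
      (le_normalizer.trans (le_normalizer_pCoreOf _)))))
  have hc : ChP 2 H := chP_iff.2 ((inf_le_inf nK (Cz_anti oq)).trans (c0.trans oq))
  have t1 : T ≠ ⊥ := ne_bot_of_le ((le_pCoreOf (r3 ▸ le_normalizer) r3.le r1).trans (oq.trans qT)) r2
  have b := ex_blk g hs ker hK hT hc t1 fun C a b c d =>
    hN (c.trans (uq C (hT.pgrp.to_le a) b d))
  have k := b.bk
  have e1 : pCoreOf 2 K = bW 2 K := k.exc.resolve_right fun e => absurd e.three (by norm_num)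
  have e2 : bV 2 K = pCoreOf 2 K := by rw [bV, ← e1, k.Qc]
  have e3 := map_mono (f := H.subtype) ((b.to_rel hT.le).bk.V_le hT.subgroupOf_top hc)
  rw [map_bV H.subtype_injective, map_subgroupOf_eq_of_le kH, e2,
    map_OZ_inj H.subtype_injective] at e3
  refine st_sect hG ⟨hT.pgrp, hT.le.trans nK, rfl, fun e => k.V_not_le (by rw [e2, e]; exact bot_le),
    fun u hu => ?_, e3.trans (OZ_le _), qT, kH.trans (le_normalizer_pCoreOf H),
    hT.le.trans (le_normalizer_pCoreOf H), (le_Cz_OZ _).trans (Cz_anti e3), e2 ▸ k.inf_Cz.le,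
    k.Qc.ge, syl, fun R a b c d => uq R a b ((sylIn_pResidualOf_sup hT).ge.trans
      (sup_le (hK.le.trans c) d)), hT.inf_normal' nK kH⟩ hN b g hs ker e2
  rw [← pow_two]
  exact (mem_OZ.1 (e1.le hu)).2

theorem odd_eq (H : Subgroup G) : pResidualOf 2 H = oddGenerated H := by
  simp only [pResidualOf_eq_closure, oddGenerated, Nat.coprime_two_right]

theorem ex_tau (e : K ⧸ pCore 2 K ≃* P) : ∃ τ : K →* P, Function.Surjective τ ∧
    ∀ x : K, τ x = 1 ↔ (x : G) ∈ pCoreOf 2 K :=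
  ⟨e.toMonoidHom.comp (QuotientGroup.mk' _), e.surjective.comp (QuotientGroup.mk'_surjective _),
    fun x => (map_eq_one_iff e e.injective).trans ((QuotientGroup.eq_one_iff x).trans
      (mem_map_iff_mem K.subtype_injective).symm)⟩

theorem s3090 (hG : IsCharacteristicTwoType G) (H : Subgroup G) (T : Sylow 2 H)
    (hstar : Nonempty (oddGenerated H ⧸ pCore 2 (oddGenerated H) ≃* Multiplicative (ZMod 3)) ∨
      ∃ n : ℕ, 1 ≤ n ∧ Nonempty (oddGenerated H ⧸ pCore 2 (oddGenerated H) ≃* SL(2, GaloisField 2 n)))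
    (hsyl : ∀ S : Subgroup G, IsPGroup 2 S → pCoreOf 2 H ≤ S → S ≤ Nm(oddGenerated H) →
      (∀ s ∈ S, ∀ k ∈ oddGenerated H, s * k * s⁻¹ * k⁻¹ ∈ pCoreOf 2 (oddGenerated H)) →
      S = pCoreOf 2 H)
    (huniq : maxTwoLocalsContaining H = {Nm(oddGenerated H)}) :
    Nm((T : Subgroup H).map H.subtype) ≤ Nm(oddGenerated H) ∨ SectionalPRankLE 2 4 G := by
  have hG' : Ch2 G := fun T h1 h2 => charP_iff_ambient.1 (hG.2 T h1 h2)
  have k := fun {P : Type} [Group P] (g : Good P) {τ : oddGenerated H →* P} a b =>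
    main hG' (odd_eq H) (sylIn_of_sylow T) g (τ := τ) a b
      (fun S a b c d => (hsyl S a b c fun s hs k hk => d (commutator_mem_commutator hs hk)).le) huniq
  refine or_iff_not_imp_left.2 (hstar.elim (fun ⟨e⟩ => ?_) fun ⟨n, hn, ⟨e⟩⟩ => ?_)
  · obtain ⟨τ, a, b⟩ := ex_tau e
    exact k good3 a b
  · obtain ⟨τ, a, b⟩ := ex_tau e
    haveI := Fintype.ofFinite (GaloisField 2 n)
    have c : Fintype.card (GaloisField 2 n) = 2 ^ n := by
      rw [← Nat.card_eq_fintype_card, GaloisField.card 2 n (by omega)]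
    refine k (good_sl c fun s => not_res2 (s.card_eq c).1 τ a ?_) a b
    rw [← odd_eq, pResidualOf_pResidualOf]

end CfLu
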