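import Cfsg.Agent.L.DH0
import Cfsg.Agent.H7.Blk15

/-! Rank one quotients: `C₃` and `L₂(2ⁿ)`. -/

set_option autoImplicit false

namespace CfLu

open Subgroup CfH9 CfH7 Cfsg CfLp Matrix
open scoped MatrixGroups

/-- the properties of the quotient `K/O₂(K)` that are used -/
structure Good (P : Type*) [Group P] : Prop where
  si : IsSimpleGroup P
  mx : ∀ S : Subgroup P, SylIn 2 S ⊤ → ∃ M, M ≠ ⊤ ∧ ∀ X, S ≤ X → X ≠ ⊤ → X ≤ M
  e4 : ∀ g : P, g ^ 4 = 1 → g ^ 2 = 1

theorem good3 : Good (Multiplicative (ZMod 3)) := by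
  haveI : Fact (Nat.Prime 3) := ⟨by norm_num⟩
  have s : IsSimpleGroup (Multiplicative (ZMod 3)) := isSimpleGroup_of_prime_card (p := 3) (by simp)
  exact ⟨s, fun S _ => ⟨⊥, bot_ne_top, fun X _ h =>
    ((s.eq_bot_or_eq_top_of_normal X inferInstance).resolve_right h).le⟩, by decide⟩

theorem good_sl {F : Type} [Field F] [Fintype F] {n : ℕ} (hF : Fintype.card F = 2 ^ n)
    (h : ¬ SF F) : Good SL(2, F) := by
  haveI := charP_of_card_eq_prime_pow hF
  have hc : center SL(2, F) = ⊥ := by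
    rw [eq_bot_iff]
    intro g hg
    obtain ⟨r, h1, h2⟩ := Matrix.SpecialLinearGroup.mem_center_iff.1 hg
    obtain rfl : r = 1 := by
      simpa [sq_eq_one_iff, CharTwo.neg_eq] using h1
    exact mem_bot.2 (Subtype.ext (by simpa using h2.symm))
  have := (qs_sl h).2
  have s : IsSimpleGroup SL(2, F) :=
    ((QuotientGroup.quotientMulEquivOfEq hc).trans QuotientGroup.quotientBot).symm.isSimpleGroup
  have k := sylIn_uH hF
  refine ⟨s, fun S hS => ?_, fun g hg => ?_⟩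
  · obtain ⟨g, -, rfl⟩ := k.conj hS
    refine ⟨cj g Nm((uH F).range), fun e => ?_, fun X h1 h2 => le_cj_iff.2 fun x hx => ?_⟩
    · have : ll 1 ∈ Nm((uH F).range) := le_cj_iff.1 e.ge (by rw [CfH9.cj_top]; trivial)
      simpa [ll_coe] using mem_Nm_uH.1 this
    replace h1 := cj_le_iff.1 h1
    refine mem_Nm_uH.2 (by_contra fun e => h2 ?_)
    rw [← cj_cj_inv g X, sl_eq_top (K := cj g⁻¹ X) (fun t => h1 ⟨t, rfl⟩) fun t => ?_, CfH9.cj_top]
    have m : ∀ t, uu t ∈ cj g⁻¹ X := fun t => h1 ⟨t, rfl⟩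
    convert mul_mem (mul_mem (m (-x 0 0 / x 1 0)) (mul_mem (mul_mem hx (m (-t / x 1 0 ^ 2)))
      (inv_mem hx))) (m (x 0 0 / x 1 0)) using 1
    have d := x.2
    rw [det_fin_two] at d
    ext i j
    fin_cases i <;> fin_cases j <;> simp [ll_coe, uu_coe, SpecialLinearGroup.coe_inv,
      adjugate_fin_two, Matrix.mul_apply, Fin.sum_univ_two, vecMul, dotProduct] <;> field_simp <;> grind
  · obtain ⟨x, -, t, e⟩ := k.exists_conj_mem (mem_top g) (k := 2) hg
    have : (x * g * x⁻¹) ^ 2 = 1 := by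
      rw [← e, pow_two, ← map_mul]
      exact (congrArg uu (CharTwo.add_self_eq_zero _)).trans uu_zero
    rwa [conj_pow, conj_eq_one_iff] at this

theorem not_res2 {G : Type*} [Group G] [Finite G] {K : Subgroup G} {F : Type} [Field F] [Fintype F]
    (hF : Fintype.card F = 2) (τ : K →* SL(2, F)) (hs : Function.Surjective τ) :
    pResidualOf 2 K ≠ K := fun hK => by
  let e := slEquiv (ZMod.ringEquivOfPrime F Nat.prime_two hF)
  let N : Subgroup SL(2, ZMod 2) :=
    { carrier := {g | g ^ 3 = 1}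
      one_mem' := one_pow _
      mul_mem' := fun {a b} => (by decide +kernel :
        ∀ a b : SL(2, ZMod 2), a ^ 3 = 1 → b ^ 3 = 1 → (a * b) ^ 3 = 1) a b
      inv_mem' := fun {a} (h : a ^ 3 = 1) => show a⁻¹ ^ 3 = 1 by rw [inv_pow, h, inv_one] }
  let σ := e.symm.toMonoidHom.comp τ
  have k : K ≤ prim σ N := hK.ge.trans (pResidualOf_le_iff.2 fun g hg h =>
    (mem_prim (x := ⟨g, hg⟩)).2 (((by decide +kernel : ∀ a : SL(2, ZMod 2), a ^ 3 = 1 ∨ a ^ 2 = 1)
      _).elim id fun h2 => by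
        have : σ ⟨g, hg⟩ ^ orderOf g = 1 := by
          rw [← map_pow, ← map_one σ]; exact congrArg σ (Subtype.ext (pow_orderOf_eq_one g))
        rw [← pow_one (σ _), ← h.gcd_eq_one, pow_gcd_eq_one.2 ⟨this, h2⟩]
        exact one_mem N))
  obtain ⟨x, hx⟩ := (e.symm.surjective.comp hs) (uu 1)
  have : σ x ^ 3 = 1 := mem_prim.1 (k x.2)
  rw [show σ x = uu 1 from hx] at this
  revert this
  decide +kernel

theorem ex4 {m : ℕ} (hm : 3 ≤ m) :
    ∃ s ∈ alternatingGroup (Fin (2 * m + 1)), s ^ 4 = 1 ∧ s ^ 2 ≠ 1 := by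
  let f := Equiv.Perm.extendDomainHom (Fin.castLEEmb (show 6 ≤ 2 * m + 1 by omega)).toEquivRange
  let s : Equiv.Perm (Fin 6) := Equiv.swap 0 1 * Equiv.swap 1 2 * Equiv.swap 2 3 * Equiv.swap 4 5
  refine ⟨f s, (Equiv.Perm.sign_extendDomain _ _).trans (by decide), ?_, fun e => ?_⟩
  · rw [← map_pow, show s ^ 4 = 1 by decide, map_one]
  · rw [← map_pow, ← map_one f] at e
    exact absurd (Equiv.Perm.extendDomainHom_injective _ e) (by decide)

end CfLu
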