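import Cfsg.Agent.L.Ico4
/-! Data for the icosian reflection group. -/
set_option autoImplicit false
set_option maxRecDepth 100000
namespace CfL.Ico
open Ic
def gl : List V := [⟨mk8 2 (-2) 1 0 (-1) 1 1 (-1), mk8 (-2) 2 (-1) 0 1 (-1) (-1) 1, mk8 0 0 0 0 0 0 0 0⟩,
  ⟨mk8 0 0 0 0 0 0 0 0, mk8 2 (-2) 1 0 (-1) 1 1 (-1), mk8 (-2) 2 (-1) 0 1 (-1) (-1) 1⟩,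
  ⟨mk8 1 0 1 0 0 0 0 0, mk8 1 0 1 0 0 0 0 0, mk8 0 0 0 0 0 0 0 0⟩,
  ⟨mk8 (-1) 1 0 0 0 0 (-1) 1, mk8 (-1) 0 1 0 0 1 (-1) 0, mk8 0 0 2 (-1) (-1) 1 0 0⟩,
  ⟨mk8 0 0 (-1) 0 0 0 0 0, mk8 0 0 (-1) 0 0 0 0 0, mk8 3 (-2) (-1) 0 (-1) 1 3 (-1)⟩]
def g0 : V := ⟨mk8 2 (-2) 1 0 (-1) 1 1 (-1), mk8 (-2) 2 (-1) 0 1 (-1) (-1) 1, mk8 0 0 0 0 0 0 0 0⟩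
def gg (i : ℕ) : V := gl.getD i g0
def U : List Ic := [mk8 1 0 0 0 0 0 0 0,
  mk8 0 0 1 0 0 0 0 0,
  mk8 0 0 0 0 1 0 0 0,
  mk8 (-1) 0 0 0 0 0 0 0,
  mk8 0 0 0 0 0 0 1 0,
  mk8 (-1) 1 1 0 0 0 (-1) 0,
  mk8 (-1) 0 0 0 1 0 0 0,
  mk8 0 0 (-1) 0 0 0 0 0,
  mk8 0 0 0 0 (-1) 0 0 0,
  mk8 (-1) 0 (-1) 1 1 0 0 0,
  mk8 0 0 (-1) 0 0 0 1 0,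
  mk8 0 0 1 0 (-1) 1 0 0,
  mk8 (-1) 1 0 0 0 0 (-1) 0,
  mk8 0 0 0 0 0 0 (-1) 0,
  mk8 1 (-1) (-1) 0 0 0 1 0,
  mk8 1 0 0 0 (-1) 0 0 0,
  mk8 (-1) 0 0 0 0 0 (-1) 1,
  mk8 0 0 (-1) 1 1 0 0 0,
  mk8 1 (-1) (-1) 1 0 0 1 (-1),
  mk8 1 (-1) 0 0 (-1) 1 1 0,
  mk8 0 0 1 0 (-1) 1 (-1) 0,
  mk8 1 0 1 (-1) (-1) 0 0 0,
  mk8 0 0 1 0 0 0 (-1) 0,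
  mk8 0 0 (-1) 0 1 (-1) 0 0,
  mk8 1 (-1) 0 0 0 0 1 0,
  mk8 1 (-1) 1 (-1) (-1) 1 0 0,
  mk8 0 0 1 (-1) (-1) 0 (-1) 1,
  mk8 (-1) 0 0 0 1 0 (-1) 1,
  mk8 0 0 (-1) 1 1 (-1) 0 0,
  mk8 1 (-1) (-1) 1 1 0 1 (-1),
  mk8 2 (-1) 0 0 (-1) 0 1 (-1),
  mk8 1 (-1) 1 0 (-1) 1 0 0,
  mk8 1 0 0 0 0 0 1 (-1),
  mk8 0 0 1 (-1) (-1) 0 0 0,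
  mk8 (-1) 1 1 (-1) 0 0 (-1) 1,
  mk8 (-1) 1 0 0 1 (-1) (-1) 0,
  mk8 0 0 (-1) 0 1 (-1) 1 0,
  mk8 1 (-1) 0 0 0 0 1 (-1),
  mk8 1 (-1) 1 (-1) (-1) 1 1 0,
  mk8 0 0 2 (-1) (-1) 1 (-1) 0,
  mk8 (-1) 0 1 (-1) 0 0 (-1) 1,
  mk8 (-1) 1 0 0 1 (-1) (-1) 1,
  mk8 (-1) 0 (-1) 1 2 (-1) 0 0,
  mk8 1 0 (-1) 1 1 (-1) 1 (-1),
  mk8 (-1) 1 (-1) 1 1 (-1) 0 0,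
  mk8 0 0 (-1) 1 1 0 1 (-1),
  mk8 1 0 0 0 (-1) 0 1 (-1),
  mk8 0 0 1 (-1) (-1) 1 0 0,
  mk8 (-1) 1 1 (-1) (-1) 0 (-1) 1,
  mk8 (-2) 1 0 0 1 0 (-1) 1,
  mk8 (-1) 1 (-1) 0 1 (-1) 0 0,
  mk8 0 0 (-1) 1 1 (-1) 1 (-1),
  mk8 1 (-1) (-1) 0 0 0 2 (-1),
  mk8 1 (-1) 1 0 (-1) 1 1 (-1),
  mk8 (-1) 0 2 (-1) (-1) 1 (-1) 1,
  mk8 (-2) 1 1 (-1) 0 0 (-2) 1,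
  mk8 (-2) 1 0 0 1 (-1) (-1) 1,
  mk8 (-1) 1 (-1) 1 2 (-1) 0 0,
  mk8 (-1) 1 0 0 0 0 (-1) 1,
  mk8 (-1) 1 (-1) 1 1 (-1) (-1) 0,
  mk8 0 0 (-2) 1 1 (-1) 1 0,
  mk8 1 0 (-1) 1 0 0 1 (-1),
  mk8 1 (-1) 0 0 (-1) 1 1 (-1),
  mk8 1 0 1 (-1) (-2) 1 0 0,
  mk8 (-1) 0 1 (-1) (-1) 1 (-1) 1,
  mk8 (-2) 1 (-1) 0 1 (-1) (-1) 1,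
  mk8 (-1) 1 (-2) 1 2 (-1) 0 0,
  mk8 0 0 (-2) 1 1 (-1) 1 (-1),
  mk8 1 (-1) (-1) 1 0 0 2 (-1),
  mk8 1 (-1) 1 (-1) (-2) 1 1 0,
  mk8 0 0 2 (-1) (-2) 1 (-1) 0,
  mk8 (-2) 1 1 0 0 0 (-2) 1,
  mk8 0 0 1 (-1) (-1) 1 (-1) 1,
  mk8 (-1) 1 1 0 0 0 (-2) 1,
  mk8 (-1) 1 (-1) 0 1 (-1) (-1) 1,
  mk8 1 0 (-2) 1 1 (-1) 1 (-1),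
  mk8 2 (-1) (-1) 1 0 0 2 (-1),
  mk8 2 (-1) 0 0 (-1) 1 1 (-1),
  mk8 1 (-1) 1 (-1) (-2) 1 0 0,
  mk8 (-1) 1 1 (-1) (-1) 0 (-2) 1,
  mk8 (-2) 1 0 0 1 0 (-2) 1,
  mk8 (-1) 0 (-2) 1 2 (-1) 0 0,
  mk8 1 (-1) (-2) 1 1 0 2 (-1),
  mk8 2 (-1) (-1) 0 (-1) 0 2 (-1),
  mk8 2 (-1) 1 0 (-2) 1 1 (-1),
  mk8 0 0 2 (-1) (-2) 1 (-1) 1,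
  mk8 2 (-1) 1 0 (-1) 1 1 (-1),
  mk8 1 (-1) 2 (-1) (-2) 1 0 0,
  mk8 0 0 2 (-1) (-1) 1 (-1) 1,
  mk8 (-1) 1 1 (-1) 0 0 (-2) 1,
  mk8 (-1) 1 (-1) 1 2 (-1) (-1) 0,
  mk8 0 0 (-2) 1 2 (-1) 1 0,
  mk8 2 (-1) (-1) 0 0 0 2 (-1),
  mk8 2 (-1) 1 (-1) (-2) 1 1 0,
  mk8 1 0 2 (-1) (-2) 1 (-1) 0,
  mk8 (-1) 0 2 (-1) (-1) 1 (-2) 1,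
  mk8 (-2) 1 0 0 1 (-1) (-2) 1,
  mk8 1 (-1) (-2) 1 1 (-1) 2 (-1),
  mk8 2 (-2) 0 0 (-1) 1 2 (-1),
  mk8 1 (-1) (-1) 1 1 0 2 (-1),
  mk8 2 (-1) 0 0 (-1) 0 2 (-1),
  mk8 1 0 2 (-1) (-2) 1 0 0,
  mk8 (-1) 1 2 (-1) (-1) 0 (-2) 1,
  mk8 (-2) 1 1 0 1 0 (-2) 1,
  mk8 (-2) 1 (-1) 0 2 (-1) (-1) 1,
  mk8 0 0 (-2) 1 2 (-1) 1 (-1),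
  mk8 2 (-1) 1 (-1) (-2) 1 1 (-1),
  mk8 0 0 2 (-2) (-2) 1 (-1) 1,
  mk8 (-1) 1 (-2) 1 2 (-2) 0 0,
  mk8 (-2) 1 (-1) 1 2 (-1) (-1) 0,
  mk8 (-1) 0 (-2) 1 2 (-1) 1 0,
  mk8 1 0 (-2) 1 1 (-1) 2 (-1),
  mk8 2 (-1) 0 0 (-1) 1 2 (-1),
  mk8 (-1) 1 2 (-1) (-1) 1 (-2) 1,
  mk8 (-2) 2 0 0 1 (-1) (-2) 1,
  mk8 2 (-1) (-1) 1 0 0 2 (-2),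
  mk8 (-2) 1 1 (-1) 0 0 (-2) 2,
  mk8 (-2) 1 (-1) 1 2 (-1) (-1) 1,
  mk8 0 0 (-2) 2 2 (-1) 1 (-1),
  mk8 1 (-1) 2 (-1) (-2) 2 0 0]
def LA : List (V × List ℕ × ℕ × Ic) := [(⟨mk8 2 0 0 0 0 0 0 0, mk8 0 0 0 0 0 0 0 0, mk8 0 0 0 0 0 0 0 0⟩, [0, 1, 4], 2, mk8 (-1) 1 2 (-1) (-1) 0 (-2) 1)]
def LB : List (V × List ℕ × ℕ × Ic) := [(⟨mk8 2 (-2) 1 0 (-1) 1 1 (-1), mk8 2 (-2) 1 0 (-1) 1 1 (-1), mk8 0 0 0 0 0 0 0 0⟩, [], 2, mk8 1 (-1) 1 0 (-1) 1 0 0),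
  (⟨mk8 2 (-2) 1 0 (-1) 1 1 (-1), mk8 (-2) 2 (-1) 0 1 (-1) (-1) 1, mk8 0 0 0 0 0 0 0 0⟩, [], 0, mk8 1 0 0 0 0 0 0 0),
  (⟨mk8 2 (-2) 1 0 (-1) 1 1 (-1), mk8 0 0 3 (-2) (-3) 1 (-1) 1, mk8 0 0 0 0 0 0 0 0⟩, [4, 3, 2, 0, 3], 1, mk8 0 0 (-1) 1 1 0 0 0),
  (⟨mk8 2 (-2) 1 0 (-1) 1 1 (-1), mk8 0 0 (-3) 2 3 (-1) 1 (-1), mk8 0 0 0 0 0 0 0 0⟩, [4, 1, 2, 0, 3], 0, mk8 0 0 (-1) 0 0 0 1 0),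
  (⟨mk8 2 (-2) 1 0 (-1) 1 1 (-1), mk8 0 0 1 0 (-1) 1 (-1) 1, mk8 0 0 0 0 0 0 0 0⟩, [3, 0, 1, 4, 2, 3], 0, mk8 (-2) 1 1 0 0 0 (-2) 1),
  (⟨mk8 2 (-2) 1 0 (-1) 1 1 (-1), mk8 2 (-2) (-1) 0 (-1) 1 3 (-1), mk8 0 0 0 0 0 0 0 0⟩, [4, 0, 3, 2, 4, 3], 0, mk8 0 0 1 0 (-1) 1 0 0),
  (⟨mk8 2 (-2) 1 0 (-1) 1 1 (-1), mk8 0 0 (-1) 0 1 (-1) 1 (-1), mk8 0 0 0 0 0 0 0 0⟩, [0, 3, 0, 1, 4, 2, 3], 0, mk8 0 0 0 0 0 0 (-1) 0),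
  (⟨mk8 2 (-2) 1 0 (-1) 1 1 (-1), mk8 (-2) 2 1 0 1 (-1) (-3) 1, mk8 0 0 0 0 0 0 0 0⟩, [4, 3, 2, 4, 3], 0, mk8 2 (-1) 0 0 (-1) 1 1 (-1))]
def LC : List (V × List ℕ × ℕ × Ic) := [(⟨mk8 (-3) 1 (-1) 1 3 (-1) (-1) 1, mk8 1 0 0 0 0 0 0 0, mk8 (-1) 1 (-2) 1 2 (-2) 0 0⟩, [4, 0, 3, 2], 1, mk8 (-1) 1 (-1) 0 1 (-1) 0 0),
  (⟨mk8 (-3) 1 (-1) 1 3 (-1) (-1) 1, mk8 1 0 0 0 0 0 0 0, mk8 1 (-1) 2 (-1) (-2) 2 0 0⟩, [2, 4, 3, 2], 1, mk8 1 (-1) 1 0 (-1) 1 0 0),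
  (⟨mk8 (-3) 2 1 0 1 (-1) (-3) 1, mk8 1 0 0 0 0 0 0 0, mk8 1 0 0 0 0 0 0 0⟩, [0, 3, 4, 1, 3], 2, mk8 2 (-1) 1 0 (-1) 1 1 (-1)),
  (⟨mk8 (-3) 2 1 0 1 (-1) (-3) 1, mk8 1 0 0 0 0 0 0 0, mk8 (-1) 0 0 0 0 0 0 0⟩, [2, 3, 4, 1, 3], 2, mk8 (-2) 1 (-1) 0 1 (-1) (-1) 1),
  (⟨mk8 (-2) 1 (-2) 1 3 (-1) (-1) 1, mk8 1 0 0 0 0 0 0 0, mk8 2 (-1) (-1) 1 0 0 2 (-2)⟩, [3, 2, 1, 4, 2, 3], 1, mk8 (-1) 0 0 0 1 0 (-1) 1),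
  (⟨mk8 (-2) 1 (-2) 1 3 (-1) (-1) 1, mk8 1 0 0 0 0 0 0 0, mk8 (-2) 1 1 (-1) 0 0 (-2) 2⟩, [3, 0, 3, 4, 1, 3], 2, mk8 1 (-1) 1 (-1) (-1) 1 1 0),
  (⟨mk8 (-2) 1 0 (-1) 1 (-1) (-1) 1, mk8 1 0 0 0 0 0 0 0, mk8 2 (-1) (-1) 1 0 0 2 (-2)⟩, [2, 3, 0, 1, 2, 4, 3], 0, mk8 0 0 1 (-1) (-1) 1 (-1) 1),
  (⟨mk8 (-2) 1 0 (-1) 1 (-1) (-1) 1, mk8 1 0 0 0 0 0 0 0, mk8 (-2) 1 1 (-1) 0 0 (-2) 2⟩, [0, 3, 0, 1, 2, 4, 3], 0, mk8 0 0 (-1) 1 1 (-1) 1 (-1)),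
  (⟨mk8 (-2) 1 2 (-1) (-1) 1 (-3) 1, mk8 1 0 0 0 0 0 0 0, mk8 2 (-1) (-1) 1 0 0 2 (-2)⟩, [4, 2, 3, 4], 1, mk8 1 (-1) (-1) 0 0 0 1 0),
  (⟨mk8 (-2) 1 2 (-1) (-1) 1 (-3) 1, mk8 1 0 0 0 0 0 0 0, mk8 (-2) 1 1 (-1) 0 0 (-2) 2⟩, [1, 4], 3, mk8 1 (-1) (-1) 1 0 0 1 (-1)),
  (⟨mk8 (-2) 2 0 0 1 (-1) (-3) 1, mk8 1 0 0 0 0 0 0 0, mk8 0 0 1 0 0 0 0 0⟩, [1, 2, 3, 4, 2, 3], 1, mk8 2 (-1) 0 0 (-1) 0 2 (-1)),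
  (⟨mk8 (-2) 2 0 0 1 (-1) (-3) 1, mk8 1 0 0 0 0 0 0 0, mk8 0 0 (-1) 0 0 0 0 0⟩, [3, 0, 3, 2, 1, 4], 3, mk8 (-1) 1 1 0 0 0 (-1) 0),
  (⟨mk8 (-2) 2 0 0 1 (-1) (-1) 1, mk8 1 0 0 0 0 0 0 0, mk8 0 0 1 0 0 0 0 0⟩, [4, 2, 3], 1, mk8 0 0 0 0 0 0 (-1) 0),
  (⟨mk8 (-2) 2 0 0 1 (-1) (-1) 1, mk8 1 0 0 0 0 0 0 0, mk8 0 0 (-1) 0 0 0 0 0⟩, [4, 3], 1, mk8 0 0 0 0 0 0 (-1) 0),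
  (⟨mk8 (-1) 0 (-3) 2 3 (-1) 1 (-1), mk8 1 0 0 0 0 0 0 0, mk8 1 0 0 0 0 0 0 0⟩, [0, 1, 2], 4, mk8 0 0 (-1) 0 0 0 0 0),
  (⟨mk8 (-1) 0 (-3) 2 3 (-1) 1 (-1), mk8 1 0 0 0 0 0 0 0, mk8 (-1) 0 0 0 0 0 0 0⟩, [1, 2, 4], 1, mk8 0 0 2 (-1) (-1) 1 (-1) 0),
  (⟨mk8 (-1) 0 (-1) 0 1 (-1) (-1) 1, mk8 1 0 0 0 0 0 0 0, mk8 1 0 0 0 0 0 0 0⟩, [0, 1, 3, 1], 0, mk8 (-2) 1 (-1) 0 1 (-1) (-1) 1),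
  (⟨mk8 (-1) 0 (-1) 0 1 (-1) (-1) 1, mk8 1 0 0 0 0 0 0 0, mk8 (-1) 0 0 0 0 0 0 0⟩, [3, 2, 1], 0, mk8 (-1) 0 0 0 0 0 0 0),
  (⟨mk8 (-1) 0 1 0 (-1) 1 (-1) 1, mk8 1 0 0 0 0 0 0 0, mk8 1 0 0 0 0 0 0 0⟩, [0, 3, 2, 1, 4], 3, mk8 (-1) 0 2 (-1) (-1) 1 (-1) 1),
  (⟨mk8 (-1) 0 1 0 (-1) 1 (-1) 1, mk8 1 0 0 0 0 0 0 0, mk8 (-1) 0 0 0 0 0 0 0⟩, [3, 2, 4, 3], 1, mk8 0 0 (-1) 1 1 (-1) 0 0),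
  (⟨mk8 (-1) 1 (-1) 1 1 (-1) (-1) 1, mk8 1 0 0 0 0 0 0 0, mk8 (-1) 1 (-2) 1 2 (-2) 0 0⟩, [3, 0, 1, 2], 4, mk8 0 0 1 0 (-1) 1 (-1) 0),
  (⟨mk8 (-1) 1 (-1) 1 1 (-1) (-1) 1, mk8 1 0 0 0 0 0 0 0, mk8 1 (-1) 2 (-1) (-2) 2 0 0⟩, [3, 0, 1, 4, 3], 2, mk8 0 0 2 (-1) (-2) 1 (-1) 0),
  (⟨mk8 (-1) 1 1 (-1) (-1) 1 (-1) 1, mk8 1 0 0 0 0 0 0 0, mk8 (-1) 1 (-2) 1 2 (-2) 0 0⟩, [1, 2, 4, 3, 2], 1, mk8 0 0 (-2) 1 2 (-1) 1 0),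
  (⟨mk8 (-1) 1 1 (-1) (-1) 1 (-1) 1, mk8 1 0 0 0 0 0 0 0, mk8 1 (-1) 2 (-1) (-2) 2 0 0⟩, [0, 3, 1, 2, 4], 1, mk8 1 0 (-1) 1 0 0 1 (-1)),
  (⟨mk8 (-1) 1 3 (-1) (-1) 1 (-3) 1, mk8 1 0 0 0 0 0 0 0, mk8 (-1) 1 (-2) 1 2 (-2) 0 0⟩, [2, 3, 4, 0], 3, mk8 (-1) 0 (-1) 1 2 (-1) 0 0),
  (⟨mk8 (-1) 1 3 (-1) (-1) 1 (-3) 1, mk8 1 0 0 0 0 0 0 0, mk8 1 (-1) 2 (-1) (-2) 2 0 0⟩, [4, 3, 2], 4, mk8 0 0 1 (-1) (-1) 1 0 0),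
  (⟨mk8 0 (-1) 2 (-1) (-1) 1 (-1) 1, mk8 1 0 0 0 0 0 0 0, mk8 2 (-1) (-1) 1 0 0 2 (-2)⟩, [4], 3, mk8 1 (-1) 1 (-1) (-2) 1 1 0),
  (⟨mk8 0 (-1) 2 (-1) (-1) 1 (-1) 1, mk8 1 0 0 0 0 0 0 0, mk8 (-2) 1 1 (-1) 0 0 (-2) 2⟩, [4, 3], 2, mk8 0 0 1 0 (-1) 1 0 0),
  (⟨mk8 0 0 (-2) 2 1 (-1) 1 (-1), mk8 1 0 0 0 0 0 0 0, mk8 0 0 1 0 0 0 0 0⟩, [3, 4], 1, mk8 (-1) 0 0 0 1 0 (-1) 1),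
  (⟨mk8 0 0 (-2) 2 1 (-1) 1 (-1), mk8 1 0 0 0 0 0 0 0, mk8 0 0 (-1) 0 0 0 0 0⟩, [2, 0, 3, 4], 1, mk8 1 0 0 0 (-1) 0 1 (-1)),
  (⟨mk8 0 0 (-2) 2 3 (-1) 1 (-1), mk8 1 0 0 0 0 0 0 0, mk8 0 0 1 0 0 0 0 0⟩, [4, 3, 0, 1, 2, 4], 1, mk8 0 0 (-2) 2 2 (-1) 1 (-1)),
  (⟨mk8 0 0 (-2) 2 3 (-1) 1 (-1), mk8 1 0 0 0 0 0 0 0, mk8 0 0 (-1) 0 0 0 0 0⟩, [1, 2, 3, 4, 2, 3], 0, mk8 0 0 (-2) 1 2 (-1) 1 0),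
  (⟨mk8 0 0 2 (-2) (-3) 1 (-1) 1, mk8 1 0 0 0 0 0 0 0, mk8 0 0 1 0 0 0 0 0⟩, [0, 3, 4, 2, 3], 1, mk8 0 0 2 (-1) (-2) 1 (-1) 0),
  (⟨mk8 0 0 2 (-2) (-3) 1 (-1) 1, mk8 1 0 0 0 0 0 0 0, mk8 0 0 (-1) 0 0 0 0 0⟩, [2, 3, 4, 2, 3], 1, mk8 0 0 (-2) 1 2 (-1) 1 0),
  (⟨mk8 0 0 2 (-2) (-1) 1 (-1) 1, mk8 1 0 0 0 0 0 0 0, mk8 0 0 1 0 0 0 0 0⟩, [1, 3, 1, 4, 2, 3], 0, mk8 (-1) 0 (-2) 1 2 (-1) 0 0),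
  (⟨mk8 0 0 2 (-2) (-1) 1 (-1) 1, mk8 1 0 0 0 0 0 0 0, mk8 0 0 (-1) 0 0 0 0 0⟩, [1, 4, 2, 3], 1, mk8 0 0 0 0 (-1) 0 0 0),
  (⟨mk8 0 1 (-2) 1 1 (-1) 1 (-1), mk8 1 0 0 0 0 0 0 0, mk8 2 (-1) (-1) 1 0 0 2 (-2)⟩, [1, 4, 3, 2, 4], 1, mk8 1 (-1) (-1) 0 0 0 1 0),
  (⟨mk8 0 1 (-2) 1 1 (-1) 1 (-1), mk8 1 0 0 0 0 0 0 0, mk8 (-2) 1 1 (-1) 0 0 (-2) 2⟩, [3, 4, 0, 3, 2], 1, mk8 (-1) 0 0 0 0 0 0 0),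
  (⟨mk8 1 (-1) (-3) 1 1 (-1) 3 (-1), mk8 1 0 0 0 0 0 0 0, mk8 (-1) 1 (-2) 1 2 (-2) 0 0⟩, [1, 3, 0, 1, 4, 3], 2, mk8 1 (-1) 1 0 (-1) 1 0 0),
  (⟨mk8 1 (-1) (-3) 1 1 (-1) 3 (-1), mk8 1 0 0 0 0 0 0 0, mk8 1 (-1) 2 (-1) (-2) 2 0 0⟩, [0, 1, 4, 2, 1, 0], 3, mk8 (-1) 0 1 (-1) 0 0 (-1) 1),
  (⟨mk8 1 (-1) (-1) 1 1 (-1) 1 (-1), mk8 1 0 0 0 0 0 0 0, mk8 (-1) 1 (-2) 1 2 (-2) 0 0⟩, [0, 1, 3, 2, 4], 1, mk8 0 0 0 0 0 0 1 0),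
  (⟨mk8 1 (-1) (-1) 1 1 (-1) 1 (-1), mk8 1 0 0 0 0 0 0 0, mk8 1 (-1) 2 (-1) (-2) 2 0 0⟩, [1, 4, 0, 3, 2], 1, mk8 0 0 (-2) 1 2 (-1) 1 0),
  (⟨mk8 1 (-1) 1 (-1) (-1) 1 1 (-1), mk8 1 0 0 0 0 0 0 0, mk8 (-1) 1 (-2) 1 2 (-2) 0 0⟩, [4, 3, 2, 1, 4, 3], 2, mk8 (-2) 1 0 0 1 (-1) (-2) 1),
  (⟨mk8 1 (-1) 1 (-1) (-1) 1 1 (-1), mk8 1 0 0 0 0 0 0 0, mk8 1 (-1) 2 (-1) (-2) 2 0 0⟩, [1, 2, 3, 4, 0], 3, mk8 2 (-1) 0 0 (-1) 0 1 (-1)),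
  (⟨mk8 1 0 (-1) 0 1 (-1) 1 (-1), mk8 1 0 0 0 0 0 0 0, mk8 1 0 0 0 0 0 0 0⟩, [2, 1, 3, 2, 4, 3], 0, mk8 0 0 1 (-1) (-1) 1 0 0),
  (⟨mk8 1 0 (-1) 0 1 (-1) 1 (-1), mk8 1 0 0 0 0 0 0 0, mk8 (-1) 0 0 0 0 0 0 0⟩, [1, 3, 2, 4, 3], 1, mk8 0 0 1 (-1) (-1) 1 0 0),
  (⟨mk8 1 0 1 0 (-1) 1 1 (-1), mk8 1 0 0 0 0 0 0 0, mk8 1 0 0 0 0 0 0 0⟩, [0, 3], 0, mk8 (-1) 1 (-1) 0 1 (-1) (-1) 1),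
  (⟨mk8 1 0 1 0 (-1) 1 1 (-1), mk8 1 0 0 0 0 0 0 0, mk8 (-1) 0 0 0 0 0 0 0⟩, [2, 3], 0, mk8 1 (-1) 1 0 (-1) 1 1 (-1)),
  (⟨mk8 1 0 3 (-2) (-3) 1 (-1) 1, mk8 1 0 0 0 0 0 0 0, mk8 1 0 0 0 0 0 0 0⟩, [4, 1], 0, mk8 0 0 2 (-1) (-1) 1 (-1) 0),
  (⟨mk8 1 0 3 (-2) (-3) 1 (-1) 1, mk8 1 0 0 0 0 0 0 0, mk8 (-1) 0 0 0 0 0 0 0⟩, [2, 4], 1, mk8 0 0 (-2) 1 1 (-1) 1 0),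
  (⟨mk8 2 (-2) 0 0 (-1) 1 1 (-1), mk8 1 0 0 0 0 0 0 0, mk8 0 0 1 0 0 0 0 0⟩, [4, 1, 3, 4, 2], 1, mk8 0 0 (-2) 1 1 (-1) 1 0),
  (⟨mk8 2 (-2) 0 0 (-1) 1 1 (-1), mk8 1 0 0 0 0 0 0 0, mk8 0 0 (-1) 0 0 0 0 0⟩, [3, 1, 4, 2, 3], 0, mk8 (-2) 1 1 0 0 0 (-2) 1),
  (⟨mk8 2 (-2) 0 0 (-1) 1 3 (-1), mk8 1 0 0 0 0 0 0 0, mk8 0 0 1 0 0 0 0 0⟩, [2, 3, 4, 2, 3], 0, mk8 2 (-1) 0 0 (-1) 0 2 (-1)),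
  (⟨mk8 2 (-2) 0 0 (-1) 1 3 (-1), mk8 1 0 0 0 0 0 0 0, mk8 0 0 (-1) 0 0 0 0 0⟩, [0, 3, 4, 2, 3], 0, mk8 (-2) 1 0 0 1 0 (-2) 1),
  (⟨mk8 2 (-1) (-2) 1 1 (-1) 3 (-1), mk8 1 0 0 0 0 0 0 0, mk8 2 (-1) (-1) 1 0 0 2 (-2)⟩, [1, 4, 3], 2, mk8 (-1) 1 2 (-1) (-1) 0 (-2) 1),
  (⟨mk8 2 (-1) (-2) 1 1 (-1) 3 (-1), mk8 1 0 0 0 0 0 0 0, mk8 (-2) 1 1 (-1) 0 0 (-2) 2⟩, [4, 3, 2, 4], 1, mk8 (-2) 1 0 0 1 (-1) (-2) 1),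
  (⟨mk8 2 (-1) 0 1 (-1) 1 1 (-1), mk8 1 0 0 0 0 0 0 0, mk8 2 (-1) (-1) 1 0 0 2 (-2)⟩, [2, 3, 0, 1, 4, 2], 1, mk8 (-1) 0 1 (-1) (-1) 1 (-1) 1),
  (⟨mk8 2 (-1) 0 1 (-1) 1 1 (-1), mk8 1 0 0 0 0 0 0 0, mk8 (-2) 1 1 (-1) 0 0 (-2) 2⟩, [3, 2, 1, 4, 2, 3], 0, mk8 (-2) 1 1 (-1) 0 0 (-2) 1),
  (⟨mk8 2 (-1) 2 (-1) (-3) 1 1 (-1), mk8 1 0 0 0 0 0 0 0, mk8 2 (-1) (-1) 1 0 0 2 (-2)⟩, [4, 0, 3, 2, 4, 3], 1, mk8 1 (-1) 1 (-1) (-1) 1 1 0),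
  (⟨mk8 2 (-1) 2 (-1) (-3) 1 1 (-1), mk8 1 0 0 0 0 0 0 0, mk8 (-2) 1 1 (-1) 0 0 (-2) 2⟩, [2, 4, 3, 2, 4, 3], 1, mk8 (-1) 1 (-1) 1 1 (-1) (-1) 0),
  (⟨mk8 3 (-2) (-1) 0 (-1) 1 3 (-1), mk8 1 0 0 0 0 0 0 0, mk8 1 0 0 0 0 0 0 0⟩, [4, 1, 3, 4, 2, 3], 0, mk8 1 0 1 (-1) (-1) 0 0 0),
  (⟨mk8 3 (-2) (-1) 0 (-1) 1 3 (-1), mk8 1 0 0 0 0 0 0 0, mk8 (-1) 0 0 0 0 0 0 0⟩, [3, 1, 2, 4], 3, mk8 2 (-1) 0 0 (-1) 1 1 (-1)),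
  (⟨mk8 3 (-1) 1 (-1) (-3) 1 1 (-1), mk8 1 0 0 0 0 0 0 0, mk8 (-1) 1 (-2) 1 2 (-2) 0 0⟩, [3, 0, 1, 3, 4, 2], 1, mk8 2 (-1) 0 0 (-1) 0 2 (-1)),
  (⟨mk8 3 (-1) 1 (-1) (-3) 1 1 (-1), mk8 1 0 0 0 0 0 0 0, mk8 1 (-1) 2 (-1) (-2) 2 0 0⟩, [3, 2, 4, 1, 0], 3, mk8 2 (-1) (-1) 0 (-1) 0 2 (-1))]
def LD : List (V × List ℕ × ℕ × Ic) := [(⟨mk8 1 0 0 0 0 0 0 0, mk8 0 1 1 0 (-1) 0 (-1) 0, mk8 (-2) 1 0 0 2 (-1) (-2) 1⟩, [1, 4, 3, 0, 1, 4], 2, mk8 1 (-1) 0 0 0 0 1 0),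
  (⟨mk8 1 0 0 0 0 0 0 0, mk8 0 1 1 0 (-1) 0 (-1) 0, mk8 2 (-1) 0 0 (-2) 1 2 (-1)⟩, [1, 0, 3, 1, 4, 2], 1, mk8 1 (-1) (-2) 1 1 0 2 (-1)),
  (⟨mk8 1 0 0 0 0 0 0 0, mk8 (-1) 0 0 1 1 0 (-1) 0, mk8 (-3) 2 (-1) 1 2 (-1) (-2) 1⟩, [], 3, mk8 1 0 0 0 0 0 1 (-1)),
  (⟨mk8 1 0 0 0 0 0 0 0, mk8 (-1) 0 0 1 1 0 (-1) 0, mk8 3 (-2) 1 (-1) (-2) 1 2 (-1)⟩, [0, 3], 2, mk8 0 0 (-1) 1 1 0 0 0),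
  (⟨mk8 1 0 0 0 0 0 0 0, mk8 1 (-1) 0 0 (-1) 0 1 0, mk8 (-1) 1 3 (-2) (-2) 1 (-2) 1⟩, [3, 4, 1], 0, mk8 (-1) 1 0 0 1 (-1) (-1) 0),
  (⟨mk8 1 0 0 0 0 0 0 0, mk8 1 (-1) 0 0 (-1) 0 1 0, mk8 1 (-1) (-3) 2 2 (-1) 2 (-1)⟩, [4, 3, 2, 1], 0, mk8 (-1) 1 (-2) 1 2 (-1) 0 0),
  (⟨mk8 1 0 0 0 0 0 0 0, mk8 0 (-1) (-1) 0 1 0 1 0, mk8 (-2) 1 0 0 2 (-1) (-2) 1⟩, [3, 1, 4, 2, 3], 1, mk8 1 (-1) 2 (-1) (-2) 1 0 0),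
  (⟨mk8 1 0 0 0 0 0 0 0, mk8 0 (-1) (-1) 0 1 0 1 0, mk8 2 (-1) 0 0 (-2) 1 2 (-1)⟩, [4, 1, 3, 2, 4], 1, mk8 (-1) 1 1 (-1) (-1) 0 (-1) 1),
  (⟨mk8 1 0 0 0 0 0 0 0, mk8 0 0 1 (-1) (-1) 0 (-1) 0, mk8 0 0 (-2) 1 2 (-1) 2 (-1)⟩, [2, 1, 3, 4, 2], 1, mk8 0 0 (-2) 1 2 (-1) 1 (-1)),
  (⟨mk8 1 0 0 0 0 0 0 0, mk8 0 0 1 (-1) (-1) 0 (-1) 0, mk8 0 0 2 (-1) (-2) 1 (-2) 1⟩, [0, 1, 3, 4, 2], 1, mk8 0 0 2 (-1) (-2) 1 (-1) 1),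
  (⟨mk8 1 0 0 0 0 0 0 0, mk8 1 0 0 (-1) (-1) 0 1 0, mk8 (-3) 2 (-1) 1 2 (-1) (-2) 1⟩, [1, 2, 0, 3], 1, mk8 1 0 0 0 0 0 0 0),
  (⟨mk8 1 0 0 0 0 0 0 0, mk8 1 0 0 (-1) (-1) 0 1 0, mk8 3 (-2) 1 (-1) (-2) 1 2 (-1)⟩, [3, 0, 1, 4], 2, mk8 (-1) 1 2 (-1) (-1) 0 (-2) 1),
  (⟨mk8 1 0 0 0 0 0 0 0, mk8 (-1) 1 0 0 1 0 (-1) 0, mk8 (-1) 1 3 (-2) (-2) 1 (-2) 1⟩, [1, 4, 2, 3], 0, mk8 0 0 (-1) 1 1 0 0 0),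
  (⟨mk8 1 0 0 0 0 0 0 0, mk8 (-1) 1 0 0 1 0 (-1) 0, mk8 1 (-1) (-3) 2 2 (-1) 2 (-1)⟩, [2, 0, 1, 4, 2, 3], 0, mk8 0 0 1 (-1) (-1) 0 0 0),
  (⟨mk8 1 0 0 0 0 0 0 0, mk8 0 0 (-1) 1 1 0 1 0, mk8 0 0 (-2) 1 2 (-1) 2 (-1)⟩, [3, 4, 3], 2, mk8 (-1) 1 1 (-1) 0 0 (-1) 1),
  (⟨mk8 1 0 0 0 0 0 0 0, mk8 0 0 (-1) 1 1 0 1 0, mk8 0 0 2 (-1) (-2) 1 (-2) 1⟩, [4, 2, 3, 4], 2, mk8 (-1) 1 1 (-1) 0 0 (-1) 1)]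
end CfL.Ico
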