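import Cfsg.Agent.L.M23c
/-! The candidate lists and the kernel computations for the principal 11-block. -/
set_option autoImplicit false
set_option maxRecDepth 100000
namespace CfLm

def DD : List ℤ := [3168, 3080, 3036, 2944, 2898, 2880, 2772, 2760, 2688, 2640, 2576, 2530, 2520, 2464, 2415, 2310, 2277, 2240, 2208, 2112, 2070, 2024, 2016, 1980, 1932, 1920, 1848, 1840, 1771, 1760, 1680, 1656, 1610, 1584, 1540, 1518, 1472, 1449, 1440, 1408, 1386, 1380, 1344, 1320, 1288, 1265, 1260, 1232, 1155, 1152, 1120, 1104, 1056, 1035, 1012, 1008, 990, 966, 960, 924, 920, 896, 880, 840, 828, 805, 792, 770, 759, 736, 720, 704, 693, 690, 672, 660, 644,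 640, 630, 616, 576, 560, 552, 528, 506, 504, 495, 483, 480, 462, 460, 448, 440, 420, 414, 396, 385, 384, 368, 360, 352, 345, 336, 330, 322, 320, 315, 308, 288, 280, 276, 264, 253, 252, 240, 231, 230, 224, 220, 210, 207, 198, 192, 184, 180, 176, 168, 165, 161, 160, 154, 144, 140, 138, 132, 128, 126, 120, 115, 112, 110, 105, 99, 96, 92, 90, 88, 84, 80, 77, 72, 70, 69, 66, 64, 63, 60, 56, 55, 48, 46, 45, 44, 42, 40, 36, 35, 33, 32, 30, 28, 24, 23, 22]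
def mbf (e d u v : ℤ) : ℤ := if e = 2 then d - 20 else (d - 5 * (2 * u - v)) / 11
def cd1 (e ix d u v : ℤ) : Prop := (u ≠ 0 ∨ v ≠ 0) ∧ u * u ≤ e ∧ (e ≠ 5 → v = 0) ∧ d ∣ ix * (11 * u) ∧ d ∣ ix * (11 * (u - v)) ∧
  (e ≠ 2 → 11 ∣ d - 5 * (2 * u - v) ∧ 2 ≤ mbf e d u v ∧ 2 ≤ mbf e d u v + u ∧ 2 ≤ mbf e d u v + (u - v))
instance (e ix d u v : ℤ) : Decidable (cd1 e ix d u v) := by unfold cd1; infer_instance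
def gen (e ix : ℤ) (b : Bool) : List Rw := DD.flatMap fun d => [-3, -2, -1, 0, 1, 2, 3].flatMap fun u => [-1, 0, 1].flatMap fun v =>
  if decide (v = 0) = b ∧ cd1 e ix d u v then [-6, -5, -4, -3, -2, -1, 0, 1, 2, 3, 4, 5, 6].flatMap fun S =>
    [-1, 0, 1].flatMap fun t => if 23 ∣ d - 11 * S ∧ 2 ∣ S - t then [⟨d, u, v, S, t, mbf e d u v⟩] else [] else []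

theorem mem_gen {e ix d u v S t : ℤ} (hd : d ∈ DD) (hu : u * u ≤ 10) (hv : v * v ≤ 2) (hS : S * S ≤ 42) (ht : t * t ≤ 2)
    (h1 : cd1 e ix d u v) (h2 : 23 ∣ d - 11 * S) (h3 : 2 ∣ S - t) :
    (⟨d, u, v, S, t, mbf e d u v⟩ : Rw) ∈ gen e ix false ++ gen e ix true := by
  have a : ∀ b, decide (v = 0) = b → (⟨d, u, v, S, t, mbf e d u v⟩ : Rw) ∈ gen e ix b := fun b hb => by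
    have : -3 ≤ u ∧ u ≤ 3 := by constructor <;> nlinarith
    have : -1 ≤ v ∧ v ≤ 1 := by constructor <;> nlinarith
    have : -6 ≤ S ∧ S ≤ 6 := by constructor <;> nlinarith
    have : -1 ≤ t ∧ t ≤ 1 := by constructor <;> nlinarith
    refine List.mem_flatMap.2 ⟨d, hd, List.mem_flatMap.2 ⟨u, by simp; omega, List.mem_flatMap.2 ⟨v, by simp; omega, ?_⟩⟩⟩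
    rw [if_pos ⟨hb, h1⟩]
    refine List.mem_flatMap.2 ⟨S, by simp; omega, List.mem_flatMap.2 ⟨t, by simp; omega, ?_⟩⟩
    rw [if_pos ⟨h2, h3⟩]; exact List.mem_singleton_self _
  cases hb : decide (v = 0)
  · exact List.mem_append_left _ (a _ hb)
  · exact List.mem_append_right _ (a _ hb)

def Good (e : ℕ) (K : ℤ) : Prop := ∃ L, gen e (927360 / K) false ++ gen e (927360 / K) true = L ∧ L.Pairwise RR ∧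
  chk2 (okN (e + 1) (if e = 5 then 2 else 0)) addN (finN (e + 1) (if e = 5 then 2 else 0) K) 400 L s0 [] = true

def L2_8 : List Rw := [⟨3080,-1,0,4,0,3060⟩, ⟨3080,1,0,4,0,3060⟩, ⟨3036,-1,0,0,0,3016⟩, ⟨3036,1,0,0,0,3016⟩, ⟨2898,-1,0,0,0,2878⟩, ⟨2898,1,0,0,0,2878⟩, ⟨2772,-1,0,-1,-1,2752⟩, ⟨2772,-1,0,-1,1,2752⟩, ⟨2772,1,0,-1,-1,2752⟩, ⟨2772,1,0,-1,1,2752⟩, ⟨2760,-1,0,0,0,2740⟩, ⟨2760,1,0,0,0,2740⟩, ⟨2576,-1,0,0,0,2556⟩, ⟨2576,1,0,0,0,2556⟩, ⟨2530,-1,0,0,0,2510⟩, ⟨2530,1,0,0,0,2510⟩, ⟨2520,-1,0,-3,-1,2500⟩, ⟨2520,-1,0,-3,1,2500⟩, ⟨2520,1,0,-3,-1,2500⟩, ⟨2520,1,0,-3,1,2500⟩, ⟨2415,-1,0,0,0,2395⟩, ⟨2415,1,0,0,0,2395⟩, ⟨2310,-1,0,3,-1,2290⟩,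 ⟨2310,-1,0,3,1,2290⟩, ⟨2310,1,0,3,-1,2290⟩, ⟨2310,1,0,3,1,2290⟩, ⟨2277,-1,0,0,0,2257⟩, ⟨2277,1,0,0,0,2257⟩, ⟨2070,-1,0,0,0,2050⟩, ⟨2070,1,0,0,0,2050⟩, ⟨2024,-1,0,0,0,2004⟩, ⟨2024,1,0,0,0,2004⟩, ⟨1980,-1,0,-4,0,1960⟩, ⟨1980,1,0,-4,0,1960⟩, ⟨1932,-1,0,0,0,1912⟩, ⟨1932,1,0,0,0,1912⟩, ⟨1840,-1,0,0,0,1820⟩, ⟨1840,1,0,0,0,1820⟩, ⟨1771,-1,0,0,0,1751⟩, ⟨1771,1,0,0,0,1751⟩, ⟨1680,-1,0,-2,0,1660⟩, ⟨1680,1,0,-2,0,1660⟩, ⟨1656,-1,0,0,0,1636⟩, ⟨1656,1,0,0,0,1636⟩, ⟨1610,-1,0,0,0,1590⟩, ⟨1610,1,0,0,0,1590⟩, ⟨1584,-1,0,6,0,1564⟩, ⟨1584,1,0,6,0,1564⟩, ⟨1540,-1,0,2,0,1520⟩, ⟨1540,1,0,2,0,1520⟩, ⟨1518,-1,0,0,0,1498⟩, ⟨1518,1,0,0,0,1498⟩, ⟨1449,-1,0,0,0,1429⟩,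 ⟨1449,1,0,0,0,1429⟩, ⟨1380,-1,0,0,0,1360⟩, ⟨1380,1,0,0,0,1360⟩, ⟨1320,-1,0,5,-1,1300⟩, ⟨1320,-1,0,5,1,1300⟩, ⟨1320,1,0,5,-1,1300⟩, ⟨1320,1,0,5,1,1300⟩, ⟨1288,-1,0,0,0,1268⟩, ⟨1288,1,0,0,0,1268⟩, ⟨1265,-1,0,0,0,1245⟩, ⟨1265,1,0,0,0,1245⟩, ⟨1232,-1,0,-3,-1,1212⟩, ⟨1232,-1,0,-3,1,1212⟩, ⟨1232,1,0,-3,-1,1212⟩, ⟨1232,1,0,-3,1,1212⟩, ⟨1104,-1,0,0,0,1084⟩, ⟨1104,1,0,0,0,1084⟩, ⟨1035,-1,0,0,0,1015⟩, ⟨1035,1,0,0,0,1015⟩, ⟨1012,-1,0,0,0,992⟩, ⟨1012,1,0,0,0,992⟩, ⟨990,-1,0,-2,0,970⟩, ⟨990,1,0,-2,0,970⟩, ⟨966,-1,0,0,0,946⟩, ⟨966,1,0,0,0,946⟩, ⟨920,-1,0,0,0,900⟩, ⟨920,1,0,0,0,900⟩, ⟨840,-1,0,-1,-1,820⟩, ⟨840,-1,0,-1,1,820⟩, ⟨840,1,0,-1,-1,820⟩,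 ⟨840,1,0,-1,1,820⟩, ⟨828,-1,0,0,0,808⟩, ⟨828,1,0,0,0,808⟩, ⟨805,-1,0,0,0,785⟩, ⟨805,1,0,0,0,785⟩, ⟨792,-1,0,3,-1,772⟩, ⟨792,-1,0,3,1,772⟩, ⟨792,1,0,3,-1,772⟩, ⟨792,1,0,3,1,772⟩, ⟨770,-1,0,1,-1,750⟩, ⟨770,-1,0,1,1,750⟩, ⟨770,1,0,1,-1,750⟩, ⟨770,1,0,1,1,750⟩, ⟨759,-1,0,0,0,739⟩, ⟨759,1,0,0,0,739⟩, ⟨693,-1,0,-6,0,673⟩, ⟨693,1,0,-6,0,673⟩, ⟨690,-1,0,0,0,670⟩, ⟨690,1,0,0,0,670⟩, ⟨644,-1,0,0,0,624⟩, ⟨644,1,0,0,0,624⟩, ⟨630,-1,0,5,-1,610⟩, ⟨630,-1,0,5,1,610⟩, ⟨630,1,0,5,-1,610⟩, ⟨630,1,0,5,1,610⟩, ⟨552,-1,0,0,0,532⟩, ⟨552,1,0,0,0,532⟩, ⟨528,-1,0,2,0,508⟩, ⟨528,1,0,2,0,508⟩, ⟨506,-1,0,0,0,486⟩, ⟨506,1,0,0,0,486⟩, ⟨504,-1,0,4,0,484⟩, ⟨504,1,0,4,0,484⟩,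 ⟨495,-1,0,-1,-1,475⟩, ⟨495,-1,0,-1,1,475⟩, ⟨495,1,0,-1,-1,475⟩, ⟨495,1,0,-1,1,475⟩, ⟨483,-1,0,0,0,463⟩, ⟨483,1,0,0,0,463⟩, ⟨462,-1,0,-4,0,442⟩, ⟨462,1,0,-4,0,442⟩, ⟨460,-1,0,0,0,440⟩, ⟨460,1,0,0,0,440⟩, ⟨440,-1,0,-6,0,420⟩, ⟨440,1,0,-6,0,420⟩, ⟨414,-1,0,0,0,394⟩, ⟨414,1,0,0,0,394⟩, ⟨368,-1,0,0,0,348⟩, ⟨368,1,0,0,0,348⟩, ⟨345,-1,0,0,0,325⟩, ⟨345,1,0,0,0,325⟩, ⟨336,-1,0,-5,-1,316⟩, ⟨336,-1,0,-5,1,316⟩, ⟨336,1,0,-5,-1,316⟩, ⟨336,1,0,-5,1,316⟩, ⟨322,-1,0,0,0,302⟩, ⟨322,1,0,0,0,302⟩, ⟨308,-1,0,5,-1,288⟩, ⟨308,-1,0,5,1,288⟩, ⟨308,1,0,5,-1,288⟩, ⟨308,1,0,5,1,288⟩, ⟨276,-1,0,0,0,256⟩, ⟨276,1,0,0,0,256⟩, ⟨264,-1,0,1,-1,244⟩, ⟨264,-1,0,1,1,244⟩,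 ⟨264,1,0,1,-1,244⟩, ⟨264,1,0,1,1,244⟩, ⟨253,-1,0,0,0,233⟩, ⟨253,1,0,0,0,233⟩, ⟨252,-1,0,2,0,232⟩, ⟨252,1,0,2,0,232⟩, ⟨240,-1,0,3,-1,220⟩, ⟨240,-1,0,3,1,220⟩, ⟨240,1,0,3,-1,220⟩, ⟨240,1,0,3,1,220⟩, ⟨231,-1,0,-2,0,211⟩, ⟨231,1,0,-2,0,211⟩, ⟨230,-1,0,0,0,210⟩, ⟨230,1,0,0,0,210⟩, ⟨220,-1,0,-3,-1,200⟩, ⟨220,-1,0,-3,1,200⟩, ⟨220,1,0,-3,-1,200⟩, ⟨220,1,0,-3,1,200⟩, ⟨210,-1,0,-6,0,190⟩, ⟨210,1,0,-6,0,190⟩, ⟨207,-1,0,0,0,187⟩, ⟨207,1,0,0,0,187⟩, ⟨198,-1,0,-5,-1,178⟩, ⟨198,-1,0,-5,1,178⟩, ⟨198,1,0,-5,-1,178⟩, ⟨198,1,0,-5,1,178⟩, ⟨184,-1,0,0,0,164⟩, ⟨184,1,0,0,0,164⟩, ⟨161,-1,0,0,0,141⟩, ⟨161,1,0,0,0,141⟩, ⟨140,-1,0,-4,0,120⟩, ⟨140,1,0,-4,0,120⟩,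 ⟨138,-1,0,0,0,118⟩, ⟨138,1,0,0,0,118⟩, ⟨126,-1,0,1,-1,106⟩, ⟨126,-1,0,1,1,106⟩, ⟨126,1,0,1,-1,106⟩, ⟨126,1,0,1,1,106⟩, ⟨115,-1,0,0,0,95⟩, ⟨115,1,0,0,0,95⟩, ⟨112,-1,0,6,0,92⟩, ⟨112,1,0,6,0,92⟩, ⟨105,-1,0,-3,-1,85⟩, ⟨105,-1,0,-3,1,85⟩, ⟨105,1,0,-3,-1,85⟩, ⟨105,1,0,-3,1,85⟩, ⟨92,-1,0,0,0,72⟩, ⟨92,1,0,0,0,72⟩, ⟨90,-1,0,4,0,70⟩, ⟨90,1,0,4,0,70⟩, ⟨80,-1,0,1,-1,60⟩, ⟨80,-1,0,1,1,60⟩, ⟨80,1,0,1,-1,60⟩, ⟨80,1,0,1,1,60⟩, ⟨72,-1,0,-6,0,52⟩, ⟨72,1,0,-6,0,52⟩, ⟨70,-1,0,-2,0,50⟩, ⟨70,1,0,-2,0,50⟩, ⟨69,-1,0,0,0,49⟩, ⟨69,1,0,0,0,49⟩, ⟨66,-1,0,6,0,46⟩, ⟨66,1,0,6,0,46⟩, ⟨60,-1,0,-5,-1,40⟩, ⟨60,-1,0,-5,1,40⟩, ⟨60,1,0,-5,-1,40⟩, ⟨60,1,0,-5,1,40⟩, ⟨56,-1,0,3,-1,36⟩,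 ⟨56,-1,0,3,1,36⟩, ⟨56,1,0,3,-1,36⟩, ⟨56,1,0,3,1,36⟩, ⟨55,-1,0,5,-1,35⟩, ⟨55,-1,0,5,1,35⟩, ⟨55,1,0,5,-1,35⟩, ⟨55,1,0,5,1,35⟩, ⟨48,-1,0,-4,0,28⟩, ⟨48,1,0,-4,0,28⟩, ⟨46,-1,0,0,0,26⟩, ⟨46,1,0,0,0,26⟩, ⟨45,-1,0,2,0,25⟩, ⟨45,1,0,2,0,25⟩, ⟨44,-1,0,4,0,24⟩, ⟨44,1,0,4,0,24⟩, ⟨36,-1,0,-3,-1,16⟩, ⟨36,-1,0,-3,1,16⟩, ⟨36,1,0,-3,-1,16⟩, ⟨36,1,0,-3,1,16⟩, ⟨35,-1,0,-1,-1,15⟩, ⟨35,-1,0,-1,1,15⟩, ⟨35,1,0,-1,-1,15⟩, ⟨35,1,0,-1,1,15⟩, ⟨33,-1,0,3,-1,13⟩, ⟨33,-1,0,3,1,13⟩, ⟨33,1,0,3,-1,13⟩, ⟨33,1,0,3,1,13⟩, ⟨24,-1,0,-2,0,4⟩, ⟨24,1,0,-2,0,4⟩, ⟨23,-1,0,0,0,3⟩, ⟨23,1,0,0,0,3⟩, ⟨22,-1,0,2,0,2⟩, ⟨22,1,0,2,0,2⟩]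
theorem good2_8 : Good 2 8 := ⟨L2_8, by decide +kernel, by decide +kernel, by decide +kernel⟩

def L2_30 : List Rw := [⟨3036,-1,0,0,0,3016⟩, ⟨3036,1,0,0,0,3016⟩, ⟨2576,-1,0,0,0,2556⟩, ⟨2576,1,0,0,0,2556⟩, ⟨2464,-1,0,-6,0,2444⟩, ⟨2464,1,0,-6,0,2444⟩, ⟨2208,-1,0,0,0,2188⟩, ⟨2208,1,0,0,0,2188⟩, ⟨2024,-1,0,0,0,2004⟩, ⟨2024,1,0,0,0,2004⟩, ⟨1932,-1,0,0,0,1912⟩, ⟨1932,1,0,0,0,1912⟩, ⟨1771,-1,0,0,0,1751⟩, ⟨1771,1,0,0,0,1751⟩, ⟨1518,-1,0,0,0,1498⟩, ⟨1518,1,0,0,0,1498⟩, ⟨1472,-1,0,0,0,1452⟩, ⟨1472,1,0,0,0,1452⟩, ⟨1344,-1,0,3,-1,1324⟩, ⟨1344,-1,0,3,1,1324⟩, ⟨1344,1,0,3,-1,1324⟩, ⟨1344,1,0,3,1,1324⟩, ⟨1288,-1,0,0,0,1268⟩, ⟨1288,1,0,0,0,1268⟩, ⟨1232,-1,0,-3,-1,1212⟩,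 ⟨1232,-1,0,-3,1,1212⟩, ⟨1232,1,0,-3,-1,1212⟩, ⟨1232,1,0,-3,1,1212⟩, ⟨1104,-1,0,0,0,1084⟩, ⟨1104,1,0,0,0,1084⟩, ⟨1056,-1,0,4,0,1036⟩, ⟨1056,1,0,4,0,1036⟩, ⟨1012,-1,0,0,0,992⟩, ⟨1012,1,0,0,0,992⟩, ⟨966,-1,0,0,0,946⟩, ⟨966,1,0,0,0,946⟩, ⟨759,-1,0,0,0,739⟩, ⟨759,1,0,0,0,739⟩, ⟨736,-1,0,0,0,716⟩, ⟨736,1,0,0,0,716⟩, ⟨704,-1,0,-5,-1,684⟩, ⟨704,-1,0,-5,1,684⟩, ⟨704,1,0,-5,-1,684⟩, ⟨704,1,0,-5,1,684⟩, ⟨644,-1,0,0,0,624⟩, ⟨644,1,0,0,0,624⟩, ⟨552,-1,0,0,0,532⟩, ⟨552,1,0,0,0,532⟩, ⟨528,-1,0,2,0,508⟩, ⟨528,1,0,2,0,508⟩, ⟨506,-1,0,0,0,486⟩, ⟨506,1,0,0,0,486⟩, ⟨483,-1,0,0,0,463⟩, ⟨483,1,0,0,0,463⟩, ⟨462,-1,0,-4,0,442⟩, ⟨462,1,0,-4,0,442⟩, ⟨448,-1,0,1,-1,428⟩,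 ⟨448,-1,0,1,1,428⟩, ⟨448,1,0,1,-1,428⟩, ⟨448,1,0,1,1,428⟩, ⟨368,-1,0,0,0,348⟩, ⟨368,1,0,0,0,348⟩, ⟨336,-1,0,-5,-1,316⟩, ⟨336,-1,0,-5,1,316⟩, ⟨336,1,0,-5,-1,316⟩, ⟨336,1,0,-5,1,316⟩, ⟨322,-1,0,0,0,302⟩, ⟨322,1,0,0,0,302⟩, ⟨308,-1,0,5,-1,288⟩, ⟨308,-1,0,5,1,288⟩, ⟨308,1,0,5,-1,288⟩, ⟨308,1,0,5,1,288⟩, ⟨276,-1,0,0,0,256⟩, ⟨276,1,0,0,0,256⟩, ⟨264,-1,0,1,-1,244⟩, ⟨264,-1,0,1,1,244⟩, ⟨264,1,0,1,-1,244⟩, ⟨264,1,0,1,1,244⟩, ⟨253,-1,0,0,0,233⟩, ⟨253,1,0,0,0,233⟩, ⟨231,-1,0,-2,0,211⟩, ⟨231,1,0,-2,0,211⟩, ⟨184,-1,0,0,0,164⟩, ⟨184,1,0,0,0,164⟩, ⟨161,-1,0,0,0,141⟩, ⟨161,1,0,0,0,141⟩, ⟨138,-1,0,0,0,118⟩, ⟨138,1,0,0,0,118⟩, ⟨112,-1,0,6,0,92⟩, ⟨112,1,0,6,0,92⟩,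 ⟨92,-1,0,0,0,72⟩, ⟨92,1,0,0,0,72⟩, ⟨69,-1,0,0,0,49⟩, ⟨69,1,0,0,0,49⟩, ⟨66,-1,0,6,0,46⟩, ⟨66,1,0,6,0,46⟩, ⟨56,-1,0,3,-1,36⟩, ⟨56,-1,0,3,1,36⟩, ⟨56,1,0,3,-1,36⟩, ⟨56,1,0,3,1,36⟩, ⟨48,-1,0,-4,0,28⟩, ⟨48,1,0,-4,0,28⟩, ⟨46,-1,0,0,0,26⟩, ⟨46,1,0,0,0,26⟩, ⟨44,-1,0,4,0,24⟩, ⟨44,1,0,4,0,24⟩, ⟨33,-1,0,3,-1,13⟩, ⟨33,-1,0,3,1,13⟩, ⟨33,1,0,3,-1,13⟩, ⟨33,1,0,3,1,13⟩, ⟨32,-1,0,5,-1,12⟩, ⟨32,-1,0,5,1,12⟩, ⟨32,1,0,5,-1,12⟩, ⟨32,1,0,5,1,12⟩, ⟨24,-1,0,-2,0,4⟩, ⟨24,1,0,-2,0,4⟩, ⟨23,-1,0,0,0,3⟩, ⟨23,1,0,0,0,3⟩, ⟨22,-1,0,2,0,2⟩, ⟨22,1,0,2,0,2⟩]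
theorem good2_30 : Good 2 30 := ⟨L2_30, by decide +kernel, by decide +kernel, by decide +kernel⟩

def L2_96 : List Rw := [⟨3036,-1,0,0,0,3016⟩, ⟨3036,1,0,0,0,3016⟩, ⟨2530,-1,0,0,0,2510⟩, ⟨2530,1,0,0,0,2510⟩, ⟨2415,-1,0,0,0,2395⟩, ⟨2415,1,0,0,0,2395⟩, ⟨2310,-1,0,3,-1,2290⟩, ⟨2310,-1,0,3,1,2290⟩, ⟨2310,1,0,3,-1,2290⟩, ⟨2310,1,0,3,1,2290⟩, ⟨1932,-1,0,0,0,1912⟩, ⟨1932,1,0,0,0,1912⟩, ⟨1771,-1,0,0,0,1751⟩, ⟨1771,1,0,0,0,1751⟩, ⟨1610,-1,0,0,0,1590⟩, ⟨1610,1,0,0,0,1590⟩, ⟨1540,-1,0,2,0,1520⟩, ⟨1540,1,0,2,0,1520⟩, ⟨1518,-1,0,0,0,1498⟩, ⟨1518,1,0,0,0,1498⟩, ⟨1380,-1,0,0,0,1360⟩, ⟨1380,1,0,0,0,1360⟩, ⟨1265,-1,0,0,0,1245⟩, ⟨1265,1,0,0,0,1245⟩,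 ⟨1012,-1,0,0,0,992⟩, ⟨1012,1,0,0,0,992⟩, ⟨966,-1,0,0,0,946⟩, ⟨966,1,0,0,0,946⟩, ⟨805,-1,0,0,0,785⟩, ⟨805,1,0,0,0,785⟩, ⟨770,-1,0,1,-1,750⟩, ⟨770,-1,0,1,1,750⟩, ⟨770,1,0,1,-1,750⟩, ⟨770,1,0,1,1,750⟩, ⟨759,-1,0,0,0,739⟩, ⟨759,1,0,0,0,739⟩, ⟨690,-1,0,0,0,670⟩, ⟨690,1,0,0,0,670⟩, ⟨644,-1,0,0,0,624⟩, ⟨644,1,0,0,0,624⟩, ⟨506,-1,0,0,0,486⟩, ⟨506,1,0,0,0,486⟩, ⟨483,-1,0,0,0,463⟩, ⟨483,1,0,0,0,463⟩, ⟨462,-1,0,-4,0,442⟩, ⟨462,1,0,-4,0,442⟩, ⟨460,-1,0,0,0,440⟩, ⟨460,1,0,0,0,440⟩, ⟨345,-1,0,0,0,325⟩, ⟨345,1,0,0,0,325⟩, ⟨322,-1,0,0,0,302⟩, ⟨322,1,0,0,0,302⟩, ⟨308,-1,0,5,-1,288⟩, ⟨308,-1,0,5,1,288⟩, ⟨308,1,0,5,-1,288⟩, ⟨308,1,0,5,1,288⟩, ⟨276,-1,0,0,0,256⟩,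 ⟨276,1,0,0,0,256⟩, ⟨253,-1,0,0,0,233⟩, ⟨253,1,0,0,0,233⟩, ⟨231,-1,0,-2,0,211⟩, ⟨231,1,0,-2,0,211⟩, ⟨230,-1,0,0,0,210⟩, ⟨230,1,0,0,0,210⟩, ⟨220,-1,0,-3,-1,200⟩, ⟨220,-1,0,-3,1,200⟩, ⟨220,1,0,-3,-1,200⟩, ⟨220,1,0,-3,1,200⟩, ⟨210,-1,0,-6,0,190⟩, ⟨210,1,0,-6,0,190⟩, ⟨161,-1,0,0,0,141⟩, ⟨161,1,0,0,0,141⟩, ⟨140,-1,0,-4,0,120⟩, ⟨140,1,0,-4,0,120⟩, ⟨138,-1,0,0,0,118⟩, ⟨138,1,0,0,0,118⟩, ⟨115,-1,0,0,0,95⟩, ⟨115,1,0,0,0,95⟩, ⟨105,-1,0,-3,-1,85⟩, ⟨105,-1,0,-3,1,85⟩, ⟨105,1,0,-3,-1,85⟩, ⟨105,1,0,-3,1,85⟩, ⟨92,-1,0,0,0,72⟩, ⟨92,1,0,0,0,72⟩, ⟨70,-1,0,-2,0,50⟩, ⟨70,1,0,-2,0,50⟩, ⟨69,-1,0,0,0,49⟩, ⟨69,1,0,0,0,49⟩, ⟨66,-1,0,6,0,46⟩, ⟨66,1,0,6,0,46⟩,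 ⟨60,-1,0,-5,-1,40⟩, ⟨60,-1,0,-5,1,40⟩, ⟨60,1,0,-5,-1,40⟩, ⟨60,1,0,-5,1,40⟩, ⟨55,-1,0,5,-1,35⟩, ⟨55,-1,0,5,1,35⟩, ⟨55,1,0,5,-1,35⟩, ⟨55,1,0,5,1,35⟩, ⟨46,-1,0,0,0,26⟩, ⟨46,1,0,0,0,26⟩, ⟨44,-1,0,4,0,24⟩, ⟨44,1,0,4,0,24⟩, ⟨35,-1,0,-1,-1,15⟩, ⟨35,-1,0,-1,1,15⟩, ⟨35,1,0,-1,-1,15⟩, ⟨35,1,0,-1,1,15⟩, ⟨33,-1,0,3,-1,13⟩, ⟨33,-1,0,3,1,13⟩, ⟨33,1,0,3,-1,13⟩, ⟨33,1,0,3,1,13⟩, ⟨23,-1,0,0,0,3⟩, ⟨23,1,0,0,0,3⟩, ⟨22,-1,0,2,0,2⟩, ⟨22,1,0,2,0,2⟩]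
theorem good2_96 : Good 2 96 := ⟨L2_96, by decide +kernel, by decide +kernel, by decide +kernel⟩

def L2_140 : List Rw := [⟨3036,-1,0,0,0,3016⟩, ⟨3036,1,0,0,0,3016⟩, ⟨2277,-1,0,0,0,2257⟩, ⟨2277,1,0,0,0,2257⟩, ⟨2208,-1,0,0,0,2188⟩, ⟨2208,1,0,0,0,2188⟩, ⟨2024,-1,0,0,0,2004⟩, ⟨2024,1,0,0,0,2004⟩, ⟨1656,-1,0,0,0,1636⟩, ⟨1656,1,0,0,0,1636⟩, ⟨1584,-1,0,6,0,1564⟩, ⟨1584,1,0,6,0,1564⟩, ⟨1518,-1,0,0,0,1498⟩, ⟨1518,1,0,0,0,1498⟩, ⟨1104,-1,0,0,0,1084⟩, ⟨1104,1,0,0,0,1084⟩, ⟨1056,-1,0,4,0,1036⟩, ⟨1056,1,0,4,0,1036⟩, ⟨1012,-1,0,0,0,992⟩, ⟨1012,1,0,0,0,992⟩, ⟨828,-1,0,0,0,808⟩, ⟨828,1,0,0,0,808⟩, ⟨792,-1,0,3,-1,772⟩, ⟨792,-1,0,3,1,772⟩, ⟨792,1,0,3,-1,772⟩,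 ⟨792,1,0,3,1,772⟩, ⟨759,-1,0,0,0,739⟩, ⟨759,1,0,0,0,739⟩, ⟨736,-1,0,0,0,716⟩, ⟨736,1,0,0,0,716⟩, ⟨552,-1,0,0,0,532⟩, ⟨552,1,0,0,0,532⟩, ⟨528,-1,0,2,0,508⟩, ⟨528,1,0,2,0,508⟩, ⟨506,-1,0,0,0,486⟩, ⟨506,1,0,0,0,486⟩, ⟨414,-1,0,0,0,394⟩, ⟨414,1,0,0,0,394⟩, ⟨368,-1,0,0,0,348⟩, ⟨368,1,0,0,0,348⟩, ⟨288,-1,0,-1,-1,268⟩, ⟨288,-1,0,-1,1,268⟩, ⟨288,1,0,-1,-1,268⟩, ⟨288,1,0,-1,1,268⟩, ⟨276,-1,0,0,0,256⟩, ⟨276,1,0,0,0,256⟩, ⟨264,-1,0,1,-1,244⟩, ⟨264,-1,0,1,1,244⟩, ⟨264,1,0,1,-1,244⟩, ⟨264,1,0,1,1,244⟩, ⟨253,-1,0,0,0,233⟩, ⟨253,1,0,0,0,233⟩, ⟨207,-1,0,0,0,187⟩, ⟨207,1,0,0,0,187⟩, ⟨198,-1,0,-5,-1,178⟩, ⟨198,-1,0,-5,1,178⟩, ⟨198,1,0,-5,-1,178⟩, ⟨198,1,0,-5,1,178⟩,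 ⟨184,-1,0,0,0,164⟩, ⟨184,1,0,0,0,164⟩, ⟨138,-1,0,0,0,118⟩, ⟨138,1,0,0,0,118⟩, ⟨92,-1,0,0,0,72⟩, ⟨92,1,0,0,0,72⟩, ⟨72,-1,0,-6,0,52⟩, ⟨72,1,0,-6,0,52⟩, ⟨69,-1,0,0,0,49⟩, ⟨69,1,0,0,0,49⟩, ⟨66,-1,0,6,0,46⟩, ⟨66,1,0,6,0,46⟩, ⟨48,-1,0,-4,0,28⟩, ⟨48,1,0,-4,0,28⟩, ⟨46,-1,0,0,0,26⟩, ⟨46,1,0,0,0,26⟩, ⟨44,-1,0,4,0,24⟩, ⟨44,1,0,4,0,24⟩, ⟨36,-1,0,-3,-1,16⟩, ⟨36,-1,0,-3,1,16⟩, ⟨36,1,0,-3,-1,16⟩, ⟨36,1,0,-3,1,16⟩, ⟨33,-1,0,3,-1,13⟩, ⟨33,-1,0,3,1,13⟩, ⟨33,1,0,3,-1,13⟩, ⟨33,1,0,3,1,13⟩, ⟨32,-1,0,5,-1,12⟩, ⟨32,-1,0,5,1,12⟩, ⟨32,1,0,5,-1,12⟩, ⟨32,1,0,5,1,12⟩, ⟨24,-1,0,-2,0,4⟩, ⟨24,1,0,-2,0,4⟩, ⟨23,-1,0,0,0,3⟩, ⟨23,1,0,0,0,3⟩, ⟨22,-1,0,2,0,2⟩, ⟨22,1,0,2,0,2⟩]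
theorem good2_140 : Good 2 140 := ⟨L2_140, by decide +kernel, by decide +kernel, by decide +kernel⟩

def L2_360 : List Rw := [⟨2576,-1,0,0,0,2556⟩, ⟨2576,1,0,0,0,2556⟩, ⟨2024,-1,0,0,0,2004⟩, ⟨2024,1,0,0,0,2004⟩, ⟨1771,-1,0,0,0,1751⟩, ⟨1771,1,0,0,0,1751⟩, ⟨1288,-1,0,0,0,1268⟩, ⟨1288,1,0,0,0,1268⟩, ⟨1232,-1,0,-3,-1,1212⟩, ⟨1232,-1,0,-3,1,1212⟩, ⟨1232,1,0,-3,-1,1212⟩, ⟨1232,1,0,-3,1,1212⟩, ⟨1012,-1,0,0,0,992⟩, ⟨1012,1,0,0,0,992⟩, ⟨644,-1,0,0,0,624⟩, ⟨644,1,0,0,0,624⟩, ⟨506,-1,0,0,0,486⟩, ⟨506,1,0,0,0,486⟩, ⟨368,-1,0,0,0,348⟩, ⟨368,1,0,0,0,348⟩, ⟨322,-1,0,0,0,302⟩, ⟨322,1,0,0,0,302⟩, ⟨308,-1,0,5,-1,288⟩, ⟨308,-1,0,5,1,288⟩, ⟨308,1,0,5,-1,288⟩,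 ⟨308,1,0,5,1,288⟩, ⟨253,-1,0,0,0,233⟩, ⟨253,1,0,0,0,233⟩, ⟨184,-1,0,0,0,164⟩, ⟨184,1,0,0,0,164⟩, ⟨161,-1,0,0,0,141⟩, ⟨161,1,0,0,0,141⟩, ⟨112,-1,0,6,0,92⟩, ⟨112,1,0,6,0,92⟩, ⟨92,-1,0,0,0,72⟩, ⟨92,1,0,0,0,72⟩, ⟨56,-1,0,3,-1,36⟩, ⟨56,-1,0,3,1,36⟩, ⟨56,1,0,3,-1,36⟩, ⟨56,1,0,3,1,36⟩, ⟨46,-1,0,0,0,26⟩, ⟨46,1,0,0,0,26⟩, ⟨44,-1,0,4,0,24⟩, ⟨44,1,0,4,0,24⟩, ⟨23,-1,0,0,0,3⟩, ⟨23,1,0,0,0,3⟩, ⟨22,-1,0,2,0,2⟩, ⟨22,1,0,2,0,2⟩]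
theorem good2_360 : Good 2 360 := ⟨L2_360, by decide +kernel, by decide +kernel, by decide +kernel⟩

def L2_1680 : List Rw := [⟨3036,-1,0,0,0,3016⟩, ⟨3036,1,0,0,0,3016⟩, ⟨2024,-1,0,0,0,2004⟩, ⟨2024,1,0,0,0,2004⟩, ⟨1518,-1,0,0,0,1498⟩, ⟨1518,1,0,0,0,1498⟩, ⟨1012,-1,0,0,0,992⟩, ⟨1012,1,0,0,0,992⟩, ⟨759,-1,0,0,0,739⟩, ⟨759,1,0,0,0,739⟩, ⟨552,-1,0,0,0,532⟩, ⟨552,1,0,0,0,532⟩, ⟨506,-1,0,0,0,486⟩, ⟨506,1,0,0,0,486⟩, ⟨276,-1,0,0,0,256⟩, ⟨276,1,0,0,0,256⟩, ⟨264,-1,0,1,-1,244⟩, ⟨264,-1,0,1,1,244⟩, ⟨264,1,0,1,-1,244⟩, ⟨264,1,0,1,1,244⟩, ⟨253,-1,0,0,0,233⟩, ⟨253,1,0,0,0,233⟩, ⟨184,-1,0,0,0,164⟩, ⟨184,1,0,0,0,164⟩, ⟨138,-1,0,0,0,118⟩, ⟨138,1,0,0,0,118⟩,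 ⟨92,-1,0,0,0,72⟩, ⟨92,1,0,0,0,72⟩, ⟨69,-1,0,0,0,49⟩, ⟨69,1,0,0,0,49⟩, ⟨66,-1,0,6,0,46⟩, ⟨66,1,0,6,0,46⟩, ⟨46,-1,0,0,0,26⟩, ⟨46,1,0,0,0,26⟩, ⟨44,-1,0,4,0,24⟩, ⟨44,1,0,4,0,24⟩, ⟨33,-1,0,3,-1,13⟩, ⟨33,-1,0,3,1,13⟩, ⟨33,1,0,3,-1,13⟩, ⟨33,1,0,3,1,13⟩, ⟨24,-1,0,-2,0,4⟩, ⟨24,1,0,-2,0,4⟩, ⟨23,-1,0,0,0,3⟩, ⟨23,1,0,0,0,3⟩, ⟨22,-1,0,2,0,2⟩, ⟨22,1,0,2,0,2⟩]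
theorem good2_1680 : Good 2 1680 := ⟨L2_1680, by decide +kernel, by decide +kernel, by decide +kernel⟩

def L2_20160 : List Rw := [⟨506,-1,0,0,0,486⟩, ⟨506,1,0,0,0,486⟩, ⟨253,-1,0,0,0,233⟩, ⟨253,1,0,0,0,233⟩, ⟨46,-1,0,0,0,26⟩, ⟨46,1,0,0,0,26⟩, ⟨23,-1,0,0,0,3⟩, ⟨23,1,0,0,0,3⟩, ⟨22,-1,0,2,0,2⟩, ⟨22,1,0,2,0,2⟩]
theorem good2_20160 : Good 2 20160 := ⟨L2_20160, by decide +kernel, by decide +kernel, by decide +kernel⟩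

def L5_144 : List Rw := [⟨1610,1,-1,0,0,145⟩, ⟨1610,2,1,0,0,145⟩, ⟨920,-2,-1,0,0,85⟩, ⟨920,-1,1,0,0,85⟩, ⟨644,-1,-1,0,0,59⟩, ⟨644,0,1,0,0,59⟩, ⟨322,2,-1,0,0,27⟩, ⟨184,-2,1,0,0,19⟩, ⟨161,-2,-1,0,0,16⟩, ⟨161,-1,1,0,0,16⟩, ⟨140,-2,1,-4,0,15⟩, ⟨115,0,-1,0,0,10⟩, ⟨115,1,1,0,0,10⟩, ⟨92,1,-1,0,0,7⟩, ⟨92,2,1,0,0,7⟩, ⟨70,1,-1,-2,0,5⟩, ⟨70,2,1,-2,0,5⟩, ⟨2576,-2,0,0,0,236⟩, ⟨1288,-1,0,0,0,118⟩, ⟨805,-2,0,0,0,75⟩, ⟨460,2,0,0,0,40⟩, ⟨230,1,0,0,0,20⟩, ⟨112,-2,0,6,0,12⟩, ⟨56,-1,0,3,-1,6⟩, ⟨56,-1,0,3,1,6⟩, ⟨46,-2,0,0,0,6⟩, ⟨35,-2,0,-1,-1,5⟩, ⟨35,-2,0,-1,1,5⟩, ⟨23,-1,0,0,0,3⟩]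
theorem good5_144 : Good 5 144 := ⟨L5_144, by decide +kernel, by decide +kernel, by decide +kernel⟩

def L5_672 : List Rw := [⟨1380,0,-1,0,0,125⟩, ⟨1380,1,1,0,0,125⟩, ⟨690,-2,1,0,0,65⟩, ⟨345,1,-1,0,0,30⟩, ⟨345,2,1,0,0,30⟩, ⟨138,-1,-1,0,0,13⟩, ⟨138,0,1,0,0,13⟩, ⟨115,0,-1,0,0,10⟩, ⟨115,1,1,0,0,10⟩, ⟨92,1,-1,0,0,7⟩, ⟨92,2,1,0,0,7⟩, ⟨69,2,-1,0,0,4⟩, ⟨60,0,-1,-5,-1,5⟩, ⟨60,0,-1,-5,1,5⟩, ⟨60,1,1,-5,-1,5⟩, ⟨60,1,1,-5,1,5⟩, ⟨552,-2,0,0,0,52⟩, ⟨460,2,0,0,0,40⟩, ⟨276,-1,0,0,0,26⟩, ⟨230,1,0,0,0,20⟩, ⟨46,-2,0,0,0,6⟩, ⟨24,-2,0,-2,0,4⟩, ⟨23,-1,0,0,0,3⟩]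
theorem good5_672 : Good 5 672 := ⟨L5_672, by decide +kernel, by decide +kernel, by decide +kernel⟩

def L5_8064 : List Rw := [⟨115,0,-1,0,0,10⟩, ⟨115,1,1,0,0,10⟩, ⟨46,-2,0,0,0,6⟩, ⟨23,-1,0,0,0,3⟩]
theorem good5_8064 : Good 5 8064 := ⟨L5_8064, by decide +kernel, by decide +kernel, by decide +kernel⟩

def L10_72 : List Rw := [⟨2576,-2,0,0,0,236⟩, ⟨1840,-3,0,0,0,170⟩, ⟨1680,3,0,-2,0,150⟩, ⟨1288,-1,0,0,0,118⟩, ⟨805,-2,0,0,0,75⟩, ⟨690,3,0,0,0,60⟩, ⟨460,2,0,0,0,40⟩, ⟨322,-3,0,0,0,32⟩, ⟨230,1,0,0,0,20⟩, ⟨184,3,0,0,0,14⟩, ⟨140,3,0,-4,0,10⟩, ⟨112,-2,0,6,0,12⟩, ⟨80,-3,0,1,-1,10⟩, ⟨80,-3,0,1,1,10⟩, ⟨69,-3,0,0,0,9⟩, ⟨56,-1,0,3,-1,6⟩, ⟨56,-1,0,3,1,6⟩,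 ⟨46,-2,0,0,0,6⟩, ⟨35,-2,0,-1,-1,5⟩, ⟨35,-2,0,-1,1,5⟩, ⟨23,-1,0,0,0,3⟩]
theorem good10_72 : Good 10 72 := ⟨L10_72, by decide +kernel, by decide +kernel, by decide +kernel⟩

def L10_336 : List Rw := [⟨2760,1,0,0,0,250⟩, ⟨828,-3,0,0,0,78⟩, ⟨690,3,0,0,0,60⟩, ⟨552,-2,0,0,0,52⟩, ⟨460,2,0,0,0,40⟩, ⟨276,-1,0,0,0,26⟩, ⟨240,2,0,3,-1,20⟩, ⟨240,2,0,3,1,20⟩, ⟨230,1,0,0,0,20⟩, ⟨184,3,0,0,0,14⟩, ⟨69,-3,0,0,0,9⟩, ⟨46,-2,0,0,0,6⟩, ⟨36,-3,0,-3,-1,6⟩, ⟨36,-3,0,-3,1,6⟩, ⟨24,-2,0,-2,0,4⟩, ⟨23,-1,0,0,0,3⟩]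
theorem good10_336 : Good 10 336 := ⟨L10_336, by decide +kernel, by decide +kernel, by decide +kernel⟩

def L10_4032 : List Rw := [⟨690,3,0,0,0,60⟩, ⟨460,2,0,0,0,40⟩, ⟨230,1,0,0,0,20⟩, ⟨69,-3,0,0,0,9⟩, ⟨46,-2,0,0,0,6⟩, ⟨23,-1,0,0,0,3⟩]
theorem good10_4032 : Good 10 4032 := ⟨L10_4032, by decide +kernel, by decide +kernel, by decide +kernel⟩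

end CfLm
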