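import Cfsg.Agent.OD.Pre
import Cfsg.Agent.L.Cnt
/-! A strongly embedded subgroup contains a subgroup of odd order transitive on its involutions. -/
set_option autoImplicit false
open Subgroup CfH9
namespace CfL
variable {G : Type*} [Group G]

theorem invol_conj_of_odd {z v : G} (z2 : z * z = 1) (v2 : v * v = 1) (h : Odd (orderOf (v * z))) :
    ∃ j, j * j = 1 ∧ j * z * j = v := by
  obtain ⟨k, hk⟩ := h
  have e := (inv_conj_mul v2 z2 (pow_mem (mem_zpowers (v * z)) (k + 1))).2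
  rw [inv_eq_of_mul_eq_one_right z2] at e
  refine ⟨(v * z) ^ (k + 1) * z, ?_, ?_⟩
  · rw [mul_assoc, ← mul_assoc z, e, mul_inv_cancel]
  · have e2 : (v * z) ^ (k + 1) * (v * z) ^ (k + 1) = v * z := by
      rw [← pow_add, show k + 1 + (k + 1) = 2 * k + 1 + 1 by ring, pow_succ, ← hk, pow_orderOf_eq_one, one_mul]
    calc _ = (v * z) ^ (k + 1) * (z * z) * (v * z) ^ (k + 1) * z := by group
      _ = v := by rw [z2, mul_one, e2, mul_assoc, z2, mul_one]

theorem se_odd [Finite G] (M : Subgroup G) {z t : G} (hz : z ∈ M) (z2 : z * z = 1)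
    (hC : ∀ g, g * z * g⁻¹ ∈ M → g ∈ M) (hall : ∀ s ∈ M, s * s = 1 → s ≠ 1 → IsConj z s)
    (ht : IsConj z t) (htM : t ∉ M) :
    ∃ D ≤ M, Odd (Nat.card D) ∧ Nat.card D * Nat.card Cx(z) = Nat.card M * Nat.card (D ⊓ Cx(z) : Subgroup G) := by
  have t2 := sq_of_isConj ht z2
  have ti : t⁻¹ = t := inv_eq_of_mul_eq_one_right t2
  have cz : Cx(z) ≤ M := fun g hg => hC g (by rwa [mem_Cx'.1 hg])
  let D : Subgroup G := M ⊓ M.comap (MulAut.conj t).toMonoidHom
  refine ⟨D, inf_le_left, ?_, ?_⟩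
  · by_contra h
    haveI : Fact (Nat.Prime 2) := ⟨Nat.prime_two⟩
    obtain ⟨s, hs⟩ := exists_prime_orderOf_dvd_card' 2 (even_iff_two_dvd.1 (Nat.not_odd_iff_even.1 h))
    rw [← Subgroup.orderOf_coe] at hs
    obtain ⟨g, hg⟩ := isConj_iff.1 (hall s s.2.1 (by rw [← pow_two, ← hs, pow_orderOf_eq_one])
      (fun e => by rw [e, orderOf_one] at hs; omega))
    have a := hC g (hg ▸ s.2.1)
    have b := hC (t * g) (by
      have : t * (s : G) * t⁻¹ ∈ M := s.2.2
      rw [← hg] at this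
      simpa [mul_assoc] using this)
    exact htM ((mul_mem_cancel_right a).1 b)
  · have e : {b | ∃ g ∈ D, g * z * g⁻¹ = b} = {b | ∃ g ∈ M, g * z * g⁻¹ = b} := by
      ext b
      refine ⟨fun ⟨g, hg, e⟩ => ⟨g, hg.1, e⟩, ?_⟩
      rintro ⟨m, hm, rfl⟩
      have v2 := sq_of_isConj (isConj_iff.2 ⟨t * m, rfl⟩) z2
      have vM : t * m * z * (t * m)⁻¹ ∉ M := fun h => htM ((mul_mem_cancel_right hm).1 (hC _ h))
      obtain ⟨j, j2, hj⟩ := invol_conj_of_odd z2 v2 (by
        by_contra h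
        obtain ⟨w, hw, w2, w1⟩ := exists_invol_of_even (Nat.not_odd_iff_even.1 h)
        obtain ⟨c1, c2⟩ := comm_of_mem_zpowers v2 z2 hw w2
        have wM := cz (mem_Cx.2 c2.symm)
        obtain ⟨g, rfl⟩ := isConj_iff.1 (hall w wM w2 w1)
        have gM := hC g wM
        apply vM
        generalize t * m * z * (t * m)⁻¹ = v at c1
        have : g⁻¹ * v * g ∈ M := cz (mem_Cx.2 (by
          calc _ = g⁻¹ * (v * (g * z * g⁻¹)) * g := by group
            _ = _ := by rw [c1]; group))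
        exact (mul_mem_cancel_left (inv_mem gM)).1 ((mul_mem_cancel_right gM).1 this))
      have ji : j⁻¹ = j := inv_eq_of_mul_eq_one_right j2
      have e : t * j * z * (t * j)⁻¹ = m * z * m⁻¹ := by
        rw [mul_inv_rev, ji, show t * j * z * (j * t⁻¹) = t * (j * z * j) * t⁻¹ by group, hj]
        calc _ = (t * t) * (m * z * m⁻¹) * (t * t)⁻¹ := by group
          _ = _ := by rw [t2]; group
      have dM : t * j ∈ M := hC _ (e ▸ mul_mem (mul_mem hm hz) (inv_mem hm))
      refine ⟨t * j, ⟨dM, ?_⟩, e⟩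
      change t * (t * j) * t⁻¹ ∈ M
      rw [← mul_assoc, t2, one_mul, ← ji, ← mul_inv_rev]
      exact inv_mem dM
    have a := ncard_conj_mul D z
    have b := ncard_conj_mul M z
    rw [inf_eq_right.2 cz] at b
    rw [e] at a
    rw [← a, ← b]; ring

end CfL
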