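import Cfsg.Agent.OD.Pre
import Cfsg.Agent.L.ZC
/-! Systems of equations in the centraliser of a 2-central involution of the Suzuki group. -/
set_option autoImplicit false
set_option maxRecDepth 100000
open CfH6
namespace CfL.Sz

theorem s4 : slvOk [[⟨[], 416, 416, Nat.shiftLeft 1 416⟩], [⟨[], 483, 483, Nat.shiftLeft 1 483⟩], [⟨[7], 562, 562, 0⟩, ⟨[3, 2, 1, 2, 3], 562, 562, 0⟩], [⟨[7], 518, 518, 0⟩, ⟨[2, 1, 2], 518, 518, 0⟩], [⟨[7], 1712, 1712, 0⟩, ⟨[4, 3, 2, 1, 2, 3, 4], 1712, 1712, 0⟩], [⟨[7], 100, 100, 0⟩, ⟨[2, 1, 2], 100, 100, 0⟩, ⟨[3, 2, 1, 2, 3], 100, 100, 0⟩, ⟨[4, 3, 2, 1, 2, 3, 4], 100, 100, 0⟩], []]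
    [[7], [2, 1, 2], [3, 2, 1, 2, 3], [4, 3, 2, 1, 2, 3, 4]] [([], [5]), ([8, 2, 6, 2], [1])] []
    [[], [0]] = true := by decide +kernel
theorem sD : slvOk [[⟨[3, 4], 416, 416, 0⟩], [], [⟨[3, 4], 562, 483, 0⟩], [⟨[3, 4], 483, 518, 0⟩], [⟨[3, 4], 518, 1712, 0⟩], [⟨[3, 4], 100, 100, 0⟩], []]
    [[3, 4]] [] [[11, 11, 11, 11]]
    [[], [0], [5], [7], [0, 5], [0, 7], [5, 7], [7, 5]] = true := by decide +kernel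
theorem sT : slvOk [[⟨[3, 4], 416, 416, 0⟩], [], [⟨[3, 4], 562, 483, 0⟩], [⟨[3, 4], 483, 518, 0⟩], [⟨[3, 4], 518, 1712, 0⟩], [⟨[3, 4], 100, 100, 0⟩], []]
    [[3, 4]] [] [[3, 11, 3, 11, 7, 3, 11, 3, 11, 7, 0]]
    [] = true := by decide +kernel
theorem sC : slvOk [[⟨[2], 416, 416, 0⟩, ⟨[3], 416, 416, 0⟩, ⟨[4], 416, 416, 0⟩, ⟨[3, 4], 416, 416, 0⟩], [⟨[3], 483, 483, 0⟩], [⟨[2], 562, 562, 0⟩, ⟨[3, 4], 562, 483, 0⟩], [⟨[2], 518, 483, 0⟩, ⟨[2], 483, 518, 0⟩, ⟨[3], 518, 562, 0⟩, ⟨[3], 562, 518, 0⟩, ⟨[4], 518, 483, 0⟩, ⟨[4], 483, 518, 0⟩, ⟨[3, 4], 483, 518, 0⟩], [⟨[4], 1712, 562, 0⟩, ⟨[4], 562, 1712, 0⟩, ⟨[3, 4], 518, 1712, 0⟩], [⟨[2], 100, 100, 0⟩, ⟨[3], 100, 100, 0⟩, ⟨[4], 100, 100, 0⟩, ⟨[3, 4], 100, 100, 0⟩], []]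
    [[2], [3], [4], [3, 4]] [] []
    [[], [0], [5], [7], [0, 5], [0, 7], [5, 7], [7, 5]] = true := by decide +kernel
theorem sP : slvOk [[⟨[], 416, 416, Nat.shiftLeft 1 416⟩], [⟨[3], 483, 483, 0⟩, ⟨[2, 4], 483, 483, 0⟩], [], [⟨[3], 518, 562, 0⟩, ⟨[3], 562, 518, 0⟩, ⟨[2, 4], 518, 518, 0⟩], [⟨[2, 4], 562, 1712, 0⟩], [⟨[3], 100, 100, 0⟩, ⟨[2, 4], 100, 100, 0⟩], [⟨[2, 4], 0, 0, 0⟩]]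
    [[3], [2, 4]] [([], [5])] [[11, 2, 11, 2, 11, 2, 11, 2, 0, 5], [11, 2, 11, 2, 3, 4, 11, 3, 4, 3, 11, 4, 3, 11, 4, 3, 4]]
    [[5, 1, 6]] = true := by decide +kernel
theorem sW0 : slvOk [[⟨[], 416, 416, Nat.shiftLeft 1 416⟩], [⟨[], 483, 483, Nat.shiftLeft 1 483⟩], [], [⟨[3], 518, 562, 0⟩, ⟨[3], 562, 518, 0⟩, ⟨[2, 4], 518, 518, 0⟩], [⟨[2, 4], 562, 1712, 0⟩], [⟨[3], 100, 100, 0⟩, ⟨[2, 4], 100, 100, 0⟩], [⟨[2, 4], 0, 0, 0⟩]]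
    [[3], [2, 4], [8, 9]] [([], [5]), ([8, 2, 6, 2], [1])] []
    [[]] = true := by decide +kernel
theorem sW1 : slvOk [[⟨[], 416, 416, Nat.shiftLeft 1 416⟩], [⟨[], 483, 483, Nat.shiftLeft 1 483⟩], [], [⟨[3], 518, 562, 0⟩, ⟨[3], 562, 518, 0⟩, ⟨[2, 4], 518, 518, 0⟩], [⟨[2, 4], 562, 1712, 0⟩], [⟨[3], 100, 100, 0⟩, ⟨[2, 4], 100, 100, 0⟩], [⟨[2, 4], 0, 0, 0⟩]]
    [[3], [2, 4], [7, 8, 9]] [([], [5]), ([8, 2, 6, 2], [1])] []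
    [[]] = true := by decide +kernel
theorem sW2 : slvOk [[⟨[], 416, 416, Nat.shiftLeft 1 416⟩], [⟨[], 483, 483, Nat.shiftLeft 1 483⟩], [], [⟨[3], 518, 562, 0⟩, ⟨[3], 562, 518, 0⟩, ⟨[2, 4], 518, 518, 0⟩], [⟨[2, 4], 562, 1712, 0⟩], [⟨[3], 100, 100, 0⟩, ⟨[2, 4], 100, 100, 0⟩], [⟨[2, 4], 0, 0, 0⟩]]
    [[3], [2, 4], [8, 2, 1, 2, 9, 8, 9]] [([], [5]), ([8, 2, 6, 2], [1])] []
    [[]] = true := by decide +kernel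
theorem sO : slvOk [[⟨[], 416, 416, Nat.shiftLeft 1 416⟩], [⟨[], 483, 483, Nat.shiftLeft 1 483⟩], [], [⟨[3], 518, 562, 0⟩, ⟨[3], 562, 518, 0⟩, ⟨[2, 4], 518, 518, 0⟩], [⟨[2, 4], 562, 1712, 0⟩], [⟨[], 100, 100, Nat.shiftLeft 1 100⟩], [⟨[2, 4], 0, 0, 0⟩]]
    [[3], [2, 4]] [([], [5]), ([8, 2, 6, 2], [1]), ([8, 2, 6, 8, 2, 6], [7])] []
    [[], [0], [1], [0, 1]] = true := by decide +kernel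
end CfL.Sz
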