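import Cfsg.Agent.OD.Pre
import Cfsg.Agent.L.ZC
/-! Involutions of the sporadic Suzuki group: tables. -/
set_option autoImplicit false
set_option maxRecDepth 100000
open CfH6
namespace CfL.Sz
inductive KT
  | l
  | n (k : ℕ) (c : List ℕ) (a b : KT)

noncomputable def KT.chk (t : KT) (k : ℕ) (f : List ℕ → Bool) : Bool :=
  KT.rec false (fun j c _ _ a b => Bool.rec (Bool.rec b a (Nat.blt k j)) (f c) (Nat.beq k j)) t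

noncomputable def kt : KT := (.n 475507 [3, 2, 6, 1, 4, 3, 2, 1, 4] (.n 303299 [2, 6, 3, 2, 6, 3, 2] (.n 104577 [2, 3, 4, 8, 3, 4, 6, 2] (.n 36864 [1, 4, 3, 2, 8, 4, 6, 2] (.n 10381 [3, 4, 8, 3, 2, 6, 1, 2] (.n 2231 [6, 3, 1, 4, 8, 3, 4, 6, 2] (.n 2113 [6, 3, 2, 8, 9] (.n 2058 [7, 6, 2, 8, 3, 2, 6, 2] (.n 2048 [7, 6, 2, 8, 3, 4, 6, 2] (.n 8 [] .l .l) .l) (.n 2095 [8, 3, 2, 6, 1, 2] .l .l)) (.n 2181 [6, 3, 1, 4, 8, 3, 2, 6, 4] (.n 2165 [2, 6, 3, 4, 8, 3, 4, 6, 2] (.n 2131 [2, 6, 3, 4, 8, 3, 2, 6, 2] .l .l) .l) (.n 2199 [7, 1, 9, 3, 2, 8, 9] .l .l))) (.n 2370 [3, 2, 8, 4, 6, 2] (.n 2336 [6, 3, 1, 4, 8, 3, 2, 6, 2] (.n 2299 [2, 6, 3, 4, 8, 3, 2, 6, 4] (.n 2286 [9, 3, 2, 8, 7, 9] .l .l) .l) (.n 2340 [7, 6, 2, 8, 3, 2,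 6, 4] .l .l)) (.n 10247 [6, 1, 2, 8, 3, 4, 6, 2] (.n 6145 [8, 2, 6, 4, 8, 3, 4, 6, 2] (.n 2425 [8, 3, 4, 6, 1, 2] .l .l) .l) (.n 10313 [2, 3, 4, 8, 3, 2, 6, 1, 2] .l .l)))) (.n 16619 [3, 1, 4, 3, 2, 8, 4, 6, 2] (.n 12507 [4, 3, 1, 4, 8, 3, 4, 6, 1, 2] (.n 12364 [6, 4, 3, 2, 8, 7, 9] (.n 12295 [6, 1, 4, 8, 3, 2, 6, 4] (.n 10466 [2, 6, 1, 2, 8, 3, 4, 6, 2] .l .l) .l) (.n 12417 [8, 4, 2, 3, 4, 6, 2] .l .l)) (.n 16562 [6, 1, 2, 8, 3, 2, 6, 4] (.n 16514 [2, 6, 2, 8, 3, 2, 6, 4] (.n 14387 [2, 4, 3, 4, 6, 2] .l .l) .l) (.n 16596 [3, 2, 8, 4, 3, 1, 2, 6, 3, 2] .l .l))) (.n 22842 [4, 6, 3, 4, 8, 3, 4, 6, 2] (.n 22706 [3, 2, 6, 3, 4, 8, 3, 2, 6, 2] (.n 22567 [6, 2, 4, 3, 2, 8, 7, 9] (.n 20548 [4, 3, 2, 6, 3, 4, 3, 2, 1, 2] .l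 .l) .l) (.n 22730 [8, 2, 4, 3, 2, 6, 4] .l .l)) (.n 28731 [4, 3, 2, 6, 3, 1, 4] (.n 24893 [4, 6, 2, 3, 4, 1, 2] .l .l) (.n 31055 [2, 6, 1, 4, 3, 2, 1, 4] .l .l))))) (.n 86388 [8, 2, 1, 4, 3, 2, 6, 4] (.n 57616 [3, 4, 1, 2, 3, 4, 6, 1, 2] (.n 43317 [4, 3, 2, 6, 3, 2] (.n 37156 [2, 8, 4, 2, 3, 4, 6, 1, 2] (.n 36874 [8, 2, 6, 1, 2, 3, 2, 1, 2] (.n 36867 [6, 2, 8, 9] .l .l) .l) (.n 38968 [2, 4, 3, 4, 1, 2] .l .l)) (.n 53336 [2, 4] (.n 47109 [4, 2, 3, 2, 1, 4] (.n 45372 [2, 4, 3, 2, 6, 1, 2] .l .l) .l) (.n 55375 [2, 4, 3, 2, 1, 2] .l .l))) (.n 73740 [4, 2, 3, 2, 1, 2] (.n 67977 [3, 2, 1, 4, 3, 2, 6, 4] (.n 61532 [4, 2] (.n 59414 [2, 4, 3, 2, 1, 4] .l .l) .l) (.n 69662 [4, 2, 3, 4, 1, 2] .l .l)) (.n 86023 [8, 4, 6, 2, 3,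 2, 1, 4] (.n 81926 [4, 1, 2, 3, 2, 1, 4] (.n 79920 [2, 1, 4, 3, 4, 1, 2] .l .l) .l) (.n 86059 [2, 6, 2, 8, 7, 9] .l .l)))) (.n 98387 [6, 4, 3, 2, 8, 9] (.n 94255 [2, 6, 2, 8, 9] (.n 90169 [2, 1, 2, 3, 2, 1, 2] (.n 88106 [3, 2, 1, 4, 3, 4, 6, 1, 2] (.n 86389 [4, 6, 2, 8, 3, 4, 6, 1, 2] .l .l) .l) (.n 94211 [8, 2, 6, 4, 3, 4, 1, 2] .l .l)) (.n 96302 [4, 3, 1, 2, 6, 3, 1, 4] (.n 94585 [8, 4, 1, 2, 3, 4, 6, 2] (.n 94530 [7, 2, 6, 4, 8, 3, 2, 6, 4] .l .l) .l) (.n 98307 [4, 8, 3, 2, 6, 4] .l .l))) (.n 104491 [8, 2, 3, 1, 2, 6, 3, 2] (.n 104455 [] (.n 98555 [1, 4, 3, 4, 8, 3, 4, 6, 1, 2] (.n 98421 [4, 6, 2, 8, 3, 4, 6, 2] .l .l) .l) (.n 104462 [6, 2, 8, 3, 2, 6, 1, 2] .l .l)) (.n 104521 [6, 3, 2, 8, 7, 9] (.n 104492 [2, 8,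 3, 4, 6, 1, 2] .l .l) (.n 104524 [1, 2, 3, 4, 8, 3, 2, 6, 2] .l .l)))))) (.n 153995 [4, 6, 2, 3, 2, 1, 2] (.n 120983 [1, 2, 3, 4, 8, 3, 4, 6, 1, 2] (.n 114691 [1, 2, 8, 3, 4, 6, 2] (.n 104674 [1, 9, 3, 2, 8, 9] (.n 104639 [3, 1, 4, 8, 3, 4, 6, 2] (.n 104601 [3, 4, 8, 3, 2, 6, 4] (.n 104589 [7, 9, 3, 2, 8, 7, 9] .l .l) .l) (.n 104667 [2, 3, 1, 4, 8, 3, 2, 6, 4] .l .l)) (.n 104820 [8, 3, 2, 6, 4, 3, 2, 1, 2] (.n 104697 [3, 1, 2, 8, 3, 4, 6, 2] (.n 104691 [6, 3, 4, 8, 3, 2, 6, 2] .l .l) .l) (.n 104821 [8, 3, 4, 6, 2, 3, 2, 1, 2] .l .l))) (.n 116933 [2, 8, 3, 2, 6, 4] (.n 114926 [2, 1, 2, 8, 3, 4, 6, 2] (.n 114839 [3, 1, 4, 8, 3, 2, 6, 1, 2] (.n 114753 [2, 3, 1, 4, 8, 3, 2, 6, 1, 2] .l .l) .l) (.n 116882 [2, 1, 2, 8, 3,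 2, 6, 4] .l .l)) (.n 120835 [1, 2, 8, 3, 2, 6, 2] (.n 117009 [7, 6, 3, 4, 8, 3, 2, 6, 4] (.n 116940 [4, 2, 3, 4, 8, 3, 2, 6, 2] .l .l) .l) (.n 120897 [2, 6, 1, 2, 8, 3, 2, 6, 2] .l .l)))) (.n 137260 [7, 6, 4, 8, 3, 2, 6, 4] (.n 131359 [4, 3, 4, 8, 3, 4, 6, 2] (.n 131269 [1, 2, 8, 4, 2, 3, 4, 6, 2] (.n 131112 [6, 2, 4, 3, 2, 8, 9] (.n 121070 [7, 6, 3, 4, 8, 3, 4, 6, 2] .l .l) .l) (.n 131283 [3, 4, 1, 2, 8, 3, 2, 6, 2] .l .l)) (.n 137223 [6, 2, 8, 7, 9] (.n 135435 [2, 1, 4, 3, 2, 6, 2] (.n 133187 [2, 1, 4, 3, 4, 6, 2] .l .l) .l) (.n 137230 [8, 2, 6, 2] .l .l))) (.n 139490 [3, 4, 8, 3, 4, 6, 1, 2] (.n 139337 [2, 6, 2, 8, 3, 2, 6, 2] (.n 139271 [2, 8, 3, 2, 6, 2] (.n 137465 [8, 2, 6, 8, 4, 3, 2, 8, 4] .l .l) .l) (.n 139405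 [2, 3, 1, 4, 8, 3, 4, 6, 1, 2] .l .l)) (.n 143394 [2, 1, 4, 3, 2, 1, 4] (.n 141590 [2, 6, 2, 3, 2, 1, 4] .l .l) (.n 149522 [3, 4, 3, 1, 2, 6, 3, 4] .l .l))))) (.n 256344 [8, 4, 6, 3, 2, 6, 3, 4] (.n 182636 [4, 3, 2, 6, 3, 4, 3, 4, 1, 2] (.n 163867 [4, 1, 2, 3, 2, 1, 2] (.n 160004 [8, 2, 6, 4, 8, 3, 2, 6, 2] (.n 157979 [2, 6, 1, 2, 3, 4, 1, 2] (.n 155659 [2, 1, 2] .l .l) .l) (.n 161890 [2, 1, 2, 3, 4, 1, 2] .l .l)) (.n 174417 [4, 3, 1, 2, 6, 3, 1, 2] (.n 170048 [3, 2, 1, 2] (.n 165977 [2, 1, 2, 3, 2, 1, 4] .l .l) .l) (.n 180633 [4, 6, 1, 2] .l .l))) (.n 194819 [2, 6, 1, 4, 3, 2, 1, 2] (.n 188486 [2, 1, 4] (.n 186401 [4, 1, 2, 3, 4, 1, 2] (.n 184544 [2, 6, 4] .l .l) .l) (.n 190539 [2, 1, 4, 3, 2, 1, 2] .l .l)) (.n 200784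 [3, 2, 1, 4] (.n 198725 [4, 1, 2] (.n 196674 [3, 4, 1, 2] .l .l) .l) (.n 239986 [8, 7, 2, 6, 4, 3, 4, 6, 2] .l .l)))) (.n 290993 [4, 6, 2, 8, 3, 2, 6, 1, 2] (.n 268660 [9, 8, 7, 9] (.n 268295 [2, 8, 4, 6, 2] (.n 266570 [8, 2, 6, 4, 3, 4, 6, 2] (.n 264507 [7, 2, 6, 4, 3, 4, 6, 2] .l .l) .l) (.n 268331 [8, 4, 3, 2, 6, 3, 1, 2] .l .l)) (.n 272559 [8, 7, 2, 6, 3, 2, 6, 3, 2] (.n 270721 [7, 4, 6, 3, 2, 6, 3, 4] (.n 268661 [8, 2, 4, 3, 4, 6, 1, 2] .l .l) .l) (.n 289058 [4, 6, 3, 2, 6, 3, 4] .l .l))) (.n 301059 [8, 2, 6, 4, 3, 2, 1, 2] (.n 291202 [8, 2, 1, 4, 3, 4, 6, 2] (.n 291190 [9, 8, 9] (.n 290994 [8, 4, 6, 2, 3, 4, 1, 2] .l .l) .l) (.n 299354 [2, 6, 4, 3, 4, 6, 2] .l .l)) (.n 301378 [8, 9, 8, 7, 9] (.n 301103 [8, 4,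 3, 1, 2, 6, 3, 2] .l .l) (.n 301433 [7, 2, 6, 4, 8, 3, 4, 6, 2] .l .l))))))) (.n 383209 [1, 2, 8, 3, 2, 6, 1, 2] (.n 346486 [8, 2, 3, 1, 2, 6, 3, 4] (.n 339975 [8, 2, 6, 2, 3, 4, 1, 2] (.n 313538 [8, 2, 6, 3, 2, 6, 3, 2] (.n 309590 [8, 7, 4, 6, 3, 2, 6, 3, 4] (.n 307522 [8, 4, 3, 1, 2, 6, 3, 4] (.n 307247 [7, 2, 6, 4, 8, 3, 2, 6, 2] (.n 307203 [8, 2, 6, 4, 3, 2, 1, 4] .l .l) .l) (.n 307577 [7, 9, 8, 7, 9] .l .l)) (.n 311641 [2, 6, 4, 8, 3, 4, 6, 1, 2] (.n 311493 [8, 2, 6, 2, 3, 2, 1, 4] (.n 311453 [7, 4, 6, 2, 8, 3, 2, 6, 2] .l .l) .l) (.n 311679 [8, 7, 9, 8, 9] .l .l))) (.n 321690 [2, 1, 4, 3, 4, 6, 1, 2] (.n 315737 [8, 4, 2, 3, 4, 6, 1, 2] (.n 315589 [8, 2, 6, 1, 2] (.n 315549 [8, 9] .l .l) .l) (.n 315775 [2, 4, 3,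 2, 8, 4, 6, 2] .l .l)) (.n 332121 [8, 9, 8, 9] (.n 331973 [8, 4, 6, 2, 3, 2, 1, 2] (.n 331933 [8, 2, 1, 4, 3, 2, 6, 2] .l .l) .l) (.n 332159 [4, 6, 3, 2, 8, 3, 4, 6, 2] .l .l)))) (.n 346289 [7, 2, 6, 2, 8, 3, 2, 6, 2] (.n 346135 [6, 3, 2, 8, 3, 4, 6, 2] (.n 340341 [8, 7, 9, 8, 7, 9] (.n 340340 [8, 3, 2, 1, 4, 3, 4, 6, 2] (.n 340011 [2, 6, 4, 8, 3, 2, 6, 1, 2] .l .l) .l) (.n 342231 [7, 2, 6, 3, 2, 6, 3, 2] .l .l)) (.n 346244 [1, 2, 3, 4, 8, 3, 4, 6, 2] (.n 346242 [3, 2, 8, 9, 8, 9] (.n 346151 [3, 1, 4, 8, 3, 2, 6, 4] .l .l) .l) (.n 346260 [1, 2, 8, 3, 4, 6, 1, 2] .l .l))) (.n 346347 [3, 2, 8, 7, 9] (.n 346321 [2, 8, 3, 2, 6, 1, 2] (.n 346314 [6, 3, 4, 8, 3, 4, 6, 2] (.n 346290 [7, 9] .l .l) .l) (.n 346324 [9, 6, 3, 2,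 8, 9] .l .l)) (.n 346414 [2, 3, 4, 8, 3, 2, 6, 4] (.n 346410 [2, 3, 1, 4, 8, 3, 2, 6, 2] .l .l) (.n 346426 [3, 4, 8, 3, 2, 6, 2] .l .l))))) (.n 366814 [8, 2, 6, 4, 3, 2, 6, 1, 2] (.n 356529 [8, 7, 9] (.n 352544 [2, 6, 4, 8, 3, 4, 6, 2] (.n 352389 [1, 4, 3, 4, 8, 3, 2, 6, 2] (.n 352259 [6, 2, 8, 4, 3, 2, 6, 3, 2] (.n 346498 [2, 6, 2, 8, 3, 4, 6, 1, 2] .l .l) .l) (.n 352439 [7, 9, 2, 4, 3, 2, 8, 9] .l .l)) (.n 354678 [4, 3, 2, 8, 3, 4, 6, 2] (.n 354482 [8, 4, 6, 1, 2] (.n 354481 [8, 2, 4, 3, 2, 6, 1, 2] .l .l) .l) (.n 354690 [7, 9, 8, 9] .l .l))) (.n 358578 [6, 4, 8, 3, 2, 6, 4] (.n 356738 [8, 3, 2, 1, 4, 3, 2, 6, 2] (.n 356726 [8, 3, 4, 3, 1, 2, 6, 3, 2] (.n 356530 [8, 2, 6, 2, 3, 2, 1, 2] .l .l) .l) (.n 358532 [3, 2,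 6, 4, 8, 3, 2, 6, 2] .l .l)) (.n 362670 [3, 4, 3, 1, 2, 6, 3, 1, 4] (.n 358702 [4, 3, 4, 8, 3, 4, 6, 1, 2] (.n 358698 [4, 3, 2, 8, 7, 9] .l .l) .l) (.n 364713 [4, 8, 2, 6, 2, 3, 4, 8, 1, 2] .l .l)))) (.n 382995 [3, 2, 8, 3, 4, 6, 2] (.n 375073 [2, 6, 4, 3, 4, 6, 1, 2] (.n 372947 [7, 1, 9, 2, 4, 3, 2, 8, 9] (.n 372933 [2, 8, 4, 3, 2, 6, 3, 2] (.n 372776 [4, 3, 1, 4, 8, 3, 2, 6, 2] .l .l) .l) (.n 373023 [2, 1, 4, 8, 3, 4, 6, 2] .l .l)) (.n 379071 [2, 4, 3, 2, 8, 9, 8, 9] (.n 379033 [4, 6, 3, 4, 8, 3, 2, 6, 2] (.n 378887 [8, 2, 6, 8, 4, 3, 2, 8, 1, 2] .l .l) .l) (.n 379123 [8, 2, 4, 3, 4, 6, 2] .l .l))) (.n 383143 [6, 2, 8, 3, 4, 6, 1, 2] (.n 383122 [7, 9, 3, 2, 8, 9] (.n 383101 [2, 3, 1, 4, 8, 3, 4, 6, 2] (.n 383016 [6,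 3, 4, 8, 3, 2, 6, 4] .l .l) .l) (.n 383133 [8, 3, 2, 6, 4, 3, 4, 1, 2] .l .l)) (.n 383180 [9, 3, 2, 8, 9] (.n 383173 [9] .l .l) (.n 383187 [3, 4, 8, 3, 4, 6, 2] .l .l)))))) (.n 421895 [1, 4, 8, 3, 2, 6, 2] (.n 397437 [4, 1, 2, 8, 3, 4, 6, 2] (.n 387345 [6, 2, 3, 4, 8, 3, 2, 6, 1, 2] (.n 383321 [8, 2, 1, 2, 3, 4, 6, 2] (.n 383256 [2, 3, 4, 8, 3, 2, 6, 2] (.n 383249 [3, 2, 8, 9] (.n 383229 [1, 2, 3, 4, 8, 3, 2, 6, 4] .l .l) .l) (.n 383263 [3, 1, 4, 8, 3, 2, 6, 2] .l .l)) (.n 387269 [6, 2, 8, 3, 4, 6, 2] (.n 387218 [7, 6, 3, 4, 8, 3, 2, 6, 2] (.n 383359 [8, 3, 4, 6, 2, 3, 4, 1, 2] .l .l) .l) (.n 387276 [2, 6, 2, 8, 3, 4, 6, 2] .l .l))) (.n 393467 [4, 6, 2, 8, 3, 2, 6, 4] (.n 393299 [1, 4, 3, 4, 8, 3, 2, 6, 1, 2] (.n 393219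 [4, 8, 3, 2, 6, 2] (.n 391412 [3, 2, 6, 4, 3, 4, 6, 1, 2] .l .l) .l) (.n 393333 [1, 9, 4, 3, 2, 8, 9] .l .l)) (.n 395466 [7, 9, 2, 4, 3, 2, 8, 7, 9] (.n 395442 [1, 2, 8, 4, 3, 2, 6, 3, 2] (.n 395303 [4, 3, 4, 8, 3, 2, 6, 2] .l .l) .l) (.n 395578 [2, 6, 1, 4, 8, 3, 4, 6, 2] .l .l)))) (.n 405761 [2, 6, 1, 4, 3, 2, 6, 2] (.n 399425 [3, 4, 3, 2, 8, 4, 6, 2] (.n 397592 [4, 3, 2, 8, 9] (.n 397565 [6, 4, 3, 4, 8, 3, 4, 6, 1, 2] (.n 397509 [1, 4, 8, 3, 2, 6, 4] .l .l) .l) (.n 399363 [1, 2, 8, 3, 2, 6, 4] .l .l)) (.n 401786 [2, 6, 2, 3, 4, 1, 2] (.n 399598 [6, 4, 2, 3, 4, 8, 3, 2, 6, 2] (.n 399511 [8, 3, 2, 6, 4] .l .l) .l) (.n 403643 [4, 3, 2, 6, 3, 4] .l .l))) (.n 415997 [3, 2, 6, 4, 8, 3, 4, 6, 2] (.n 415869 [9, 6, 4, 3,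 2, 8, 9] (.n 414039 [3, 4, 6, 3, 2, 6, 3, 1, 4] (.n 409856 [3, 2, 6, 4, 3, 2, 6, 1, 2] .l .l) .l) (.n 415941 [6, 4, 8, 3, 2, 6, 2] .l .l)) (.n 418124 [8, 2, 6, 4, 3, 4, 6, 1, 2] (.n 416024 [4, 3, 4, 8, 3, 2, 6, 1, 2] .l .l) (.n 420208 [4, 3, 4, 6, 2, 3, 4, 3, 1, 2] .l .l))))) (.n 440327 [6, 2, 8, 3, 2, 6, 4] (.n 430213 [2, 4, 3, 2, 8, 9] (.n 426162 [2, 8, 3, 4, 6, 2] (.n 422107 [4, 1, 2, 8, 3, 2, 6, 4] (.n 422017 [9, 4, 3, 2, 8, 7, 9] (.n 421964 [6, 4, 3, 4, 8, 3, 2, 6, 1, 2] .l .l) .l) (.n 426114 [6, 3, 4, 8, 3, 2, 6, 1, 2] .l .l)) (.n 428277 [2, 4, 3, 4, 6, 1, 2] (.n 426219 [1, 2, 3, 4, 8, 3, 2, 6, 1, 2] (.n 426196 [8, 3, 4, 6, 2] .l .l) .l) (.n 430083 [6, 2, 8, 4, 2, 3, 4, 6, 2] .l .l))) (.n 436532 [8, 2, 6, 3, 2,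 6, 3, 1, 4] (.n 432419 [4, 6, 3, 2, 6, 3, 1, 4] (.n 430368 [1, 4, 3, 4, 8, 3, 4, 6, 2] (.n 430263 [2, 6, 4, 8, 3, 2, 6, 4] .l .l) .l) (.n 434457 [2, 6, 1, 4, 3, 4, 6, 2] .l .l)) (.n 438570 [4, 3, 1, 4, 8, 3, 2, 6, 1, 2] (.n 438450 [6, 1, 4, 8, 3, 2, 6, 2] (.n 438404 [9, 4, 3, 2, 8, 9] .l .l) .l) (.n 438574 [8, 4, 3, 2, 6, 3, 4] .l .l)))) (.n 448684 [2, 6, 4, 3, 4, 1, 2] (.n 444546 [2, 3, 4, 8, 3, 4, 6, 1, 2] (.n 440546 [4, 1, 2, 3, 4, 8, 3, 2, 6, 2] (.n 440461 [2, 6, 1, 2, 8, 3, 2, 6, 4] (.n 440393 [6, 3, 4, 3, 2, 8, 4, 6, 2] .l .l) .l) (.n 442768 [4, 3, 1, 2, 6, 3, 2] .l .l)) (.n 444651 [8, 3, 2, 6, 2] (.n 444628 [3, 1, 4, 8, 3, 4, 6, 1, 2] (.n 444594 [6, 2, 8, 3, 2, 6, 2] .l .l) .l) (.n 446791 [2, 6, 4, 3, 2, 1, 4]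 .l .l))) (.n 463167 [3, 4, 6, 3, 1, 2, 6, 3, 4] (.n 458842 [3, 4, 6, 1, 2, 3, 2, 1, 2] (.n 454877 [7, 4, 6, 3, 2, 6, 3, 2] (.n 452918 [2, 6, 4, 3, 2, 6, 1, 2] .l .l) .l) (.n 461120 [2, 4, 3, 2, 6, 4] .l .l)) (.n 471438 [4, 1, 2, 3, 4, 6, 2] (.n 467257 [3, 2, 6, 1, 4] .l .l) (.n 473117 [3, 4, 6, 2, 3, 4, 1, 2] .l .l)))))))) (.n 756017 [4, 6, 3, 2, 6, 3, 1, 2] (.n 602430 [2, 6, 1, 4] (.n 530527 [3, 4, 6, 2] (.n 500014 [7, 9, 4, 3, 2, 8, 9] (.n 485573 [2, 8, 9] (.n 479475 [4, 3, 1, 4, 8, 3, 4, 6, 2] (.n 479385 [2, 4, 3, 2, 8, 7, 9] (.n 479239 [2, 8, 4, 2, 3, 4, 6, 2] (.n 477401 [2, 8, 4, 6, 3, 2, 8, 3, 4] .l .l) .l) (.n 479423 [2, 1, 4, 8, 3, 2, 6, 4] .l .l)) (.n 485395 [2, 8, 4, 1, 2, 3, 4, 6, 2] (.n 483691 [8, 2, 6,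 3, 1, 2, 6, 3, 4] (.n 481517 [4, 3, 1, 2, 6, 3, 4] .l .l) .l) (.n 485543 [6, 4, 3, 2, 8, 4, 6, 2] .l .l))) (.n 495981 [4, 6, 2, 3, 4, 6, 1, 2] (.n 489498 [2, 4, 3, 2, 6, 1, 4] (.n 487757 [4, 6, 3, 1, 2, 6, 3, 4] (.n 485609 [8, 2, 6, 1, 4, 3, 4, 1, 2] .l .l) .l) (.n 493930 [2, 6, 3, 2, 6, 3, 1, 4] .l .l)) (.n 499890 [1, 4, 8, 3, 4, 6, 2] (.n 499844 [6, 2, 4, 3, 4, 8, 3, 2, 6, 2] (.n 497856 [2, 3, 1, 2, 6, 3, 2] .l .l) .l) (.n 500010 [4, 1, 2, 8, 3, 2, 6, 2] .l .l)))) (.n 508113 [4, 8, 2, 6, 2, 3, 4, 1, 2] (.n 504188 [4, 3, 2, 6, 3, 1, 2] (.n 501964 [6, 3, 4, 8, 3, 4, 6, 1, 2] (.n 501957 [6, 1, 2, 8, 3, 2, 6, 2] (.n 501906 [6, 2, 3, 4, 8, 3, 4, 6, 1, 2] .l .l) .l) (.n 502033 [2, 1, 2, 8, 3, 2, 6, 2] .l .l)) (.n 508052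 [4, 3, 2, 8, 4, 6, 2] (.n 507927 [6, 2, 8, 4, 2, 3, 4, 6, 1, 2] (.n 506205 [2, 6, 4, 3, 2, 1, 2] .l .l) .l) (.n 508082 [2, 8, 7, 9] .l .l))) (.n 522590 [3, 2, 1, 4, 3, 2, 6, 1, 2] (.n 514233 [4, 6, 2, 3, 2, 1, 4] (.n 512096 [2, 3, 1, 2, 6, 3, 4] (.n 510160 [8, 2, 6, 3, 1, 2, 6, 3, 2] .l .l) .l) (.n 518337 [3, 4, 6, 2, 3, 2, 1, 4] .l .l)) (.n 526536 [8, 4, 6, 3, 2, 6, 3, 2] (.n 524486 [4, 6, 3, 2, 6, 3, 2] .l .l) (.n 528630 [7, 2, 6, 4, 3, 2, 6, 2] .l .l))))) (.n 579661 [8, 3, 2, 6, 4, 8, 3, 2, 6, 2] (.n 563291 [3, 2, 6, 4, 3, 2, 1, 4] (.n 548961 [3, 2, 1, 4, 3, 2, 6, 2] (.n 545137 [3, 2, 6, 4, 3, 2, 1, 2] (.n 534798 [3, 4, 3, 1, 2, 6, 3, 1, 2] (.n 532558 [8, 2, 6, 4, 8, 3, 2, 6, 4] .l .l) .l) (.n 547066 [8, 2, 6, 4,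 3, 2, 6, 1, 4] .l .l)) (.n 557084 [2, 1, 4, 3, 2, 6, 1, 4] (.n 555329 [2, 1, 2, 3, 4, 6, 1, 2] (.n 553221 [2, 4, 3, 2, 6, 2] .l .l) .l) (.n 559352 [3, 2, 1, 4, 3, 4, 6, 2] .l .l))) (.n 575495 [1, 9, 2, 8, 9] (.n 571788 [3, 4, 6, 2, 3, 4, 6, 1, 2] (.n 569612 [2, 6, 1, 4, 3, 2, 6, 4] (.n 567688 [2, 6, 3, 1, 2, 6, 3, 4] .l .l) .l) (.n 573650 [2, 6, 3, 1, 2, 6, 3, 2] .l .l)) (.n 575737 [8, 2, 6, 1, 2, 3, 4, 1, 2] (.n 575532 [2, 8, 4, 3, 2, 6, 3, 1, 2] (.n 575502 [1, 4, 8, 3, 4, 6, 1, 2] .l .l) .l) (.n 577629 [3, 4, 3, 1, 2, 6, 3, 2] .l .l)))) (.n 594087 [2, 8, 4, 6, 2, 3, 2, 1, 2] (.n 591997 [2, 1, 4, 3, 4, 8, 3, 2, 6, 2] (.n 587990 [2, 6, 1, 2] (.n 586110 [3, 4, 6, 1, 2, 3, 4, 6, 2] (.n 581943 [3, 4, 6, 2, 3, 2, 1, 2]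 .l .l) .l) (.n 590030 [3, 2, 6, 1, 2] .l .l)) (.n 592152 [8, 4, 3, 2, 6, 3, 2] (.n 592125 [4, 3, 2, 8, 9, 8, 9] (.n 592069 [6, 1, 4, 8, 3, 4, 6, 2] .l .l) .l) (.n 593939 [6, 4, 8, 3, 2, 6, 1, 2] .l .l))) (.n 596085 [2, 4, 3, 1, 4, 8, 3, 2, 6, 2] (.n 595971 [4, 8, 3, 4, 6, 2] (.n 594153 [2, 8, 4, 3, 1, 2, 6, 3, 4] (.n 594117 [7, 9, 2, 8, 9] .l .l) .l) (.n 596051 [4, 6, 2, 8, 3, 2, 6, 2] .l .l)) (.n 598205 [8, 2, 6, 3, 2, 6, 3, 1, 2] (.n 596219 [7, 9, 4, 3, 2, 8, 7, 9] .l .l) (.n 600292 [2, 6, 1, 2, 3, 4, 6, 2] .l .l)))))) (.n 679939 [9, 2, 8, 7, 9] (.n 647399 [2, 6, 4, 3, 2, 6, 1, 4] (.n 632853 [3, 2, 6, 1, 4, 3, 2, 1, 2] (.n 618678 [3, 2, 6, 4, 3, 4, 1, 2] (.n 610538 [2, 6, 3, 2, 6, 3, 1, 2] (.n 606514 [4, 6, 1, 2,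 3, 2, 1, 2] (.n 604453 [3, 4, 1, 2, 3, 4, 6, 2] .l .l) .l) (.n 612388 [4, 2, 3, 4, 6, 1, 2] .l .l)) (.n 629083 [3, 4, 6, 1, 2, 3, 4, 1, 2] (.n 626984 [4, 2, 3, 4, 6, 2] (.n 624988 [2, 8, 4, 6, 3, 2, 8, 3, 2] .l .l) .l) (.n 631061 [8, 2, 6, 2, 3, 4, 6, 2] .l .l))) (.n 643275 [2, 6, 2, 3, 2, 1, 2] (.n 639194 [8, 2, 6, 4, 3, 2, 6, 2] (.n 637144 [2, 6, 4, 3, 2, 6, 2] (.n 635059 [8, 7, 4, 6, 3, 2, 6, 3, 2] .l .l) .l) (.n 641319 [4, 6, 3, 1, 2, 6, 3, 2] .l .l)) (.n 645331 [4, 6, 3, 4, 8, 3, 2, 6, 4] (.n 645317 [8, 2, 6, 8, 4, 3, 4, 8, 1, 2] (.n 645160 [8, 2, 4, 3, 2, 6, 2] .l .l) .l) (.n 645407 [9, 2, 4, 3, 2, 8, 9] .l .l)))) (.n 667729 [2, 1, 2, 3, 4, 6, 2] (.n 653490 [9, 6, 2, 8, 9] (.n 653335 [8, 4, 6, 1, 2, 3, 2, 1, 2]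 (.n 651494 [2, 6, 2, 3, 4, 6, 1, 2] (.n 649515 [3, 2, 6, 4, 3, 2, 6, 1, 4] .l .l) .l) (.n 653460 [6, 2, 8, 4, 3, 2, 6, 3, 1, 2] .l .l)) (.n 657679 [2, 6, 1, 2, 3, 2, 1, 4] (.n 655585 [2, 1, 4, 3, 2, 6, 1, 2] (.n 653521 [4, 8, 3, 4, 6, 1, 2] .l .l) .l) (.n 659603 [2, 6, 1, 4, 3, 4, 1, 2] .l .l))) (.n 675850 [8, 2, 8, 6, 4, 3, 4, 8, 1, 2] (.n 675840 [8, 4, 6, 1, 2, 3, 4, 1, 2] (.n 672111 [2, 8, 4, 6, 2, 3, 4, 8, 2] (.n 670075 [8, 7, 2, 6, 3, 2, 6, 3, 4] .l .l) .l) (.n 675843 [7, 1, 9, 2, 8, 9] .l .l)) (.n 678290 [4, 6, 1, 2, 3, 4, 6, 2] (.n 676132 [4, 8, 3, 2, 6, 1, 2] .l .l) (.n 679936 [2, 8, 4, 3, 1, 2, 6, 3, 2] .l .l))))) (.n 704665 [2, 6, 1, 4, 8, 3, 2, 6, 2] (.n 692576 [2, 3, 1, 2, 6, 3, 1, 4] (.n 682181 [9, 2, 8,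 9] (.n 682003 [8, 4, 6, 2] (.n 680228 [2, 8, 4, 6, 2, 3, 4, 1, 2] (.n 679946 [6, 4, 8, 3, 4, 6, 1, 2] .l .l) .l) (.n 682151 [8, 2, 6, 8, 4, 3, 2, 8, 2] .l .l)) (.n 688386 [3, 4, 6, 1, 2] (.n 686095 [4, 1, 2, 3, 4, 6, 1, 2] (.n 682217 [7, 6, 4, 8, 3, 4, 6, 2] .l .l) .l) (.n 690261 [3, 2, 6, 4] .l .l))) (.n 702471 [6, 4, 8, 3, 4, 6, 2] (.n 700594 [2, 8, 9, 8, 9] (.n 700564 [8, 2, 6, 4] (.n 700439 [7, 6, 4, 8, 3, 2, 6, 2] .l .l) .l) (.n 700625 [8, 2, 6, 8, 4, 3, 4, 8, 2] .l .l)) (.n 702683 [7, 1, 9, 4, 3, 2, 8, 9] (.n 702593 [2, 4, 3, 4, 8, 3, 2, 6, 2] (.n 702540 [4, 6, 1, 2, 8, 3, 2, 6, 2] .l .l) .l) (.n 704519 [1, 2, 8, 4, 3, 2, 6, 3, 4] .l .l)))) (.n 714957 [8, 2, 6, 1, 2, 3, 4, 6, 2] (.n 708622 [2, 4, 3, 2, 8, 3, 4,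 6, 2] (.n 706722 [2, 6, 1, 2, 3, 2, 1, 2] (.n 704755 [1, 9, 2, 4, 3, 2, 8, 9] (.n 704703 [4, 3, 4, 8, 3, 2, 6, 4] .l .l) .l) (.n 708615 [7, 9, 2, 8, 7, 9] .l .l)) (.n 710963 [8, 4, 6, 2, 8, 3, 2, 6, 2] (.n 708857 [1, 4, 8, 3, 2, 6, 1, 2] (.n 708652 [2, 8, 2, 6, 2, 3, 4, 1, 2] .l .l) .l) (.n 712970 [8, 2, 6, 2, 3, 4, 6, 1, 2] .l .l))) (.n 745798 [8, 4, 6, 2, 3, 4, 6, 2] (.n 741612 [2, 6, 2, 3, 4, 6, 2] (.n 721234 [4, 8, 2, 6, 3, 2, 8, 3, 1, 2] (.n 717055 [4, 6, 2] .l .l) .l) (.n 743665 [8, 7, 2, 6, 2, 3, 4, 6, 2] .l .l)) (.n 751812 [8, 7, 2, 6, 4, 3, 2, 6, 2] (.n 747851 [8, 7, 2, 6, 4, 3, 2, 6, 4] .l .l) (.n 753911 [3, 4, 6, 3, 2, 6, 3, 1, 2] .l .l))))))) (.n 1520988 [8, 4, 8, 3, 2, 6, 2] (.n 1067857 [4, 3, 2, 6, 5,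 10] (.n 803029 [7, 2, 6, 2, 3, 4, 6, 2] (.n 774472 [2, 6, 3, 2, 6, 3, 4] (.n 760040 [4, 6, 1, 2, 3, 4, 1, 2] (.n 757962 [4, 3, 1, 4, 8, 3, 2, 6, 4] (.n 757938 [2, 8, 4, 3, 2, 6, 3, 4] (.n 757799 [2, 1, 4, 8, 3, 2, 6, 2] .l .l) .l) (.n 758074 [9, 6, 2, 4, 3, 2, 8, 9] .l .l)) (.n 766094 [3, 2, 6, 1, 4, 3, 4, 1, 2] (.n 764070 [2, 3, 1, 2, 6, 3, 1, 2] (.n 761987 [4, 6, 1, 2, 3, 2, 1, 4] .l .l) .l) (.n 772246 [3, 2, 6, 2] .l .l))) (.n 788483 [8, 2, 8, 6, 4, 3, 4, 8, 2] (.n 782615 [2, 6, 4, 3, 2, 6, 4] (.n 778576 [7, 2, 6, 3, 2, 6, 3, 4] (.n 776504 [2, 1, 4, 3, 2, 6, 4] .l .l) .l) (.n 784536 [8, 2, 6, 2, 8, 3, 2, 6, 2] .l .l)) (.n 788768 [9, 2, 4, 3, 2, 8, 7, 9] (.n 788663 [1, 4, 3, 4, 8, 3, 2, 6, 4] (.n 788613 [2, 6, 4,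 8, 3, 2, 6, 2] .l .l) .l) (.n 790701 [2, 6, 2] .l .l)))) (.n 973367 [2, 8, 3, 2, 8, 3, 2] (.n 819484 [8, 2, 6, 3, 2, 6, 3, 4] (.n 811294 [7, 2, 6, 4, 3, 2, 6, 4] (.n 809242 [8, 7, 4, 6, 2, 3, 4, 6, 2] (.n 805139 [4, 6, 2, 3, 4, 6, 2] .l .l) .l) (.n 815398 [3, 4, 6, 3, 1, 2, 6, 3, 2] .l .l)) (.n 938505 [6, 5, 2, 8, 3, 2, 8, 3, 2] (.n 837871 [7, 4, 6, 2, 3, 4, 6, 2] (.n 823538 [8, 2, 6, 4, 3, 2, 6, 4] .l .l) .l) (.n 938588 [6, 8, 4, 3, 4, 8, 3, 2, 6, 4] .l .l))) (.n 1038863 [5, 10] (.n 993770 [6, 10] (.n 991909 [8, 4, 3, 1, 4, 8, 3, 2, 6, 4] (.n 991796 [6, 2, 8, 3, 2, 8, 3, 2] .l .l) .l) (.n 1034867 [5, 2, 8, 3, 2, 8, 3, 2] .l .l)) (.n 1040989 [8, 1, 4, 3, 4, 8, 3, 2, 6, 4] (.n 1039016 [3, 2, 6, 5, 10] .l .l) (.n 1063436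 [6, 5, 10] .l .l))))) (.n 1323911 [8, 2, 8, 4, 3, 2, 6, 3, 2] (.n 1178736 [6, 2, 8, 6, 4, 3, 2, 8, 2] (.n 1114790 [8, 4, 3, 4, 8, 3, 2, 6, 4] (.n 1112634 [10] (.n 1086087 [6, 2, 8, 4, 3, 2, 8, 1, 2] (.n 1069737 [6, 3, 2, 6, 10] .l .l) .l) (.n 1112846 [3, 2, 6, 10] .l .l)) (.n 1163808 [6, 2, 8, 4, 3, 2, 8, 9] (.n 1157903 [8, 3, 2, 8, 9] (.n 1155867 [4, 3, 2, 6, 10] .l .l) .l) (.n 1178340 [2, 8, 1, 4, 3, 2, 8, 2] .l .l))) (.n 1240100 [4, 6, 3, 2, 6, 10] (.n 1237450 [2, 4, 3, 2, 6, 10] (.n 1188973 [2, 6, 8, 4, 3, 2, 8, 1, 2] (.n 1186530 [3, 2, 8, 4, 3, 2, 8, 1, 2] .l .l) .l) (.n 1239548 [8, 2, 4, 3, 2, 8, 9] .l .l)) (.n 1299283 [6, 4, 3, 2, 6, 10] (.n 1298952 [2, 6, 4, 3, 2, 6, 10] (.n 1286652 [3, 2, 8, 4, 3, 2, 8, 9]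 .l .l) .l) (.n 1323888 [2, 8, 4, 3, 2, 8, 1, 2] .l .l)))) (.n 1473039 [2, 6, 5, 10] (.n 1389513 [4, 8, 3, 2, 8, 9] (.n 1386980 [2, 4, 3, 2, 6, 5, 10] (.n 1340293 [2, 8, 6, 4, 3, 2, 8, 2] (.n 1325702 [5, 4, 8, 3, 2, 8, 3, 2] .l .l) .l) (.n 1389088 [6, 2, 4, 3, 2, 6, 10] .l .l)) (.n 1458662 [2, 8, 4, 3, 2, 8, 9] (.n 1403731 [3, 4, 8, 3, 2, 8, 9] (.n 1401402 [2, 6, 10] .l .l) .l) (.n 1459212 [8, 4, 3, 2, 8, 9] .l .l))) (.n 1511999 [4, 8, 3, 2, 8, 3, 2] (.n 1477136 [6, 2, 6, 10] (.n 1475158 [6, 2, 8, 3, 1, 2, 8, 3, 2] (.n 1475127 [8, 2, 4, 3, 1, 4, 8, 3, 2, 6, 2] .l .l) .l) (.n 1477391 [6, 2, 6, 3, 2, 6, 10] .l .l)) (.n 1516638 [4, 8, 6, 3, 2, 8, 3, 2] (.n 1516099 [6, 4, 8, 3, 2, 8, 3, 2] .l .l) (.n 1518284 [5, 2, 8, 4,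 3, 2, 8, 2] .l .l)))))) (.n 2314860 [2, 8, 6, 3, 2, 8, 3, 2] (.n 1845902 [6, 8, 3, 4, 8, 3, 2, 6, 2] (.n 1712809 [6, 2, 8, 3, 2, 8, 9] (.n 1628764 [2, 8, 3, 1, 2, 8, 3, 2] (.n 1545830 [8, 4, 8, 3, 2, 6, 1, 2] (.n 1545036 [4, 8, 3, 1, 2, 8, 3, 2] (.n 1539279 [2, 6, 2, 3, 4, 6, 8, 3, 2, 8, 3, 2] .l .l) .l) (.n 1608716 [3, 4, 6, 3, 2, 6, 10] .l .l)) (.n 1710707 [8, 2, 4, 3, 4, 8, 3, 2, 6, 2] (.n 1710627 [6, 2, 8, 3, 2, 8, 3, 1, 2] (.n 1630997 [2, 6, 3, 2, 6, 10] .l .l) .l) (.n 1712699 [8, 2, 8, 9] .l .l))) (.n 1804920 [2, 8, 4, 3, 2, 8, 2] (.n 1802770 [6, 5, 4, 8, 3, 2, 8, 3, 2] (.n 1741750 [2, 8, 3, 2, 8, 9] (.n 1739429 [2, 8, 3, 2, 8, 3, 1, 2] .l .l) .l) (.n 1803471 [6, 8, 4, 8, 3, 2, 6, 2] .l .l)) (.n 1809868 [2, 8,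 6, 4, 3, 2, 8, 1, 2] (.n 1809019 [6, 2, 8, 4, 3, 2, 8, 2] (.n 1807915 [8, 1, 4, 8, 3, 2, 6, 2] .l .l) .l) (.n 1813807 [2, 8, 4, 8, 3, 2, 6, 3, 2] .l .l)))) (.n 2171448 [4, 3, 4, 6, 8, 3, 2, 8, 4, 3, 2] (.n 1856983 [8, 1, 4, 8, 3, 2, 6, 1, 2] (.n 1850852 [2, 6, 2, 8, 3, 4, 8, 3, 2, 6, 1, 2] (.n 1849990 [8, 3, 1, 4, 8, 3, 2, 6, 2] (.n 1848414 [2, 8, 2, 6, 3, 4, 6, 3, 2, 8, 4] .l .l) .l) (.n 1856354 [4, 8, 3, 2, 8, 3, 1, 2] .l .l)) (.n 1938636 [2, 6, 3, 4, 6, 8, 3, 2, 8, 4, 3, 2] (.n 1938251 [6, 3, 2, 8, 6, 4, 3, 2, 8, 1, 2] (.n 1858253 [3, 4, 8, 3, 2, 8, 3, 1, 2] .l .l) .l) (.n 1985140 [2, 4, 3, 4, 8, 6, 3, 2, 8, 3, 2] .l .l))) (.n 2267705 [6, 5, 2, 8, 4, 3, 2, 8, 2] (.n 2225151 [2, 6, 4, 8, 3, 4, 8, 3, 2, 6, 2] (.n 2224863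 [8, 1, 2, 8, 3, 2, 6, 2] (.n 2194043 [3, 2, 6, 8, 4, 3, 2, 8, 2] .l .l) .l) (.n 2235252 [3, 2, 8, 6, 4, 3, 2, 8, 2] .l .l)) (.n 2272460 [6, 2, 8, 6, 4, 3, 2, 8, 1, 2] (.n 2268369 [2, 6, 8, 4, 3, 2, 8, 2] .l .l) (.n 2290567 [4, 8, 2, 3, 4, 6, 8, 2, 3, 4, 6, 2] .l .l))))) (.n 2876098 [6, 8, 2, 8, 3, 2, 6, 2] (.n 2467296 [4, 6, 2, 8, 3, 4, 8, 3, 2, 6, 2] (.n 2327922 [2, 8, 2, 3, 4, 6, 8, 2, 3, 4, 6, 2] (.n 2320964 [3, 4, 8, 6, 3, 2, 8, 3, 2] (.n 2317116 [2, 6, 4, 8, 3, 1, 4, 8, 3, 2, 6, 2] (.n 2316930 [8, 2, 8, 3, 2, 6, 2] .l .l) .l) (.n 2327103 [8, 3, 4, 8, 3, 2, 6, 2] .l .l)) (.n 2464462 [3, 2, 8, 4, 8, 3, 2, 6, 3, 2] (.n 2348725 [4, 8, 6, 3, 2, 8, 3, 1, 2] (.n 2343754 [3, 4, 8, 3, 1, 2, 8, 3, 2] .l .l) .l) (.n 2465071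 [4, 6, 2, 3, 4, 8, 6, 3, 2, 8, 3, 2] .l .l))) (.n 2773561 [3, 2, 8, 6, 4, 3, 2, 8, 1, 2] (.n 2509666 [3, 4, 6, 8, 3, 2, 8, 3, 2] (.n 2500277 [2, 3, 4, 6, 2, 8, 6, 3, 4, 8, 3, 2] (.n 2499608 [8, 3, 1, 4, 8, 3, 2, 6, 1, 2] .l .l) .l) (.n 2522224 [4, 6, 2, 8, 3, 4, 8, 3, 2, 6, 1, 2] .l .l)) (.n 2855559 [8, 2, 3, 4, 8, 3, 2, 6, 4] (.n 2808916 [3, 2, 6, 8, 4, 3, 2, 8, 1, 2] (.n 2798395 [4, 6, 3, 4, 6, 8, 3, 2, 8, 4, 3, 2] .l .l) .l) (.n 2855663 [4, 8, 2, 6, 3, 4, 6, 3, 2, 8, 4] .l .l)))) (.n 3089286 [2, 8, 3, 4, 8, 6, 2, 3, 4, 6, 3, 2] (.n 3038539 [4, 3, 4, 6, 2, 8, 6, 3, 4, 8, 3, 2] (.n 2895324 [4, 6, 8, 3, 2, 8, 3, 2] (.n 2893275 [2, 6, 2, 3, 4, 8, 6, 3, 2, 8, 3, 2] (.n 2880191 [2, 6, 4, 3, 4, 8, 6, 3, 2, 8, 3, 2] .l .l)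 .l) (.n 2917181 [2, 8, 4, 3, 4, 6, 8, 2, 3, 4, 6, 2] .l .l)) (.n 3076940 [3, 4, 8, 6, 3, 2, 8, 3, 1, 2] (.n 3065308 [2, 6, 2, 8, 3, 4, 8, 3, 2, 6, 2] (.n 3064654 [8, 3, 4, 8, 3, 2, 6, 1, 2] .l .l) .l) (.n 3089122 [6, 3, 2, 8, 6, 4, 3, 2, 8, 2] .l .l))) (.n 3429058 [2, 8, 4, 6, 3, 4, 6, 3, 2, 8, 4] (.n 3406652 [2, 6, 8, 3, 2, 8, 3, 2] (.n 3404999 [3, 2, 6, 2, 8, 3, 4, 8, 3, 2, 6, 2] (.n 3328707 [2, 6, 4, 8, 3, 4, 8, 3, 2, 6, 1, 2] .l .l) .l) (.n 3428992 [8, 1, 2, 8, 3, 2, 6, 1, 2] .l .l)) (.n 3574492 [8, 2, 8, 3, 2, 6, 1, 2] (.n 3574380 [4, 8, 3, 4, 8, 6, 2, 3, 4, 6, 3, 2] .l .l) (.n 3605503 [2, 8, 6, 3, 2, 8, 3, 1, 2] .l .l)))))))))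
noncomputable def finI : List ℕ → Bool := invp fun w =>
  (frc (Nat.add (Nat.mul (sZ.trL w 1) 2048) (sZ.trL w 3)) fun k => kt.chk k fun c =>
    eqW (w ++ c) (c ++ [3]) || eqW (w ++ c) (c ++ [0])) || !sZ.same bs (w ++ w) [] || sZ.same bs w []
noncomputable def okI (i j : ℕ) : Bool := enumOk [[⟨[], 416, 416, Nat.shiftLeft 1 i⟩], [⟨[], 483, 483, Nat.shiftLeft 1 j⟩]]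
  [] [] [(416, Nat.shiftLeft 1 i), (483, Nat.shiftLeft 1 j)] finI
set_option Elab.async false
theorem sI416_432 : okI 416 432 = true := by decide +kernel
theorem sI416_446 : okI 416 446 = true := by decide +kernel
theorem sI416_483 : okI 416 483 = true := by decide +kernel
theorem sI416_626 : okI 416 626 = true := by decide +kernel
theorem sI417_432 : okI 417 432 = true := by decide +kernel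
theorem sI417_446 : okI 417 446 = true := by decide +kernel
theorem sI417_483 : okI 417 483 = true := by decide +kernel
theorem sI417_626 : okI 417 626 = true := by decide +kernel
theorem sI : ∀ i ∈ [416, 417], ∀ j ∈ [432, 446, 483, 626], okI i j = true :=
  forall_cons (forall_cons sI416_432 <| forall_cons sI416_446 <| forall_cons sI416_483 <| forall_cons sI416_626 forall_nil) <|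
  forall_cons (forall_cons sI417_432 <| forall_cons sI417_446 <| forall_cons sI417_483 <| forall_cons sI417_626 forall_nil) forall_nil
end CfL.Sz
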